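import Mathlib.AlgebraicGeometry.Morphisms.UniversallyOpen
import Mathlib.AlgebraicGeometry.Morphisms.QuasiCompact

/-!
# A compact open subscheme surjecting onto a compact target of an open surjective morphism
-/

set_option autoImplicit false
universe u
open CategoryTheory AlgebraicGeometry TopologicalSpace

namespace Groth.Agent.Lib.Helper30

theorem exists_compact_open_surj {Y Z : Scheme.{u}} (f : Y ⟶ Z) (hopen : IsOpenMap f)
    (hsurj : Function.Surjective f) [CompactSpace Z] :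
    ∃ K : Y.Opens, IsCompact (K : Set Y) ∧ ∀ z : Z, ∃ y ∈ K, f y = z := by
  choose y hy using hsurj
  have hV : ∀ z : Z, ∃ V : Y.Opens, IsAffineOpen V ∧ y z ∈ V := by
    intro z
    obtain ⟨_, ⟨V, hV, rfl⟩, hyV, -⟩ :=
      Y.isBasis_affineOpens.exists_subset_of_mem_open (Set.mem_univ (y z)) isOpen_univ
    exact ⟨V, hV, hyV⟩
  choose V hVaff hyV using hV
  obtain ⟨t, ht⟩ := CompactSpace.elim_nhds_subcover (fun z => f '' (V z : Set Y))
    (fun z => (hopen _ (V z).isOpen).mem_nhds ⟨y z, hyV z, hy z⟩)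
  refine ⟨⨆ z ∈ t, V z, ?_, fun z => ?_⟩
  · have : ((⨆ z ∈ t, V z : Y.Opens) : Set Y) = ⋃ z ∈ t, (V z : Set Y) := by
      simp
    rw [this]
    exact t.isCompact_biUnion fun z _ => (hVaff z).isCompact
  · have hz : z ∈ ⋃ x ∈ t, f '' (V x : Set Y) := by rw [ht]; trivial
    simp only [Set.mem_iUnion, Set.mem_image] at hz
    obtain ⟨x, hx, w, hw, rfl⟩ := hz
    refine ⟨w, ?_, rfl⟩
    simp only [Opens.mem_iSup]
    exact ⟨x, hx, hw⟩

end Groth.Agent.Lib.Helper30
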