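import Mathlib.AlgebraicGeometry.Morphisms.Etale
import Mathlib.AlgebraicGeometry.Morphisms.Descent
import Groth.Agent.Lib.Helper30.CompactOpenSurj

set_option autoImplicit false
universe u
open CategoryTheory CategoryTheory.Limits AlgebraicGeometry Opposite TopologicalSpace

namespace Groth.Agent.Lib.Helper30.EtaleSource

/-- The affine form of descent along étale surjections of the source. -/
def SpecDescends (P : MorphismProperty Scheme.{u}) : Prop :=
  ∀ ⦃A B C : CommRingCat.{u}⦄ (φ : A ⟶ B) (ψ : B ⟶ C), Etale (Spec.map ψ) →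
    Surjective (Spec.map ψ) → P (Spec.map ψ ≫ Spec.map φ) → P (Spec.map φ)

variable {P : MorphismProperty Scheme.{u}}

set_option backward.isDefEq.respectTransparency false in
/-- A compact scheme is covered by an affine scheme via a surjective local isomorphism (a finite
disjoint union of affine opens), and precomposition with it preserves source-local properties. -/
theorem exists_affine_cover_of_compact (X : Scheme.{u}) [CompactSpace X] :
    ∃ (W : Scheme.{u}) (p : W ⟶ X), IsAffine W ∧ Surjective p ∧ Etale p ∧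
      ∀ (P : MorphismProperty Scheme.{u}) [IsZariskiLocalAtSource P] {T : Scheme.{u}} (h : X ⟶ T),
        P h → P (p ≫ h) := by
  let 𝒰 := X.affineCover.finiteSubcover
  let p : ∐ (fun i : 𝒰.I₀ ↦ 𝒰.X i) ⟶ X := Sigma.desc (fun i ↦ 𝒰.f i)
  refine ⟨_, p, inferInstance, ⟨fun x ↦ ?_⟩, ?_, ?_⟩
  · obtain ⟨i, x, rfl⟩ := X.affineCover.finiteSubcover.exists_eq x
    use Sigma.ι X.affineCover.finiteSubcover.X i x
    rw [← Scheme.Hom.comp_apply, Sigma.ι_desc]
  · exact IsZariskiLocalAtSource.sigmaDesc (P := @Etale) fun i => inferInstance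
  · intro P _ T h hh
    rw [IsZariskiLocalAtSource.iff_of_openCover (P := P) (sigmaOpenCover _)]
    intro i
    have : (sigmaOpenCover fun i : 𝒰.I₀ ↦ 𝒰.X i).f i ≫ p ≫ h = 𝒰.f i ≫ h := by
      change Sigma.ι _ i ≫ _ = _
      simp [p]
    rw [this]
    exact IsZariskiLocalAtSource.comp hh _

lemma iff_Spec_map_appTop (P : MorphismProperty Scheme.{u}) [P.RespectsIso] {X Y : Scheme.{u}}
    [IsAffine X] [IsAffine Y] (f : X ⟶ Y) : P (Spec.map f.appTop) ↔ P f := by
  rw [← P.cancel_left_of_respectsIso X.isoSpec.hom, Scheme.isoSpec_hom_naturality,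
    P.cancel_right_of_respectsIso]

set_option backward.isDefEq.respectTransparency false in
/-- The all-affine case. -/
theorem of_isAffine [P.RespectsIso] (H : SpecDescends P) {X' X Y : Scheme.{u}} [IsAffine X']
    [IsAffine X] [IsAffine Y] (e : X' ⟶ X) (f : X ⟶ Y) [Etale e] [Surjective e]
    (h : P (e ≫ f)) : P f := by
  rw [← iff_Spec_map_appTop P]
  refine H f.appTop e.appTop ?_ ?_ ?_
  · rw [iff_Spec_map_appTop @Etale]; infer_instance
  · rw [iff_Spec_map_appTop @Surjective]; infer_instance
  · rw [← Spec.map_comp, ← Scheme.Hom.comp_appTop, iff_Spec_map_appTop P]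
    exact h

set_option backward.isDefEq.respectTransparency false in
/-- Affine source and target, arbitrary étale cover. -/
theorem of_isAffine_of_isAffine [IsZariskiLocalAtSource P] (H : SpecDescends P)
    {X' X Y : Scheme.{u}} [IsAffine X] [IsAffine Y] (e : X' ⟶ X) (f : X ⟶ Y) [Etale e]
    [Surjective e] (h : P (e ≫ f)) : P f := by
  obtain ⟨K, hK, hKsurj⟩ := exists_compact_open_surj e e.isOpenMap e.surjective
  have : CompactSpace K := isCompact_iff_compactSpace.mp hK
  obtain ⟨W, p, hW, hp, hpe, hpP⟩ := exists_affine_cover_of_compact K.toScheme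
  have hsurj : Surjective (p ≫ K.ι ≫ e) := by
    refine ⟨fun x => ?_⟩
    obtain ⟨y, hy, rfl⟩ := hKsurj x
    obtain ⟨w, hw⟩ := hp.surj ⟨y, hy⟩
    refine ⟨w, ?_⟩
    rw [Scheme.Hom.comp_apply, Scheme.Hom.comp_apply, hw]
    rfl
  have hetale : Etale (p ≫ K.ι ≫ e) := inferInstance
  refine of_isAffine H (p ≫ K.ι ≫ e) f ?_
  rw [Category.assoc, Category.assoc]
  exact hpP P _ (IsZariskiLocalAtSource.comp h K.ι)

set_option backward.isDefEq.respectTransparency false in
/-- Affine target. -/
theorem of_isAffine_target [IsZariskiLocalAtSource P] (H : SpecDescends P)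
    {X' X Y : Scheme.{u}} [IsAffine Y] (e : X' ⟶ X) (f : X ⟶ Y) [Etale e]
    [Surjective e] (h : P (e ≫ f)) : P f := by
  rw [IsZariskiLocalAtSource.iff_of_openCover (P := P) X.affineCover]
  intro i
  refine of_isAffine_of_isAffine H (pullback.snd e (X.affineCover.f i)) _ ?_
  rw [← pullback.condition_assoc]
  exact IsZariskiLocalAtSource.comp h _

set_option backward.isDefEq.respectTransparency false in
/-- **Descent along étale surjections of the source**, reduced to the affine statement. -/
theorem of_etale_surjective_comp [IsZariskiLocalAtTarget P] [IsZariskiLocalAtSource P]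
    (H : SpecDescends P) {X' X Y : Scheme.{u}} (e : X' ⟶ X) (f : X ⟶ Y) [Etale e]
    [Surjective e] (h : P (e ≫ f)) : P f := by
  rw [IsZariskiLocalAtTarget.iff_of_iSup_eq_top (P := P) _ (iSup_affineOpens_eq_top Y)]
  intro U
  have : IsAffine (U : Y.Opens).toScheme := U.2
  have : Surjective (e ∣_ (f ⁻¹ᵁ U)) :=
    IsZariskiLocalAtTarget.restrict (P := @Surjective) inferInstance _
  refine of_isAffine_target H (e ∣_ (f ⁻¹ᵁ U)) (f ∣_ U) ?_
  have := IsZariskiLocalAtTarget.restrict h (U : Y.Opens)
  rwa [morphismRestrict_comp] at this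

/-- The ring-level form of descent along étale surjections of the source. -/
def RingDescends (Q : ∀ {R S : Type u} [CommRing R] [CommRing S], (R →+* S) → Prop) : Prop :=
  ∀ ⦃A B C : Type u⦄ [CommRing A] [CommRing B] [CommRing C] (φ : A →+* B) (ψ : B →+* C),
    ψ.Etale → Function.Surjective (PrimeSpectrum.comap ψ) → Q (ψ.comp φ) → Q φ

set_option backward.isDefEq.respectTransparency false in
theorem specDescends_of_ringDescends
    {Q : ∀ {R S : Type u} [CommRing R] [CommRing S], (R →+* S) → Prop}
    [HasRingHomProperty P Q] (h : RingDescends Q) : SpecDescends P := by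
  intro A B C φ ψ hψ hsurj hP
  rw [HasRingHomProperty.Spec_iff (P := P)]
  refine h φ.hom ψ.hom ?_ ?_ ?_
  · exact (HasRingHomProperty.Spec_iff (P := @Etale)).1 hψ
  · exact hsurj.surj
  · rw [← Spec.map_comp, HasRingHomProperty.Spec_iff (P := P)] at hP
    exact hP

end Groth.Agent.Lib.Helper30.EtaleSource
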