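import Mathlib

/-!
# Smooth over reduced is reduced (helper30)

Trick: a ring `R` is reduced iff `R` is integrally closed in `R[X]`; Mathlib knows that smooth base change
commutes with integral closure (`TensorProduct.toIntegralClosure_bijective_of_smooth`).

* `isReduced_of_smooth R S` : `S` smooth over reduced `R` is reduced.
* `isReduced_of_smooth_scheme f` : source of a smooth morphism to a reduced scheme is reduced.
-/

set_option autoImplicit false
universe u
open Polynomial TensorProduct

namespace Groth.Agent.Lib.Helper30.SmoothReduced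

/-- Over a reduced ring, a polynomial that is integral over the base ring is constant. -/
theorem natDegree_eq_zero_of_isIntegral {R : Type u} [CommRing R] [IsReduced R] (f : R[X])
    (hf : IsIntegral R f) : f.natDegree = 0 := by
  by_contra hd
  obtain ⟨p, hp, hpf⟩ := hf
  rw [← Polynomial.aeval_def] at hpf
  set d := f.natDegree with hd'
  set n := p.natDegree with hn
  have hdpos : 0 < d := Nat.pos_of_ne_zero hd
  have h0 : (Polynomial.aeval f p).coeff (n * d) = 0 := by rw [hpf]; simp
  rw [Polynomial.aeval_eq_sum_range, Polynomial.finsetSum_coeff] at h0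
  rw [Finset.sum_range_succ] at h0
  have hlow : ∀ i ∈ Finset.range n, (p.coeff i • f ^ i).coeff (n * d) = 0 := by
    intro i hi
    rw [Finset.mem_range] at hi
    rw [Polynomial.coeff_smul]
    have : (f ^ i).natDegree < n * d := by
      calc (f ^ i).natDegree ≤ i * d := Polynomial.natDegree_pow_le
        _ < n * d := Nat.mul_lt_mul_of_pos_right hi hdpos
    rw [Polynomial.coeff_eq_zero_of_natDegree_lt this, smul_zero]
  rw [Finset.sum_eq_zero hlow, zero_add, Polynomial.coeff_smul] at h0
  have hlead : p.coeff n = 1 := hp.coeff_natDegree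
  rw [hlead, one_smul, Polynomial.coeff_pow_of_natDegree_le (le_refl _)] at h0
  have hc : f.coeff d = 0 := IsReduced.eq_zero _ ⟨n, h0⟩
  have : f.leadingCoeff = 0 := hc
  rw [Polynomial.leadingCoeff_eq_zero] at this
  rw [this] at hd'
  simp at hd'
  omega

theorem integralClosure_polynomial_eq_bot (R : Type u) [CommRing R] [IsReduced R] :
    integralClosure R R[X] = ⊥ := by
  rw [eq_bot_iff]
  intro f hf
  have h := natDegree_eq_zero_of_isIntegral f hf
  rw [Algebra.mem_bot]
  exact ⟨f.coeff 0, by rw [Polynomial.algebraMap_apply, Algebra.algebraMap_self_apply,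
    ← Polynomial.eq_C_of_natDegree_eq_zero h]⟩

/-- If `S` is integrally closed in `S[X]`, then `S` is reduced. -/
theorem isReduced_of_integralClosure_polynomial_eq_bot (S : Type u) [CommRing S]
    (h : integralClosure S S[X] = ⊥) : IsReduced S := by
  refine ⟨fun a ha => ?_⟩
  obtain ⟨n, hn⟩ := ha
  have hint : IsIntegral S (C a * X : S[X]) := by
    refine ⟨X ^ n, monic_X_pow n, ?_⟩
    simp [mul_pow, ← C_pow, hn]
  have hmem : (C a * X : S[X]) ∈ integralClosure S S[X] := hint
  rw [h, Algebra.mem_bot] at hmem
  obtain ⟨b, hb⟩ := hmem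
  have := congrArg (fun q : S[X] => q.coeff 1) hb
  simp at this
  exact this.symm

/-- A smooth algebra over a reduced ring is reduced. -/
theorem isReduced_of_smooth (R S : Type u) [CommRing R] [CommRing S] [Algebra R S]
    [Algebra.Smooth R S] [IsReduced R] : IsReduced S := by
  apply isReduced_of_integralClosure_polynomial_eq_bot
  have hb := TensorProduct.toIntegralClosure_bijective_of_smooth (R := R) (S := S) (B := R[X])
  have hbot := integralClosure_polynomial_eq_bot R
  -- the integral closure of `S` in `S ⊗ R[X]` is trivial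
  have key : ∀ z : S ⊗[R] integralClosure R R[X],
      ((TensorProduct.toIntegralClosure R S R[X] z : integralClosure S (S ⊗[R] R[X])) :
        S ⊗[R] R[X]) ∈ (⊥ : Subalgebra S (S ⊗[R] R[X])) := by
    intro z
    induction z with
    | zero => simp
    | add x y hx hy => rw [map_add]; exact add_mem hx hy
    | tmul s b =>
      obtain ⟨b, hbmem⟩ := b
      have hbb : b ∈ (⊥ : Subalgebra R R[X]) := hbot ▸ hbmem
      obtain ⟨r, rfl⟩ := Algebra.mem_bot.mp hbb
      rw [Algebra.mem_bot]
      refine ⟨r • s, ?_⟩
      simp only [TensorProduct.toIntegralClosure, AlgHom.coe_codRestrict,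
        Algebra.TensorProduct.map_tmul, AlgHom.coe_id, id_eq, Subalgebra.coe_val,
        Algebra.TensorProduct.algebraMap_apply, Algebra.algebraMap_self_apply]
      rw [Algebra.algebraMap_eq_smul_one, ← TensorProduct.smul_tmul]
  rw [eq_bot_iff]
  intro f hf
  have hf' : IsIntegral S (polyEquivTensor' R S f) := hf.map (polyEquivTensor' R S)
  obtain ⟨z, hz⟩ := hb.2 ⟨_, hf'⟩
  have := key z
  rw [hz, Algebra.mem_bot] at this
  obtain ⟨s, hs⟩ := this
  rw [Algebra.mem_bot]
  refine ⟨s, (polyEquivTensor' R S).injective ?_⟩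
  rw [AlgEquiv.commutes]
  exact hs


open CategoryTheory AlgebraicGeometry

/-- The source of a smooth morphism to a reduced scheme is reduced. -/
theorem isReduced_of_smooth_scheme {X Y : Scheme.{u}} (f : X ⟶ Y) [Smooth f]
    [AlgebraicGeometry.IsReduced Y] : AlgebraicGeometry.IsReduced X := by
  have hstalk : ∀ x : X, _root_.IsReduced (X.presheaf.stalk x) := by
    intro x
    obtain ⟨_, ⟨U, hU : IsAffineOpen U, rfl⟩, hfxU, -⟩ :=
      Y.isBasis_affineOpens.exists_subset_of_mem_open (Set.mem_univ (f.base x)) isOpen_univ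
    obtain ⟨_, ⟨V, hV : IsAffineOpen V, rfl⟩, hxV, hVU⟩ :=
      X.isBasis_affineOpens.exists_subset_of_mem_open (show x ∈ (f ⁻¹ᵁ U : Set X) from hfxU)
        (f ⁻¹ᵁ U).isOpen
    have e : V ≤ f ⁻¹ᵁ U := hVU
    have hsm : (f.appLE U V e).hom.Smooth := f.smooth_appLE hU hV e
    let _ := (f.appLE U V e).hom.toAlgebra
    have hsm' : Algebra.Smooth Γ(Y, U) Γ(X, V) := hsm
    have hred : _root_.IsReduced Γ(X, V) := isReduced_of_smooth Γ(Y, U) Γ(X, V)
    let _ : Algebra Γ(X, V) (X.presheaf.stalk x) :=
      TopCat.Presheaf.algebra_section_stalk X.presheaf (⟨x, hxV⟩ : V)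
    have hloc : IsLocalization.AtPrime (X.presheaf.stalk x) (hV.primeIdealOf ⟨x, hxV⟩).asIdeal :=
      hV.isLocalization_stalk ⟨x, hxV⟩
    exact isReduced_localizationPreserves (hV.primeIdealOf ⟨x, hxV⟩).asIdeal.primeCompl _ hred
  exact isReduced_of_isReduced_stalk X

end Groth.Agent.Lib.Helper30.SmoothReduced
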