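import Mathlib.AlgebraicGeometry.Morphisms.Etale
import Mathlib.AlgebraicGeometry.Morphisms.QuasiFinite
import Mathlib.RingTheory.Unramified.LocalStructure
import Mathlib.RingTheory.RingHom.Etale

/-!
# Étale morphisms are locally quasi-finite
-/

set_option autoImplicit false
universe u
open CategoryTheory AlgebraicGeometry

namespace Groth.Agent.Lib.Helper30

theorem ringHom_quasiFinite_of_etale {R S : Type*} [CommRing R] [CommRing S] (f : R →+* S)
    (hf : f.Etale) : f.QuasiFinite := by
  algebraize [f]
  have : Algebra.Etale R S := hf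
  show Algebra.QuasiFinite R S
  infer_instance

theorem locallyQuasiFinite_of_etale {X Y : Scheme.{u}} (f : X ⟶ Y) [Etale f] :
    LocallyQuasiFinite f := by
  refine ⟨fun {U} hU {V} hV e => ?_⟩
  exact ringHom_quasiFinite_of_etale _
    (HasRingHomProperty.appLE (P := @Etale) f inferInstance ⟨U, hU⟩ ⟨V, hV⟩ e)

/-- An étale quasi-compact morphism has finite fibres. -/
theorem finite_preimage_of_etale_quasiCompact {X Y : Scheme.{u}} (f : X ⟶ Y) [Etale f]
    [QuasiCompact f] {s : Set Y} (hs : s.Finite) : (f ⁻¹' s).Finite := by
  have := locallyQuasiFinite_of_etale f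
  exact f.finite_preimage hs

end Groth.Agent.Lib.Helper30
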