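import Groth.Agent.Lib.Helper30.EtaleSourceLFP
import Groth.Agent.Lib.Helper30.EtaleQuasiFinite
import Groth.Agent.Lib.Helper46.EtLocal

/-!
# `EtLocal` instances (helper46's structure) from étale source descent
-/

set_option autoImplicit false
universe u
open CategoryTheory CategoryTheory.Limits AlgebraicGeometry

namespace Groth.Agent.Lib.Helper30.EtLocalInst

open Groth.Agent.Lib.Helper46 Groth.Agent.Lib.Helper30.EtaleSource

set_option backward.isDefEq.respectTransparency false in
theorem etLocal_lft : EtLocal (@LocallyOfFiniteType : MorphismProperty Scheme.{u}) := by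
  refine EtLocal.mk' _ (fun _ _ f hf => ?_) (fun U' U V g q hg hs h => ?_)
  · have : Etale f := hf
    infer_instance
  · have : LocallyOfFiniteType (g ≫ q) := h
    exact locallyOfFiniteType_of_etale_surjective_comp g q

set_option backward.isDefEq.respectTransparency false in
theorem etLocal_lfp : EtLocal (@LocallyOfFinitePresentation : MorphismProperty Scheme.{u}) := by
  refine EtLocal.mk' _ (fun _ _ f hf => ?_) (fun U' U V g q hg hs h => ?_)
  · have : Etale f := hf
    infer_instance
  · have : LocallyOfFinitePresentation (g ≫ q) := h
    exact locallyOfFinitePresentation_of_etale_surjective_comp g q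

set_option backward.isDefEq.respectTransparency false in
theorem etLocal_etale : EtLocal (@Etale : MorphismProperty Scheme.{u}) := by
  refine EtLocal.mk' _ (fun _ _ f hf => hf) (fun U' U V g q hg hs h => ?_)
  have : Etale (g ≫ q) := h
  exact etale_of_etale_surjective_comp g q

set_option backward.isDefEq.respectTransparency false in
theorem etLocal_lqf :
    EtLocal (@LocallyQuasiFinite ⊓ @LocallyOfFiniteType : MorphismProperty Scheme.{u}) := by
  refine EtLocal.mk' _ (fun _ _ f hf => ?_) (fun U' U V g q hg hs h => ?_)
  · have : Etale f := hf
    exact ⟨locallyQuasiFinite_of_etale f, inferInstance⟩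
  · have : LocallyQuasiFinite (g ≫ q) := h.1
    have : LocallyOfFiniteType (g ≫ q) := h.2
    exact locallyQuasiFinite_of_etale_surjective_comp g q

set_option backward.isDefEq.respectTransparency false in
theorem etLocal_unramified :
    EtLocal (@LocallyOfFiniteType ⊓ @FormallyUnramified : MorphismProperty Scheme.{u}) := by
  refine EtLocal.mk' _ (fun _ _ f hf => ?_) (fun U' U V g q hg hs h => ?_)
  · have : Etale f := hf
    exact ⟨inferInstance, inferInstance⟩
  · have : LocallyOfFiniteType (g ≫ q) := h.1
    have : FormallyUnramified (g ≫ q) := h.2
    exact ⟨locallyOfFiniteType_of_etale_surjective_comp g q,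
      formallyUnramified_of_etale_surjective_comp g q⟩

end Groth.Agent.Lib.Helper30.EtLocalInst
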