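import Mathlib.LinearAlgebra.Matrix.Charpoly.Coeff
import Mathlib.LinearAlgebra.Matrix.Charpoly.LinearMap
import Mathlib.LinearAlgebra.Matrix.ToLin
import Mathlib.RingTheory.Polynomial.Nilpotent
import Mathlib.RingTheory.FiniteType
import Mathlib.RingTheory.Localization.Away.Basic

/-!
# Finite type descends along étale covers of the source: the abstract chart criterion
-/

set_option autoImplicit false
open Polynomial

namespace Groth.Agent.Lib.Helper30.EtaleSourceFT

section
variable {B : Type*} [CommRing B]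

/-- Key nilpotency lemma: if a matrix `M₁` over a subring `B₁ ⊆ B` has a power `M₁ ^ N` all of
whose entries multiply `b : B` into `B₁`, then every non-leading coefficient `c` of the
characteristic polynomial of `M₁` has a power multiplying `b` into `B₁`. -/
theorem exists_pow_mul_mem_of_charpoly_coeff {ι : Type*} [Fintype ι] [DecidableEq ι]
    (B₁ : Subring B) (M₁ : Matrix ι ι B₁) (b : B) (N : ℕ)
    (h : ∀ i k, ((M₁ ^ N) i k : B) * b ∈ B₁) (m : ℕ) (hm : m < Fintype.card ι) :
    ∃ r : ℕ, ((M₁.charpoly.coeff m : B₁) : B) ^ r * b ∈ B₁ := by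
  classical
  -- the conductor ideal
  let 𝔞 : Ideal B₁ :=
    { carrier := {x | (x : B) * b ∈ B₁}
      add_mem' := by
        intro x y hx hy
        simp only [Set.mem_setOf_eq, Subring.coe_add, add_mul] at *
        exact B₁.add_mem hx hy
      zero_mem' := by simp
      smul_mem' := by
        intro c x hx
        simp only [Set.mem_setOf_eq, smul_eq_mul, Subring.coe_mul, mul_assoc] at *
        exact B₁.mul_mem c.2 hx }
  have hmem : ∀ x : B₁, x ∈ 𝔞 ↔ (x : B) * b ∈ B₁ := fun x => Iff.rfl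
  have hN : (M₁.map (Ideal.Quotient.mk 𝔞)) ^ N = 0 := by
    rw [← Matrix.map_pow]
    ext i k
    simp only [Matrix.map_apply, Matrix.zero_apply]
    exact Ideal.Quotient.eq_zero_iff_mem.2 ((hmem _).2 (h i k))
  have hnil : IsNilpotent (M₁.map (Ideal.Quotient.mk 𝔞)) := ⟨N, hN⟩
  have h2 := Matrix.isNilpotent_charpoly_sub_pow_of_isNilpotent hnil
  rw [Matrix.charpoly_map, Polynomial.isNilpotent_iff] at h2
  obtain ⟨r, hr⟩ := h2 m
  refine ⟨r, ?_⟩
  have h3 : ((M₁.charpoly.map (Ideal.Quotient.mk 𝔞) - X ^ Fintype.card ι).coeff m) =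
      Ideal.Quotient.mk 𝔞 (M₁.charpoly.coeff m) := by
    rw [coeff_sub, coeff_map, coeff_X_pow, if_neg (ne_of_lt hm), sub_zero]
  rw [h3, ← map_pow, Ideal.Quotient.eq_zero_iff_mem, hmem] at hr
  simpa using hr

/-- Version of the previous lemma for a matrix over `B` with entries in `B₁`. -/
theorem exists_pow_mul_mem_of_charpoly_coeff' {ι : Type*} [Fintype ι] [DecidableEq ι]
    (B₁ : Subring B) (M : Matrix ι ι B) (hM : ∀ i k, M i k ∈ B₁) (b : B) (N : ℕ)
    (h : ∀ i k, (M ^ N) i k * b ∈ B₁) (m : ℕ) (hm : m < Fintype.card ι) :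
    M.charpoly.coeff m ∈ B₁ ∧ ∃ r : ℕ, (M.charpoly.coeff m) ^ r * b ∈ B₁ := by
  let M₁ : Matrix ι ι B₁ := fun i k => ⟨M i k, hM i k⟩
  have hM₁ : M₁.map B₁.subtype = M := by
    ext i k; rfl
  have hpow : ∀ i k, ((M₁ ^ N) i k : B) = (M ^ N) i k := by
    intro i k
    rw [← hM₁, ← Matrix.map_pow]
    rfl
  have hc : M.charpoly.coeff m = ((M₁.charpoly.coeff m : B₁) : B) := by
    rw [← hM₁, Matrix.charpoly_map, coeff_map]
    rfl
  rw [hc]
  refine ⟨(M₁.charpoly.coeff m).2, ?_⟩
  exact exists_pow_mul_mem_of_charpoly_coeff B₁ M₁ b N (fun i k => by rw [hpow]; exact h i k) m hm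

/-- Cayley–Hamilton for left multiplication on a finite free algebra. -/
theorem aeval_charpoly_leftMulMatrix {D : Type*} [CommRing D] [Algebra B D] {ι : Type*} [Fintype ι]
    [DecidableEq ι] (e : Module.Basis ι B D) (g : D) :
    aeval g (Algebra.leftMulMatrix e g).charpoly = 0 := by
  apply Algebra.leftMulMatrix_injective e
  rw [← Polynomial.aeval_algHom_apply, Matrix.aeval_self_charpoly, map_zero]

/-- If all the non-leading coefficients of the characteristic polynomial of `g` lie in a prime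
`q` of `B`, then `g` lies in every prime of `D` over `q`. -/
theorem mem_of_charpoly_coeff_mem {D : Type*} [CommRing D] [Algebra B D] {ι : Type*} [Fintype ι]
    [DecidableEq ι] (e : Module.Basis ι B D) (g : D) (q : Ideal B) (Q : Ideal D) [Q.IsPrime]
    (hQ : q ≤ Q.comap (algebraMap B D))
    (h : ∀ m, m < Fintype.card ι → (Algebra.leftMulMatrix e g).charpoly.coeff m ∈ q) : g ∈ Q := by
  haveI : Nontrivial B := by
    refine nontrivial_of_ne (0 : B) 1 fun h01 => ?_
    have : (1 : D) ∈ Q := by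
      have := Q.zero_mem
      rwa [← map_zero (algebraMap B D), h01, map_one] at this
    exact (Ideal.IsPrime.ne_top inferInstance) ((Ideal.eq_top_iff_one Q).2 this)
  have h0 := aeval_charpoly_leftMulMatrix e g
  set χ := (Algebra.leftMulMatrix e g).charpoly with hχ
  have hdeg : χ.natDegree = Fintype.card ι := Matrix.charpoly_natDegree_eq_dim _
  have hmonic : χ.Monic := Matrix.charpoly_monic _
  rw [Polynomial.aeval_eq_sum_range, hdeg, Finset.sum_range_succ] at h0
  have hlead : χ.coeff (Fintype.card ι) = 1 := by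
    rw [← hdeg]; exact hmonic.coeff_natDegree
  rw [hlead, one_smul] at h0
  have hsum : ∑ x ∈ Finset.range (Fintype.card ι), χ.coeff x • g ^ x ∈ Q := by
    refine Q.sum_mem fun m hm => ?_
    rw [Algebra.smul_def]
    exact Q.mul_mem_right _ (hQ (h m (Finset.mem_range.1 hm)))
  have : g ^ Fintype.card ι ∈ Q := by
    have := Q.sub_mem (Q.zero_mem) hsum
    rw [← h0, add_sub_cancel_left] at this
    exact this
  exact Ideal.IsPrime.mem_of_pow_mem inferInstance _ this


/-- The conductor of `b` into the subring `B₁`. -/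
def conductor (B₁ : Subring B) (b : B) : Ideal B₁ where
  carrier := {x | (x : B) * b ∈ B₁}
  add_mem' := by
    intro x y hx hy
    simp only [Set.mem_setOf_eq, Subring.coe_add, add_mul] at *
    exact B₁.add_mem hx hy
  zero_mem' := by simp
  smul_mem' := by
    intro c x hx
    simp only [Set.mem_setOf_eq, smul_eq_mul, Subring.coe_mul, mul_assoc] at *
    exact B₁.mul_mem c.2 hx

theorem mem_conductor {B₁ : Subring B} {b : B} {x : B₁} :
    x ∈ conductor B₁ b ↔ (x : B) * b ∈ B₁ := Iff.rfl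

end

variable {A B : Type*} [CommRing A] [CommRing B] [Algebra A B]
variable {D L : Type*} [CommRing D] [CommRing L] [Algebra B D] [Algebra A D] [IsScalarTower A B D]
  [Algebra D L] [Algebra A L] [IsScalarTower A D L]
  {ι : Type*} [Fintype ι] [DecidableEq ι] (e : Module.Basis ι B D)

/-- Elements of `D` whose left multiplication matrix has entries in `B₁`. -/
def matSub (B₁ : Subalgebra A B) : Subalgebra A D where
  carrier := {d | ∀ i k, Algebra.leftMulMatrix e d i k ∈ B₁}
  mul_mem' := by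
    intro x y hx hy i k
    rw [map_mul, Matrix.mul_apply]
    exact B₁.sum_mem fun l _ => B₁.mul_mem (hx i l) (hy l k)
  add_mem' := by
    intro x y hx hy i k
    rw [map_add, Matrix.add_apply]
    exact B₁.add_mem (hx i k) (hy i k)
  algebraMap_mem' := by
    intro a i k
    rw [IsScalarTower.algebraMap_apply A B D, AlgHom.commutes, Matrix.algebraMap_matrix_apply]
    split_ifs
    · exact B₁.algebraMap_mem a
    · exact B₁.zero_mem

theorem mem_matSub {B₁ : Subalgebra A B} {d : D} :
    d ∈ matSub e B₁ ↔ ∀ i k, Algebra.leftMulMatrix e d i k ∈ B₁ := Iff.rfl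

variable (L) in
/-- Elements of the localization `L = D[1/g]` having a numerator in `matSub e B₁`. -/
def locSub (B₁ : Subalgebra A B) (g : D) (hg : g ∈ matSub e B₁) : Subalgebra A L where
  carrier := {z | ∃ N : ℕ, ∃ d ∈ matSub e B₁, z * algebraMap D L (g ^ N) = algebraMap D L d}
  mul_mem' := by
    rintro x y ⟨N₁, d₁, hd₁, h₁⟩ ⟨N₂, d₂, hd₂, h₂⟩
    refine ⟨N₁ + N₂, d₁ * d₂, (matSub e B₁).mul_mem hd₁ hd₂, ?_⟩
    rw [pow_add, map_mul, map_mul, ← h₁, ← h₂]
    ring
  add_mem' := by
    rintro x y ⟨N₁, d₁, hd₁, h₁⟩ ⟨N₂, d₂, hd₂, h₂⟩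
    refine ⟨N₁ + N₂, d₁ * g ^ N₂ + d₂ * g ^ N₁,
      (matSub e B₁).add_mem ((matSub e B₁).mul_mem hd₁ ((matSub e B₁).pow_mem hg _))
        ((matSub e B₁).mul_mem hd₂ ((matSub e B₁).pow_mem hg _)), ?_⟩
    rw [pow_add, map_mul, map_add, map_mul, map_mul, ← h₁, ← h₂]
    ring
  algebraMap_mem' := by
    intro a
    refine ⟨0, algebraMap A D a, (matSub e B₁).algebraMap_mem a, ?_⟩
    rw [pow_zero, map_one, mul_one, ← IsScalarTower.algebraMap_apply]

/-- The chart lemma. -/
theorem chart_lemma (g : D) [IsLocalization.Away g L] (hft : Algebra.FiniteType A L) :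
    ∃ E : Finset B, ∀ B₁ : Subalgebra A B, (↑E : Set B) ⊆ B₁ →
      (∀ i k, Algebra.leftMulMatrix e g i k ∈ B₁) ∧
      ∀ b : B, ∃ N : ℕ, ∀ i k, (Algebra.leftMulMatrix e g ^ N) i k * b ∈ B₁ := by
  classical
  obtain ⟨s, hs⟩ := hft.out
  choose n d hd using fun z : L => IsLocalization.Away.surj g z
  let E : Finset B := (Finset.univ.image fun p : ι × ι => Algebra.leftMulMatrix e g p.1 p.2) ∪
    s.biUnion fun z => Finset.univ.image fun p : ι × ι => Algebra.leftMulMatrix e (d z) p.1 p.2
  refine ⟨E, fun B₁ hE => ?_⟩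
  have hg : g ∈ matSub e B₁ := fun i k => hE (by
    simp only [E, Finset.coe_union, Set.mem_union, Finset.mem_coe, Finset.mem_image,
      Finset.mem_univ, true_and]
    exact Or.inl ⟨(i, k), rfl⟩)
  have hdz : ∀ z ∈ s, d z ∈ matSub e B₁ := fun z hz i k => hE (by
    simp only [E, Finset.coe_union, Set.mem_union, Finset.mem_coe, Finset.mem_biUnion,
      Finset.mem_image, Finset.mem_univ, true_and]
    exact Or.inr ⟨z, hz, (i, k), rfl⟩)
  refine ⟨hg, fun b => ?_⟩
  have htop : locSub L e B₁ g hg = ⊤ := by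
    rw [eq_top_iff, ← hs]
    refine Algebra.adjoin_le fun z hz => ?_
    exact ⟨n z, d z, hdz z hz, by rw [map_pow]; exact hd z⟩
  have hb : algebraMap D L (algebraMap B D b) ∈ locSub L e B₁ g hg := by
    rw [htop]; exact Algebra.mem_top
  obtain ⟨N, d₁, hd₁, h₁⟩ := hb
  rw [← map_mul, IsLocalization.eq_iff_exists (Submonoid.powers g)] at h₁
  obtain ⟨⟨_, N', rfl⟩, h₂⟩ := h₁
  refine ⟨N' + N, fun i k => ?_⟩
  have h3 : g ^ N' * (algebraMap B D b * g ^ N) ∈ matSub e B₁ := by
    rw [h₂]
    exact (matSub e B₁).mul_mem ((matSub e B₁).pow_mem hg _) hd₁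
  have h4 := h3 i k
  have h5 : g ^ N' * (algebraMap B D b * g ^ N) = b • g ^ (N' + N) := by
    rw [Algebra.smul_def, pow_add]; ring
  rw [h5, map_smul, map_pow, Matrix.smul_apply, smul_eq_mul, mul_comm] at h4
  exact h4


/-- **Abstract chart criterion.**  If `B` admits finitely many finite free `B`-algebras `D j` with
elements `g j` such that every `D j [1 / g j]` is of finite type over `A` and the opens `D(g j)`
jointly surject onto `Spec B`, then `B` is of finite type over `A`. -/
theorem finiteType_of_charts {A B : Type*} [CommRing A] [CommRing B] [Algebra A B]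
    {J : Type*} [Finite J]
    (D L : J → Type*) [∀ j, CommRing (D j)] [∀ j, CommRing (L j)]
    [∀ j, Algebra B (D j)] [∀ j, Algebra A (D j)] [∀ j, IsScalarTower A B (D j)]
    [∀ j, Algebra (D j) (L j)] [∀ j, Algebra A (L j)] [∀ j, IsScalarTower A (D j) (L j)]
    (ι : J → Type*) [∀ j, Fintype (ι j)] [∀ j, DecidableEq (ι j)]
    (e : ∀ j, Module.Basis (ι j) B (D j)) (g : ∀ j, D j) [∀ j, IsLocalization.Away (g j) (L j)]
    (hft : ∀ j, Algebra.FiniteType A (L j))
    (hcov : ∀ q : Ideal B, q.IsPrime → ∃ j, ∃ Q : Ideal (D j), Q.IsPrime ∧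
      q ≤ Q.comap (algebraMap B (D j)) ∧ g j ∉ Q) :
    Algebra.FiniteType A B := by
  classical
  cases nonempty_fintype J
  choose E hE using fun j => chart_lemma (A := A) (L := L j) (e j) (g j) (hft j)
  let χ : ∀ j, B[X] := fun j => (Algebra.leftMulMatrix (e j) (g j)).charpoly
  let C : Finset B := Finset.univ.biUnion fun j =>
    (Finset.range (Fintype.card (ι j))).image fun m => (χ j).coeff m
  have hCmem : ∀ c ∈ C, ∃ j m, m < Fintype.card (ι j) ∧ c = (χ j).coeff m := by
    intro c hc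
    simp only [C, Finset.mem_biUnion, Finset.mem_univ, true_and, Finset.mem_image,
      Finset.mem_range] at hc
    obtain ⟨j, m, hm, rfl⟩ := hc
    exact ⟨j, m, hm, rfl⟩
  have hC : Ideal.span (C : Set B) = ⊤ := by
    by_contra hne
    obtain ⟨q, hq, hle⟩ := Ideal.exists_le_maximal _ hne
    obtain ⟨j, Q, hQ, hqQ, hgQ⟩ := hcov q hq.isPrime
    refine hgQ (mem_of_charpoly_coeff_mem (e j) (g j) q Q hqQ fun m hm => ?_)
    refine hle (Ideal.subset_span ?_)
    simp only [C, Finset.coe_biUnion, Finset.coe_univ, Set.mem_univ, Set.iUnion_true,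
      Finset.coe_image, Finset.coe_range, Set.mem_iUnion, Set.mem_image, Set.mem_Iio]
    exact ⟨j, m, hm, rfl⟩
  have h1 : (1 : B) ∈ Ideal.span (C : Set B) := by rw [hC]; trivial
  rw [Ideal.span, Submodule.mem_span_finset] at h1
  obtain ⟨f, -, hf⟩ := h1
  let E' : Finset B := (Finset.univ.biUnion E) ∪ C.image f
  refine ⟨⟨E', ?_⟩⟩
  set B₁ : Subalgebra A B := Algebra.adjoin A (E' : Set B) with hB₁
  have hEj : ∀ j, (↑(E j) : Set B) ⊆ B₁ := by
    intro j x hx
    refine Algebra.subset_adjoin ?_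
    simp only [E', Finset.coe_union, Set.mem_union, Finset.mem_coe, Finset.mem_biUnion,
      Finset.mem_univ, true_and]
    exact Or.inl ⟨j, hx⟩
  have hfc : ∀ c ∈ C, f c ∈ B₁ := by
    intro c hc
    refine Algebra.subset_adjoin ?_
    simp only [E', Finset.coe_union, Set.mem_union, Finset.mem_coe, Finset.mem_image]
    exact Or.inr ⟨c, hc, rfl⟩
  rw [eq_top_iff]
  intro b _
  -- the conductor of `b`
  have key : ∀ c ∈ C, c ∈ B₁ ∧ ∃ r : ℕ, c ^ r * b ∈ B₁ := by
    intro c hc
    obtain ⟨j, m, hm, rfl⟩ := hCmem c hc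
    obtain ⟨hg, hb⟩ := hE j B₁ (hEj j)
    obtain ⟨N, hN⟩ := hb b
    exact exists_pow_mul_mem_of_charpoly_coeff' B₁.toSubring _ hg b N hN m hm
  have hone : (1 : B₁.toSubring) ∈ (conductor B₁.toSubring b).radical := by
    have : (1 : B₁.toSubring) = ∑ c ∈ C.attach,
        (⟨f c.1, hfc c.1 c.2⟩ : B₁.toSubring) * ⟨c.1, (key c.1 c.2).1⟩ := by
      apply Subtype.ext
      rw [Subring.coe_one, ← hf, ← Finset.sum_attach C]
      simp only [smul_eq_mul]
      rw [← Subring.coe_subtype, map_sum]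
      rfl
    rw [this]
    refine Submodule.sum_mem _ fun c _ => Ideal.mul_mem_left _ _ ?_
    obtain ⟨r, hr⟩ := (key c.1 c.2).2
    exact ⟨r, mem_conductor.2 (by simpa using hr)⟩
  rw [← Ideal.eq_top_iff_one, Ideal.radical_eq_top, Ideal.eq_top_iff_one, mem_conductor] at hone
  simpa using hone

end Groth.Agent.Lib.Helper30.EtaleSourceFT
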