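import Mathlib.RingTheory.Unramified.LocalStructure
import Mathlib.RingTheory.Etale.StandardEtale
import Mathlib.RingTheory.AdjoinRoot
import Groth.Agent.Lib.Helper30.EtaleSourceFT

set_option autoImplicit false
universe u
open Polynomial

namespace Groth.Agent.Lib.Helper30.EtaleSourceFT

variable {A B C : Type u} [CommRing A] [CommRing B] [CommRing C] [Algebra A B] [Algebra B C]
  [Algebra A C] [IsScalarTower A B C]

/-- Standard étale charts cover: the elements `f` with `C[1/f]` standard étale over `B` generate
the unit ideal when `C` is étale over `B`. -/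
theorem span_isStandardEtale_eq_top [Algebra.Etale B C] :
    Ideal.span {f : C | Algebra.IsStandardEtale B (Localization.Away f)} = ⊤ := by
  by_contra hne
  obtain ⟨Q, hQ, hle⟩ := Ideal.exists_le_maximal _ hne
  haveI := hQ.isPrime
  have : Algebra.FormallyEtale C (Localization.AtPrime Q) :=
    Algebra.FormallyEtale.of_isLocalization Q.primeCompl
  have : Algebra.IsEtaleAt B Q := Algebra.FormallyEtale.comp B C _
  obtain ⟨f, hfQ, hf⟩ := Algebra.IsEtaleAt.exists_isStandardEtale (R := B) Q
  exact hfQ (hle (Ideal.subset_span hf))

/-- **Finite type descends along étale covers of the source** (ring form): if `C` is étale over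
`B` with `Spec C → Spec B` surjective and `C` is of finite type over `A`, then `B` is of finite
type over `A`. -/
theorem finiteType_of_etale_of_surjective [Algebra.Etale B C]
    (hsurj : Function.Surjective (PrimeSpectrum.comap (algebraMap B C)))
    [Algebra.FiniteType A C] : Algebra.FiniteType A B := by
  classical
  obtain ⟨F₀, hF₀, hspan⟩ := (Ideal.span_eq_top_iff_finite _).1
    (span_isStandardEtale_eq_top (B := B) (C := C))
  -- the presentations
  have hP : ∀ f : F₀, Nonempty (StandardEtalePresentation B (Localization.Away (f : C))) :=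
    fun f => (hF₀ f.2).nonempty_standardEtalePresentation
  choose P hPtriv using fun f : F₀ => (⟨(hP f).some, trivial⟩ : ∃ _ : StandardEtalePresentation B
    (Localization.Away (f : C)), True)
  -- the equivalences
  let φ : ∀ f : F₀, Localization.Away (f : C) ≃ₐ[B]
      Localization.Away (AdjoinRoot.mk (P f).f (P f).g) :=
    fun f => (P f).equivRing.trans (P f).P.equivAwayAdjoinRoot
  refine finiteType_of_charts (A := A) (B := B) (J := F₀)
    (fun f => AdjoinRoot (P f).f) (fun f => Localization.Away (AdjoinRoot.mk (P f).f (P f).g))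
    (fun f => Fin (P f).f.natDegree)
    (fun f => (AdjoinRoot.powerBasis' (P f).monic_f).basis)
    (fun f => AdjoinRoot.mk (P f).f (P f).g) ?_ ?_
  · intro f
    have h1 : Algebra.FiniteType A (Localization.Away (f : C)) :=
      Algebra.FiniteType.trans (S := C) inferInstance inferInstance
    exact Algebra.FiniteType.equiv h1 ((φ f).restrictScalars A)
  · intro q hq
    obtain ⟨Q', hQ'⟩ := hsurj ⟨q, hq⟩
    have hQ'q : Q'.asIdeal.comap (algebraMap B C) = q := congrArg PrimeSpectrum.asIdeal hQ'
    -- some `f ∈ F₀` is not in `Q'`
    obtain ⟨f, hfF, hfQ⟩ : ∃ f ∈ F₀, f ∉ Q'.asIdeal := by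
      by_contra hcon
      push Not at hcon
      have : Ideal.span (F₀ : Set C) ≤ Q'.asIdeal := Ideal.span_le.2 fun x hx => hcon x hx
      rw [hspan, top_le_iff] at this
      exact Q'.isPrime.ne_top this
    let f' : F₀ := ⟨f, hfF⟩
    -- the prime of the localization
    have hdisj : Disjoint (Submonoid.powers f : Set C) (Q'.asIdeal : Set C) := by
      rw [Set.disjoint_left]
      rintro _ ⟨n, rfl⟩ hmem
      exact hfQ (Q'.isPrime.mem_of_pow_mem n hmem)
    have hQ''prime : (Q'.asIdeal.map (algebraMap C (Localization.Away f))).IsPrime :=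
      IsLocalization.isPrime_of_isPrime_disjoint (Submonoid.powers f) _ _ Q'.isPrime hdisj
    have hQ''comap : (Q'.asIdeal.map (algebraMap C (Localization.Away f))).comap
        (algebraMap C (Localization.Away f)) = Q'.asIdeal :=
      IsLocalization.comap_map_of_isPrime_disjoint (Submonoid.powers f) _ Q'.isPrime hdisj
    let Q₃ : Ideal (Localization.Away (AdjoinRoot.mk (P f').f (P f').g)) :=
      (Q'.asIdeal.map (algebraMap C (Localization.Away f))).comap
        ((φ f').symm : _ →+* Localization.Away f)
    have hQ₃prime : Q₃.IsPrime := Ideal.comap_isPrime _ _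
    refine ⟨f', Q₃.comap (algebraMap _ _), Ideal.comap_isPrime _ _, ?_, ?_⟩
    · intro x hx
      rw [Ideal.mem_comap]
      change _ ∈ Ideal.comap _ _
      rw [Ideal.mem_comap]
      change ((φ f').symm (algebraMap _ _ (algebraMap B (AdjoinRoot (P f').f) x))) ∈
        Q'.asIdeal.map (algebraMap C (Localization.Away f))
      rw [← IsScalarTower.algebraMap_apply, AlgEquiv.commutes,
        IsScalarTower.algebraMap_apply B C (Localization.Away f)]
      refine Ideal.mem_map_of_mem _ ?_
      rw [← hQ'q] at hx
      exact hx
    · intro hmem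
      rw [Ideal.mem_comap] at hmem
      have hunit : IsUnit (algebraMap (AdjoinRoot (P f').f)
          (Localization.Away (AdjoinRoot.mk (P f').f (P f').g))
          (AdjoinRoot.mk (P f').f (P f').g)) :=
        IsLocalization.Away.algebraMap_isUnit _
      exact hQ₃prime.ne_top (Ideal.eq_top_of_isUnit_mem _ hmem hunit)

end Groth.Agent.Lib.Helper30.EtaleSourceFT
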