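import Groth.Agent.Lib.Helper30.EtaleSourceFP2
import Groth.Agent.Lib.Helper30.EtaleSourceFT2
import Mathlib.RingTheory.FinitePresentation
import Mathlib.RingTheory.Localization.Away.AdjoinRoot
import Mathlib.Algebra.Polynomial.Lifts

set_option autoImplicit false
universe u
open Polynomial

namespace Groth.Agent.Lib.Helper30.EtaleSourceFT

variable {A B C : Type u} [CommRing A] [CommRing B] [CommRing C] [Algebra A B] [Algebra B C]
  [Algebra A C] [IsScalarTower A B C]

/-- Standard étale charts of an étale cover, in `AdjoinRoot` form. -/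
theorem exists_standard_charts [Algebra.Etale B C]
    (hsurj : Function.Surjective (PrimeSpectrum.comap (algebraMap B C))) :
    ∃ (F₀ : Finset C) (f g : F₀ → B[X]), (∀ j, (f j).Monic) ∧
      (∀ j : F₀, Nonempty (Localization.Away (j : C) ≃ₐ[B]
        Localization.Away (AdjoinRoot.mk (f j) (g j)))) ∧
      ∀ q : Ideal B, q.IsPrime → ∃ j, ∃ Q : Ideal (AdjoinRoot (f j)), Q.IsPrime ∧
        q ≤ Q.comap (algebraMap B (AdjoinRoot (f j))) ∧ AdjoinRoot.mk (f j) (g j) ∉ Q := by
  classical
  obtain ⟨F₀, hF₀, hspan⟩ := (Ideal.span_eq_top_iff_finite _).1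
    (span_isStandardEtale_eq_top (B := B) (C := C))
  have hP : ∀ f : F₀, Nonempty (StandardEtalePresentation B (Localization.Away (f : C))) :=
    fun f => (hF₀ f.2).nonempty_standardEtalePresentation
  choose P hPtriv using fun f : F₀ => (⟨(hP f).some, trivial⟩ : ∃ _ : StandardEtalePresentation B
    (Localization.Away (f : C)), True)
  let φ : ∀ f : F₀, Localization.Away (f : C) ≃ₐ[B]
      Localization.Away (AdjoinRoot.mk (P f).f (P f).g) :=
    fun f => (P f).equivRing.trans (P f).P.equivAwayAdjoinRoot
  refine ⟨F₀, fun j => (P j).f, fun j => (P j).g, fun j => (P j).monic_f, fun j => ⟨φ j⟩, ?_⟩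
  intro q hq
  obtain ⟨Q', hQ'⟩ := hsurj ⟨q, hq⟩
  have hQ'q : Q'.asIdeal.comap (algebraMap B C) = q := congrArg PrimeSpectrum.asIdeal hQ'
  obtain ⟨f, hfF, hfQ⟩ : ∃ f ∈ F₀, f ∉ Q'.asIdeal := by
    by_contra hcon
    push Not at hcon
    have : Ideal.span (F₀ : Set C) ≤ Q'.asIdeal := Ideal.span_le.2 fun x hx => hcon x hx
    rw [hspan, top_le_iff] at this
    exact Q'.isPrime.ne_top this
  let f' : F₀ := ⟨f, hfF⟩
  have hdisj : Disjoint (Submonoid.powers f : Set C) (Q'.asIdeal : Set C) := by
    rw [Set.disjoint_left]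
    rintro _ ⟨n, rfl⟩ hmem
    exact hfQ (Q'.isPrime.mem_of_pow_mem n hmem)
  have hQ''prime : (Q'.asIdeal.map (algebraMap C (Localization.Away f))).IsPrime :=
    IsLocalization.isPrime_of_isPrime_disjoint (Submonoid.powers f) _ _ Q'.isPrime hdisj
  let Q₃ : Ideal (Localization.Away (AdjoinRoot.mk (P f').f (P f').g)) :=
    (Q'.asIdeal.map (algebraMap C (Localization.Away f))).comap
      ((φ f').symm : _ →+* Localization.Away f)
  have hQ₃prime : Q₃.IsPrime := Ideal.comap_isPrime _ _
  refine ⟨f', Q₃.comap (algebraMap _ _), Ideal.comap_isPrime _ _, ?_, ?_⟩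
  · intro x hx
    rw [Ideal.mem_comap, Ideal.mem_comap]
    change ((φ f').symm (algebraMap _ _ (algebraMap B (AdjoinRoot (P f').f) x))) ∈
      Q'.asIdeal.map (algebraMap C (Localization.Away f))
    rw [← IsScalarTower.algebraMap_apply, AlgEquiv.commutes,
      IsScalarTower.algebraMap_apply B C (Localization.Away f)]
    refine Ideal.mem_map_of_mem _ ?_
    rw [← hQ'q] at hx
    exact hx
  · intro hmem
    rw [Ideal.mem_comap] at hmem
    have hunit : IsUnit (algebraMap (AdjoinRoot (P f').f)
        (Localization.Away (AdjoinRoot.mk (P f').f (P f').g))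
        (AdjoinRoot.mk (P f').f (P f').g)) :=
      IsLocalization.Away.algebraMap_isUnit _
    exact hQ₃prime.ne_top (Ideal.eq_top_of_isUnit_mem _ hmem hunit)

/-- **Finite presentation descends along étale covers of the source** (ring form). -/
theorem finitePresentation_of_etale_of_surjective [Algebra.Etale B C]
    (hsurj : Function.Surjective (PrimeSpectrum.comap (algebraMap B C)))
    [Algebra.FinitePresentation A C] : Algebra.FinitePresentation A B := by
  classical
  have hft : Algebra.FiniteType A B := finiteType_of_etale_of_surjective (C := C) hsurj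
  obtain ⟨n, π, hπ⟩ := Algebra.FiniteType.iff_quotient_mvPolynomial''.1 hft
  refine Algebra.FinitePresentation.of_surjective hπ ?_
  obtain ⟨F₀, f, g, hmonic, hequiv, hcov⟩ := exists_standard_charts (B := B) (C := C) hsurj
  have hπ' : Function.Surjective (π : MvPolynomial (Fin n) A →+* B) := hπ
  have hlift : ∀ j, ∃ F : (MvPolynomial (Fin n) A)[X],
      F.map (π : MvPolynomial (Fin n) A →+* B) = f j ∧ F.Monic := by
    intro j
    obtain ⟨F, h1, -, h3⟩ := Polynomial.lifts_and_natDegree_eq_and_monic
      (f := (π : MvPolynomial (Fin n) A →+* B)) (p := f j)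
      (by
        rw [Polynomial.mem_lifts]
        exact Polynomial.map_surjective _ hπ' _) (hmonic j)
    exact ⟨F, h1, h3⟩
  choose F hFmap hFmonic using hlift
  have hliftg : ∀ j, ∃ G : (MvPolynomial (Fin n) A)[X],
      G.map (π : MvPolynomial (Fin n) A →+* B) = g j :=
    fun j => Polynomial.map_surjective _ hπ' _
  choose G hG using hliftg
  -- the maps `θ₀`
  let θ₀ : ∀ j, AdjoinRoot (F j) →ₐ[A] AdjoinRoot (f j) := fun j =>
    AdjoinRoot.mapAlgHom π (F j) (f j) (dvd_of_eq (hFmap j).symm)
  have hθ₀G : ∀ j, θ₀ j (AdjoinRoot.mk (F j) (G j)) = AdjoinRoot.mk (f j) (g j) := by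
    intro j
    change AdjoinRoot.map (π : MvPolynomial (Fin n) A →+* B) (F j) (f j)
      (dvd_of_eq (hFmap j).symm) _ = _
    rw [adjoinRoot_map_mk, hG]
  have hθ₀surj : ∀ j, Function.Surjective (θ₀ j) := fun j =>
    adjoinRoot_map_surjective _ hπ' _ _ (dvd_of_eq (hFmap j).symm)
  have hθ₀ker : ∀ j, RingHom.ker (θ₀ j : AdjoinRoot (F j) →+* AdjoinRoot (f j)) ≤
      (RingHom.ker (π : MvPolynomial (Fin n) A →+* B)).map (AdjoinRoot.of (F j)) := fun j =>
    ker_adjoinRoot_map_le _ hπ' _ _ (hFmap j)
  refine fg_of_charts (RingHom.ker π.toRingHom) (J := F₀) (fun j => AdjoinRoot (F j))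
    (fun j => Localization.Away (AdjoinRoot.mk (F j) (G j))) (fun j => Fin (F j).natDegree)
    (fun j => (AdjoinRoot.powerBasis' (hFmonic j)).basis)
    (fun j => AdjoinRoot.mk (F j) (G j)) ?_ ?_
  · intro j
    have : IsLocalization.Away (θ₀ j (AdjoinRoot.mk (F j) (G j)))
        (Localization.Away (AdjoinRoot.mk (f j) (g j))) := by
      rw [hθ₀G j]; infer_instance
    let θ : Localization.Away (AdjoinRoot.mk (F j) (G j)) →ₐ[A]
        Localization.Away (AdjoinRoot.mk (f j) (g j)) :=
      IsLocalization.Away.mapₐ _ _ (θ₀ j) (AdjoinRoot.mk (F j) (G j))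
    have hθsurj : Function.Surjective θ :=
      IsLocalization.Away.mapₐ_surjective_of_surjective _ (hθ₀surj j)
    have : Algebra.FinitePresentation A (AdjoinRoot (F j)) := inferInstance
    have : Algebra.FinitePresentation (AdjoinRoot (F j))
        (Localization.Away (AdjoinRoot.mk (F j) (G j))) :=
      IsLocalization.Away.finitePresentation (AdjoinRoot.mk (F j) (G j))
    have : Algebra.FinitePresentation A (Localization.Away (AdjoinRoot.mk (F j) (G j))) :=
      Algebra.FinitePresentation.trans A (AdjoinRoot (F j)) _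
    have : Algebra.FinitePresentation A (Localization.Away (AdjoinRoot.mk (f j) (g j))) := by
      obtain ⟨φ⟩ := hequiv j
      have : Algebra.FinitePresentation C (Localization.Away (j : C)) :=
        IsLocalization.Away.finitePresentation (j : C)
      have : Algebra.FinitePresentation A (Localization.Away (j : C)) :=
        Algebra.FinitePresentation.trans A C _
      exact Algebra.FinitePresentation.equiv (φ.restrictScalars A)
    have hker := Algebra.FinitePresentation.ker_fG_of_surjective θ hθsurj
    have inst2 : IsLocalization.Away ((θ₀ j : AdjoinRoot (F j) →+* AdjoinRoot (f j))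
        (AdjoinRoot.mk (F j) (G j))) (Localization.Away (AdjoinRoot.mk (f j) (g j))) := by
      rw [RingHom.coe_coe]; infer_instance
    have heq : RingHom.ker θ.toRingHom = (RingHom.ker π.toRingHom).map
        (algebraMap (MvPolynomial (Fin n) A) (Localization.Away (AdjoinRoot.mk (F j) (G j)))) := by
      apply le_antisymm
      · refine le_trans (ker_away_map_le (θ₀ j : AdjoinRoot (F j) →+* AdjoinRoot (f j)) _
          (Localization.Away (AdjoinRoot.mk (F j) (G j)))
          (Localization.Away (AdjoinRoot.mk (f j) (g j)))) ?_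
        refine le_trans (Ideal.map_mono (hθ₀ker j)) ?_
        rw [Ideal.map_map]
        exact le_of_eq rfl
      · rw [Ideal.map_le_iff_le_comap]
        intro y hy
        rw [Ideal.mem_comap, RingHom.mem_ker]
        have h1 : θ (algebraMap (MvPolynomial (Fin n) A) _ y) =
            algebraMap (AdjoinRoot (f j)) (Localization.Away (AdjoinRoot.mk (f j) (g j)))
              (θ₀ j (algebraMap (MvPolynomial (Fin n) A) (AdjoinRoot (F j)) y)) := by
          rw [IsScalarTower.algebraMap_apply (MvPolynomial (Fin n) A) (AdjoinRoot (F j))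
            (Localization.Away (AdjoinRoot.mk (F j) (G j)))]
          change IsLocalization.Away.map _ _ (θ₀ j).toRingHom _ _ = _
          rw [IsLocalization.Away.map, IsLocalization.map_eq]
          rfl
        have h2 : θ₀ j (algebraMap (MvPolynomial (Fin n) A) (AdjoinRoot (F j)) y) = 0 := by
          change AdjoinRoot.map (π : MvPolynomial (Fin n) A →+* B) (F j) (f j)
            (dvd_of_eq (hFmap j).symm) (AdjoinRoot.of _ y) = _
          rw [AdjoinRoot.map_of]
          have : (π : MvPolynomial (Fin n) A →+* B) y = 0 := hy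
          rw [this, map_zero]
        change θ _ = 0
        rw [h1, h2, map_zero]
    rw [← heq]
    exact hker
  · intro q hq hIq
    have hqbar : (q.map (π : MvPolynomial (Fin n) A →+* B)).IsPrime :=
      Ideal.map_isPrime_of_surjective hπ' hIq
    obtain ⟨j, Q, hQ, hqQ, hgQ⟩ := hcov _ hqbar
    refine ⟨j, Q.comap (θ₀ j : AdjoinRoot (F j) →+* AdjoinRoot (f j)),
      Ideal.comap_isPrime _ _, ?_, ?_⟩
    · intro y hy
      rw [Ideal.mem_comap, Ideal.mem_comap]
      have : (θ₀ j : AdjoinRoot (F j) →+* AdjoinRoot (f j))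
          (algebraMap (MvPolynomial (Fin n) A) (AdjoinRoot (F j)) y) =
          algebraMap B (AdjoinRoot (f j)) (π y) := by
        change AdjoinRoot.map (π : MvPolynomial (Fin n) A →+* B) (F j) (f j)
          (dvd_of_eq (hFmap j).symm) (AdjoinRoot.of _ y) = _
        rw [AdjoinRoot.map_of]
        rfl
      rw [this]
      exact hqQ (Ideal.mem_map_of_mem _ hy)
    · intro hmem
      rw [Ideal.mem_comap] at hmem
      exact hgQ (by rw [← hθ₀G j]; exact hmem)

end Groth.Agent.Lib.Helper30.EtaleSourceFT
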