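import Groth.Agent.Lib.Helper30.EtaleSourceSmooth
import Groth.Agent.Lib.Helper46.EtLocal

/-!
# The seven listed classes are étale local on the source-and-target
-/

set_option autoImplicit false
universe u
open CategoryTheory CategoryTheory.Limits AlgebraicGeometry

namespace Groth.Agent.Lib.Helper30.HPEtLocal

open Groth.Agent.Lib.Helper46 Groth.Agent.Lib.Helper30.EtLocalInst

/-- The hypothesis on `P` shared by the statements on `LocP P` for the listed classes. -/
def Listed (P : MorphismProperty Scheme.{u}) : Prop :=
  P = @LocallyOfFiniteType ∨ P = @LocallyOfFinitePresentation ∨ P = @Flat ∨ P = @Smooth ∨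
    P = @Etale ∨
    (∀ ⦃A B : Scheme.{u}⦄ (g : A ⟶ B), P g ↔ (LocallyQuasiFinite g ∧ LocallyOfFiniteType g)) ∨
    (∀ ⦃A B : Scheme.{u}⦄ (g : A ⟶ B), P g ↔ (LocallyOfFiniteType g ∧ FormallyUnramified g))

theorem eq_of_forall_iff {P Q : MorphismProperty Scheme.{u}}
    (h : ∀ ⦃A B : Scheme.{u}⦄ (g : A ⟶ B), P g ↔ Q g) : P = Q := by
  ext A B g
  exact h g

theorem etLocal_of_listed {P : MorphismProperty Scheme.{u}} (hP : Listed P) : EtLocal P := by
  rcases hP with rfl | rfl | rfl | rfl | rfl | h | h
  · exact etLocal_lft
  · exact etLocal_lfp
  · exact etLocal_flat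
  · exact etLocal_smooth
  · exact etLocal_etale
  · have : P = (@LocallyQuasiFinite ⊓ @LocallyOfFiniteType : MorphismProperty Scheme.{u}) :=
      eq_of_forall_iff fun A B g => h g
    rw [this]
    exact etLocal_lqf
  · have : P = (@LocallyOfFiniteType ⊓ @FormallyUnramified : MorphismProperty Scheme.{u}) :=
      eq_of_forall_iff fun A B g => h g
    rw [this]
    exact etLocal_unramified

set_option backward.isDefEq.respectTransparency false in
theorem isStableUnderComposition_of_listed {P : MorphismProperty Scheme.{u}} (hP : Listed P) :
    P.IsStableUnderComposition := by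
  rcases hP with rfl | rfl | rfl | rfl | rfl | h | h
  · infer_instance
  · infer_instance
  · infer_instance
  · infer_instance
  · infer_instance
  · have : P = (@LocallyQuasiFinite ⊓ @LocallyOfFiniteType : MorphismProperty Scheme.{u}) :=
      eq_of_forall_iff fun A B g => h g
    rw [this]
    infer_instance
  · have : P = (@LocallyOfFiniteType ⊓ @FormallyUnramified : MorphismProperty Scheme.{u}) :=
      eq_of_forall_iff fun A B g => h g
    rw [this]
    infer_instance

set_option backward.isDefEq.respectTransparency false in
theorem isZariskiLocalAtTarget_of_listed {P : MorphismProperty Scheme.{u}} (hP : Listed P) :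
    IsZariskiLocalAtTarget P := by
  rcases hP with rfl | rfl | rfl | rfl | rfl | h | h
  · infer_instance
  · infer_instance
  · infer_instance
  · infer_instance
  · infer_instance
  · have : P = (@LocallyQuasiFinite ⊓ @LocallyOfFiniteType : MorphismProperty Scheme.{u}) :=
      eq_of_forall_iff fun A B g => h g
    rw [this]
    infer_instance
  · have : P = (@LocallyOfFiniteType ⊓ @FormallyUnramified : MorphismProperty Scheme.{u}) :=
      eq_of_forall_iff fun A B g => h g
    rw [this]
    infer_instance

set_option backward.isDefEq.respectTransparency false in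
theorem isZariskiLocalAtSource_of_listed {P : MorphismProperty Scheme.{u}} (hP : Listed P) :
    IsZariskiLocalAtSource P := by
  rcases hP with rfl | rfl | rfl | rfl | rfl | h | h
  · infer_instance
  · infer_instance
  · infer_instance
  · infer_instance
  · infer_instance
  · have : P = (@LocallyQuasiFinite ⊓ @LocallyOfFiniteType : MorphismProperty Scheme.{u}) :=
      eq_of_forall_iff fun A B g => h g
    rw [this]
    infer_instance
  · have : P = (@LocallyOfFiniteType ⊓ @FormallyUnramified : MorphismProperty Scheme.{u}) :=
      eq_of_forall_iff fun A B g => h g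
    rw [this]
    infer_instance

end Groth.Agent.Lib.Helper30.HPEtLocal
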