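import Groth.Agent.Lib.Helper30.LocPPointwise
import Groth.Agent.Lib.Helper23.AlgSpDiag
import Groth.Agent.Lib.Helper62.AlgSpMono
import Groth.Agent.S10194
import Groth.Prelude.Def_AlgSpDec

/-!
# `HasAtMor` in the neighbourhood sense vs. open subspaces

The statement is proved relative to the existence of open subspaces with prescribed open image in
`|X|` (statement S10195), passed as a hypothesis.
-/

set_option autoImplicit false
universe u
open CategoryTheory CategoryTheory.Limits AlgebraicGeometry Opposite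

namespace Groth.Agent.Lib.Helper30.LocPNbhd

open AlgSp Groth.Agent.Lib.Helper36.AlgSpCharts Groth.Agent.Lib.Helper46
open Groth.Agent.Lib.Helper37.AlgSpPoints Groth.Agent.Lib.Helper30.HPEtLocal

variable {S : Scheme.{u}}

theorem repWith_etale_of_isOpenImmersion {F G : Sp S} {j : F ⟶ G}
    (hj : RepWith @IsOpenImmersion j) : RepWith @Etale j :=
  ⟨hj.rep, fun _ _ g fst snd sq => by
    have : IsOpenImmersion snd.left := hj.property g fst snd sq
    change Etale snd.left
    infer_instance⟩

theorem mono_of_isOpenImmersion {F G : Sp S} {j : F ⟶ G}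
    (hj : RepWith @IsOpenImmersion j) : Mono j :=
  Groth.Agent.Lib.Helper62.mono_of_repWith @IsOpenImmersion
    (fun f hf => by have : IsOpenImmersion f := hf; infer_instance) j hj

theorem points_map_injective_of_mono {F G : Sp S} (j : F ⟶ G) [Mono j] :
    Function.Injective (Points.map j) := by
  intro x y hxy
  have sq : IsPullback (𝟙 F) (𝟙 F) j j := IsPullback.of_horiz_isIso_mono ⟨rfl⟩
  obtain ⟨p, hp1, hp2⟩ := points_exists_of_isPullback sq x y hxy
  rw [Points.map_id] at hp1 hp2
  rw [← hp1, ← hp2]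

/-- Existence of open subspaces with prescribed open set of points (statement S10195). -/
def HasOpenSubspaces (S : Scheme.{u}) : Prop :=
  ∀ (X : AlgSp.Space S) (W : Set (AlgSp.Points X.obj)), IsOpen W →
    ∃ (X' : AlgSp.Space S) (j : X' ⟶ X),
      AlgSp.RepWith @IsOpenImmersion j.hom ∧ Set.range (AlgSp.Points.map j.hom) = W

theorem hasAtMor_nbhd_iff (hopen : HasOpenSubspaces S) (P : MorphismProperty Scheme.{u})
    (hP : Listed P) {X Y : AlgSp.Space S} (f : X ⟶ Y) (x : AlgSp.Points X.obj) :
    AlgSp.HasAtMor (fun U _ h u => ∃ W : U.Opens, u ∈ W ∧ P (W.ι ≫ h)) f.hom x ↔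
      ∃ (X' : AlgSp.Space S) (j : X' ⟶ X), AlgSp.RepWith @IsOpenImmersion j.hom ∧
        x ∈ Set.range (AlgSp.Points.map j.hom) ∧ AlgSp.LocP P (j ≫ f).hom := by
  have hQ := etLocal_of_listed hP
  have := isZariskiLocalAtSource_of_listed hP
  constructor
  · rintro ⟨U, V, a, b, h, u, ha, hb, comm, hux, W, huW, hW⟩
    have hW' : IsOpen (Points.ofPt a '' (W : Set U.left)) := isOpenMap_ofPt a ha _ W.isOpen
    obtain ⟨X', j, hj, hrange⟩ := hopen X _ hW'
    refine ⟨X', j, hj, ?_, ?_⟩
    · rw [hrange]
      exact ⟨u, huW, hux⟩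
    · have hmono : Mono j.hom := mono_of_isOpenImmersion hj
      let ιW : Over.mk (W.ι ≫ U.hom) ⟶ U := Over.homMk W.ι rfl
      have hι : AlgSp.RepWith @Etale ((AlgSp.yon S).map ιW) :=
        (AlgSp.repWith_yon_map_iff _ _).2 (by change Etale W.ι; infer_instance)
      have haW : AlgSp.RepWith @Etale ((AlgSp.yon S).map ιW ≫ a) :=
        MorphismProperty.comp_mem _ _ _ hι ha
      obtain ⟨a'', ha'', -⟩ := Groth.Agent.S10194.exists_unique_lift j.hom hj
        ((AlgSp.yon S).map ιW ≫ a) (fun t => by
          rw [hrange, ofPt_map_comp]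
          exact ⟨t.1, t.2, rfl⟩)
      have ha''e : AlgSp.RepWith @Etale a'' := by
        refine Groth.Agent.Lib.Helper23.AlgSpMor.repWith_of_comp_mono @Etale a'' j.hom ?_
        rw [ha'']
        exact haW
      refine LocPPointwise.locP_of_pointwise_charts hQ (j ≫ f).hom fun x' => ?_
      have hx' : Points.map j.hom x' ∈ Points.ofPt a '' (W : Set U.left) := by
        rw [← hrange]; exact ⟨x', rfl⟩
      obtain ⟨w, hwW, hw⟩ := hx'
      refine ⟨Over.mk (W.ι ≫ U.hom), V, a'', b, ιW ≫ h, ⟨w, hwW⟩, ha''e, hb, ?_, ?_, ?_⟩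
      · change a'' ≫ j.hom ≫ f.hom = _
        rw [← Category.assoc, ha'', Category.assoc, comm, Functor.map_comp, Category.assoc]
      · -- injectivity of `Points.map j.hom`
        have h1 : Points.map j.hom (Points.ofPt a'' ⟨w, hwW⟩) = Points.map j.hom x' := by
          rw [Points.map_ofPt, ha'', ofPt_map_comp]
          exact hw
        exact points_map_injective_of_mono j.hom h1
      · rw [Over.comp_left]
        exact hW
  · rintro ⟨X', j, hj, ⟨x', hx'⟩, hloc⟩
    obtain ⟨V, c, hce, hcs⟩ := Y.property.atlas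
    obtain ⟨U, a, h, d, -, -, -, -, hae, comm, has⟩ :=
      LocPChart.exists_chart X'.property Y.property.diag (j ≫ f).hom c hce
    obtain ⟨u, hu⟩ := ofPt_surjective a (has hcs) x'
    refine ⟨U, V, a ≫ j.hom, c, h, u,
      MorphismProperty.comp_mem _ _ _ hae (repWith_etale_of_isOpenImmersion hj), hce, ?_, ?_,
      ⊤, trivial, ?_⟩
    · rw [Category.assoc]
      exact comm
    · rw [← Points.map_ofPt, hu, hx']
    · exact hQ.precomp _ _ inferInstance (hloc a c h hae hce comm)

end Groth.Agent.Lib.Helper30.LocPNbhd
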