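import Groth.Agent.Lib.Helper30.EtLocalInst
import Groth.Agent.Lib.Helper46.LocPChart
import Mathlib.AlgebraicGeometry.Morphisms.LocalFlatDescent

/-!
# Étale morphisms of algebraic spaces: `IsEtaleMor ↔ LocP @Etale`, cancellation
-/

set_option autoImplicit false
universe u
open CategoryTheory CategoryTheory.Limits AlgebraicGeometry Opposite

namespace Groth.Agent.Lib.Helper30.AlgSpEtaleMor

open AlgSp Groth.Agent.Lib.Helper36.AlgSpCharts Groth.Agent.Lib.Helper46
  Groth.Agent.Lib.Helper46.LocPChart Groth.Agent.Lib.Helper30.EtLocalInst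

variable {S : Scheme.{u}}

theorem locP_etale_of_isEtaleMor {X Y : Sp S} (f : X ⟶ Y) (hf : IsEtaleMor f) :
    LocP @Etale f :=
  fun _ _ a b h ha hb w => etale_of_comp_eq (a ≫ f) b h (hf a ha) hb w.symm

set_option backward.isDefEq.respectTransparency false in
theorem isEtaleMor_of_locP_etale {X Y : Sp S} (hY : IsAlgSpace Y) (f : X ⟶ Y)
    (hf : LocP @Etale f) : IsEtaleMor f :=
  fun _ φ hφ => repWith_comp_of_locP hY f hf φ hφ

theorem isEtaleMor_iff_locP_etale {X Y : Sp S} (hY : IsAlgSpace Y) (f : X ⟶ Y) :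
    IsEtaleMor f ↔ LocP @Etale f :=
  ⟨locP_etale_of_isEtaleMor f, isEtaleMor_of_locP_etale hY f⟩

set_option backward.isDefEq.respectTransparency false in
/-- **Cancellation**: if `f ≫ g` has `Q` chart-wise and `g` is étale chart-wise, then `f` has `Q`
chart-wise. -/
theorem locP_cancel {Q : MorphismProperty Scheme.{u}} (hQ : EtLocal Q) {X Y Z : Sp S}
    (hZ : IsAlgSpace Z) (f : X ⟶ Y) (g : Y ⟶ Z) (hfg : LocP Q (f ≫ g)) (hg : LocP @Etale g) :
    LocP Q f := by
  intro U V a b h ha hb w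
  obtain ⟨W, c, hce, hcs⟩ := hZ.atlas
  -- `V' = V ×_Z W`
  obtain ⟨V', q1, q2, sqV⟩ := exists_isPullback_yon (b ≫ g) c hce.rep
  have hq1e : Etale q1.left := prop_fst_of_isPullback sqV hce
  have hq1s : Surjective q1.left := prop_fst_of_isPullback sqV hcs
  have hq2 : Etale q2.left := by
    refine hg ((yon S).map q1 ≫ b) c q2
      ((RepWith @Etale).comp_mem _ _ ((repWith_yon_map_iff _ _).2 hq1e) hb) hce ?_
    rw [Category.assoc]; exact sqV.w
  -- `U' = U ×_V V'`
  obtain ⟨U', p1, p2, sqU⟩ := exists_isPullback_yon ((yon S).map h) ((yon S).map q1)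
    (representable_yon_map q1)
  have hp1e : Etale p1.left :=
    prop_fst_of_isPullback sqU ((repWith_yon_map_iff _ _).2 hq1e)
  have hp1s : Surjective p1.left :=
    prop_fst_of_isPullback sqU ((repWith_yon_map_iff _ _).2 hq1s)
  have hpq : p1 ≫ h = p2 ≫ q1 := (yon S).map_injective (by simpa using sqU.w)
  have h1 : Q (p2 ≫ q2).left := by
    refine hfg ((yon S).map p1 ≫ a) c (p2 ≫ q2)
      ((RepWith @Etale).comp_mem _ _ ((repWith_yon_map_iff _ _).2 hp1e) ha) hce ?_
    rw [Category.assoc, ← Category.assoc a, w, Category.assoc, ← Functor.map_comp_assoc, hpq,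
      Functor.map_comp_assoc, sqV.w, Functor.map_comp_assoc]
  rw [Over.comp_left] at h1
  have h2 : Q p2.left := hQ.cancel _ _ hq2 h1
  have h3 : Q (p2.left ≫ q1.left) := hQ.postcomp _ _ hq1e h2
  rw [← Over.comp_left, ← hpq, Over.comp_left] at h3
  exact hQ.of_cover _ _ hp1e hp1s h3

end Groth.Agent.Lib.Helper30.AlgSpEtaleMor
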