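import Groth.Agent.Lib.Helper30.SmoothSource
import Groth.Agent.Lib.Helper30.EtaleSource
import Groth.Agent.Lib.Helper30.EtLocalInst
import Mathlib.AlgebraicGeometry.Morphisms.Smooth

/-!
# Smoothness descends along étale surjections of the source (schemes)
-/

set_option autoImplicit false
universe u
open CategoryTheory CategoryTheory.Limits AlgebraicGeometry

namespace Groth.Agent.Lib.Helper30.EtaleSource

theorem ringDescends_smooth : RingDescends.{u} @RingHom.Smooth := by
  intro A B C _ _ _ φ ψ hψ hsurj hQ
  let _ := φ.toAlgebra
  let _ := ψ.toAlgebra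
  let _ := (ψ.comp φ).toAlgebra
  have : IsScalarTower A B C := IsScalarTower.of_algebraMap_eq' rfl
  have : Algebra.Etale B C := hψ
  have : Algebra.Smooth A C := hQ
  exact SmoothSource.smooth_of_etale_of_surjective (A := A) (B := B) (C := C) hsurj

set_option backward.isDefEq.respectTransparency false in
/-- **Smoothness descends along étale surjections of the source.** -/
theorem smooth_of_etale_surjective_comp {X' X Y : Scheme.{u}} (e : X' ⟶ X)
    (f : X ⟶ Y) [Etale e] [Surjective e] [Smooth (e ≫ f)] : Smooth f :=
  of_etale_surjective_comp (P := @Smooth)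
    (specDescends_of_ringDescends ringDescends_smooth) e f inferInstance

end Groth.Agent.Lib.Helper30.EtaleSource

namespace Groth.Agent.Lib.Helper30.EtLocalInst

open Groth.Agent.Lib.Helper46 Groth.Agent.Lib.Helper30.EtaleSource

set_option backward.isDefEq.respectTransparency false in
theorem etLocal_smooth : EtLocal (@Smooth : MorphismProperty Scheme.{u}) := by
  refine EtLocal.mk' _ (fun _ _ f hf => ?_) (fun U' U V g q hg hs h => ?_)
  · have : Etale f := hf
    infer_instance
  · have : Smooth (g ≫ q) := h
    exact smooth_of_etale_surjective_comp g q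

end Groth.Agent.Lib.Helper30.EtLocalInst
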