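import Groth.Agent.Lib.Helper30.BcProd
import Groth.Agent.Lib.Helper37.AlgSpPoints

/-!
# Base change of small étale sites preserves families covering the top (helper30)
-/

set_option autoImplicit false
set_option backward.isDefEq.respectTransparency false
universe u
open CategoryTheory CategoryTheory.Limits AlgebraicGeometry Opposite AlgSp
open Groth.Agent.Lib.Helper37.AlgSpPoints

namespace Groth.Agent.Lib.Helper30.BcCovers

variable {S : Scheme.{u}} {X : Sp S}

/-- A covering sieve of the small étale site is jointly surjective on underlying schemes. -/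
theorem exists_mem_of_mem_etTop {E : EtOver X} (R : Sieve E) (hR : R ∈ etTop X E)
    (e : ↥E.obj.left.left) :
    ∃ (E' : EtOver X) (g : E' ⟶ E), R g ∧ e ∈ Set.range g.hom.left.left := by
  have : (etPre X).HasPullbacks := inferInstance
  obtain ⟨P, hP, hle⟩ := (Precoverage.mem_toGrothendieck_iff_of_isStableUnderComposition
    (J := etPre X)).1 hR
  obtain ⟨ι, Z, g, rfl⟩ := P.exists_eq_ofArrows
  obtain ⟨i, hi⟩ := (ofArrows_mem_etPre_iff Z g).1 hP e
  exact ⟨Z i, g i, hle _ _ (Presieve.ofArrows.mk i), hi⟩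

/-- A family covering the top of the small étale site of an algebraic space is jointly surjective on points. -/
theorem exists_ofPt_of_coversTop {Y : Sp S} (hY : IsAlgSpace Y) {I : Type*} (U : I → EtOver Y)
    (hU : (etTop Y).CoversTop U) (ξ : Points Y) :
    ∃ (i : I) (y : ↥(U i).obj.left.left), Points.ofPt (U i).obj.hom y = ξ := by
  obtain ⟨V, p, hpe, hps⟩ := hY.atlas
  obtain ⟨v, rfl⟩ := ofPt_surjective p hps ξ
  obtain ⟨E', g, hg, v', hv'⟩ := exists_mem_of_mem_etTop _ (hU (EtOver.mk p hpe)) v
  obtain ⟨i, ⟨k⟩⟩ := (Sieve.mem_ofObjects_iff ..).1 hg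
  refine ⟨i, k.hom.left.left v', ?_⟩
  rw [← ofPt_map_comp, EtOver.w k, ← EtOver.w g, ofPt_map_comp, hv']
  rfl

variable {Y : Sp S} {f : X ⟶ Y} (hf : Representable f)

/-- Base change along a representable morphism to an algebraic space preserves families covering the top. -/
theorem coversTop_bc (hY : IsAlgSpace Y) {I : Type*} (U : I → EtOver Y)
    (hU : (etTop Y).CoversTop U) : (etTop X).CoversTop (fun i => (EtOver.bc hf).obj (U i)) := by
  intro W
  have hcov : Sieve.ofArrows (fun i => EtOver.prodObj W ((EtOver.bc hf).obj (U i)))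
      (fun i => EtOver.prodFst W ((EtOver.bc hf).obj (U i))) ∈ etTop X W := by
    apply ofArrows_mem_etTop
    intro x
    obtain ⟨i, y, hy⟩ := exists_ofPt_of_coversTop hY U hU (Points.ofPt (W.obj.hom ≫ f) x)
    refine ⟨i, ?_⟩
    have sq := (Groth.Agent.Lib.Helper30.BcProd.isPullback_prod W ((EtOver.bc hf).obj (U i))).paste_vert
      (hf.isPullback (U i).obj.hom)
    rw [← Functor.map_comp] at sq
    obtain ⟨r, hr, -⟩ := (ofPt_eq_ofPt_iff sq x y).1 hy.symm
    exact ⟨r, hr⟩
  refine (etTop X).superset_covering ?_ hcov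
  rintro Z g ⟨Z', k, _, ⟨i⟩, rfl⟩
  exact (Sieve.mem_ofObjects_iff ..).2 ⟨i, ⟨k ≫ EtOver.prodSnd W ((EtOver.bc hf).obj (U i))⟩⟩

/-- Base change on slices is continuous. -/
instance continuous_over_post_bc (U : EtOver Y) :
    Functor.IsContinuous (Over.post (X := U) (EtOver.bc hf))
      ((etTop Y).over U) ((etTop X).over _) := by
  have hcp : CoverPreserving (etTop Y) (etTop X) (EtOver.bc hf) :=
    CoverPreserving.of_isContinuous _ _ _
  have : Functor.PreservesOneHypercovers.{u + 1} (EtOver.bc hf) (etTop Y) (etTop X) :=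
    Functor.PreservesOneHypercovers.of_coverPreserving hcp
  infer_instance

end Groth.Agent.Lib.Helper30.BcCovers
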