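import Mathlib
import Groth.Agent.S0564
import Groth.Agent.S0565
import Groth.Agent.S9246
import Groth.Agent.Lib.Helper77.RegularScheme

/-!
# Regularity ascends and descends along smooth morphisms (helper30)

* `regular_iff_smooth` : for a smooth ring map `R → S` and a prime `q` of `S` over `p`,
  `R_p` is regular iff `S_q` is regular.
* `stalk_regular_iff_of_smooth` : the same for stalks of a smooth morphism of schemes.
* `stalk_regular_of_smooth_field` : schemes smooth over a field have regular stalks.
-/

set_option autoImplicit false
universe u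
open IsLocalRing Ideal MvPolynomial

namespace Groth.Agent.Lib.Helper30.SmoothRegular

/-- a regular local ring is a regular ring (uses Serre's theorem S0564) -/
theorem isRegularRing_of_isRegularLocalRing (R : Type u) [CommRing R] [IsRegularLocalRing R] :
    IsRegularRing R :=
  ⟨fun p _ => Groth.Agent.S0564.result R p⟩

theorem regular_congr {R : Type u} [CommRing R] {p p' : Ideal R} [p.IsPrime] [p'.IsPrime]
    (e : p = p') (h : IsRegularLocalRing (Localization.AtPrime p)) :
    IsRegularLocalRing (Localization.AtPrime p') := by
  subst e; exact h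

attribute [local instance] MvPolynomial.algebraMvPolynomial in
set_option backward.isDefEq.respectTransparency false in
/-- If `A_p` is regular for `p = r ∩ A`, then `A[x₁,…,xₙ]_r` is regular. -/
theorem mvPolynomial_regular_of_comap {σ : Type} [Finite σ] (A : Type u) [CommRing A]
    (r : Ideal (MvPolynomial σ A)) [r.IsPrime]
    (h : IsRegularLocalRing (Localization.AtPrime (r.comap (C : A →+* MvPolynomial σ A)))) :
    IsRegularLocalRing (Localization.AtPrime r) := by
  let q := r.comap (C : A →+* MvPolynomial σ A)
  let S := MvPolynomial σ (Localization.AtPrime q)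
  let pc := Submonoid.map (C : A →+* MvPolynomial σ A) q.primeCompl
  have : IsLocalization pc S := MvPolynomial.isLocalization _ _
  let rS := r.map (algebraMap (MvPolynomial σ A) S)
  have disj : Disjoint (pc : Set (MvPolynomial σ A)) (r : Set (MvPolynomial σ A)) := by
    rw [Set.disjoint_left]
    rintro _ ⟨a, ha, rfl⟩ har
    exact ha har
  have : rS.IsPrime := IsLocalization.isPrime_of_isPrime_disjoint pc _ _ ‹_› disj
  have : IsLocalization.AtPrime (Localization.AtPrime rS) r := by
    convert IsLocalization.isLocalization_isLocalization_atPrime_isLocalization pc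
      (Localization.AtPrime rS) rS
    exact (IsLocalization.under_map_of_isPrime_disjoint pc _ ‹_› disj).symm
  have : IsRegularRing (Localization.AtPrime q) := isRegularRing_of_isRegularLocalRing _
  have : IsRegularRing S := inferInstance
  have : IsRegularLocalRing (Localization.AtPrime rS) := inferInstance
  exact IsRegularLocalRing.of_ringEquiv (R := Localization.AtPrime rS) (IsLocalization.algEquiv r.primeCompl
    (Localization.AtPrime rS) (Localization.AtPrime r)).toRingEquiv


set_option backward.isDefEq.respectTransparency false in
/-- ascent of regularity along a smooth ring map -/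
theorem regular_of_smooth (R S : Type u) [CommRing R] [CommRing S] [Algebra R S]
    [Algebra.Smooth R S] (q : Ideal S) [q.IsPrime]
    (h : IsRegularLocalRing (Localization.AtPrime (q.comap (algebraMap R S)))) :
    IsRegularLocalRing (Localization.AtPrime q) := by
  have : Algebra.FinitePresentation R S := inferInstance
  have : Algebra.IsSmoothAt R q := inferInstance
  obtain ⟨f, hf, n, _, _, hstd⟩ :=
    Algebra.IsSmoothAt.exists_isStandardEtale_mvPolynomial (R := R) (S := S) (p := q)
  let S' := Localization.Away f
  let q' := q.map (algebraMap S S')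
  have disj : Disjoint (Submonoid.powers f : Set S) (q : Set S) :=
    (Ideal.disjoint_powers_iff_notMem_of_isPrime _).mpr hf
  have : q'.IsPrime := IsLocalization.isPrime_of_isPrime_disjoint (.powers f) _ _ ‹_› disj
  have hcomap : q'.comap (algebraMap S S') = q :=
    IsLocalization.under_map_of_isPrime_disjoint (.powers f) _ ‹_› disj
  have : IsLocalization.AtPrime (Localization.AtPrime q') q := by
    convert IsLocalization.isLocalization_isLocalization_atPrime_isLocalization (.powers f)
      (Localization.AtPrime q') q'
    exact hcomap.symm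
  have : Algebra.Etale (MvPolynomial (Fin n) R) S' := inferInstance
  have key := Groth.Agent.S9246.result (MvPolynomial (Fin n) R) S' q'
  have hr : (q'.comap (algebraMap (MvPolynomial (Fin n) R) S')).comap
      (C : R →+* MvPolynomial (Fin n) R) = q.comap (algebraMap R S) := by
    rw [← hcomap, Ideal.comap_comap, Ideal.comap_comap]
    congr 1
    rw [← MvPolynomial.algebraMap_eq, ← IsScalarTower.algebraMap_eq, ← IsScalarTower.algebraMap_eq]
  have h1 : IsRegularLocalRing (Localization.AtPrime
      (q'.comap (algebraMap (MvPolynomial (Fin n) R) S'))) :=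
    mvPolynomial_regular_of_comap R _ (regular_congr hr.symm h)
  have h2 : IsRegularLocalRing (Localization.AtPrime q') := key.mp h1
  exact IsRegularLocalRing.of_ringEquiv (R := Localization.AtPrime q')
    (IsLocalization.algEquiv q.primeCompl (Localization.AtPrime q') (Localization.AtPrime q)).toRingEquiv


/-- descent of regularity along a smooth ring map -/
theorem regular_of_regular_smooth (R S : Type u) [CommRing R] [CommRing S] [Algebra R S]
    [Algebra.Smooth R S] (q : Ideal S) [q.IsPrime]
    (h : IsRegularLocalRing (Localization.AtPrime q)) :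
    IsRegularLocalRing (Localization.AtPrime (q.comap (algebraMap R S))) := by
  set p := Ideal.comap (algebraMap R S) q with hp
  have hlo : q.LiesOver p := ⟨rfl⟩
  let _ := Localization.AtPrime.algebraOfLiesOver p q
  have hflat : Module.Flat (Localization.AtPrime p) (Localization.AtPrime q) := inferInstance
  have hloc : IsLocalHom (algebraMap (Localization.AtPrime p) (Localization.AtPrime q)) :=
    Localization.isLocalHom_localRingHom p q (algebraMap R S) Ideal.LiesOver.over
  have hff : Module.FaithfullyFlat (Localization.AtPrime p) (Localization.AtPrime q) :=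
    Module.FaithfullyFlat.of_flat_of_isLocalHom
  have : IsNoetherianRing (Localization.AtPrime p) :=
    Groth.Agent.S9246.isNoetherianRing_of_faithfullyFlat (Localization.AtPrime p) (Localization.AtPrime q)
  exact Groth.Agent.S0565.result (Localization.AtPrime p) (Localization.AtPrime q)

theorem regular_iff_smooth (R S : Type u) [CommRing R] [CommRing S] [Algebra R S]
    [Algebra.Smooth R S] (q : Ideal S) [q.IsPrime] :
    IsRegularLocalRing (Localization.AtPrime (q.comap (algebraMap R S))) ↔
      IsRegularLocalRing (Localization.AtPrime q) :=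
  ⟨regular_of_smooth R S q, regular_of_regular_smooth R S q⟩


open CategoryTheory AlgebraicGeometry

/-- Regularity of stalks ascends and descends along smooth morphisms of schemes. -/
theorem stalk_regular_iff_of_smooth {X Y : Scheme.{u}} (f : X ⟶ Y) [Smooth f] (x : X) :
    IsRegularLocalRing (X.presheaf.stalk x) ↔ IsRegularLocalRing (Y.presheaf.stalk (f.base x)) := by
  obtain ⟨_, ⟨U, hU : IsAffineOpen U, rfl⟩, hfxU, -⟩ :=
    Y.isBasis_affineOpens.exists_subset_of_mem_open (Set.mem_univ (f.base x)) isOpen_univ
  obtain ⟨_, ⟨V, hV : IsAffineOpen V, rfl⟩, hxV, hVU⟩ :=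
    X.isBasis_affineOpens.exists_subset_of_mem_open (show x ∈ (f ⁻¹ᵁ U : Set X) from hfxU)
      (f ⁻¹ᵁ U).isOpen
  have e : V ≤ f ⁻¹ᵁ U := hVU
  rw [Groth.Agent.Lib.Helper77.RegularScheme.stalk_regular_iff hV x hxV,
    Groth.Agent.Lib.Helper77.RegularScheme.stalk_regular_iff hU (f.base x) hfxU]
  have hsm : (f.appLE U V e).hom.Smooth := f.smooth_appLE hU hV e
  let _ := (f.appLE U V e).hom.toAlgebra
  have hsm' : Algebra.Smooth Γ(Y, U) Γ(X, V) := hsm
  have hmain := regular_iff_smooth Γ(Y, U) Γ(X, V) (hV.primeIdealOf ⟨x, hxV⟩).asIdeal
  have hcomap := IsAffineOpen.comap_primeIdealOf_appLE U hU V hV e hxV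
  have key : ∀ (P : PrimeSpectrum Γ(Y, U)),
      P = (hV.primeIdealOf ⟨x, hxV⟩).comap (f.appLE U V e).hom →
      (IsRegularLocalRing (Localization.AtPrime P.asIdeal) ↔
        IsRegularLocalRing (Localization.AtPrime (hV.primeIdealOf ⟨x, hxV⟩).asIdeal)) := by
    intro P hP
    subst hP
    exact hmain
  exact (key _ hcomap.symm).symm

theorem stalk_regular_of_field (k : Type u) [Field k] (y : ↥(Spec (CommRingCat.of k))) :
    IsRegularLocalRing ((Spec (CommRingCat.of k)).presheaf.stalk y) := by
  rw [Groth.Agent.Lib.Helper77.RegularScheme.stalk_regular_iff (isAffineOpen_top _) y trivial]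
  let e : k ≃+* Γ(Spec (CommRingCat.of k), ⊤) :=
    (Scheme.ΓSpecIso (CommRingCat.of k)).symm.commRingCatIsoToRingEquiv
  have hf : IsField Γ(Spec (CommRingCat.of k), ⊤) := e.symm.toMulEquiv.isField (Field.toIsField k)
  let _ : Field Γ(Spec (CommRingCat.of k), ⊤) := hf.toField
  infer_instance

/-- A scheme smooth over a field has regular local rings. -/
theorem stalk_regular_of_smooth_field (k : Type u) [Field k] {X : Scheme.{u}}
    (f : X ⟶ Spec (CommRingCat.of k)) [Smooth f] (x : X) :
    IsRegularLocalRing (X.presheaf.stalk x) :=
  (stalk_regular_iff_of_smooth f x).2 (stalk_regular_of_field k _)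

theorem isLocallyNoetherian_of_smooth_field (k : Type u) [Field k] {X : Scheme.{u}}
    (f : X ⟶ Spec (CommRingCat.of k)) [Smooth f] : IsLocallyNoetherian X :=
  LocallyOfFiniteType.isLocallyNoetherian f

end Groth.Agent.Lib.Helper30.SmoothRegular
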