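import Mathlib
import Groth.Agent.S0558
import Groth.Agent.S9829
import Groth.Agent.Lib.Helper30.SmoothRegular

/-!
# Normality along smooth ring maps (helper30)

* `isDomain_of_locally_isDomain`: Noetherian, locally a domain, connected ⇒ domain.
* `integralClosure_localization_eq_bot`: "integrally closed in" localizes.
* `normal_localization`: `B` integrally closed in a normal Noetherian localization `T⁻¹B` (at
  nonzerodivisors) ⇒ local rings of `B` are integrally closed domains.
* `integralClosure_tensor_eq_bot`: smooth base change preserves "integrally closed in".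
* `normal_of_smooth_of_isIntegrallyClosed`: smooth over an integrally closed domain ⇒ normal.
* `isIntegrallyClosed_of_faithfullyFlat`: descent of integrally closed domains along faithfully
  flat maps.
* `normal_of_smooth`, `normal_of_faithfullyFlat`: the ring-level ascent/descent statements.
-/

set_option autoImplicit false
universe u
open Polynomial TensorProduct

namespace Groth.Agent.Lib.Helper30.SmoothNormal


/-- kernel of `E → E_m` is contained in every prime contained in `m` -/
theorem ker_le_of_le {E : Type u} [CommRing E] (m P : Ideal E) [m.IsPrime] [P.IsPrime]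
    (hPm : P ≤ m) : RingHom.ker (algebraMap E (Localization.AtPrime m)) ≤ P := by
  intro x hx
  rw [RingHom.mem_ker, IsLocalization.map_eq_zero_iff m.primeCompl] at hx
  obtain ⟨⟨s, hs⟩, hsx⟩ := hx
  have : s * x ∈ P := by rw [hsx]; exact P.zero_mem
  rcases (‹P.IsPrime›.mem_or_mem this) with h | h
  · exact absurd (hPm h) hs
  · exact h

/-- A Noetherian ring all of whose local rings are domains and which has only trivial idempotents
is a domain. -/
theorem isDomain_of_locally_isDomain (E : Type u) [CommRing E] [IsNoetherianRing E] [Nontrivial E]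
    (hloc : ∀ (m : Ideal E) [m.IsMaximal], IsDomain (Localization.AtPrime m))
    (hidem : ∀ e : E, IsIdempotentElem e → e = 0 ∨ e = 1) : IsDomain E := by
  classical
  have hred : IsReduced E := isReduced_ofLocalizationMaximal E fun m hm => by
    have := hloc m; infer_instance
  have hfin : (minimalPrimes E).Finite := minimalPrimes.finite_of_isNoetherianRing E
  have hInf : sInf (minimalPrimes E) = (⊥ : Ideal E) := by
    have := Ideal.sInf_minimalPrimes (I := (⊥ : Ideal E))
    rw [show (⊥ : Ideal E).radical = ⊥ from nilradical_eq_zero E] at this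
    exact this
  obtain ⟨⟨P, hP⟩⟩ := Ideal.nonempty_minimalPrimes (I := (⊥ : Ideal E)) (by simp)
  have hPprime : P.IsPrime := Ideal.IsMinimalPrime.isPrime hP
  -- pairwise comaximal
  have hcop : ∀ Q ∈ minimalPrimes E, Q ≠ P → P ⊔ Q = ⊤ := by
    intro Q hQ hne
    by_contra htop
    obtain ⟨m, hm, hle⟩ := Ideal.exists_le_maximal _ htop
    have hQprime : Q.IsPrime := Ideal.IsMinimalPrime.isPrime hQ
    have hdom := hloc m
    have hkprime : (RingHom.ker (algebraMap E (Localization.AtPrime m))).IsPrime :=
      RingHom.ker_isPrime _
    have h1 := ker_le_of_le m P (le_sup_left.trans hle)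
    have h2 := ker_le_of_le m Q (le_sup_right.trans hle)
    have e1 : RingHom.ker (algebraMap E (Localization.AtPrime m)) = P :=
      le_antisymm h1 (hP.2 ⟨hkprime, bot_le⟩ h1)
    have e2 : RingHom.ker (algebraMap E (Localization.AtPrime m)) = Q :=
      le_antisymm h2 (hQ.2 ⟨hkprime, bot_le⟩ h2)
    exact hne (e2.symm.trans e1)
  set s := hfin.toFinset.erase P with hs
  have hsup : P ⊔ ⨅ Q ∈ s, (Q : Ideal E) = ⊤ := by
    apply Ideal.sup_iInf_eq_top
    intro Q hQ
    rw [hs, Finset.mem_erase, Set.Finite.mem_toFinset] at hQ
    exact hcop Q hQ.2 hQ.1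
  have hinf : P ⊓ ⨅ Q ∈ s, (Q : Ideal E) = ⊥ := by
    rw [← hInf]
    apply le_antisymm
    · refine le_sInf fun Q hQ => ?_
      by_cases hQP : Q = P
      · rw [hQP]; exact inf_le_left
      · refine inf_le_right.trans (iInf₂_le Q ?_)
        rw [hs, Finset.mem_erase, Set.Finite.mem_toFinset]
        exact ⟨hQP, hQ⟩
    · refine le_inf (sInf_le hP) (le_iInf₂ fun Q hQ => sInf_le ?_)
      rw [hs, Finset.mem_erase, Set.Finite.mem_toFinset] at hQ
      exact hQ.2
  obtain ⟨a, ha, b, hb, hab⟩ := Submodule.mem_sup.mp (hsup ▸ Submodule.mem_top : (1 : E) ∈ _)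
  have hab0 : a * b = 0 := by
    have : a * b ∈ P ⊓ ⨅ Q ∈ s, (Q : Ideal E) :=
      ⟨P.mul_mem_right _ ha, Ideal.mul_mem_left _ _ hb⟩
    rwa [hinf] at this
  have hidema : IsIdempotentElem a := by
    change a * a = a
    calc a * a = a * a + a * b := by rw [hab0, add_zero]
      _ = a * (a + b) := by ring
      _ = a := by rw [hab, mul_one]
  rcases hidem a hidema with h0 | h1
  · -- then `b = 1`, so the other minimal primes do not exist and `P = ⊥`
    have hb1 : b = 1 := by rw [← hab, h0, zero_add]
    have hJ : ⨅ Q ∈ s, (Q : Ideal E) = ⊤ := by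
      rw [Ideal.eq_top_iff_one, ← hb1]; exact hb
    have hPbot : P = ⊥ := by rw [← hinf, hJ, inf_top_eq]
    have : (⊥ : Ideal E).IsPrime := hPbot ▸ hPprime
    exact IsDomain.of_bot_isPrime E
  · exact absurd ((Ideal.eq_top_iff_one P).mpr (h1 ▸ ha)) hPprime.ne_top




open Algebra in
/-- Integral closedness of `B` in a localization `C` passes to localizations. -/
theorem integralClosure_localization_eq_bot (B C : Type u) [CommRing B] [CommRing C] [Algebra B C]
    (hic : integralClosure B C = ⊥) (M : Submonoid B) :
    integralClosure (Localization M) (Localization (algebraMapSubmonoid C M)) = ⊥ := by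
  rw [eq_bot_iff]
  intro x hx
  -- clear denominators
  obtain ⟨⟨m, hm⟩, hmx⟩ := IsIntegral.exists_multiple_integral_of_isLocalization M
    (Rₘ := Localization M) x hx
  obtain ⟨⟨c, ⟨_, n, hn, rfl⟩⟩, hc⟩ := IsLocalization.surj (algebraMapSubmonoid C M) (m • x)
  simp only at hc
  -- `algebraMap C E c` is integral over `B`
  have hc' : IsIntegral B (algebraMap C (Localization (algebraMapSubmonoid C M)) c) := by
    rw [← hc]
    refine hmx.mul ?_
    rw [← IsScalarTower.algebraMap_apply]
    exact isIntegral_algebraMap
  obtain ⟨m', hm', hm'c⟩ := IsLocalization.exists_isIntegral_smul_of_isIntegral_map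
    (Sₘ := Localization (algebraMapSubmonoid C M)) M hc'
  have hmem : m' • c ∈ integralClosure B C := hm'c
  rw [hic, Algebra.mem_bot] at hmem
  obtain ⟨b, hb⟩ := hmem
  rw [Algebra.mem_bot]
  refine ⟨IsLocalization.mk' (Localization M) b ⟨m * n * m', mul_mem (mul_mem hm hn) hm'⟩, ?_⟩
  have hu : IsUnit (algebraMap B (Localization (algebraMapSubmonoid C M)) (m * n * m')) := by
    rw [IsScalarTower.algebraMap_apply B (Localization M)]
    exact (IsLocalization.map_units (Localization M) ⟨m * n * m', mul_mem (mul_mem hm hn) hm'⟩).map _
  apply hu.mul_left_cancel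
  have e1 : algebraMap B (Localization (algebraMapSubmonoid C M)) (m * n * m') *
      algebraMap (Localization M) (Localization (algebraMapSubmonoid C M))
        (IsLocalization.mk' (Localization M) b ⟨m * n * m', mul_mem (mul_mem hm hn) hm'⟩) =
      algebraMap B (Localization (algebraMapSubmonoid C M)) b := by
    rw [IsScalarTower.algebraMap_apply B (Localization M) (Localization (algebraMapSubmonoid C M))
      (m * n * m'), ← map_mul]
    have := IsLocalization.mk'_spec' (Localization M) b
      (⟨m * n * m', mul_mem (mul_mem hm hn) hm'⟩ : M)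
    rw [this, ← IsScalarTower.algebraMap_apply]
  rw [e1, IsScalarTower.algebraMap_apply B C, hb, Algebra.smul_def, map_mul, ← hc]
  have e2 : m • x = algebraMap B (Localization (algebraMapSubmonoid C M)) m * x := by
    rw [Algebra.smul_def]
  rw [e2]
  simp only [map_mul, ← IsScalarTower.algebraMap_apply B C]
  ring





theorem idem_local {D : Type u} [CommRing D] [IsLocalRing D] (e : D) (he : IsIdempotentElem e) :
    e = 0 ∨ e = 1 := by
  have h0 : e * (1 - e) = 0 := by rw [mul_sub, mul_one, he.eq, sub_self]
  rcases IsLocalRing.isUnit_or_isUnit_one_sub_self e with h | h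
  · right
    have h1 : e * e = e * 1 := by rw [mul_one]; exact he.eq
    exact h.mul_left_cancel h1
  · left
    exact (h.mul_left_eq_zero).mp h0

open Algebra in
set_option backward.isDefEq.respectTransparency false in
/-- If `B` is integrally closed in a Noetherian localization `C` (at nonzerodivisors) all of whose local
rings are integrally closed domains, then all local rings of `B` are integrally closed domains. -/
theorem normal_localization (B C : Type u) [CommRing B] [CommRing C] [Algebra B C] (T : Submonoid B)
    [IsLocalization T C] (hT : T ≤ nonZeroDivisors B) (hic : integralClosure B C = ⊥)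
    [IsNoetherianRing C]
    (hC : ∀ (P : Ideal C) [P.IsPrime],
      IsDomain (Localization.AtPrime P) ∧ IsIntegrallyClosed (Localization.AtPrime P))
    (q : Ideal B) [q.IsPrime] :
    IsDomain (Localization.AtPrime q) ∧ IsIntegrallyClosed (Localization.AtPrime q) := by
  let M := q.primeCompl
  let D := Localization M
  let N := algebraMapSubmonoid C M
  let E := Localization N
  have hicDE : integralClosure D E = ⊥ := integralClosure_localization_eq_bot B C hic M
  have hnoeth : IsNoetherianRing E := IsLocalization.isNoetherianRing N E inferInstance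
  have hinjBC : Function.Injective (algebraMap B C) := IsLocalization.injective C hT
  have hinjDE : Function.Injective (algebraMap D E) :=
    localizationAlgebra_injective (Rₘ := D) (Sₘ := E) hinjBC
  have hDloc : IsLocalRing D := inferInstanceAs (IsLocalRing (Localization.AtPrime q))
  have hEnt : Nontrivial E := hinjDE.nontrivial
  -- local rings of `E`
  have hElocal : ∀ (m : Ideal E) [m.IsPrime],
      IsDomain (Localization.AtPrime m) ∧ IsIntegrallyClosed (Localization.AtPrime m) := by
    intro m _
    have hloc : IsLocalization.AtPrime (Localization.AtPrime m) (m.comap (algebraMap C E)) :=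
      IsLocalization.isLocalization_isLocalization_atPrime_isLocalization N
        (Localization.AtPrime m) m
    let e : Localization.AtPrime (m.comap (algebraMap C E)) ≃+* Localization.AtPrime m :=
      (IsLocalization.algEquiv (m.comap (algebraMap C E)).primeCompl
        (Localization.AtPrime (m.comap (algebraMap C E))) (Localization.AtPrime m)).toRingEquiv
    obtain ⟨h1, h2⟩ := hC (m.comap (algebraMap C E))
    exact ⟨e.symm.toMulEquiv.isDomain _, IsIntegrallyClosed.of_equiv e⟩
  -- idempotents of `E`
  have hidem : ∀ e : E, IsIdempotentElem e → e = 0 ∨ e = 1 := by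
    intro e he
    have hint : IsIntegral D e := by
      refine ⟨Polynomial.X ^ 2 - Polynomial.X, ?_, ?_⟩
      · exact Polynomial.monic_X_pow_sub (by simp)
      · simp [pow_two, he.eq]
    have hmem : e ∈ integralClosure D E := hint
    rw [hicDE, Algebra.mem_bot] at hmem
    obtain ⟨d, rfl⟩ := hmem
    have hd : IsIdempotentElem d := by
      apply hinjDE
      rw [map_mul]; exact he
    rcases idem_local d hd with h | h
    · left; rw [h, map_zero]
    · right; rw [h, map_one]
  have hEdom : IsDomain E :=
    isDomain_of_locally_isDomain E (fun m _ => (hElocal m).1) hidem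
  have hDdom : IsDomain D := hinjDE.isDomain
  have hEic : IsIntegrallyClosed E :=
    IsIntegrallyClosed.of_localization_maximal fun m _ _ => (hElocal m).2
  refine ⟨hDdom, ?_⟩
  -- `E` is a localization of `D`
  have hDE : IsLocalization (algebraMapSubmonoid D T) E := IsLocalization.commutes D C E M T
  let K := FractionRing E
  have hfrac : IsFractionRing D K := by
    have := IsLocalization.localization_localization_isLocalization_of_has_all_units
      (algebraMapSubmonoid D T) (nonZeroDivisors E) K (fun x hx => hx.mem_nonZeroDivisors)
    convert this using 1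
    ext x
    simp only [Submonoid.mem_comap, mem_nonZeroDivisors_iff_ne_zero]
    rw [Ne, Ne, map_eq_zero_iff _ hinjDE]
  change IsIntegrallyClosed D
  rw [isIntegrallyClosed_iff K]
  intro x hx
  have hxE : IsIntegral E x := hx.tower_top
  obtain ⟨e, rfl⟩ := (isIntegrallyClosed_iff K).mp hEic hxE
  have he : IsIntegral D e :=
    (isIntegral_algebraMap_iff (IsFractionRing.injective E K)).mp hx
  have hmem : e ∈ integralClosure D E := he
  rw [hicDE, Algebra.mem_bot] at hmem
  obtain ⟨d, rfl⟩ := hmem
  exact ⟨d, (IsScalarTower.algebraMap_apply D E K d)⟩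




/-- Smooth base change preserves "integrally closed in". -/
theorem integralClosure_tensor_eq_bot (R S B : Type u) [CommRing R] [CommRing S] [CommRing B]
    [Algebra R S] [Algebra R B] [Algebra.Smooth R S] (hbot : integralClosure R B = ⊥) :
    integralClosure S (S ⊗[R] B) = ⊥ := by
  have hb := TensorProduct.toIntegralClosure_bijective_of_smooth (R := R) (S := S) (B := B)
  have key : ∀ z : S ⊗[R] integralClosure R B,
      ((TensorProduct.toIntegralClosure R S B z : integralClosure S (S ⊗[R] B)) :
        S ⊗[R] B) ∈ (⊥ : Subalgebra S (S ⊗[R] B)) := by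
    intro z
    induction z with
    | zero => simp
    | add x y hx hy => rw [map_add]; exact add_mem hx hy
    | tmul s b =>
      obtain ⟨b, hbmem⟩ := b
      have hbb : b ∈ (⊥ : Subalgebra R B) := hbot ▸ hbmem
      obtain ⟨r, rfl⟩ := Algebra.mem_bot.mp hbb
      rw [Algebra.mem_bot]
      refine ⟨r • s, ?_⟩
      simp only [TensorProduct.toIntegralClosure, AlgHom.coe_codRestrict,
        Algebra.TensorProduct.map_tmul, AlgHom.coe_id, id_eq, Subalgebra.coe_val,
        Algebra.TensorProduct.algebraMap_apply, Algebra.algebraMap_self_apply]
      rw [Algebra.algebraMap_eq_smul_one, ← TensorProduct.smul_tmul]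
  rw [eq_bot_iff]
  intro f hf
  obtain ⟨z, hz⟩ := hb.2 ⟨f, hf⟩
  have := key z
  rw [hz] at this
  exact this

open Algebra in
set_option backward.isDefEq.respectTransparency false in
/-- A smooth algebra over an integrally closed domain has integrally closed domains as local
rings. -/
theorem normal_of_smooth_of_isIntegrallyClosed (R B : Type u) [CommRing R] [IsDomain R]
    [IsIntegrallyClosed R] [CommRing B] [Algebra R B] [Algebra.Smooth R B]
    (q : Ideal B) [q.IsPrime] :
    IsDomain (Localization.AtPrime q) ∧ IsIntegrallyClosed (Localization.AtPrime q) := by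
  let M := nonZeroDivisors R
  let K := Localization M
  let T := algebraMapSubmonoid B M
  let C := Localization T
  have hflat : Module.Flat R B := inferInstance
  have hT : T ≤ nonZeroDivisors B := by
    rintro _ ⟨r, hr, rfl⟩
    have hreg := Module.Flat.isSMulRegular_of_nonZeroDivisors (M := B) hr
    rw [mem_nonZeroDivisors_iff_left]
    intro x hx
    apply hreg
    simp only [smul_zero]
    rw [Algebra.smul_def, hx]
  have hRK : integralClosure R K = ⊥ := IsIntegrallyClosed.integralClosure_eq_bot R K
  have h1 : integralClosure B (B ⊗[R] K) = ⊥ := integralClosure_tensor_eq_bot R B K hRK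
  have hic : integralClosure B C = ⊥ := by
    rw [eq_bot_iff]
    intro x hx
    let e := Localization.tensorLeftAlgEquiv M B
    have hx' : IsIntegral B (e.symm x) := IsIntegral.map e.symm hx
    have hmem : e.symm x ∈ integralClosure B (B ⊗[R] K) := hx'
    rw [h1, Algebra.mem_bot] at hmem
    obtain ⟨b, hb⟩ := hmem
    rw [Algebra.mem_bot]
    refine ⟨b, ?_⟩
    rw [← e.apply_symm_apply x, ← hb, e.commutes]
  have hsm : Algebra.Smooth K C :=
    Algebra.Smooth.of_equiv (Localization.tensorRightAlgEquiv M B)
  have hnoeth : IsNoetherianRing C := Algebra.FiniteType.isNoetherianRing K C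
  have hC : ∀ (P : Ideal C) [P.IsPrime],
      IsDomain (Localization.AtPrime P) ∧ IsIntegrallyClosed (Localization.AtPrime P) := by
    intro P _
    have hreg : IsRegularLocalRing (Localization.AtPrime P) := by
      apply Groth.Agent.Lib.Helper30.SmoothRegular.regular_of_smooth K C P
      infer_instance
    exact ⟨Groth.Agent.S0558.result _, Groth.Agent.S9829.result _⟩
  exact normal_localization B C T hT hic hC q



/-- Descent of "integrally closed domain" along a faithfully flat ring map. -/
theorem isIntegrallyClosed_of_faithfullyFlat (A B : Type u) [CommRing A] [CommRing B] [Algebra A B]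
    [Module.FaithfullyFlat A B] [IsDomain B] [IsIntegrallyClosed B] :
    IsDomain A ∧ IsIntegrallyClosed A := by
  have hinj : Function.Injective (algebraMap A B) := FaithfulSMul.algebraMap_injective A B
  have hdom : IsDomain A := hinj.isDomain
  refine ⟨hdom, ?_⟩
  let K := FractionRing A
  let L := FractionRing B
  let g : A →+* L := (algebraMap B L).comp (algebraMap A B)
  have hg : Function.Injective g := (IsFractionRing.injective B L).comp hinj
  let φ : K →+* L := IsFractionRing.lift hg
  have hφ : ∀ a : A, φ (algebraMap A K a) = algebraMap B L (algebraMap A B a) :=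
    fun a => IsFractionRing.lift_algebraMap hg a
  rw [isIntegrallyClosed_iff K]
  intro x hx
  -- the image of `x` in `L` is integral over `B`
  have hxL : IsIntegral B (φ x) := by
    obtain ⟨p, hp, hpx⟩ := hx
    refine ⟨p.map (algebraMap A B), hp.map _, ?_⟩
    rw [Polynomial.eval₂_map]
    have : (algebraMap B L).comp (algebraMap A B) = φ.comp (algebraMap A K) := by
      ext a; exact (hφ a).symm
    rw [this, ← Polynomial.hom_eval₂, hpx, map_zero]
  obtain ⟨c, hc⟩ := (isIntegrallyClosed_iff L).mp inferInstance hxL
  obtain ⟨a, ⟨b, hb⟩, rfl⟩ := IsLocalization.exists_mk'_eq (nonZeroDivisors A) x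
  have hb0 : b ≠ 0 := nonZeroDivisors.ne_zero hb
  have hspec : IsLocalization.mk' K a ⟨b, hb⟩ * algebraMap A K b = algebraMap A K a :=
    IsLocalization.mk'_spec K a ⟨b, hb⟩
  have h1 : algebraMap B L (c * algebraMap A B b) = algebraMap B L (algebraMap A B a) := by
    rw [map_mul, hc, ← hφ, ← hφ, ← map_mul, hspec]
  have h2 : c * algebraMap A B b = algebraMap A B a := IsFractionRing.injective B L h1
  have hmem : a ∈ (Ideal.span {b} : Ideal A) := by
    rw [← Ideal.comap_map_eq_self_of_faithfullyFlat (B := B) (Ideal.span {b})]
    rw [Ideal.mem_comap, Ideal.map_span, Set.image_singleton, Ideal.mem_span_singleton']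
    exact ⟨c, h2⟩
  obtain ⟨a', ha'⟩ := Ideal.mem_span_singleton'.mp hmem
  refine ⟨a', ?_⟩
  have hbK : algebraMap A K b ≠ 0 := by
    rw [Ne, map_eq_zero_iff _ (IsFractionRing.injective A K)]; exact hb0
  apply mul_right_cancel₀ hbK
  rw [hspec, ← map_mul, ha']


open Algebra in
set_option backward.isDefEq.respectTransparency false in
/-- Ascent of normality along a smooth ring map, at a single prime. -/
theorem normal_at_of_smooth (A B : Type u) [CommRing A] [CommRing B] [Algebra A B]
    [Algebra.Smooth A B] (q : Ideal B) [q.IsPrime]
    (hA : IsDomain (Localization.AtPrime (q.comap (algebraMap A B))) ∧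
      IsIntegrallyClosed (Localization.AtPrime (q.comap (algebraMap A B)))) :
    IsDomain (Localization.AtPrime q) ∧ IsIntegrallyClosed (Localization.AtPrime q) := by
  obtain ⟨hdom, hic⟩ := hA
  let p := q.comap (algebraMap A B)
  let M := p.primeCompl
  let R := Localization M
  let T := algebraMapSubmonoid B M
  let B' := Localization T
  have hdomR : IsDomain R := hdom
  have hicR : IsIntegrallyClosed R := hic
  have hsm : Algebra.Smooth R B' :=
    Algebra.Smooth.of_equiv (Localization.tensorRightAlgEquiv M B)
  let q' := q.map (algebraMap B B')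
  have disj : Disjoint (T : Set B) (q : Set B) := by
    rw [Set.disjoint_left]
    rintro _ ⟨a, ha, rfl⟩ haq
    exact ha haq
  have hq' : q'.IsPrime := IsLocalization.isPrime_of_isPrime_disjoint T _ _ ‹_› disj
  have hcomap : q'.comap (algebraMap B B') = q :=
    IsLocalization.under_map_of_isPrime_disjoint T _ ‹_› disj
  have hloc : IsLocalization.AtPrime (Localization.AtPrime q') q := by
    convert IsLocalization.isLocalization_isLocalization_atPrime_isLocalization T
      (Localization.AtPrime q') q'
    exact hcomap.symm
  obtain ⟨h1, h2⟩ := normal_of_smooth_of_isIntegrallyClosed R B' q'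
  let e : Localization.AtPrime q' ≃+* Localization.AtPrime q :=
    (IsLocalization.algEquiv q.primeCompl (Localization.AtPrime q')
      (Localization.AtPrime q)).toRingEquiv
  exact ⟨e.symm.toMulEquiv.isDomain _, IsIntegrallyClosed.of_equiv e⟩

/-- Descent of normality along a flat ring map, at a single prime. -/
theorem normal_at_of_flat (A B : Type u) [CommRing A] [CommRing B] [Algebra A B]
    [Module.Flat A B] (q : Ideal B) [q.IsPrime]
    (hB : IsDomain (Localization.AtPrime q) ∧ IsIntegrallyClosed (Localization.AtPrime q)) :
    IsDomain (Localization.AtPrime (q.comap (algebraMap A B))) ∧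
      IsIntegrallyClosed (Localization.AtPrime (q.comap (algebraMap A B))) := by
  obtain ⟨hdom, hic⟩ := hB
  set p := Ideal.comap (algebraMap A B) q with hp
  have hlo : q.LiesOver p := ⟨rfl⟩
  let _ := Localization.AtPrime.algebraOfLiesOver p q
  have hflat : Module.Flat (Localization.AtPrime p) (Localization.AtPrime q) := inferInstance
  have hloc : IsLocalHom (algebraMap (Localization.AtPrime p) (Localization.AtPrime q)) :=
    Localization.isLocalHom_localRingHom p q (algebraMap A B) Ideal.LiesOver.over
  have hff : Module.FaithfullyFlat (Localization.AtPrime p) (Localization.AtPrime q) :=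
    Module.FaithfullyFlat.of_flat_of_isLocalHom
  exact isIntegrallyClosed_of_faithfullyFlat (Localization.AtPrime p) (Localization.AtPrime q)

/-- A ring is normal when all its local rings are integrally closed domains; this ascends along
smooth ring maps. -/
theorem normal_of_smooth (A B : Type u) [CommRing A] [CommRing B] [Algebra A B]
    [Algebra.Smooth A B]
    (hA : ∀ (p : Ideal A) [p.IsPrime],
      IsDomain (Localization.AtPrime p) ∧ IsIntegrallyClosed (Localization.AtPrime p))
    (q : Ideal B) [q.IsPrime] :
    IsDomain (Localization.AtPrime q) ∧ IsIntegrallyClosed (Localization.AtPrime q) :=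
  normal_at_of_smooth A B q (hA _)

/-- Normality descends along faithfully flat ring maps. -/
theorem normal_of_faithfullyFlat (A B : Type u) [CommRing A] [CommRing B] [Algebra A B]
    [Module.FaithfullyFlat A B]
    (hB : ∀ (q : Ideal B) [q.IsPrime],
      IsDomain (Localization.AtPrime q) ∧ IsIntegrallyClosed (Localization.AtPrime q))
    (p : Ideal A) [hp : p.IsPrime] :
    IsDomain (Localization.AtPrime p) ∧ IsIntegrallyClosed (Localization.AtPrime p) := by
  obtain ⟨⟨q, hq⟩, hqp⟩ := PrimeSpectrum.comap_surjective_of_faithfullyFlat (A := A) (B := B) ⟨p, hp⟩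
  have hqp' : q.comap (algebraMap A B) = p := congrArg PrimeSpectrum.asIdeal hqp
  have := normal_at_of_flat A B q (hB q)
  subst hqp'
  exact this

end Groth.Agent.Lib.Helper30.SmoothNormal
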