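import Mathlib
import Groth.Agent.Lib.Helper30.SmoothReduced
import Groth.Agent.Lib.Helper30.SmoothNormal

/-!
# Transfer of local ring properties along morphisms smooth at a point (helper30)

* `stalk_iff_localization`: a ring-iso-invariant property of the stalk at a point of an affine open
  is the property of the localization at the corresponding prime.
* `stalk_iff_of_smoothAt`: if a ring-iso-invariant property `P` satisfies
  `P (R_{q ∩ R}) ↔ P (S_q)` for all smooth `R → S` and primes `q`, then for `f : X ⟶ Y` locally of
  finite presentation and smooth at `x`, `P (𝒪_{X,x}) ↔ P (𝒪_{Y,f x})`.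
* `reduced_iff_smooth`, `normal_iff_smooth`: the ring-level inputs for "reduced" and
  "integrally closed domain".
* `stalk_reduced_iff_of_smoothAt`, `stalk_normal_iff_of_smoothAt`.
-/

set_option autoImplicit false
universe u
open CategoryTheory AlgebraicGeometry

namespace Groth.Agent.Lib.Helper30.SmoothLocal

/-- transfer of a ring-iso-invariant property between the stalk and the localization -/
theorem stalk_iff_localization (P : ∀ (R : Type u) [CommRing R], Prop)
    (hP : ∀ (R S : Type u) [CommRing R] [CommRing S], (R ≃+* S) → P R → P S)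
    {X : Scheme.{u}} {U : X.Opens} (hU : IsAffineOpen U) (x : X) (hx : x ∈ U) :
    P (X.presheaf.stalk x) ↔ P (Localization.AtPrime (hU.primeIdealOf ⟨x, hx⟩).asIdeal) := by
  let _ : Algebra Γ(X, U) (X.presheaf.stalk x) :=
    TopCat.Presheaf.algebra_section_stalk X.presheaf (⟨x, hx⟩ : U)
  have hloc : IsLocalization.AtPrime (X.presheaf.stalk x) (hU.primeIdealOf ⟨x, hx⟩).asIdeal :=
    hU.isLocalization_stalk ⟨x, hx⟩
  let e : Localization.AtPrime (hU.primeIdealOf ⟨x, hx⟩).asIdeal ≃ₐ[Γ(X, U)] X.presheaf.stalk x :=
    IsLocalization.algEquiv (hU.primeIdealOf ⟨x, hx⟩).asIdeal.primeCompl _ _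
  exact ⟨fun h => hP _ _ e.symm.toRingEquiv h, fun h => hP _ _ e.toRingEquiv h⟩

/-- A local property that ascends and descends along smooth ring maps does so along morphisms of
schemes at smooth points. -/
theorem stalk_iff_of_smoothAt (P : ∀ (R : Type u) [CommRing R], Prop)
    (hP : ∀ (R S : Type u) [CommRing R] [CommRing S], (R ≃+* S) → P R → P S)
    (hmain : ∀ (R S : Type u) [CommRing R] [CommRing S] [Algebra R S] [Algebra.Smooth R S]
      (q : Ideal S) [q.IsPrime],
      P (Localization.AtPrime (q.comap (algebraMap R S))) ↔ P (Localization.AtPrime q))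
    {X Y : Scheme.{u}} (f : X ⟶ Y) [LocallyOfFinitePresentation f] (x : X)
    (hx : x ∈ f.smoothLocus) :
    P (X.presheaf.stalk x) ↔ P (Y.presheaf.stalk (f.base x)) := by
  obtain ⟨U, hU, V, hV, e, hxV, hsm⟩ := exists_smooth_of_formallySmooth_stalk f x hx
  have hfxU : f.base x ∈ U := e hxV
  rw [stalk_iff_localization P hP hV x hxV, stalk_iff_localization P hP hU (f.base x) hfxU]
  let _ := (f.appLE U V e).hom.toAlgebra
  have hsm' : Algebra.Smooth Γ(Y, U) Γ(X, V) := hsm
  have hm := hmain Γ(Y, U) Γ(X, V) (hV.primeIdealOf ⟨x, hxV⟩).asIdeal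
  have hcomap := IsAffineOpen.comap_primeIdealOf_appLE U hU V hV e hxV
  have key : ∀ (Q : PrimeSpectrum Γ(Y, U)),
      Q = (hV.primeIdealOf ⟨x, hxV⟩).comap (f.appLE U V e).hom →
      (P (Localization.AtPrime Q.asIdeal) ↔
        P (Localization.AtPrime (hV.primeIdealOf ⟨x, hxV⟩).asIdeal)) := by
    intro Q hQ
    subst hQ
    exact hm
  exact (key _ hcomap.symm).symm

set_option backward.isDefEq.respectTransparency false in
open Algebra in
/-- ascent of reducedness along a smooth ring map at a prime -/
theorem reduced_at_of_smooth (A B : Type u) [CommRing A] [CommRing B] [Algebra A B]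
    [Algebra.Smooth A B] (q : Ideal B) [q.IsPrime]
    (hA : IsReduced (Localization.AtPrime (q.comap (algebraMap A B)))) :
    IsReduced (Localization.AtPrime q) := by
  let p := q.comap (algebraMap A B)
  let M := p.primeCompl
  let R := Localization M
  let T := algebraMapSubmonoid B M
  let B' := Localization T
  have hredR : IsReduced R := hA
  have hsm : Algebra.Smooth R B' :=
    Algebra.Smooth.of_equiv (Localization.tensorRightAlgEquiv M B)
  have hredB' : IsReduced B' := Groth.Agent.Lib.Helper30.SmoothReduced.isReduced_of_smooth R B'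
  let q' := q.map (algebraMap B B')
  have disj : Disjoint (T : Set B) (q : Set B) := by
    rw [Set.disjoint_left]
    rintro _ ⟨a, ha, rfl⟩ haq
    exact ha haq
  have hq' : q'.IsPrime := IsLocalization.isPrime_of_isPrime_disjoint T _ _ ‹_› disj
  have hcomap : q'.comap (algebraMap B B') = q :=
    IsLocalization.under_map_of_isPrime_disjoint T _ ‹_› disj
  have hloc : IsLocalization.AtPrime (Localization.AtPrime q') q := by
    convert IsLocalization.isLocalization_isLocalization_atPrime_isLocalization T
      (Localization.AtPrime q') q'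
    exact hcomap.symm
  have h1 : IsReduced (Localization.AtPrime q') := inferInstance
  let e : Localization.AtPrime q' ≃+* Localization.AtPrime q :=
    (IsLocalization.algEquiv q.primeCompl (Localization.AtPrime q')
      (Localization.AtPrime q)).toRingEquiv
  exact isReduced_of_injective e.symm.toRingHom e.symm.injective

/-- descent of reducedness along a flat ring map at a prime -/
theorem reduced_at_of_flat (A B : Type u) [CommRing A] [CommRing B] [Algebra A B]
    [Module.Flat A B] (q : Ideal B) [q.IsPrime]
    (hB : IsReduced (Localization.AtPrime q)) :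
    IsReduced (Localization.AtPrime (q.comap (algebraMap A B))) := by
  set p := Ideal.comap (algebraMap A B) q with hp
  have hlo : q.LiesOver p := ⟨rfl⟩
  let _ := Localization.AtPrime.algebraOfLiesOver p q
  have hflat : Module.Flat (Localization.AtPrime p) (Localization.AtPrime q) := inferInstance
  have hloc : IsLocalHom (algebraMap (Localization.AtPrime p) (Localization.AtPrime q)) :=
    Localization.isLocalHom_localRingHom p q (algebraMap A B) Ideal.LiesOver.over
  have hff : Module.FaithfullyFlat (Localization.AtPrime p) (Localization.AtPrime q) :=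
    Module.FaithfullyFlat.of_flat_of_isLocalHom
  exact isReduced_of_injective (algebraMap (Localization.AtPrime p) (Localization.AtPrime q))
    (FaithfulSMul.algebraMap_injective _ _)

theorem reduced_iff_smooth (A B : Type u) [CommRing A] [CommRing B] [Algebra A B]
    [Algebra.Smooth A B] (q : Ideal B) [q.IsPrime] :
    IsReduced (Localization.AtPrime (q.comap (algebraMap A B))) ↔
      IsReduced (Localization.AtPrime q) :=
  ⟨reduced_at_of_smooth A B q, reduced_at_of_flat A B q⟩

theorem normal_iff_smooth (A B : Type u) [CommRing A] [CommRing B] [Algebra A B]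
    [Algebra.Smooth A B] (q : Ideal B) [q.IsPrime] :
    (IsDomain (Localization.AtPrime (q.comap (algebraMap A B))) ∧
      IsIntegrallyClosed (Localization.AtPrime (q.comap (algebraMap A B)))) ↔
    (IsDomain (Localization.AtPrime q) ∧ IsIntegrallyClosed (Localization.AtPrime q)) :=
  ⟨Groth.Agent.Lib.Helper30.SmoothNormal.normal_at_of_smooth A B q,
    Groth.Agent.Lib.Helper30.SmoothNormal.normal_at_of_flat A B q⟩

/-- Reducedness of local rings ascends and descends at smooth points. -/
theorem stalk_reduced_iff_of_smoothAt {X Y : Scheme.{u}} (f : X ⟶ Y)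
    [LocallyOfFinitePresentation f] (x : X) (hx : x ∈ f.smoothLocus) :
    IsReduced (X.presheaf.stalk x) ↔ IsReduced (Y.presheaf.stalk (f.base x)) :=
  stalk_iff_of_smoothAt (fun R _ => IsReduced R)
    (fun _ _ _ _ e h => by
      have := h
      exact isReduced_of_injective e.symm.toRingHom e.symm.injective)
    (fun R S _ _ _ _ q _ => reduced_iff_smooth R S q) f x hx

/-- Normality of local rings ascends and descends at smooth points. -/
theorem stalk_normal_iff_of_smoothAt {X Y : Scheme.{u}} (f : X ⟶ Y)
    [LocallyOfFinitePresentation f] (x : X) (hx : x ∈ f.smoothLocus) :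
    (IsDomain (X.presheaf.stalk x) ∧ IsIntegrallyClosed (X.presheaf.stalk x)) ↔
      (IsDomain (Y.presheaf.stalk (f.base x)) ∧
        IsIntegrallyClosed (Y.presheaf.stalk (f.base x))) :=
  stalk_iff_of_smoothAt (fun R _ => IsDomain R ∧ IsIntegrallyClosed R)
    (fun R S _ _ e h => by
      obtain ⟨h1, h2⟩ := h
      exact ⟨e.symm.toMulEquiv.isDomain _, IsIntegrallyClosed.of_equiv e⟩)
    (fun R S _ _ _ _ q _ => normal_iff_smooth R S q) f x hx

end Groth.Agent.Lib.Helper30.SmoothLocal
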