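import Mathlib.AlgebraicGeometry.Geometrically.Basic
import Mathlib.AlgebraicGeometry.PullbackCarrier
import Mathlib.AlgebraicGeometry.ResidueField

set_option autoImplicit false

open CategoryTheory AlgebraicGeometry CategoryTheory.Limits

universe u

namespace Groth.Agent.Lib.Helper30

theorem geometrically_of_pullback_snd_of_surjective (P : ObjectProperty Scheme.{u})
    (hP : ∀ {Z Z' : Scheme.{u}} (h : Z ⟶ Z') [Surjective h], P Z → P Z')
    {X Y Y' : Scheme.{u}} (f : X ⟶ Y) (g : Y' ⟶ Y) [Surjective g]
    (h : geometrically P (pullback.snd f g)) : geometrically P f := by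
  intro K _ y Z fst snd hpb
  have hne : Nonempty ↥(pullback y g) := by
    have hs : Function.Surjective (pullback.fst y g) := (pullback.fst y g).surjective
    have : Nonempty ↥(Spec (CommRingCat.of K)) := inferInstance
    obtain ⟨w, -⟩ := hs this.some
    exact ⟨w⟩
  obtain ⟨z⟩ := hne
  let W := pullback y g
  let i : Spec (W.residueField z) ⟶ W := W.fromSpecResidueField z
  let j : Spec (W.residueField z) ⟶ Spec (CommRingCat.of K) := i ≫ pullback.fst y g
  let y'' : Spec (W.residueField z) ⟶ Y' := i ≫ pullback.snd y g
  have hj : j ≫ y = y'' ≫ g := by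
    simp only [j, y'', Category.assoc, pullback.condition]
  have : Surjective j := ⟨Function.surjective_to_subsingleton _⟩
  have hsq1 : IsPullback (pullback.fst snd j) (pullback.snd snd j) snd j :=
    IsPullback.of_hasPullback snd j
  have hbig : IsPullback (pullback.fst snd j ≫ fst) (pullback.snd snd j) f (j ≫ y) :=
    hsq1.paste_horiz hpb
  let ℓ : pullback snd j ⟶ pullback f g :=
    pullback.lift (pullback.fst snd j ≫ fst) (pullback.snd snd j ≫ y'')
      (by rw [Category.assoc, Category.assoc, ← hj, hpb.w, ← Category.assoc, ← Category.assoc,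
            pullback.condition])
  have hℓ1 : ℓ ≫ pullback.fst f g = pullback.fst snd j ≫ fst := pullback.lift_fst _ _ _
  have hℓ2 : ℓ ≫ pullback.snd f g = pullback.snd snd j ≫ y'' := pullback.lift_snd _ _ _
  have hbig' : IsPullback (ℓ ≫ pullback.fst f g) (pullback.snd snd j) f (y'' ≫ g) := by
    rw [hℓ1, ← hj]
    exact hbig
  have hleft : IsPullback ℓ (pullback.snd snd j) (pullback.snd f g) y'' :=
    IsPullback.of_right hbig' hℓ2 (IsPullback.of_hasPullback f g)
  have hPZL : P (pullback snd j) := h y'' ℓ (pullback.snd snd j) hleft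
  exact hP (pullback.fst snd j) hPZL

end Groth.Agent.Lib.Helper30
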