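import Groth.Prelude.Def_AlgSp
import Groth.Prelude.Def_AlgSp3
import Groth.Agent.Lib.Helper5.SheafQuot
import Mathlib.CategoryTheory.Comma.Over.Pullback
import Mathlib.AlgebraicGeometry.Morphisms.Smooth

/-!
# Atlases of algebraic spaces: epimorphism, kernel pair, descent of "restriction to `- × E` is bijective"
(helper30)

* `epi_of_atlas` : a representable étale surjective `p : h_X ⟶ F` is an epimorphism of fppf sheaves.
* `epi_prod_map_id` : epimorphisms of sheaves are stable under `- × E`.
* `exists_desc_of_epi` : an epimorphism of sheaves coequalizes its kernel pair.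
* `bijective_res_of_epi` : if `φ ↦ prod.fst ≫ φ`, `(X ⟶ G) → (X ⨯ E ⟶ G)` is bijective for `X` and injective
  for the kernel pair `R` of an epi `p : X ⟶ F`, then it is bijective for `F`.
* `overPullbackIsoProd`, `yonPullbackIso`, `bijective_res_yon` : `h_{Y ×_S T} = h_Y ⨯ h_T`, compatibly with the
  counit of `Over.mapPullbackAdj`.
* `prop_of_chart`, `exists_kernelPair`, `repWith_etale_map_comp`.
-/

set_option autoImplicit false
universe u
open CategoryTheory CategoryTheory.Limits AlgebraicGeometry Opposite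

namespace Groth.Agent.Lib.Helper30.AlgSpAtlas

open AlgSp Groth.Agent.Lib.Helper5.SheafQuot

variable {S : Scheme.{u}}

/-- A representable étale surjective map from a representable sheaf is an epimorphism of sheaves. -/
theorem epi_of_atlas {F : Sp S} {X : Over S} (p : (yon S).obj X ⟶ F)
    (hE : RepWith @Etale p) (hS : RepWith @Surjective p) : Epi p := by
  refine epi_of_local_lift p (fun T ξ => ?_)
  have hpb := hE.rep.isPullback ξ
  set V := hE.rep.pullback ξ
  set g : V ⟶ T := hE.rep.snd ξ
  have hgE : Etale g.left := hE.property ξ _ _ hpb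
  have hgS : Surjective g.left := hS.property ξ _ _ hpb
  have hcov : (Sieve.overEquiv T).symm (Sieve.generate (Presieve.singleton g.left)) ∈ J S T := by
    refine GrothendieckTopology.overEquiv_symm_mem_over _ T _
      (Precoverage.generate_mem_toGrothendieck ?_)
    exact (Scheme.singleton_mem_precoverage_iff (P := @Flat ⊓ @LocallyOfFinitePresentation) g.left).2
      ⟨hgS.1, inferInstance, inferInstance⟩
  refine ⟨_, hcov, fun Z f hf => ?_⟩
  rw [Sieve.overEquiv_symm_iff] at hf
  obtain ⟨Y, h, k, ⟨⟩, hk⟩ := hf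
  have hw : h ≫ V.hom = Z.hom := by
    rw [← Over.w g, ← Category.assoc, hk, Over.w f]
  have hfe : f = Over.homMk h hw ≫ g := by
    ext
    simpa using hk.symm
  refine ⟨(yon S).map (Over.homMk h hw) ≫ hE.rep.fst ξ, ?_⟩
  rw [Category.assoc, hpb.w, ← Category.assoc, ← Functor.map_comp, ← hfe]

/-- Epimorphisms of sheaves are stable under taking the product with a fixed sheaf. -/
theorem epi_prod_map_id {F G : Sp S} (p : F ⟶ G) [Epi p] (E : Sp S) :
    Epi (prod.map p (𝟙 E)) := by
  refine epi_of_local_lift _ (fun T ξ => ?_)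
  obtain ⟨R₀, hR₀, hl⟩ := exists_local_lift_of_epi p (ξ ≫ prod.fst)
  refine ⟨R₀, hR₀, fun T' φ hφ => ?_⟩
  obtain ⟨x, hx⟩ := hl φ hφ
  refine ⟨prod.lift x ((yon S).map φ ≫ ξ ≫ prod.snd), ?_⟩
  apply Limits.prod.hom_ext
  · rw [Category.assoc, prod.map_fst, prod.lift_fst_assoc, hx, Category.assoc]
  · rw [Category.assoc, prod.map_snd, Category.comp_id, prod.lift_snd, Category.assoc]

/-- An epimorphism of sheaves coequalizes its kernel pair. -/
theorem exists_desc_of_epi {F G X R : Sp S} (p : X ⟶ F) [Epi p] {s t : R ⟶ X}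
    (hpb : IsPullback s t p p) (g : X ⟶ G) (hg : s ≫ g = t ≫ g) :
    ∃ φ : F ⟶ G, p ≫ φ = g := by
  have : IsRegularEpi p := IsRegularEpiCategory.regularEpiOfEpi p
  have : EffectiveEpi p := inferInstance
  refine ⟨EffectiveEpi.desc p g (fun {Z} g₁ g₂ h => ?_), EffectiveEpi.fac p g _⟩
  have h1 : hpb.lift g₁ g₂ h ≫ s = g₁ := hpb.lift_fst _ _ _
  have h2 : hpb.lift g₁ g₂ h ≫ t = g₂ := hpb.lift_snd _ _ _
  calc g₁ ≫ g = hpb.lift g₁ g₂ h ≫ s ≫ g := by rw [← Category.assoc, h1]
    _ = hpb.lift g₁ g₂ h ≫ t ≫ g := by rw [hg]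
    _ = g₂ ≫ g := by rw [← Category.assoc, h2]

/-- Descent of the "restriction to `- × E` is bijective" property along an epimorphism whose source and
kernel pair have it. -/
theorem bijective_res_of_epi {F E G X R : Sp S} (p : X ⟶ F) [Epi p] {s t : R ⟶ X}
    (hpb : IsPullback s t p p)
    (hX : Function.Bijective (fun φ : X ⟶ G => (prod.fst : X ⨯ E ⟶ X) ≫ φ))
    (hR : Function.Injective (fun φ : R ⟶ G => (prod.fst : R ⨯ E ⟶ R) ≫ φ)) :
    Function.Bijective (fun φ : F ⟶ G => (prod.fst : F ⨯ E ⟶ F) ≫ φ) := by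
  constructor
  · intro φ₁ φ₂ h
    dsimp only at h
    rw [← cancel_epi p]
    apply hX.1
    dsimp only
    rw [← prod.map_fst_assoc p (𝟙 E), ← prod.map_fst_assoc p (𝟙 E), h]
  · intro ψ
    obtain ⟨g, hg⟩ := hX.2 (prod.map p (𝟙 E) ≫ ψ)
    dsimp only at hg
    have hst : s ≫ g = t ≫ g := by
      apply hR
      dsimp only
      rw [← prod.map_fst_assoc s (𝟙 E), ← prod.map_fst_assoc t (𝟙 E), hg,
        ← Category.assoc, ← Category.assoc, prod.map_map, prod.map_map, hpb.w]
    obtain ⟨φ, hφ⟩ := exists_desc_of_epi p hpb g hst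
    refine ⟨φ, ?_⟩
    dsimp only
    have := epi_prod_map_id p E
    rw [← cancel_epi (prod.map p (𝟙 E)), ← hg, ← hφ, prod.map_fst_assoc]

/-- `Y ×_S T`, as an object over `S`, is the product of `Y` and `T` in `Over S`. -/
noncomputable def overPullbackIsoProd {T : Scheme.{u}} (f : T ⟶ S) (Y : Over S) :
    (Over.pullback f ⋙ Over.map f).obj Y ≅ Y ⨯ Over.mk f :=
  Over.isoMk (Over.prodLeftIsoPullback Y (Over.mk f)).symm (by
    have h1 : (Y ⨯ Over.mk f).hom = (prod.fst (X := Y) (Y := Over.mk f)).left ≫ Y.hom :=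
      (Over.w (prod.fst (X := Y) (Y := Over.mk f))).symm
    simp only [Iso.symm_hom, h1, Over.prodLeftIsoPullback_inv_fst_assoc]
    simp [pullback.condition])

theorem overPullbackIsoProd_hom_fst {T : Scheme.{u}} (f : T ⟶ S) (Y : Over S) :
    (overPullbackIsoProd f Y).hom ≫ prod.fst = (Over.mapPullbackAdj f).counit.app Y := by
  ext
  simp [overPullbackIsoProd]

/-- The sheaf represented by `Y ×_S T` is the product of `h_Y` and `h_T`. -/
noncomputable def yonPullbackIso {T : Scheme.{u}} (f : T ⟶ S) (Y : Over S) :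
    (yon S).obj ((Over.pullback f ⋙ Over.map f).obj Y) ≅ (yon S).obj Y ⨯ (yon S).obj (Over.mk f) :=
  (yon S).mapIso (overPullbackIsoProd f Y) ≪≫ PreservesLimitPair.iso (yon S) Y (Over.mk f)

theorem yonPullbackIso_hom_fst {T : Scheme.{u}} (f : T ⟶ S) (Y : Over S) :
    (yonPullbackIso f Y).hom ≫ prod.fst = (yon S).map ((Over.mapPullbackAdj f).counit.app Y) := by
  rw [yonPullbackIso, Iso.trans_hom, Category.assoc, PreservesLimitPair.iso_hom, prodComparison_fst,
    Functor.mapIso_hom, ← Functor.map_comp, overPullbackIsoProd_hom_fst]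

/-- Translation of the Néron mapping property for a scheme `Y` into a statement about sheaves. -/
theorem bijective_res_yon {T : Scheme.{u}} (f : T ⟶ S) (Y N : Over S)
    (h : Function.Bijective (fun g : Y ⟶ N => (Over.mapPullbackAdj f).counit.app Y ≫ g)) :
    Function.Bijective (fun φ : (yon S).obj Y ⟶ (yon S).obj N =>
      (prod.fst : (yon S).obj Y ⨯ (yon S).obj (Over.mk f) ⟶ (yon S).obj Y) ≫ φ) := by
  have key : ∀ φ : (yon S).obj Y ⟶ (yon S).obj N,
      (prod.fst : (yon S).obj Y ⨯ (yon S).obj (Over.mk f) ⟶ (yon S).obj Y) ≫ φ =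
      (yonPullbackIso f Y).inv ≫
        (yon S).map ((Over.mapPullbackAdj f).counit.app Y ≫ (yon S).preimage φ) := by
    intro φ
    rw [Functor.map_comp, Functor.map_preimage, ← yonPullbackIso_hom_fst, Category.assoc,
      Iso.inv_hom_id_assoc]
  constructor
  · intro φ₁ φ₂ h12
    dsimp only at h12
    rw [key, key, Iso.cancel_iso_inv_left] at h12
    have := h.1 ((yon S).map_injective h12)
    have := congrArg (yon S).map this
    rwa [Functor.map_preimage, Functor.map_preimage] at this
  · intro ψ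
    obtain ⟨g, hg⟩ := h.2 ((yon S).preimage ((yonPullbackIso f Y).hom ≫ ψ))
    dsimp only at hg
    refine ⟨(yon S).map g, ?_⟩
    dsimp only
    rw [key, Functor.preimage_map, hg, Functor.map_preimage, Iso.inv_hom_id_assoc]

/-- If the structure map of `F` is smooth (chart-wise), every scheme étale over `F` is smooth over `S`. -/
theorem prop_of_chart {P : MorphismProperty Scheme.{u}} {F : Sp S}
    (sF : F ⟶ (yon S).obj (Over.mk (𝟙 S))) (hsm : LocP P sF)
    {X : Over S} (a : (yon S).obj X ⟶ F) (ha : RepWith @Etale a) : P X.hom := by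
  have : MorphismProperty.ContainsIdentities (@Etale.{u}) :=
    MorphismProperty.IsMultiplicative.toContainsIdentities
  obtain ⟨h, hh⟩ := (yon S).map_surjective (a ≫ sF)
  have h1 := hsm a (𝟙 _) h ha (repWith_id _ _) (by rw [hh, Category.comp_id])
  have e : h.left = X.hom := by simpa using Over.w h
  rwa [e] at h1

/-- The kernel pair of an étale chart of an algebraic space is a scheme, étale over the chart via both
projections. -/
theorem exists_kernelPair {F : Sp S} {X : Over S} (p : (yon S).obj X ⟶ F)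
    (hE : RepWith @Etale p) :
    ∃ (R : Over S) (s t : R ⟶ X), IsPullback ((yon S).map s) ((yon S).map t) p p ∧
      Etale s.left ∧ Etale t.left := by
  have hpb := hE.rep.isPullback p
  obtain ⟨s, hs⟩ := (yon S).map_surjective (hE.rep.fst p)
  rw [← hs] at hpb
  exact ⟨_, s, hE.rep.snd p, hpb, hE.property p _ s hpb.flip, hE.property p _ _ hpb⟩

set_option backward.isDefEq.respectTransparency false in
theorem repWith_etale_map_comp {F : Sp S} {X R : Over S} (p : (yon S).obj X ⟶ F)
    (hE : RepWith @Etale p) (s : R ⟶ X) (hs : Etale s.left) :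
    RepWith @Etale ((yon S).map s ≫ p) :=
  (RepWith @Etale).comp_mem _ _ ((repWith_yon_map_iff _ s).2 hs) hE

end Groth.Agent.Lib.Helper30.AlgSpAtlas
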