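import Groth.Agent.Lib.Helper23.FpqcClosed
import Groth.Agent.Lib.Helper23.AlgSpImm2
import Groth.Agent.Lib.Helper46.STLocal
import Groth.Agent.Lib.Helper5.FppfCover
import Groth.Agent.Lib.Helper37.AlgSpPoints

/-!
# Separatedness of a morphism of algebraic spaces from an étale cover of the source (helper30)
-/

set_option autoImplicit false
universe u
open CategoryTheory CategoryTheory.Limits AlgebraicGeometry Opposite

namespace Groth.Agent.Lib.Helper30.SepCover

section Cat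

variable {C : Type*} [Category C] [HasPullbacks C]

/-- `A ×_X B ⟶ A ×_Y B` is the base change of the diagonal of `g : X ⟶ Y` along `A ×_Y B ⟶ X ×_Y X`. -/
theorem isPullback_diagonal_of_fibre_products {X Y A B P Q : C} (g : X ⟶ Y) (a : A ⟶ X) (b : B ⟶ X)
    {pa : P ⟶ A} {pb : P ⟶ B} (hP : IsPullback pa pb a b) {ga : A ⟶ Y} {gb : B ⟶ Y}
    (hga : a ≫ g = ga) (hgb : b ≫ g = gb) {qa : Q ⟶ A} {qb : Q ⟶ B}
    (hQ : IsPullback qa qb ga gb) (c : P ⟶ Q) (hc₁ : c ≫ qa = pa) (hc₂ : c ≫ qb = pb)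
    (m : Q ⟶ pullback g g) (hm₁ : m ≫ pullback.fst g g = qa ≫ a)
    (hm₂ : m ≫ pullback.snd g g = qb ≫ b) :
    IsPullback (pa ≫ a) c (pullback.diagonal g) m := by
  subst hga hgb
  refine ⟨⟨?_⟩, ⟨PullbackCone.IsLimit.mk _
    (fun s => hP.lift (s.snd ≫ qa) (s.snd ≫ qb) ?_) ?_ ?_ ?_⟩⟩
  · apply pullback.hom_ext
    · rw [Category.assoc, Category.assoc, pullback.diagonal_fst, Category.comp_id, Category.assoc,
        hm₁, ← Category.assoc, hc₁]
    · rw [Category.assoc, Category.assoc, pullback.diagonal_snd, Category.comp_id, Category.assoc,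
        hm₂, ← Category.assoc, hc₂, hP.w]
  · have h1 := congrArg (· ≫ pullback.fst g g) s.condition
    have h2 := congrArg (· ≫ pullback.snd g g) s.condition
    simp only [Category.assoc, pullback.diagonal_fst, pullback.diagonal_snd, Category.comp_id,
      hm₁, hm₂] at h1 h2
    rw [Category.assoc, Category.assoc, ← h1, ← h2]
  · intro s
    have h1 := congrArg (· ≫ pullback.fst g g) s.condition
    simp only [Category.assoc, pullback.diagonal_fst, Category.comp_id, hm₁] at h1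
    rw [← Category.assoc, hP.lift_fst, Category.assoc, ← h1]
  · intro s
    apply hQ.hom_ext
    · rw [Category.assoc, hc₁, hP.lift_fst]
    · rw [Category.assoc, hc₂, hP.lift_snd]
  · intro s l h1 h2
    apply hP.hom_ext
    · rw [hP.lift_fst, ← h2, Category.assoc, hc₁]
    · rw [hP.lift_snd, ← h2, Category.assoc, hc₂]

/-- The product map `A ×_Y B ⟶ X ×_Y X` factors as a base change of `b` followed by a base change of `a`. -/
theorem exists_factor_prod_map {X Y A B Q : C} (g : X ⟶ Y) (a : A ⟶ X) (b : B ⟶ X)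
    {ga : A ⟶ Y} {gb : B ⟶ Y} (hga : a ≫ g = ga) (hgb : b ≫ g = gb) {qa : Q ⟶ A} {qb : Q ⟶ B}
    (hQ : IsPullback qa qb ga gb) (m : Q ⟶ pullback g g) (hm₁ : m ≫ pullback.fst g g = qa ≫ a)
    (hm₂ : m ≫ pullback.snd g g = qb ≫ b) :
    ∃ (m₁ : Q ⟶ pullback ga g) (m₂ : pullback ga g ⟶ pullback g g),
      IsPullback qb m₁ b (pullback.snd ga g) ∧
      IsPullback (pullback.fst ga g) m₂ a (pullback.fst g g) ∧ m₁ ≫ m₂ = m ∧
      m₂ ≫ pullback.snd g g = pullback.snd ga g := by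
  subst hga hgb
  let m₁ : Q ⟶ pullback (a ≫ g) g := pullback.lift qa (qb ≫ b) (by rw [hQ.w, Category.assoc])
  let m₂ : pullback (a ≫ g) g ⟶ pullback g g :=
    pullback.lift (pullback.fst (a ≫ g) g ≫ a) (pullback.snd (a ≫ g) g)
      (by rw [Category.assoc]; exact pullback.condition)
  have h1 : m₁ ≫ pullback.fst (a ≫ g) g = qa := pullback.lift_fst _ _ _
  have h2 : m₁ ≫ pullback.snd (a ≫ g) g = qb ≫ b := pullback.lift_snd _ _ _
  have h3 : m₂ ≫ pullback.fst g g = pullback.fst (a ≫ g) g ≫ a := pullback.lift_fst _ _ _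
  have h4 : m₂ ≫ pullback.snd g g = pullback.snd (a ≫ g) g := pullback.lift_snd _ _ _
  refine ⟨m₁, m₂, ?_, ?_, ?_, h4⟩
  · refine IsPullback.of_bot ?_ h2.symm (IsPullback.of_hasPullback (a ≫ g) g).flip
    rw [h1]
    exact hQ.flip
  · refine (IsPullback.of_right ?_ h3 (IsPullback.of_hasPullback g g).flip).flip
    rw [h4]
    exact (IsPullback.of_hasPullback (a ≫ g) g).flip
  · apply pullback.hom_ext
    · rw [Category.assoc, h3, ← Category.assoc, h1, hm₁]
    · rw [Category.assoc, h4, h2, hm₂]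

end Cat

open AlgSp Groth.Agent.Lib.Helper37.AlgSpPoints Groth.Agent.Lib.Helper46.STLocal
open Groth.Agent.Lib.Helper23.AlgSpMor

variable {S : Scheme.{u}}

/-- The product `A ×_Y B ⟶ X ×_Y X` of two étale morphisms is étale, and hits the points whose two projections are
hit by `a` and `b`. -/
theorem prod_map_props {X Y A B Q : Sp S} (hX : IsAlgSpace X) (hY : IsAlgSpace Y) (hA : IsAlgSpace A)
    (hB : IsAlgSpace B) (g : X ⟶ Y) (a : A ⟶ X) (b : B ⟶ X) (ha : IsEtaleMor a) (hb : IsEtaleMor b)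
    {ga : A ⟶ Y} {gb : B ⟶ Y} (hga : a ≫ g = ga) (hgb : b ≫ g = gb) {qa : Q ⟶ A} {qb : Q ⟶ B}
    (hQ : IsPullback qa qb ga gb) (m : Q ⟶ pullback g g) (hm₁ : m ≫ pullback.fst g g = qa ≫ a)
    (hm₂ : m ≫ pullback.snd g g = qb ≫ b) :
    IsEtaleMor m ∧ ∀ δ : Points (pullback g g),
      Points.map (pullback.fst g g) δ ∈ Set.range (Points.map a) →
      Points.map (pullback.snd g g) δ ∈ Set.range (Points.map b) →
      δ ∈ Set.range (Points.map m) := by
  obtain ⟨m₁, m₂, sq1, sq2, hm, h4⟩ := exists_factor_prod_map g a b hga hgb hQ m hm₁ hm₂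
  have hD : IsAlgSpace (pullback g g) :=
    isAlgSpace_of_isPullback hX hX hY.diag (IsPullback.of_hasPullback g g)
  have hAX : IsAlgSpace (pullback ga g) :=
    isAlgSpace_of_isPullback hA hX hY.diag (IsPullback.of_hasPullback ga g)
  have hQa : IsAlgSpace Q := isAlgSpace_of_isPullback hA hB hY.diag hQ
  refine ⟨?_, ?_⟩
  · rw [← hm]
    exact isEtaleMor_comp m₁ m₂ (isEtaleMor_baseChange hB hX hQa hAX sq1 hb)
      (isEtaleMor_baseChange hA hX hAX hD sq2 ha)
  · rintro δ ⟨α, hα⟩ ⟨β, hβ⟩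
    obtain ⟨ε, -, hε⟩ := points_exists_of_isPullback sq2 α δ hα
    have hε' : Points.map b β = Points.map (pullback.snd ga g) ε := by
      rw [hβ, ← hε, ← Points.map_comp, h4]
    obtain ⟨ζ, -, hζ⟩ := points_exists_of_isPullback sq1 β ε hε'
    exact ⟨ζ, by rw [← hm, Points.map_comp, hζ, hε]⟩

/-- **Separatedness from an étale cover of the source.**  If `{a s : A s ⟶ X}` is an étale covering of the algebraic
space `X` and all `A s ×_X A t ⟶ A s ×_Y A t` are closed immersions, then `g : X ⟶ Y` is separated. -/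
theorem isSeparatedMor_of_etale_cover {X Y : Sp S} (hX : IsAlgSpace X) (hY : IsAlgSpace Y) (g : X ⟶ Y)
    {ι₀ : Type u} (A : ι₀ → Sp S) (hA : ∀ s, IsAlgSpace (A s)) (a : ∀ s, A s ⟶ X)
    (ha : ∀ s, IsEtaleMor (a s)) (hcov : ∀ x : Points X, ∃ s, x ∈ Set.range (Points.map (a s)))
    (P Q : ι₀ → ι₀ → Sp S) (pa : ∀ s t, P s t ⟶ A s) (pb : ∀ s t, P s t ⟶ A t)
    (hP : ∀ s t, IsPullback (pa s t) (pb s t) (a s) (a t))
    (qa : ∀ s t, Q s t ⟶ A s) (qb : ∀ s t, Q s t ⟶ A t)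
    (hQ : ∀ s t, IsPullback (qa s t) (qb s t) (a s ≫ g) (a t ≫ g))
    (c : ∀ s t, P s t ⟶ Q s t) (hc₁ : ∀ s t, c s t ≫ qa s t = pa s t)
    (hc₂ : ∀ s t, c s t ≫ qb s t = pb s t)
    (hcl : ∀ s t, RepWith @IsClosedImmersion (c s t)) : IsSeparatedMor g := by
  have hD : IsAlgSpace (pullback g g) :=
    isAlgSpace_of_isPullback hX hX hY.diag (IsPullback.of_hasPullback g g)
  let m : ∀ s t, Q s t ⟶ pullback g g := fun s t =>
    pullback.lift (qa s t ≫ a s) (qb s t ≫ a t) (by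
      rw [Category.assoc, Category.assoc]; exact (hQ s t).w)
  have hm₁ : ∀ s t, m s t ≫ pullback.fst g g = qa s t ≫ a s := fun s t => pullback.lift_fst _ _ _
  have hm₂ : ∀ s t, m s t ≫ pullback.snd g g = qb s t ≫ a t := fun s t => pullback.lift_snd _ _ _
  have props := fun (st : ι₀ × ι₀) => prod_map_props hX hY (hA st.1) (hA st.2) g (a st.1) (a st.2)
    (ha st.1) (ha st.2) rfl rfl (hQ st.1 st.2) (m st.1 st.2) (hm₁ st.1 st.2) (hm₂ st.1 st.2)
  have hYi : ∀ st : ι₀ × ι₀, IsAlgSpace (Q st.1 st.2) := fun st =>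
    isAlgSpace_of_isPullback (hA st.1) (hA st.2) hY.diag (hQ st.1 st.2)
  have hXi : ∀ st : ι₀ × ι₀, IsAlgSpace (P st.1 st.2) := fun st =>
    isAlgSpace_of_isPullback (hA st.1) (hA st.2) hX.diag (hP st.1 st.2)
  have hfppf : IsFppfCover (fun st : ι₀ × ι₀ => Q st.1 st.2) (fun st => m st.1 st.2) := by
    refine ⟨fun st => ?_, fun δ => ?_⟩
    · have h := Groth.Agent.Lib.Helper30.AlgSpEtaleMor.locP_etale_of_isEtaleMor _ (props st).1
      exact ⟨fun _ _ a b k ha hb w => by have : Etale k.left := h a b k ha hb w; infer_instance,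
        fun _ _ a b k ha hb w => by have : Etale k.left := h a b k ha hb w; infer_instance⟩
    · obtain ⟨s, hs⟩ := hcov (Points.map (pullback.fst g g) δ)
      obtain ⟨t, ht⟩ := hcov (Points.map (pullback.snd g g) δ)
      exact ⟨(s, t), (props (s, t)).2 δ hs ht⟩
  have hfpqc := Groth.Agent.Lib.Helper5.FppfCover.isFpqcCover_of_isFppfCover hD _ hYi _ hfppf
  refine (Groth.Agent.Lib.Helper23.SchImageQc.isLocalOnBase_fpqc_repWith_isClosedImmersion
    (fun st : ι₀ × ι₀ => Q st.1 st.2) (fun st => m st.1 st.2) hD hYi hfpqc (pullback.diagonal g) hX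
    (fun st => P st.1 st.2) (fun st => c st.1 st.2) (fun st => pa st.1 st.2 ≫ a st.1) hXi
    (fun st => isPullback_diagonal_of_fibre_products g (a st.1) (a st.2) (hP st.1 st.2) rfl rfl
      (hQ st.1 st.2) (c st.1 st.2) (hc₁ st.1 st.2) (hc₂ st.1 st.2) (m st.1 st.2) (hm₁ st.1 st.2)
      (hm₂ st.1 st.2))).2 (fun st => hcl st.1 st.2)

/-- For `U ⊂ X` open and `U ⟶ Y` separated, `U ×_X V ⟶ U ×_Y V` is an immersion; if it is closed on points it is a
closed immersion. -/
theorem repWith_isClosedImmersion_of_isClosedMor {U V X Y PX PY : Sp S} (j : U ⟶ X) (f : V ⟶ X)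
    (g : X ⟶ Y) (hj : RepWith @IsOpenImmersion j) (hU : IsSeparatedMor (j ≫ g))
    {pX : PX ⟶ U} {qX : PX ⟶ V} (hPX : IsPullback pX qX j f)
    {pY : PY ⟶ U} {qY : PY ⟶ V} (hPY : IsPullback pY qY (j ≫ g) (f ≫ g))
    (c : PX ⟶ PY) (hc₁ : c ≫ pY = pX) (hc₂ : c ≫ qY = qX) (hcl : IsClosedMor c) :
    RepWith @IsClosedImmersion c := by
  have hcond : pX ≫ j ≫ g = qX ≫ f ≫ g := by rw [← Category.assoc, hPX.w, Category.assoc]
  let Γ : PX ⟶ pullback (j ≫ g) (pX ≫ j ≫ g) :=
    pullback.lift pX (𝟙 PX) (by rw [Category.id_comp])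
  have hΓ₁ : Γ ≫ pullback.fst (j ≫ g) (pX ≫ j ≫ g) = pX := pullback.lift_fst _ _ _
  have hΓ₂ : Γ ≫ pullback.snd (j ≫ g) (pX ≫ j ≫ g) = 𝟙 PX := pullback.lift_snd _ _ _
  let k : pullback (j ≫ g) (pX ≫ j ≫ g) ⟶ PY :=
    hPY.lift (pullback.fst (j ≫ g) (pX ≫ j ≫ g)) (pullback.snd (j ≫ g) (pX ≫ j ≫ g) ≫ qX) (by
      rw [pullback.condition, Category.assoc]
      exact congrArg (pullback.snd (j ≫ g) (pX ≫ j ≫ g) ≫ ·) hcond)
  have hk₁ : k ≫ pY = pullback.fst (j ≫ g) (pX ≫ j ≫ g) := hPY.lift_fst _ _ _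
  have hk₂ : k ≫ qY = pullback.snd (j ≫ g) (pX ≫ j ≫ g) ≫ qX := hPY.lift_snd _ _ _
  have hΓk : Γ ≫ k = c := by
    apply hPY.hom_ext
    · rw [Category.assoc, hk₁, hΓ₁, hc₁]
    · rw [Category.assoc, hk₂, ← Category.assoc, hΓ₂, Category.id_comp, hc₂]
  -- `k` is an open immersion
  have hqX : RepWith @IsOpenImmersion qX := (RepWith @IsOpenImmersion).of_isPullback hPX hj
  have sqk : IsPullback (pullback.snd (j ≫ g) (pX ≫ j ≫ g)) k qX qY := by
    refine (IsPullback.of_right ?_ hk₂ hPY).flip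
    rw [hk₁, ← hcond]
    exact IsPullback.of_hasPullback (j ≫ g) (pX ≫ j ≫ g)
  have hk : RepWith @IsOpenImmersion k := (RepWith @IsOpenImmersion).of_isPullback sqk hqX
  -- `Γ` is a closed immersion
  let mE : pullback (j ≫ g) (pX ≫ j ≫ g) ⟶ pullback (j ≫ g) (j ≫ g) :=
    pullback.lift (pullback.fst (j ≫ g) (pX ≫ j ≫ g) ≫ 𝟙 U)
      (pullback.snd (j ≫ g) (pX ≫ j ≫ g) ≫ pX) (by
        rw [Category.comp_id, pullback.condition, Category.assoc])
  have sqΓ : IsPullback (pX ≫ 𝟙 U) Γ (pullback.diagonal (j ≫ g)) mE :=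
    isPullback_diagonal_of_fibre_products (j ≫ g) (𝟙 U) pX
      (IsPullback.of_vert_isIso ⟨by rw [Category.id_comp, Category.comp_id]⟩)
      (Category.id_comp _) rfl (IsPullback.of_hasPullback (j ≫ g) (pX ≫ j ≫ g)) Γ hΓ₁ hΓ₂ mE
      (pullback.lift_fst _ _ _) (pullback.lift_snd _ _ _)
  have hU' : RepWith @IsClosedImmersion (pullback.diagonal (j ≫ g)) := hU
  have hΓ : RepWith @IsClosedImmersion Γ :=
    (repWith_isStableUnderBaseChange (S := S) @IsClosedImmersion).of_isPullback sqΓ hU'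
  -- `c` is an immersion
  have himm : RepWith @IsImmersion c := by
    rw [← hΓk]
    refine (repWith_isMultiplicative (S := S) @IsImmersion).comp_mem _ _
      (MorphismProperty.relative_monotone (fun _ _ h hh => by
        have : IsClosedImmersion h.left := hh
        exact (inferInstance : IsImmersion h.left)) _ hΓ)
      (MorphismProperty.relative_monotone (fun _ _ h hh => by
        have : IsOpenImmersion h.left := hh
        exact (inferInstance : IsImmersion h.left)) _ hk)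
  rw [repWith_isClosedImmersion_iff_isClosed_range c himm, ← Set.image_univ]
  exact hcl _ isClosed_univ

end Groth.Agent.Lib.Helper30.SepCover
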