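import Groth.Agent.Lib.Helper30.EtaleSource
import Groth.Agent.Lib.Helper30.EtaleSourceFT2
import Mathlib.AlgebraicGeometry.Morphisms.FiniteType

set_option autoImplicit false
universe u
open CategoryTheory CategoryTheory.Limits AlgebraicGeometry Opposite TopologicalSpace

namespace Groth.Agent.Lib.Helper30.EtaleSource

theorem ringDescends_finiteType : RingDescends.{u} @RingHom.FiniteType := by
  intro A B C _ _ _ φ ψ hψ hsurj hQ
  let _ := φ.toAlgebra
  let _ := ψ.toAlgebra
  let _ := (ψ.comp φ).toAlgebra
  have : IsScalarTower A B C := IsScalarTower.of_algebraMap_eq' rfl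
  have : Algebra.Etale B C := hψ
  have : Algebra.FiniteType A C := hQ
  exact EtaleSourceFT.finiteType_of_etale_of_surjective (A := A) (B := B) (C := C) hsurj

/-- **Locally of finite type descends along étale surjections of the source.** -/
theorem locallyOfFiniteType_of_etale_surjective_comp {X' X Y : Scheme.{u}} (e : X' ⟶ X)
    (f : X ⟶ Y) [Etale e] [Surjective e] [LocallyOfFiniteType (e ≫ f)] :
    LocallyOfFiniteType f :=
  of_etale_surjective_comp (P := @LocallyOfFiniteType)
    (specDescends_of_ringDescends ringDescends_finiteType) e f inferInstance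

end Groth.Agent.Lib.Helper30.EtaleSource
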