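import Groth.Prelude.Def_AlgSp2
import Mathlib.CategoryTheory.Limits.Preserves.Shapes.BinaryProducts

/-!
# Fibre products over a sheaf as base changes of its diagonal

For `a : h_U ⟶ X`, `b : h_V ⟶ X` and `h_P = h_U ×_X h_V`, the square
`h_P ⟶ X`, `h_P ⟶ h_{U × V}`, `X ⟶ X ⨯ X`, `h_{U × V} ⟶ X ⨯ X` is a pullback.
-/

set_option autoImplicit false
universe u v w
open CategoryTheory CategoryTheory.Limits AlgebraicGeometry

namespace Groth.Agent.Lib.Helper30.AlgSpDiag

section General

variable {D : Type u} [Category.{v} D] [HasBinaryProducts D]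

/-- General form: a fibre product `P = A ×_X B` is the base change of the diagonal of `X` along
`Q = A × B ⟶ X ⨯ X`. -/
theorem isPullback_diag {A B X P Q : D} {a : A ⟶ X} {b : B ⟶ X} {p1 : P ⟶ A} {p2 : P ⟶ B}
    (hP : IsPullback p1 p2 a b) {q1 : Q ⟶ A} {q2 : Q ⟶ B} (hQ : IsLimit (BinaryFan.mk q1 q2))
    (m : P ⟶ Q) (hm1 : m ≫ q1 = p1) (hm2 : m ≫ q2 = p2) (c : Q ⟶ X ⨯ X)
    (hc1 : c ≫ prod.fst = q1 ≫ a) (hc2 : c ≫ prod.snd = q2 ≫ b) :
    IsPullback (p1 ≫ a) m (Limits.diag X) c := by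
  have w : (p1 ≫ a) ≫ Limits.diag X = m ≫ c := by
    apply Limits.prod.hom_ext
    · simp only [Category.assoc, Limits.prod.lift_fst, Category.comp_id, hc1]
      rw [reassoc_of% hm1]
    · simp only [Category.assoc, Limits.prod.lift_snd, Category.comp_id, hc2]
      rw [reassoc_of% hm2, hP.w]
  refine ⟨⟨w⟩, ⟨PullbackCone.IsLimit.mk w
    (fun s => hP.lift (s.snd ≫ q1) (s.snd ≫ q2) ?_) ?_ ?_ ?_⟩⟩
  · have h1 := congrArg (· ≫ prod.fst) s.condition
    have h2 := congrArg (· ≫ prod.snd) s.condition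
    simp only [Category.assoc, Limits.prod.lift_fst, Limits.prod.lift_snd, Category.comp_id, hc1,
      hc2] at h1 h2
    rw [Category.assoc, Category.assoc, ← h1, ← h2]
  · intro s
    have h1 := congrArg (· ≫ prod.fst) s.condition
    simp only [Category.assoc, Limits.prod.lift_fst, Category.comp_id, hc1] at h1
    rw [← Category.assoc, hP.lift_fst, Category.assoc, ← h1]
  · intro s
    apply BinaryFan.IsLimit.hom_ext hQ
    · change (_ ≫ m) ≫ q1 = s.snd ≫ q1
      rw [Category.assoc, hm1, hP.lift_fst]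
    · change (_ ≫ m) ≫ q2 = s.snd ≫ q2
      rw [Category.assoc, hm2, hP.lift_snd]
  · intro s l hl1 hl2
    apply hP.hom_ext
    · rw [hP.lift_fst, ← hm1, ← Category.assoc, hl2]
    · rw [hP.lift_snd, ← hm2, ← Category.assoc, hl2]

end General

open AlgSp

variable {S : Scheme.{u}}

/-- `h_{U × V}` is the product of `h_U` and `h_V`. -/
noncomputable def isLimitYonProd (U V : Over S) :
    IsLimit (BinaryFan.mk ((yon S).map (prod.fst : U ⨯ V ⟶ U)) ((yon S).map (prod.snd : U ⨯ V ⟶ V))) :=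
  isLimitOfHasBinaryProductOfPreservesLimit (yon S) U V

/-- The canonical map `h_{U × V} ⟶ X ⨯ X` attached to `a : h_U ⟶ X`, `b : h_V ⟶ X`. -/
noncomputable def prodMap {X : Sp S} {U V : Over S} (a : (yon S).obj U ⟶ X) (b : (yon S).obj V ⟶ X) :
    (yon S).obj (U ⨯ V) ⟶ X ⨯ X :=
  prod.lift ((yon S).map prod.fst ≫ a) ((yon S).map prod.snd ≫ b)

/-- Fibre products over `X` are base changes of the diagonal of `X`. -/
theorem isPullback_diag_yon {X : Sp S} {U V P : Over S} {a : (yon S).obj U ⟶ X}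
    {b : (yon S).obj V ⟶ X} {fst : P ⟶ U} {snd : P ⟶ V}
    (h : IsPullback ((yon S).map fst) ((yon S).map snd) a b) :
    IsPullback ((yon S).map fst ≫ a) ((yon S).map (prod.lift fst snd)) (Limits.diag X)
      (prodMap a b) :=
  isPullback_diag h (isLimitYonProd U V) _
    (by rw [← Functor.map_comp, Limits.prod.lift_fst])
    (by rw [← Functor.map_comp, Limits.prod.lift_snd]) _
    (Limits.prod.lift_fst _ _) (Limits.prod.lift_snd _ _)

theorem yon_diag_comp_prodMap {X : Sp S} {T : Over S} (g : (yon S).obj T ⟶ X ⨯ X) :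
    (yon S).map (Limits.diag T) ≫ prodMap (g ≫ prod.fst) (g ≫ prod.snd) = g := by
  apply Limits.prod.hom_ext
  · rw [Category.assoc]
    erw [Limits.prod.lift_fst]
    rw [← Category.assoc, ← Functor.map_comp, Limits.prod.lift_fst, CategoryTheory.Functor.map_id,
      Category.id_comp]
  · rw [Category.assoc]
    erw [Limits.prod.lift_snd]
    rw [← Category.assoc, ← Functor.map_comp, Limits.prod.lift_snd, CategoryTheory.Functor.map_id,
      Category.id_comp]

/-- The pullback of the diagonal of `X` along `g : h_T ⟶ X ⨯ X` is the pullback of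
`T ×_X T ⟶ T × T` along the diagonal of `T`. -/
theorem isPullback_diag_of_pullback {X : Sp S} {T P W : Over S} (g : (yon S).obj T ⟶ X ⨯ X)
    {p1 p2 : P ⟶ T}
    (hP : IsPullback ((yon S).map p1) ((yon S).map p2) (g ≫ prod.fst) (g ≫ prod.snd))
    {w1 : W ⟶ P} {w2 : W ⟶ T} (hW : IsPullback w1 w2 (prod.lift p1 p2) (Limits.diag T)) :
    IsPullback ((yon S).map w1 ≫ (yon S).map p1 ≫ g ≫ prod.fst) ((yon S).map w2) (Limits.diag X) g := by
  have h1 := hW.map (yon S)
  have h2 := isPullback_diag_yon hP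
  have h3 := h1.paste_horiz h2
  rwa [yon_diag_comp_prodMap] at h3

end Groth.Agent.Lib.Helper30.AlgSpDiag
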