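import Groth.Prelude.Def_GrLC

set_option autoImplicit false

open DirectSum

namespace Groth.Agent.Lib.Helper30

universe u

section

variable {ι : Type} [DecidableEq ι]
variable {R : Type u} [CommRing R]
variable {M : Type u} [AddCommGroup M] [Module R M] (ℳ : ι → AddSubgroup M) [DirectSum.Decomposition ℳ]
variable {N : Type u} [AddCommGroup N] [Module R N] (𝒩 : ι → AddSubgroup N) [DirectSum.Decomposition 𝒩]

theorem decompose_map_of_isGrHom (f : M →ₗ[R] N) (hf : GrLC.IsGrHom ℳ 𝒩 f) (m : M) (i : ι) :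
    f (decompose ℳ m i : M) = (decompose 𝒩 (f m) i : N) := by
  induction m using DirectSum.Decomposition.inductionOn ℳ with
  | zero => simp
  | @homogeneous j m =>
    by_cases hij : j = i
    · subst hij
      rw [decompose_of_mem_same ℳ m.2, decompose_of_mem_same 𝒩 (hf _ _ m.2)]
    · rw [decompose_of_mem_ne ℳ m.2 hij, decompose_of_mem_ne 𝒩 (hf _ _ m.2) hij, map_zero]
  | add m m' hm hm' =>
    rw [decompose_add, map_add, decompose_add]
    simp only [DirectSum.add_apply, AddSubgroup.coe_add, map_add, hm, hm']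

theorem ker_isHomogeneous (f : M →ₗ[R] N) (hf : GrLC.IsGrHom ℳ 𝒩 f) :
    (LinearMap.ker f).IsHomogeneous ℳ := by
  intro i m hm
  rw [LinearMap.mem_ker] at hm ⊢
  rw [decompose_map_of_isGrHom ℳ 𝒩 f hf, hm, decompose_zero]
  rfl

theorem range_isHomogeneous (f : M →ₗ[R] N) (hf : GrLC.IsGrHom ℳ 𝒩 f) :
    (LinearMap.range f).IsHomogeneous 𝒩 := by
  rintro i _ ⟨m, rfl⟩
  exact ⟨(decompose ℳ m i : M), decompose_map_of_isGrHom ℳ 𝒩 f hf m i⟩

end

end Groth.Agent.Lib.Helper30
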