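import Groth.Agent.Lib.Helper30.GradedGam

set_option autoImplicit false

open DirectSum

namespace Groth.Agent.Lib.Helper30

universe u

section

variable {ι : Type} [AddCommGroup ι] [DecidableEq ι]
variable {R : Type u} [CommRing R] (𝒜 : ι → AddSubgroup R) [GradedRing 𝒜]
variable {X : Type u} [AddCommGroup X] [Module R X] (𝒳 : ι → AddSubgroup X)
  [DirectSum.Decomposition 𝒳] [SetLike.GradedSMul 𝒜 𝒳]

omit [GradedRing 𝒜] [DecidableEq ι] [DirectSum.Decomposition 𝒳] in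
theorem smul_mem_piece {h g : ι} {s : R} (hs : s ∈ 𝒜 h) {x : X} (hx : x ∈ 𝒳 g) :
    s • x ∈ 𝒳 (h + g) := by
  have := SetLike.GradedSMul.smul_mem (A := 𝒜) (B := 𝒳) hs hx
  rwa [vadd_eq_add] at this

theorem decompose_smul_of_mem_right {g : ι} {x : X} (hx : x ∈ 𝒳 g) (r : R) (h : ι) :
    (decompose 𝒳 (r • x) (h + g) : X) = (decompose 𝒜 r h : R) • x := by
  induction r using DirectSum.Decomposition.inductionOn 𝒜 with
  | zero => simp
  | @homogeneous j s =>
    have hsm : (s : R) • x ∈ 𝒳 (j + g) := smul_mem_piece 𝒜 𝒳 s.2 hx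
    by_cases hjh : j = h
    · subst hjh
      rw [decompose_of_mem_same 𝒳 hsm, decompose_of_mem_same 𝒜 s.2]
    · have hne : j + g ≠ h + g := fun e => hjh (add_right_cancel e)
      rw [decompose_of_mem_ne 𝒳 hsm hne, decompose_of_mem_ne 𝒜 s.2 hjh, zero_smul]
  | add s s' hs hs' =>
    rw [add_smul, decompose_add, decompose_add]
    simp only [DirectSum.add_apply, AddSubgroup.coe_add, add_smul, hs, hs']

include 𝒜 in
theorem span_singleton_isHomogeneous {g : ι} {x : X} (hx : x ∈ 𝒳 g) :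
    (Submodule.span R {x}).IsHomogeneous 𝒳 := by
  intro i y hy
  obtain ⟨r, rfl⟩ := Submodule.mem_span_singleton.mp hy
  have hi : i = (i - g) + g := by abel
  rw [hi, decompose_smul_of_mem_right 𝒜 𝒳 hx]
  exact Submodule.smul_mem _ _ (Submodule.mem_span_singleton_self x)

omit [AddCommGroup ι] in
theorem exists_homogeneous_ne_zero_of_ne_bot (P : Submodule R X) (hP : P.IsHomogeneous 𝒳)
    (hne : P ≠ ⊥) : ∃ g x, x ∈ 𝒳 g ∧ x ∈ P ∧ x ≠ 0 := by
  classical
  obtain ⟨y, hyP, hy0⟩ := Submodule.exists_mem_ne_zero_of_ne_bot hne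
  by_contra hcon
  push Not at hcon
  apply hy0
  rw [← sum_support_decompose 𝒳 y]
  apply Finset.sum_eq_zero
  intro g _
  exact hcon g _ (decompose 𝒳 y g).2 (hP g hyP)

/-- Elementwise form of a relative graded-essential extension inside an ambient graded module. -/
def IsStarEssIn (A B : Submodule R X) : Prop :=
  ∀ g x, x ∈ 𝒳 g → x ∈ B → x ≠ 0 → ∃ r : R, r • x ∈ A ∧ r • x ≠ 0

include 𝒜 in
theorem isStarEssIn_iff (A : Submodule R X) :
    (∀ P : Submodule R X, P.IsHomogeneous 𝒳 → P ≠ ⊥ → P ⊓ A ≠ ⊥) ↔ IsStarEssIn 𝒳 A ⊤ := by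
  constructor
  · intro h g x hx _ hx0
    have hne : Submodule.span R {x} ≠ ⊥ := by
      rw [Ne, Submodule.span_singleton_eq_bot]
      exact hx0
    obtain ⟨y, hy, hy0⟩ := Submodule.exists_mem_ne_zero_of_ne_bot
      (h _ (span_singleton_isHomogeneous 𝒜 𝒳 hx) hne)
    obtain ⟨r, rfl⟩ := Submodule.mem_span_singleton.mp hy.1
    exact ⟨r, hy.2, hy0⟩
  · intro h P hP hne
    obtain ⟨g, x, hxg, hxP, hx0⟩ := exists_homogeneous_ne_zero_of_ne_bot 𝒳 P hP hne
    obtain ⟨r, hrA, hr0⟩ := h g x hxg trivial hx0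
    intro hbot
    apply hr0
    have : r • x ∈ P ⊓ A := ⟨P.smul_mem r hxP, hrA⟩
    rw [hbot] at this
    exact this

theorem exists_homogeneous_smul_mem_of_mem_piece (A B : Submodule R X) (hA : A.IsHomogeneous 𝒳)
    (hess : IsStarEssIn 𝒳 A B) {g : ι} {x : X} (hx : x ∈ 𝒳 g) (hxB : x ∈ B) (hx0 : x ≠ 0) :
    ∃ (h : ι) (a : R), a ∈ 𝒜 h ∧ a • x ∈ A ∧ a • x ≠ 0 := by
  classical
  obtain ⟨r, hrA, hr0⟩ := hess g x hx hxB hx0
  by_contra hcon
  push Not at hcon
  apply hr0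
  rw [← sum_support_decompose 𝒜 r, Finset.sum_smul]
  apply Finset.sum_eq_zero
  intro h _
  apply hcon h _ (decompose 𝒜 r h).2
  rw [← decompose_smul_of_mem_right 𝒜 𝒳 hx]
  exact hA _ hrA

theorem exists_homogeneous_smul_mem_aux (A B : Submodule R X) (hA : A.IsHomogeneous 𝒳)
    (hB : B.IsHomogeneous 𝒳) (hess : IsStarEssIn 𝒳 A B) (n : ℕ) :
    ∀ (s : Finset ι), s.card ≤ n → ∀ x : X, x ∈ B → (∀ i, i ∉ s → (decompose 𝒳 x i : X) = 0) →
      x ≠ 0 → ∃ (h : ι) (c : R), c ∈ 𝒜 h ∧ c • x ∈ A ∧ c • x ≠ 0 := by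
  classical
  induction n with
  | zero =>
    intro s hs x _ hsupp hx0
    exfalso
    apply hx0
    have hs' : s = ∅ := Finset.card_eq_zero.mp (Nat.le_zero.mp hs)
    rw [← sum_support_decompose 𝒳 x]
    apply Finset.sum_eq_zero
    intro i _
    apply hsupp
    rw [hs']
    exact Finset.notMem_empty i
  | succ n ih =>
    intro s hs x hxB hsupp hx0
    have hex : ∃ g₁, (decompose 𝒳 x g₁ : X) ≠ 0 := by
      by_contra hcon
      push Not at hcon
      apply hx0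
      rw [← sum_support_decompose 𝒳 x]
      exact Finset.sum_eq_zero (fun i _ => hcon i)
    obtain ⟨g₁, hg₁⟩ := hex
    have hg₁s : g₁ ∈ s := by
      by_contra hns
      exact hg₁ (hsupp g₁ hns)
    set x₁ : X := (decompose 𝒳 x g₁ : X) with hx₁
    have hx₁mem : x₁ ∈ 𝒳 g₁ := (decompose 𝒳 x g₁).2
    have hx₁B : x₁ ∈ B := hB g₁ hxB
    obtain ⟨h, a, hah, haA, ha0⟩ :=
      exists_homogeneous_smul_mem_of_mem_piece 𝒜 𝒳 A B hA hess hx₁mem hx₁B hg₁
    set y : X := a • (x - x₁) with hy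
    have hyB : y ∈ B := B.smul_mem a (B.sub_mem hxB hx₁B)
    have hdiff : ∀ i, i ∉ s.erase g₁ → (decompose 𝒳 (x - x₁) i : X) = 0 := by
      intro i hi
      rw [decompose_sub, DirectSum.sub_apply, AddSubgroup.coe_sub]
      by_cases hig : i = g₁
      · subst hig
        rw [decompose_of_mem_same 𝒳 hx₁mem, sub_self]
      · have his : i ∉ s := fun his => hi (Finset.mem_erase.mpr ⟨hig, his⟩)
        rw [hsupp i his, decompose_of_mem_ne 𝒳 hx₁mem (Ne.symm hig), sub_zero]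
    have hysupp : ∀ i, i ∉ (s.erase g₁).image (fun k => h + k) → (decompose 𝒳 y i : X) = 0 := by
      intro i hi
      have hi' : i = h + (i - h) := by abel
      rw [hi', hy, decompose_smul_of_mem 𝒜 𝒳 hah]
      rw [hdiff, smul_zero]
      intro hmem
      apply hi
      rw [Finset.mem_image]
      exact ⟨i - h, hmem, hi'.symm⟩
    have hcard : ((s.erase g₁).image (fun k => h + k)).card ≤ n := by
      refine le_trans Finset.card_image_le ?_
      rw [Finset.card_erase_of_mem hg₁s]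
      omega
    have hax : a • x = a • x₁ + y := by
      rw [hy, smul_sub]
      abel
    by_cases hy0 : y = 0
    · refine ⟨h, a, hah, ?_, ?_⟩
      · rw [hax, hy0, add_zero]
        exact haA
      · rw [hax, hy0, add_zero]
        exact ha0
    · obtain ⟨h', b, hbh, hbA, hb0⟩ := ih _ hcard y hyB hysupp hy0
      refine ⟨h' + h, b * a, ?_, ?_, ?_⟩
      · exact SetLike.GradedMul.mul_mem hbh hah
      · rw [mul_smul, hax, smul_add]
        exact A.add_mem (A.smul_mem b haA) hbA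
      · intro hzero
        apply hb0
        rw [mul_smul, hax, smul_add] at hzero
        have hby : b • y = -(b • a • x₁) := by
          rw [eq_neg_iff_add_eq_zero, add_comm]
          exact hzero
        have hmem : b • y ∈ 𝒳 (h' + (h + g₁)) := by
          rw [hby]
          exact neg_mem (smul_mem_piece 𝒜 𝒳 hbh (smul_mem_piece 𝒜 𝒳 hah hx₁mem))
        rw [← decompose_of_mem_same 𝒳 hmem, decompose_smul_of_mem 𝒜 𝒳 hbh, hy,
          decompose_smul_of_mem 𝒜 𝒳 hah, hdiff g₁ (Finset.notMem_erase g₁ s), smul_zero, smul_zero]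

theorem exists_homogeneous_smul_mem (A B : Submodule R X) (hA : A.IsHomogeneous 𝒳)
    (hB : B.IsHomogeneous 𝒳) (hess : IsStarEssIn 𝒳 A B) (x : X) (hxB : x ∈ B) (hx0 : x ≠ 0) :
    ∃ (h : ι) (c : R), c ∈ 𝒜 h ∧ c • x ∈ A ∧ c • x ≠ 0 := by
  classical
  refine exists_homogeneous_smul_mem_aux 𝒜 𝒳 A B hA hB hess _ (DFinsupp.support (decompose 𝒳 x))
    le_rfl x hxB ?_ hx0
  intro i hi
  rw [DFinsupp.notMem_support_iff] at hi
  rw [hi]
  rfl

omit [AddCommGroup ι] in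
theorem top_isHomogeneous : (⊤ : Submodule R X).IsHomogeneous 𝒳 := fun _ _ _ => trivial

include 𝒜 in
theorem inf_ne_bot_of_isStarEssIn (A : Submodule R X) (hA : A.IsHomogeneous 𝒳)
    (hess : IsStarEssIn 𝒳 A ⊤) (U : Submodule R X) (hU : U ≠ ⊥) : U ⊓ A ≠ ⊥ := by
  obtain ⟨x, hxU, hx0⟩ := Submodule.exists_mem_ne_zero_of_ne_bot hU
  obtain ⟨h, c, _, hcA, hc0⟩ := exists_homogeneous_smul_mem 𝒜 𝒳 A ⊤ hA
    (top_isHomogeneous 𝒳) hess x trivial hx0
  intro hbot
  apply hc0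
  have : c • x ∈ U ⊓ A := ⟨U.smul_mem c hxU, hcA⟩
  rw [hbot] at this
  exact this

include 𝒜 in
theorem IsStarEssIn.trans {A B C : Submodule R X}
    (hB : B.IsHomogeneous 𝒳) (hAB : IsStarEssIn 𝒳 A B) (hBC : IsStarEssIn 𝒳 B C) :
    IsStarEssIn 𝒳 A C := by
  intro g x hx hxC hx0
  obtain ⟨h, a, hah, haB, ha0⟩ :=
    exists_homogeneous_smul_mem_of_mem_piece 𝒜 𝒳 B C hB hBC hx hxC hx0
  obtain ⟨r, hrA, hr0⟩ := hAB (h + g) (a • x) (smul_mem_piece 𝒜 𝒳 hah hx) haB ha0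
  refine ⟨r * a, ?_, ?_⟩
  · rw [mul_smul]
    exact hrA
  · rw [mul_smul]
    exact hr0

end

end Groth.Agent.Lib.Helper30
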