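import Groth.Agent.Lib.Helper30.GradedInj

set_option autoImplicit false

open DirectSum

namespace Groth.Agent.Lib.Helper30

universe u

section Deg

variable {ι : Type} [AddCommGroup ι] [DecidableEq ι]
variable {R : Type u} [CommRing R]
variable {M : Type u} [AddCommGroup M] [Module R M] (ℳ : ι → AddSubgroup M) [DirectSum.Decomposition ℳ]
variable {N : Type u} [AddCommGroup N] [Module R N] (𝒩 : ι → AddSubgroup N) [DirectSum.Decomposition 𝒩]

theorem decompose_map_of_isGrHomDeg (f : M →ₗ[R] N) (d : ι) (hf : GrLC.IsGrHomDeg ℳ 𝒩 f d) (m : M)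
    (i : ι) : f (decompose ℳ m i : M) = (decompose 𝒩 (f m) (i + d) : N) := by
  induction m using DirectSum.Decomposition.inductionOn ℳ with
  | zero => simp
  | @homogeneous j m =>
    by_cases hij : j = i
    · subst hij
      rw [decompose_of_mem_same ℳ m.2, decompose_of_mem_same 𝒩 (hf _ _ m.2)]
    · have hne : j + d ≠ i + d := fun e => hij (add_right_cancel e)
      rw [decompose_of_mem_ne ℳ m.2 hij, decompose_of_mem_ne 𝒩 (hf _ _ m.2) hne, map_zero]
  | add m m' hm hm' =>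
    rw [decompose_add, map_add, decompose_add]
    simp only [DirectSum.add_apply, AddSubgroup.coe_add, map_add, hm, hm']

theorem ker_isHomogeneous_of_isGrHomDeg (f : M →ₗ[R] N) (d : ι) (hf : GrLC.IsGrHomDeg ℳ 𝒩 f d) :
    (LinearMap.ker f).IsHomogeneous ℳ := by
  intro i m hm
  rw [LinearMap.mem_ker] at hm ⊢
  rw [decompose_map_of_isGrHomDeg ℳ 𝒩 f d hf, hm, decompose_zero]
  rfl

theorem range_isHomogeneous_of_isGrHomDeg (f : M →ₗ[R] N) (d : ι)
    (hf : GrLC.IsGrHomDeg ℳ 𝒩 f d) : (LinearMap.range f).IsHomogeneous 𝒩 := by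
  rintro i _ ⟨m, rfl⟩
  refine ⟨(decompose ℳ m (i - d) : M), ?_⟩
  rw [decompose_map_of_isGrHomDeg ℳ 𝒩 f d hf, sub_add_cancel]

end Deg

section Smul

variable {ι : Type} [AddCommGroup ι] [DecidableEq ι]
variable {R : Type u} [CommRing R] (𝒜 : ι → AddSubgroup R) [GradedRing 𝒜]
variable {E : Type u} [AddCommGroup E] [Module R E] (𝓔 : ι → AddSubgroup E)
  [DirectSum.Decomposition 𝓔] [SetLike.GradedSMul 𝒜 𝓔]

omit [GradedRing 𝒜] [DecidableEq ι] [DirectSum.Decomposition 𝓔] in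
theorem lsmul_isGrHomDeg {g : ι} {r : R} (hr : r ∈ 𝒜 g) :
    GrLC.IsGrHomDeg 𝓔 𝓔 (LinearMap.lsmul R E r) g := by
  intro k x hx
  rw [add_comm]
  exact smul_mem_piece 𝒜 𝓔 hr hx

/-- The graded module with pieces shifted by `g`. -/
noncomputable def gmodShift (g : ι) : GrLC.GMod.{u} 𝒜 :=
  gmodReindex 𝒜 𝓔 (Equiv.addRight g) (fun h k => by
    change h + k + g = h + (k + g)
    rw [add_assoc])

theorem smul_surjective_of_isStarInj_of_isStarIndec (hE : GrLC.IsStarInj 𝒜 𝓔)
    (hind : GrLC.IsStarIndec R 𝓔) {g : ι} {r : R} (hr : r ∈ 𝒜 g)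
    (hinj : Function.Injective (fun x : E => r • x)) :
    Function.Surjective (fun x : E => r • x) := by
  let f : E →ₗ[R] E := LinearMap.lsmul R E r
  have hfgr : GrLC.IsGrHom (GrLC.GMod.of 𝒜 E 𝓔).gr (gmodShift 𝒜 𝓔 g).gr f := by
    intro k x hx
    exact lsmul_isGrHomDeg 𝒜 𝓔 hr k x hx
  obtain ⟨h, hhgr, hh⟩ := hE (GrLC.GMod.of 𝒜 E 𝓔) (gmodShift 𝒜 𝓔 g) f hfgr hinj LinearMap.id
    (fun _ _ hm => hm)
  change E →ₗ[R] E at h
  have hh' : ∀ x, h (r • x) = x := fun x => LinearMap.congr_fun hh x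
  have hhdeg : GrLC.IsGrHomDeg 𝓔 𝓔 h (-g) := by
    intro k x hx
    have hx' : x ∈ (gmodShift 𝒜 𝓔 g).gr (k + -g) := by
      change x ∈ 𝓔 (k + -g + g)
      rw [neg_add_cancel_right]
      exact hx
    exact hhgr (k + -g) x hx'
  have hP : (LinearMap.range f).IsHomogeneous 𝓔 :=
    range_isHomogeneous_of_isGrHomDeg 𝓔 𝓔 f g (lsmul_isGrHomDeg 𝒜 𝓔 hr)
  have hQ : (LinearMap.ker h).IsHomogeneous 𝓔 :=
    ker_isHomogeneous_of_isGrHomDeg 𝓔 𝓔 h (-g) hhdeg
  have hcompl : IsCompl (LinearMap.range f) (LinearMap.ker h) := by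
    constructor
    · rw [Submodule.disjoint_def]
      rintro y ⟨x, rfl⟩ hy
      rw [LinearMap.mem_ker] at hy
      have : x = 0 := by
        rw [← hh' x]
        exact hy
      rw [this, map_zero]
    · rw [codisjoint_iff, eq_top_iff]
      intro y _
      have h1 : y = f (h y) + (y - f (h y)) := by abel
      rw [h1]
      refine Submodule.add_mem_sup ⟨h y, rfl⟩ ?_
      rw [LinearMap.mem_ker, map_sub]
      have : h (f (h y)) = h y := hh' (h y)
      rw [this, sub_self]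
  obtain ⟨hnontriv, hsplit⟩ := hind
  rcases hsplit _ _ hP hQ hcompl with h0 | h0
  · exfalso
    obtain ⟨x, hx0⟩ := exists_ne (0 : E)
    have : f x ∈ LinearMap.range f := ⟨x, rfl⟩
    rw [h0, Submodule.mem_bot] at this
    apply hx0
    apply hinj
    change r • x = r • (0 : E)
    rw [smul_zero]
    exact this
  · have hhinj : Function.Injective h := LinearMap.ker_eq_bot.mp h0
    intro y
    refine ⟨h y, hhinj ?_⟩
    exact hh' (h y)

end Smul

end Groth.Agent.Lib.Helper30
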