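import Groth.Agent.Lib.Helper30.GradedEss
import Mathlib.RingTheory.Ideal.Quotient.Basic
import Mathlib.RingTheory.Noetherian.Defs
import Mathlib.RingTheory.Finiteness.Ideal

set_option autoImplicit false

open DirectSum

namespace Groth.Agent.Lib.Helper30

universe u

section

variable {ι : Type} [DecidableEq ι]
variable {R : Type u} [CommRing R]
variable {M : Type u} [AddCommGroup M] [Module R M] (ℳ : ι → AddSubgroup M)
variable {N : Type u} [AddCommGroup N] [Module R N] (𝒩 : ι → AddSubgroup N) [DirectSum.Decomposition 𝒩]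

/-- Range of a homogeneous map out of a bare family of pieces that spans the source. -/
theorem range_isHomogeneous_of_iSup_eq_top (hspan : ⨆ i, ℳ i = ⊤) (f : M →ₗ[R] N)
    (hf : GrLC.IsGrHom ℳ 𝒩 f) : (LinearMap.range f).IsHomogeneous 𝒩 := by
  rintro i _ ⟨m, rfl⟩
  have hm : m ∈ ⨆ i, ℳ i := by rw [hspan]; trivial
  induction hm using AddSubgroup.iSup_induction' with
  | hp j x hx =>
    by_cases hji : j = i
    · subst hji
      rw [decompose_of_mem_same 𝒩 (hf _ _ hx)]
      exact ⟨x, rfl⟩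
    · rw [decompose_of_mem_ne 𝒩 (hf _ _ hx) hji]
      exact Submodule.zero_mem _
  | h1 =>
    rw [map_zero, decompose_zero]
    exact Submodule.zero_mem _
  | hadd x y _ _ hx hy =>
    rw [map_add, decompose_add, DirectSum.add_apply, AddSubgroup.coe_add]
    exact Submodule.add_mem _ hx hy

end

section

variable {ι : Type} [AddCommGroup ι] [DecidableEq ι]
variable {R : Type u} [CommRing R] (𝒜 : ι → AddSubgroup R) [GradedRing 𝒜]

theorem iSup_quotGr_eq_top (p : HomogeneousIdeal 𝒜) : ⨆ i, GrLC.quotGr 𝒜 p i = ⊤ := by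
  classical
  rw [eq_top_iff]
  intro x _
  obtain ⟨r, rfl⟩ := Ideal.Quotient.mk_surjective x
  rw [← sum_support_decompose 𝒜 r, map_sum]
  apply sum_mem
  intro i _
  apply AddSubgroup.mem_iSup_of_mem i
  exact ⟨_, (decompose 𝒜 r i).2, rfl⟩

variable {E : Type u} [AddCommGroup E] [Module R E] (𝓔 : ι → AddSubgroup E)
  [DirectSum.Decomposition 𝓔] [SetLike.GradedSMul 𝒜 𝓔]

omit [SetLike.GradedSMul 𝒜 𝓔] in
theorem range_isHomogeneous_quot (p : HomogeneousIdeal 𝒜) (e : (R ⧸ p.toIdeal) →ₗ[R] E)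
    (he : GrLC.IsGrHom (GrLC.quotGr 𝒜 p) 𝓔 e) : (LinearMap.range e).IsHomogeneous 𝓔 :=
  range_isHomogeneous_of_iSup_eq_top (GrLC.quotGr 𝒜 p) 𝓔 (iSup_quotGr_eq_top 𝒜 p) e he

/-- A graded-essential map out of `R ⧸ p` is essential. -/
theorem inf_range_ne_bot_of_isStarEss_quot (p : HomogeneousIdeal 𝒜) (e : (R ⧸ p.toIdeal) →ₗ[R] E)
    (he : GrLC.IsStarEss (GrLC.quotGr 𝒜 p) 𝓔 e) (U : Submodule R E) (hU : U ≠ ⊥) :
    U ⊓ LinearMap.range e ≠ ⊥ :=
  inf_ne_bot_of_isStarEssIn 𝒜 𝓔 _ (range_isHomogeneous_quot 𝒜 𝓔 p e he.grHom)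
    ((isStarEssIn_iff 𝒜 𝓔 _).mp he.essential) U hU

omit [AddCommGroup ι] [DecidableEq ι] in
theorem smul_range_quot_eq_zero (p : Ideal R) (e : (R ⧸ p) →ₗ[R] E) {a : R}
    (ha : a ∈ p) {y : E} (hy : y ∈ LinearMap.range e) : a • y = 0 := by
  obtain ⟨z, rfl⟩ := hy
  obtain ⟨s, rfl⟩ := Ideal.Quotient.mk_surjective z
  rw [← map_smul]
  have : a • (Ideal.Quotient.mk p s) = 0 := by
    change Ideal.Quotient.mk p (a * s) = 0
    rw [Ideal.Quotient.eq_zero_iff_mem]
    exact p.mul_mem_right s ha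
  rw [this, map_zero]

/-- Elements of `p` act locally nilpotently on an essential extension of `R ⧸ p`. -/
theorem exists_pow_smul_eq_zero_of_essential [IsNoetherianRing R] (p : Ideal R)
    (e : (R ⧸ p) →ₗ[R] E)
    (hess : ∀ U : Submodule R E, U ≠ ⊥ → U ⊓ LinearMap.range e ≠ ⊥) {a : R} (ha : a ∈ p) (x : E) :
    ∃ n : ℕ, a ^ n • x = 0 := by
  let K : ℕ →o Submodule R R :=
    { toFun := fun n => LinearMap.ker (LinearMap.toSpanSingleton R E (a ^ n • x))
      monotone' := by
        intro n m hnm r hr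
        rw [LinearMap.mem_ker, LinearMap.toSpanSingleton_apply] at hr ⊢
        obtain ⟨k, rfl⟩ := Nat.exists_eq_add_of_le hnm
        rw [pow_add, mul_comm, mul_smul, smul_comm, hr, smul_zero] }
  obtain ⟨n, hn⟩ := monotone_stabilizes_iff_noetherian.mpr (inferInstance : IsNoetherian R R) K
  refine ⟨n, ?_⟩
  by_contra hne
  have hU : Submodule.span R {a ^ n • x} ≠ ⊥ := by
    rw [Ne, Submodule.span_singleton_eq_bot]
    exact hne
  obtain ⟨y, hy, hy0⟩ := Submodule.exists_mem_ne_zero_of_ne_bot (hess _ hU)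
  obtain ⟨r, rfl⟩ := Submodule.mem_span_singleton.mp hy.1
  apply hy0
  have h1 : a • (r • a ^ n • x) = 0 := smul_range_quot_eq_zero p e ha hy.2
  have h2 : r ∈ K (n + 1) := by
    change r ∈ LinearMap.ker (LinearMap.toSpanSingleton R E (a ^ (n + 1) • x))
    rw [LinearMap.mem_ker, LinearMap.toSpanSingleton_apply, pow_succ, mul_comm, mul_smul,
      smul_comm]
    exact h1
  rw [← hn (n + 1) (Nat.le_succ n)] at h2
  change r ∈ LinearMap.ker (LinearMap.toSpanSingleton R E (a ^ n • x)) at h2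
  rw [LinearMap.mem_ker, LinearMap.toSpanSingleton_apply] at h2
  exact h2

theorem gam_eq_top_of_essential [IsNoetherianRing R] (p : Ideal R)
    (e : (R ⧸ p) →ₗ[R] E)
    (hess : ∀ U : Submodule R E, U ≠ ⊥ → U ⊓ LinearMap.range e ≠ ⊥) :
    GrLC.gam p E = ⊤ := by
  rw [eq_top_iff]
  intro x _
  let J : Ideal R := LinearMap.ker (LinearMap.toSpanSingleton R E x)
  have hle : p ≤ J.radical := by
    intro a ha
    obtain ⟨n, hn⟩ := exists_pow_smul_eq_zero_of_essential p e hess ha x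
    refine ⟨n, ?_⟩
    change a ^ n ∈ LinearMap.ker (LinearMap.toSpanSingleton R E x)
    rw [LinearMap.mem_ker, LinearMap.toSpanSingleton_apply]
    exact hn
  obtain ⟨n, hn⟩ := Ideal.exists_pow_le_of_le_radical_of_fg hle (IsNoetherian.noetherian p)
  refine ⟨n, fun r hr => ?_⟩
  have := hn hr
  change r ∈ LinearMap.ker (LinearMap.toSpanSingleton R E x) at this
  rw [LinearMap.mem_ker, LinearMap.toSpanSingleton_apply] at this
  exact this

omit [AddCommGroup ι] [DecidableEq ι] in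
theorem smul_injective_of_notMem_of_essential (p : Ideal R) [p.IsPrime] (e : (R ⧸ p) →ₗ[R] E)
    (hinj : Function.Injective e)
    (hess : ∀ U : Submodule R E, U ≠ ⊥ → U ⊓ LinearMap.range e ≠ ⊥) {a : R} (ha : a ∉ p) :
    Function.Injective (fun x : E => a • x) := by
  have hker : LinearMap.ker (LinearMap.lsmul R E a) = ⊥ := by
    by_contra hne
    apply hess _ hne
    rw [eq_bot_iff]
    rintro y ⟨hy1, ⟨z, rfl⟩⟩
    obtain ⟨s, rfl⟩ := Ideal.Quotient.mk_surjective z
    rw [SetLike.mem_coe, LinearMap.mem_ker, LinearMap.lsmul_apply, ← map_smul] at hy1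
    have h0 : a • (Ideal.Quotient.mk p s) = 0 := hinj (by rw [hy1, map_zero])
    change Ideal.Quotient.mk p (a * s) = 0 at h0
    rw [Ideal.Quotient.eq_zero_iff_mem] at h0
    have hs : s ∈ p := (Ideal.IsPrime.mem_or_mem inferInstance h0).resolve_left ha
    have : Ideal.Quotient.mk p s = 0 := Ideal.Quotient.eq_zero_iff_mem.mpr hs
    rw [this, map_zero]
    exact Submodule.zero_mem _
  intro x y hxy
  have : x - y ∈ LinearMap.ker (LinearMap.lsmul R E a) := by
    rw [LinearMap.mem_ker, LinearMap.lsmul_apply, smul_sub]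
    exact sub_eq_zero.mpr hxy
  rw [hker, Submodule.mem_bot] at this
  exact sub_eq_zero.mp this

omit [AddCommGroup ι] [DecidableEq ι] in
theorem mem_iff_not_smul_injective_of_essential (p : Ideal R) [p.IsPrime] (e : (R ⧸ p) →ₗ[R] E)
    (hinj : Function.Injective e)
    (hess : ∀ U : Submodule R E, U ≠ ⊥ → U ⊓ LinearMap.range e ≠ ⊥) (a : R) :
    a ∈ p ↔ ¬ Function.Injective (fun x : E => a • x) := by
  constructor
  · intro ha hcon
    have h1 : a • e (Ideal.Quotient.mk p 1) = 0 :=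
      smul_range_quot_eq_zero p e ha ⟨_, rfl⟩
    have h2 : e (Ideal.Quotient.mk p 1) = 0 := hcon (by
      change a • e (Ideal.Quotient.mk p 1) = a • (0 : E)
      rw [h1, smul_zero])
    have h3 : Ideal.Quotient.mk p 1 = 0 := hinj (by rw [h2, map_zero])
    rw [Ideal.Quotient.eq_zero_iff_mem] at h3
    exact (Ideal.IsPrime.ne_top inferInstance) ((Ideal.eq_top_iff_one p).mpr h3)
  · intro h
    by_contra ha
    exact h (smul_injective_of_notMem_of_essential p e hinj hess ha)

end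

end Groth.Agent.Lib.Helper30
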