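import Groth.Agent.Lib.Helper30.GradedEss

set_option autoImplicit false

open DirectSum

namespace Groth.Agent.Lib.Helper30

universe u

section Internal

variable {ι : Type} [DecidableEq ι]
variable {R : Type*} [CommRing R]
variable {X : Type*} [AddCommGroup X] [Module R X] (𝒳 : ι → AddSubgroup X)
  [DirectSum.Decomposition 𝒳]

theorem bot_isHomogeneous' : (⊥ : Submodule R X).IsHomogeneous 𝒳 := by
  intro i m hm
  rw [Submodule.mem_bot] at hm
  rw [hm, decompose_zero]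
  exact Submodule.zero_mem _

theorem isInternal_of_subquotient (Z B : Submodule R X) (hZ : Z.IsHomogeneous 𝒳)
    (hB : B.IsHomogeneous 𝒳) {Y : Type*} [AddCommGroup Y] (π : ↥Z →+ Y)
    (hπ : Function.Surjective π) (hker : ∀ z : ↥Z, π z = 0 ↔ (z : X) ∈ B) (σ : ι ≃ ι)
    (A : ι → AddSubgroup Y)
    (hA : ∀ g y, y ∈ A g ↔ ∃ z : ↥Z, (z : X) ∈ 𝒳 (σ g) ∧ π z = y) :
    DirectSum.IsInternal A := by
  classical
  constructor
  · rw [injective_iff_map_eq_zero]
    intro x hx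
    have hrep : ∀ g, ∃ z : ↥Z, (z : X) ∈ 𝒳 (σ g) ∧ π z = (x g : _) :=
      fun g => (hA g _).mp (x g).2
    choose ζ hζ1 hζ2 using hrep
    have hsum : DirectSum.coeAddMonoidHom A x = π (∑ g ∈ DFinsupp.support x, ζ g) := by
      rw [DirectSum.coeAddMonoidHom_eq_dfinsuppSum, DFinsupp.sum, map_sum]
      exact Finset.sum_congr rfl (fun g _ => (hζ2 g).symm)
    rw [hsum, hker] at hx
    have hs : ((∑ g ∈ DFinsupp.support x, ζ g : ↥Z) : X) =
        ∑ g ∈ DFinsupp.support x, (ζ g : X) := by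
      rw [← Submodule.subtype_apply, map_sum]
      rfl
    rw [hs] at hx
    ext h
    by_cases hh : h ∈ DFinsupp.support x
    · have hcomp := hB (σ h) hx
      have hdec : (decompose 𝒳 (∑ g ∈ DFinsupp.support x, (ζ g : X)) (σ h) : X) = (ζ h : X) := by
        rw [decompose_sum, DFinsupp.finsetSum_apply, AddSubmonoidClass.coe_finsetSum]
        rw [Finset.sum_eq_single h]
        · exact decompose_of_mem_same 𝒳 (hζ1 h)
        · intro g _ hgh
          exact decompose_of_mem_ne 𝒳 (hζ1 g) (fun e => hgh (σ.injective e))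
        · intro hh'
          exact absurd hh hh'
      rw [hdec] at hcomp
      have : π (ζ h) = 0 := (hker _).mpr hcomp
      rw [hζ2 h] at this
      simpa using this
    · rw [DFinsupp.notMem_support_iff] at hh
      rw [hh]
      rfl
  · intro y
    obtain ⟨z, rfl⟩ := hπ y
    let zc : ι → ↥Z := fun g => ⟨(decompose 𝒳 (z : X) g : X), hZ g z.2⟩
    have hzc : ∀ k, π (zc k) ∈ A (σ.symm k) := fun k =>
      (hA _ _).mpr ⟨zc k, by rw [Equiv.apply_symm_apply]; exact (decompose 𝒳 (z : X) k).2, rfl⟩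
    refine ⟨∑ k ∈ DFinsupp.support (decompose 𝒳 (z : X)),
      DirectSum.of (fun g => A g) (σ.symm k) ⟨_, hzc k⟩, ?_⟩
    rw [map_sum]
    simp only [DirectSum.coeAddMonoidHom_of]
    rw [← map_sum]
    congr 1
    apply Subtype.ext
    rw [AddSubmonoidClass.coe_finsetSum]
    exact sum_support_decompose 𝒳 (z : X)

/-- Pieces induced on a submodule. -/
def subGr (P : Submodule R X) : ι → AddSubgroup ↥P :=
  fun g => (𝒳 g).comap P.subtype.toAddMonoidHom

/-- Pieces induced on a quotient. -/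
def quotGrMod (B : Submodule R X) : ι → AddSubgroup (X ⧸ B) :=
  fun g => (𝒳 g).map B.mkQ.toAddMonoidHom

omit [DirectSum.Decomposition 𝒳] [DecidableEq ι] in
theorem mem_subGr (P : Submodule R X) (g : ι) (y : ↥P) : y ∈ subGr 𝒳 P g ↔ (y : X) ∈ 𝒳 g :=
  Iff.rfl

omit [DirectSum.Decomposition 𝒳] [DecidableEq ι] in
theorem mem_quotGrMod (B : Submodule R X) (g : ι) (y : X ⧸ B) :
    y ∈ quotGrMod 𝒳 B g ↔ ∃ x ∈ 𝒳 g, B.mkQ x = y := Iff.rfl

theorem isInternal_subGr (P : Submodule R X) (hP : P.IsHomogeneous 𝒳) :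
    DirectSum.IsInternal (subGr 𝒳 P) := by
  refine isInternal_of_subquotient 𝒳 P ⊥ hP (bot_isHomogeneous' 𝒳) (AddMonoidHom.id _)
    Function.surjective_id ?_ (Equiv.refl ι) _ ?_
  · intro z
    rw [Submodule.mem_bot]
    exact (Submodule.coe_eq_zero).symm
  · intro g y
    constructor
    · intro hy
      exact ⟨y, hy, rfl⟩
    · rintro ⟨z, hz, rfl⟩
      exact hz

omit [Module R X] in
theorem isInternal_reindex (σ : ι ≃ ι) : DirectSum.IsInternal (fun g => 𝒳 (σ g)) := by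
  refine isInternal_of_subquotient (R := ℤ) 𝒳 ⊤ ⊥ (fun _ _ _ => trivial) (bot_isHomogeneous' 𝒳)
    (⊤ : Submodule ℤ X).subtype.toAddMonoidHom ?_ ?_ σ _ ?_
  · intro y
    exact ⟨⟨y, trivial⟩, rfl⟩
  · intro z
    rw [Submodule.mem_bot]
    rfl
  · intro g y
    constructor
    · intro hy
      exact ⟨⟨y, trivial⟩, hy, rfl⟩
    · rintro ⟨z, hz, rfl⟩
      exact hz

theorem isInternal_quotGrMod_reindex (B : Submodule R X) (hB : B.IsHomogeneous 𝒳) (σ : ι ≃ ι) :
    DirectSum.IsInternal (fun g => quotGrMod 𝒳 B (σ g)) := by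
  refine isInternal_of_subquotient 𝒳 ⊤ B (fun _ _ _ => trivial) hB
    (B.mkQ.comp (⊤ : Submodule R X).subtype).toAddMonoidHom ?_ ?_ σ _ ?_
  · intro y
    obtain ⟨x, rfl⟩ := B.mkQ_surjective y
    exact ⟨⟨x, trivial⟩, rfl⟩
  · intro z
    change B.mkQ (z : X) = 0 ↔ _
    rw [Submodule.mkQ_apply, Submodule.Quotient.mk_eq_zero]
  · intro g y
    constructor
    · rintro ⟨x, hx, rfl⟩
      exact ⟨⟨x, trivial⟩, hx, rfl⟩
    · rintro ⟨z, hz, rfl⟩
      exact ⟨(z : X), hz, rfl⟩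

theorem isInternal_quotGrMod (B : Submodule R X) (hB : B.IsHomogeneous 𝒳) :
    DirectSum.IsInternal (quotGrMod 𝒳 B) :=
  isInternal_quotGrMod_reindex 𝒳 B hB (Equiv.refl ι)

end Internal

section GModConstr

variable {ι : Type} [AddCommGroup ι] [DecidableEq ι]
variable {R : Type u} [CommRing R] (𝒜 : ι → AddSubgroup R) [GradedRing 𝒜]
variable {X : Type u} [AddCommGroup X] [Module R X] (𝒳 : ι → AddSubgroup X)
  [DirectSum.Decomposition 𝒳] [SetLike.GradedSMul 𝒜 𝒳]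

omit [GradedRing 𝒜] [DecidableEq ι] [DirectSum.Decomposition 𝒳] in
theorem gradedSMul_subGr (P : Submodule R X) : SetLike.GradedSMul 𝒜 (subGr 𝒳 P) :=
  ⟨fun {i j a b} ha hb => by
    change ((a • b : ↥P) : X) ∈ 𝒳 (i + j)
    rw [Submodule.coe_smul]
    exact smul_mem_piece 𝒜 𝒳 ha hb⟩

omit [GradedRing 𝒜] [DecidableEq ι] [DirectSum.Decomposition 𝒳] in
theorem gradedSMul_quotGrMod_reindex (B : Submodule R X) (σ : ι ≃ ι)
    (hσ : ∀ h g, σ (h + g) = h + σ g) :
    SetLike.GradedSMul 𝒜 (fun g => quotGrMod 𝒳 B (σ g)) :=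
  ⟨fun {i j a b} ha hb => by
    obtain ⟨x, hx, rfl⟩ := hb
    change a • B.mkQ x ∈ quotGrMod 𝒳 B (σ (i + j))
    rw [hσ]
    exact ⟨a • x, smul_mem_piece 𝒜 𝒳 ha hx, map_smul B.mkQ a x⟩⟩

omit [GradedRing 𝒜] [DecidableEq ι] [DirectSum.Decomposition 𝒳] in
theorem gradedSMul_quotGrMod (B : Submodule R X) : SetLike.GradedSMul 𝒜 (quotGrMod 𝒳 B) :=
  gradedSMul_quotGrMod_reindex 𝒜 𝒳 B (Equiv.refl ι) (fun _ _ => rfl)

omit [GradedRing 𝒜] [DecidableEq ι] [DirectSum.Decomposition 𝒳] in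
theorem gradedSMul_reindex (σ : ι ≃ ι) (hσ : ∀ h g, σ (h + g) = h + σ g) :
    SetLike.GradedSMul 𝒜 (fun g => 𝒳 (σ g)) :=
  ⟨fun {i j a b} ha hb => by
    change a • b ∈ 𝒳 (σ (i + j))
    rw [hσ]
    exact smul_mem_piece 𝒜 𝒳 ha hb⟩

/-- A homogeneous submodule as a bundled graded module. -/
noncomputable def gmodSub (P : Submodule R X) (hP : P.IsHomogeneous 𝒳) : GrLC.GMod.{u} 𝒜 :=
  { carrier := ↥P
    gr := subGr 𝒳 P
    dec := (isInternal_subGr 𝒳 P hP).chooseDecomposition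
    gsmul := gradedSMul_subGr 𝒜 𝒳 P }

/-- The quotient by a homogeneous submodule as a bundled graded module, with reindexed pieces. -/
noncomputable def gmodQuotReindex (B : Submodule R X) (hB : B.IsHomogeneous 𝒳) (σ : ι ≃ ι)
    (hσ : ∀ h g, σ (h + g) = h + σ g) : GrLC.GMod.{u} 𝒜 :=
  { carrier := X ⧸ B
    gr := fun g => quotGrMod 𝒳 B (σ g)
    dec := (isInternal_quotGrMod_reindex 𝒳 B hB σ).chooseDecomposition
    gsmul := gradedSMul_quotGrMod_reindex 𝒜 𝒳 B σ hσ }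

/-- The quotient by a homogeneous submodule as a bundled graded module. -/
noncomputable def gmodQuot (B : Submodule R X) (hB : B.IsHomogeneous 𝒳) : GrLC.GMod.{u} 𝒜 :=
  { carrier := X ⧸ B
    gr := quotGrMod 𝒳 B
    dec := (isInternal_quotGrMod 𝒳 B hB).chooseDecomposition
    gsmul := gradedSMul_quotGrMod 𝒜 𝒳 B }

/-- A graded module with reindexed (for instance shifted) pieces. -/
noncomputable def gmodReindex (σ : ι ≃ ι) (hσ : ∀ h g, σ (h + g) = h + σ g) : GrLC.GMod.{u} 𝒜 :=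
  { carrier := X
    gr := fun g => 𝒳 (σ g)
    dec := (isInternal_reindex 𝒳 σ).chooseDecomposition
    gsmul := gradedSMul_reindex 𝒜 𝒳 σ hσ }

omit [GradedRing 𝒜] [DecidableEq ι] [DirectSum.Decomposition 𝒳] [AddCommGroup ι]
  [SetLike.GradedSMul 𝒜 𝒳] in
theorem isGrHom_subtype (P : Submodule R X) : GrLC.IsGrHom (subGr 𝒳 P) 𝒳 P.subtype :=
  fun _ _ hm => hm

omit [GradedRing 𝒜] [DecidableEq ι] [DirectSum.Decomposition 𝒳] [AddCommGroup ι]
  [SetLike.GradedSMul 𝒜 𝒳] in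
theorem isGrHom_mkQ (B : Submodule R X) : GrLC.IsGrHom 𝒳 (quotGrMod 𝒳 B) B.mkQ :=
  fun _ m hm => ⟨m, hm, rfl⟩

end GModConstr

end Groth.Agent.Lib.Helper30
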