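import Mathlib.Algebra.Category.ModuleCat.EnoughInjectives
import Mathlib.Algebra.Category.ModuleCat.Injective

set_option autoImplicit false

namespace Groth.Agent.Lib.Helper30

universe u

open CategoryTheory

/-- Every module embeds in an injective module in the same universe as the ring. -/
theorem exists_injective_embedding (R : Type u) [CommRing R] (M : Type u) [AddCommGroup M]
    [Module R M] :
    ∃ (I : Type u) (_ : AddCommGroup I) (_ : Module R I) (_ : Module.Injective R I)
      (e : M →ₗ[R] I), Function.Injective e := by
  let X : ModuleCat.{u} R := ModuleCat.of R M
  let Y : ModuleCat.{u} R := Injective.under X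
  have hY : CategoryTheory.Injective (ModuleCat.of R Y) := by
    change CategoryTheory.Injective Y
    infer_instance
  have hI : Module.Injective R Y := Module.injective_module_of_injective_object R Y
  refine ⟨Y, inferInstance, inferInstance, hI, (Injective.ι X).hom, ?_⟩
  exact (ModuleCat.mono_iff_injective (Injective.ι X)).mp inferInstance

end Groth.Agent.Lib.Helper30
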