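import Groth.Agent.Lib.Helper30.GradedHull
import Groth.Agent.Lib.Helper30.EnoughInj

set_option autoImplicit false

open DirectSum

namespace Groth.Agent.Lib.Helper30

universe u

section Transport

variable {ι : Type} [AddCommGroup ι] [DecidableEq ι]
variable {R : Type u} [CommRing R] (𝒜 : ι → AddSubgroup R) [GradedRing 𝒜]
variable {M : Type u} [AddCommGroup M] [Module R M] (ℳ : ι → AddSubgroup M)
  [DirectSum.Decomposition ℳ] [SetLike.GradedSMul 𝒜 ℳ]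
variable {E : Type u} [AddCommGroup E] [Module R E] (𝓔 : ι → AddSubgroup E)
  [DirectSum.Decomposition 𝓔] [SetLike.GradedSMul 𝒜 𝓔]

omit [AddCommGroup ι] in
theorem mem_piece_of_map_mem_piece (f : M →ₗ[R] E) (hf : GrLC.IsGrHom ℳ 𝓔 f)
    (hinj : Function.Injective f) {k : ι} {m : M} (hm : f m ∈ 𝓔 k) : m ∈ ℳ k := by
  have h1 : f (decompose ℳ m k : M) = f m := by
    rw [decompose_map_of_isGrHom ℳ 𝓔 f hf, decompose_of_mem_same 𝓔 hm]
  rw [← hinj h1]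
  exact (decompose ℳ m k).2

theorem isStarInj_of_bijective (f : M →ₗ[R] E) (hf : GrLC.IsGrHom ℳ 𝓔 f)
    (hbij : Function.Bijective f) (hE : GrLC.IsStarInj 𝒜 𝓔) : GrLC.IsStarInj 𝒜 ℳ := by
  intro A B φ hφ hφinj g hg
  have hfg : GrLC.IsGrHom A.gr 𝓔 (f ∘ₗ g) := fun k a ha => hf k _ (hg k a ha)
  obtain ⟨h', hh'gr, hh'⟩ := hE A B φ hφ hφinj (f ∘ₗ g) hfg
  let fe : M ≃ₗ[R] E := LinearEquiv.ofBijective f hbij
  refine ⟨fe.symm.toLinearMap ∘ₗ h', ?_, ?_⟩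
  · intro k b hb
    apply mem_piece_of_map_mem_piece ℳ 𝓔 f hf hbij.1
    have : f (fe.symm (h' b)) = h' b := fe.apply_symm_apply (h' b)
    change f (fe.symm (h' b)) ∈ 𝓔 k
    rw [this]
    exact hh'gr k b hb
  · ext a
    have h1 : h' (φ a) = f (g a) := LinearMap.congr_fun hh' a
    change fe.symm (h' (φ a)) = g a
    rw [h1]
    exact fe.symm_apply_apply (g a)

theorem surjective_of_isStarEss_of_isStarInj (hM : GrLC.IsStarInj 𝒜 ℳ) (f : M →ₗ[R] E)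
    (hf : GrLC.IsStarEss ℳ 𝓔 f) : Function.Surjective f := by
  obtain ⟨h, hgr, hh⟩ := hM (GrLC.GMod.of 𝒜 M ℳ) (GrLC.GMod.of 𝒜 E 𝓔) f hf.grHom hf.injective
    LinearMap.id (fun _ _ hm => hm)
  change E →ₗ[R] M at h
  change GrLC.IsGrHom 𝓔 ℳ h at hgr
  change h ∘ₗ f = LinearMap.id at hh
  have hh' : ∀ m, h (f m) = m := fun m => LinearMap.congr_fun hh m
  have hker : LinearMap.ker h = ⊥ := by
    by_contra hne
    apply hf.essential (LinearMap.ker h) (ker_isHomogeneous 𝓔 ℳ h hgr) hne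
    rw [eq_bot_iff]
    rintro x ⟨hx1, ⟨m, rfl⟩⟩
    rw [SetLike.mem_coe, LinearMap.mem_ker, hh'] at hx1
    rw [hx1, map_zero]
    exact Submodule.zero_mem _
  have hinj : Function.Injective h := LinearMap.ker_eq_bot.mp hker
  intro y
  exact ⟨h y, hinj (hh' (h y))⟩

theorem isStarInj_of_forall_isStarEss_surjective
    (h : ∀ (N : GrLC.GMod.{u} 𝒜) (f : M →ₗ[R] N.carrier), GrLC.IsStarEss ℳ N.gr f →
      Function.Surjective f) : GrLC.IsStarInj 𝒜 ℳ := by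
  obtain ⟨I, _, _, _, e, he⟩ := exists_injective_embedding R M
  obtain ⟨N, f, hull, -⟩ := exists_isStarInjHull 𝒜 ℳ I e he
  exact isStarInj_of_bijective 𝒜 ℳ N.gr f hull.grHom ⟨hull.injective, h N f hull.toIsStarEss⟩
    hull.starInj

end Transport

section Resolution

variable {ι : Type} [AddCommGroup ι] [DecidableEq ι]
variable {R : Type u} [CommRing R] (𝒜 : ι → AddSubgroup R) [GradedRing 𝒜]

/-- A homogeneous embedding of a graded module into a graded-injective one. -/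
structure StarEmb (X : GrLC.GMod.{u} 𝒜) : Type (u + 1) where
  Y : GrLC.GMod.{u} 𝒜
  f : X.carrier →ₗ[R] Y.carrier
  grHom : GrLC.IsGrHom X.gr Y.gr f
  inj : Function.Injective f
  starInj : GrLC.IsStarInj 𝒜 Y.gr

theorem nonempty_starEmb (X : GrLC.GMod.{u} 𝒜) : Nonempty (StarEmb 𝒜 X) := by
  obtain ⟨I, _, _, _, e, he⟩ := exists_injective_embedding R X.carrier
  exact ⟨⟨gmodCofree 𝒜 I, cofreeLift 𝒜 I X.gr e, cofreeLift_isGrHom 𝒜 I X.gr e,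
    cofreeLift_injective 𝒜 I X.gr e he, isStarInj_cofree 𝒜 I⟩⟩

/-- A chosen embedding into a graded-injective module. -/
noncomputable def starEmb (X : GrLC.GMod.{u} 𝒜) : StarEmb 𝒜 X :=
  Classical.choice (nonempty_starEmb 𝒜 X)

/-- The cokernel of the chosen embedding. -/
noncomputable def starCoker (X : GrLC.GMod.{u} 𝒜) : GrLC.GMod.{u} 𝒜 :=
  gmodQuot 𝒜 (starEmb 𝒜 X).Y.gr (LinearMap.range (starEmb 𝒜 X).f)
    (range_isHomogeneous X.gr (starEmb 𝒜 X).Y.gr (starEmb 𝒜 X).f (starEmb 𝒜 X).grHom)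

/-- The successive cokernels. -/
noncomputable def starCosyzygy (X : GrLC.GMod.{u} 𝒜) : ℕ → GrLC.GMod.{u} 𝒜
  | 0 => X
  | n + 1 => starCoker 𝒜 (starCosyzygy X n)

/-- The quotient map onto the next cosyzygy. -/
noncomputable def starCosyzygyProj (X : GrLC.GMod.{u} 𝒜) (n : ℕ) :
    (starEmb 𝒜 (starCosyzygy 𝒜 X n)).Y.carrier →ₗ[R] (starCosyzygy 𝒜 X (n + 1)).carrier :=
  (LinearMap.range (starEmb 𝒜 (starCosyzygy 𝒜 X n)).f).mkQ

theorem starCosyzygyProj_surjective (X : GrLC.GMod.{u} 𝒜) (n : ℕ) :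
    Function.Surjective (starCosyzygyProj 𝒜 X n) :=
  Submodule.mkQ_surjective _

theorem ker_starCosyzygyProj (X : GrLC.GMod.{u} 𝒜) (n : ℕ) :
    LinearMap.ker (starCosyzygyProj 𝒜 X n) =
      LinearMap.range (starEmb 𝒜 (starCosyzygy 𝒜 X n)).f :=
  Submodule.ker_mkQ _

theorem starCosyzygyProj_isGrHom (X : GrLC.GMod.{u} 𝒜) (n : ℕ) :
    GrLC.IsGrHom (starEmb 𝒜 (starCosyzygy 𝒜 X n)).Y.gr (starCosyzygy 𝒜 X (n + 1)).gr
      (starCosyzygyProj 𝒜 X n) :=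
  fun _ m hm => ⟨m, hm, rfl⟩

variable {M : Type u} [AddCommGroup M] [Module R M] (ℳ : ι → AddSubgroup M)
  [DirectSum.Decomposition ℳ] [SetLike.GradedSMul 𝒜 ℳ]

/-- The graded-injective resolution built from the chosen embeddings. -/
noncomputable def starInjRes : GrLC.StarInjRes 𝒜 ℳ where
  X n := (starEmb 𝒜 (starCosyzygy 𝒜 (GrLC.GMod.of 𝒜 M ℳ) n)).Y
  d n := (starEmb 𝒜 (starCosyzygy 𝒜 (GrLC.GMod.of 𝒜 M ℳ) (n + 1))).f ∘ₗ
    starCosyzygyProj 𝒜 (GrLC.GMod.of 𝒜 M ℳ) n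
  ε := (starEmb 𝒜 (starCosyzygy 𝒜 (GrLC.GMod.of 𝒜 M ℳ) 0)).f
  d_grHom n := fun k x hx =>
    (starEmb 𝒜 (starCosyzygy 𝒜 (GrLC.GMod.of 𝒜 M ℳ) (n + 1))).grHom k _
      (starCosyzygyProj_isGrHom 𝒜 (GrLC.GMod.of 𝒜 M ℳ) n k x hx)
  ε_grHom := (starEmb 𝒜 (starCosyzygy 𝒜 (GrLC.GMod.of 𝒜 M ℳ) 0)).grHom
  ε_injective := (starEmb 𝒜 (starCosyzygy 𝒜 (GrLC.GMod.of 𝒜 M ℳ) 0)).inj
  exact_zero := by
    rw [LinearMap.ker_comp, LinearMap.ker_eq_bot.mpr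
      (starEmb 𝒜 (starCosyzygy 𝒜 (GrLC.GMod.of 𝒜 M ℳ) (0 + 1))).inj, Submodule.comap_bot]
    exact ker_starCosyzygyProj 𝒜 (GrLC.GMod.of 𝒜 M ℳ) 0
  exact_succ n := by
    rw [LinearMap.ker_comp, LinearMap.ker_eq_bot.mpr
      (starEmb 𝒜 (starCosyzygy 𝒜 (GrLC.GMod.of 𝒜 M ℳ) (n + 1 + 1))).inj, Submodule.comap_bot,
      ker_starCosyzygyProj, LinearMap.range_comp,
      LinearMap.range_eq_top.mpr (starCosyzygyProj_surjective 𝒜 (GrLC.GMod.of 𝒜 M ℳ) n),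
      Submodule.map_top]
  starInj n := (starEmb 𝒜 (starCosyzygy 𝒜 (GrLC.GMod.of 𝒜 M ℳ) n)).starInj

end Resolution

end Groth.Agent.Lib.Helper30
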