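import Groth.Agent.Lib.Helper30.GradedCofree
import Mathlib.Order.Zorn
import Mathlib.LinearAlgebra.Projection

set_option autoImplicit false

open DirectSum

namespace Groth.Agent.Lib.Helper30

universe u

section Hull

variable {ι : Type} [AddCommGroup ι] [DecidableEq ι]
variable {R : Type u} [CommRing R] (𝒜 : ι → AddSubgroup R) [GradedRing 𝒜]
variable {J : Type u} [AddCommGroup J] [Module R J] (𝒥 : ι → AddSubgroup J)
  [DirectSum.Decomposition 𝒥] [SetLike.GradedSMul 𝒜 𝒥]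

omit [AddCommGroup ι] in
theorem sSup_isHomogeneous_of_chain {c : Set (Submodule R J)} (hc : IsChain (· ≤ ·) c)
    (hne : c.Nonempty) (hhom : ∀ E ∈ c, E.IsHomogeneous 𝒥) : (sSup c).IsHomogeneous 𝒥 := by
  intro i x hx
  rw [Submodule.mem_sSup_of_directed hne hc.directedOn] at hx ⊢
  obtain ⟨E, hE, hxE⟩ := hx
  exact ⟨E, hE, hhom E hE i hxE⟩

omit [AddCommGroup ι] in
theorem sup_isHomogeneous (P Q : Submodule R J) (hP : P.IsHomogeneous 𝒥)
    (hQ : Q.IsHomogeneous 𝒥) : (P ⊔ Q).IsHomogeneous 𝒥 := by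
  intro i x hx
  obtain ⟨p, hp, q, hq, rfl⟩ := Submodule.mem_sup.mp hx
  rw [decompose_add, DirectSum.add_apply, AddSubgroup.coe_add]
  exact Submodule.add_mem_sup (hP i hp) (hQ i hq)

omit [AddCommGroup ι] in
theorem exists_maximal_isStarEssIn (M₀ : Submodule R J) (hM₀ : M₀.IsHomogeneous 𝒥) :
    ∃ E : Submodule R J, E.IsHomogeneous 𝒥 ∧ M₀ ≤ E ∧ IsStarEssIn 𝒥 M₀ E ∧
      ∀ E' : Submodule R J, E'.IsHomogeneous 𝒥 → E ≤ E' → IsStarEssIn 𝒥 M₀ E' → E' ≤ E := by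
  let S : Set (Submodule R J) := {E | E.IsHomogeneous 𝒥 ∧ M₀ ≤ E ∧ IsStarEssIn 𝒥 M₀ E}
  have hM₀S : M₀ ∈ S := ⟨hM₀, le_rfl, fun g x _ hxM hx0 =>
    ⟨1, by rwa [one_smul], by rwa [one_smul]⟩⟩
  have hchain : ∀ c ⊆ S, IsChain (· ≤ ·) c → ∀ y ∈ c, ∃ ub ∈ S, ∀ z ∈ c, z ≤ ub := by
    intro c hcS hc y hy
    refine ⟨sSup c, ⟨?_, ?_, ?_⟩, fun z hz => le_sSup hz⟩
    · exact sSup_isHomogeneous_of_chain 𝒥 hc ⟨y, hy⟩ (fun E hE => (hcS hE).1)
    · exact (hcS hy).2.1.trans (le_sSup hy)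
    · intro g x hx hxs hx0
      rw [Submodule.mem_sSup_of_directed ⟨y, hy⟩ hc.directedOn] at hxs
      obtain ⟨E, hE, hxE⟩ := hxs
      exact (hcS hE).2.2 g x hx hxE hx0
  obtain ⟨E, _, hE, hmax⟩ := zorn_le_nonempty₀ S hchain M₀ hM₀S
  exact ⟨E, hE.1, hE.2.1, hE.2.2, fun E' hE' hle hess =>
    hmax ⟨hE', hE.2.1.trans hle, hess⟩ hle⟩

omit [AddCommGroup ι] in
theorem exists_maximal_disjoint (E : Submodule R J) :
    ∃ C : Submodule R J, C.IsHomogeneous 𝒥 ∧ Disjoint C E ∧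
      ∀ C' : Submodule R J, C'.IsHomogeneous 𝒥 → C ≤ C' → Disjoint C' E → C' ≤ C := by
  let S : Set (Submodule R J) := {C | C.IsHomogeneous 𝒥 ∧ Disjoint C E}
  have hS : (⊥ : Submodule R J) ∈ S := ⟨bot_isHomogeneous 𝒥, disjoint_bot_left⟩
  have hchain : ∀ c ⊆ S, IsChain (· ≤ ·) c → ∀ y ∈ c, ∃ ub ∈ S, ∀ z ∈ c, z ≤ ub := by
    intro c hcS hc y hy
    refine ⟨sSup c, ⟨?_, ?_⟩, fun z hz => le_sSup hz⟩
    · exact sSup_isHomogeneous_of_chain 𝒥 hc ⟨y, hy⟩ (fun E hE => (hcS hE).1)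
    · rw [Submodule.disjoint_def]
      intro x hx hxE
      rw [Submodule.mem_sSup_of_directed ⟨y, hy⟩ hc.directedOn] at hx
      obtain ⟨C, hC, hxC⟩ := hx
      exact (Submodule.disjoint_def.mp (hcS hC).2) x hxC hxE
  obtain ⟨C, _, hC, hmax⟩ := zorn_le_nonempty₀ S hchain ⊥ hS
  exact ⟨C, hC.1, hC.2, fun C' hC' hle hdis => hmax ⟨hC', hdis⟩ hle⟩

theorem isCompl_of_maximal (hJ : GrLC.IsStarInj 𝒜 𝒥) (E C : Submodule R J)
    (hE : E.IsHomogeneous 𝒥) (hC : C.IsHomogeneous 𝒥) (hdis : Disjoint C E)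
    (hCmax : ∀ C' : Submodule R J, C'.IsHomogeneous 𝒥 → C ≤ C' → Disjoint C' E → C' ≤ C)
    (hEmax : ∀ E' : Submodule R J, E'.IsHomogeneous 𝒥 → E ≤ E' → IsStarEssIn 𝒥 E E' → E' ≤ E) :
    IsCompl E C := by
  let S := gmodSub 𝒜 𝒥 E hE
  let Q := gmodQuot 𝒜 𝒥 C hC
  let f : ↥E →ₗ[R] J ⧸ C := C.mkQ ∘ₗ E.subtype
  have hfgr : GrLC.IsGrHom S.gr Q.gr f := fun g m hm => ⟨E.subtype m, hm, rfl⟩
  have hfinj : Function.Injective f := by
    rw [← LinearMap.ker_eq_bot, eq_bot_iff]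
    intro e he
    have h1 : C.mkQ (e : J) = 0 := he
    rw [Submodule.mkQ_apply, Submodule.Quotient.mk_eq_zero] at h1
    have h2 : (e : J) = 0 := Submodule.disjoint_def.mp hdis _ h1 e.2
    rw [Submodule.mem_bot]
    exact Subtype.ext h2
  obtain ⟨φ, hφgr, hφ⟩ := hJ S Q f hfgr hfinj E.subtype (isGrHom_subtype 𝒥 E)
  change (J ⧸ C) →ₗ[R] J at φ
  have hφe : ∀ e : ↥E, φ (C.mkQ (e : J)) = e := fun e => LinearMap.congr_fun hφ e
  have key : ∀ g y, y ∈ 𝒥 g → y ∉ C →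
      ∃ r : R, r • φ (C.mkQ y) ∈ E ∧ r • φ (C.mkQ y) ≠ 0 := by
    intro g y hy hyC
    have hC' : (C ⊔ Submodule.span R {y}).IsHomogeneous 𝒥 :=
      sup_isHomogeneous 𝒥 _ _ hC (span_singleton_isHomogeneous 𝒜 𝒥 hy)
    have hnd : ¬ Disjoint (C ⊔ Submodule.span R {y}) E := fun hd =>
      hyC (hCmax _ hC' le_sup_left hd
        (Submodule.mem_sup_right (Submodule.mem_span_singleton_self y)))
    rw [Submodule.disjoint_def] at hnd
    push Not at hnd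
    obtain ⟨e, heC', heE, he0⟩ := hnd
    obtain ⟨c, hc, z, hz, rfl⟩ := Submodule.mem_sup.mp heC'
    obtain ⟨r, rfl⟩ := Submodule.mem_span_singleton.mp hz
    have hrφ : r • φ (C.mkQ y) = c + r • y := by
      rw [← map_smul, ← map_smul]
      have h1 : C.mkQ (r • y) = C.mkQ (c + r • y) := by
        rw [map_add, Submodule.mkQ_apply, Submodule.mkQ_apply,
          (Submodule.Quotient.mk_eq_zero C).mpr hc, zero_add]
      rw [h1]
      exact hφe ⟨c + r • y, heE⟩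
    exact ⟨r, by rw [hrφ]; exact heE, by rw [hrφ]; exact he0⟩
  have key' : ∀ g y z, y ∈ 𝒥 g → y ∉ C → φ (C.mkQ y) = z → ∃ r : R, r • z ∈ E ∧ r • z ≠ 0 := by
    intro g y z hy hyC hz
    subst hz
    exact key g y hy hyC
  have hker : LinearMap.ker φ = ⊥ := by
    by_contra hne
    obtain ⟨g, ybar, hyg, hyker, hy0⟩ := exists_homogeneous_ne_zero_of_ne_bot Q.gr
      (LinearMap.ker φ) (ker_isHomogeneous Q.gr 𝒥 φ hφgr) hne
    obtain ⟨y, hy, rfl⟩ := hyg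
    have hyC : y ∉ C := by
      intro hyC
      apply hy0
      exact (Submodule.Quotient.mk_eq_zero C).mpr hyC
    obtain ⟨r, _, hr0⟩ := key g y hy hyC
    apply hr0
    have : φ (C.mkQ y) = 0 := hyker
    rw [this, smul_zero]
  have hφinj : Function.Injective φ := LinearMap.ker_eq_bot.mp hker
  have hrange : LinearMap.range φ ≤ E := by
    apply hEmax _ (range_isHomogeneous Q.gr 𝒥 φ hφgr)
    · intro e he
      exact ⟨C.mkQ e, hφe ⟨e, he⟩⟩
    · rintro g x hx ⟨ybar, rfl⟩ hx0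
      have hcomp : φ ((decompose Q.gr ybar g : Q.carrier)) = φ ybar :=
        (decompose_map_of_isGrHom Q.gr 𝒥 φ hφgr ybar g).trans (decompose_of_mem_same 𝒥 hx)
      obtain ⟨y, hy, hyeq⟩ := (decompose Q.gr ybar g).2
      have hyeq' : C.mkQ y = (decompose Q.gr ybar g : Q.carrier) := hyeq
      have hφy : φ (C.mkQ y) = φ ybar := (congrArg φ hyeq').trans hcomp
      have hyC : y ∉ C := by
        intro hyC
        apply hx0
        have h0 : C.mkQ y = 0 := by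
          rw [Submodule.mkQ_apply]
          exact (Submodule.Quotient.mk_eq_zero C).mpr hyC
        exact hφy.symm.trans (by rw [h0, map_zero])
      exact key' g y _ hy hyC hφy
  refine ⟨hdis.symm, codisjoint_iff.mpr (eq_top_iff.mpr fun x _ => ?_)⟩
  have he : φ (C.mkQ x) ∈ E := hrange ⟨_, rfl⟩
  have h1 : C.mkQ (φ (C.mkQ x)) = C.mkQ x := hφinj (hφe ⟨_, he⟩)
  have h2 : x - φ (C.mkQ x) ∈ C := by
    rw [← Submodule.Quotient.mk_eq_zero C, Submodule.Quotient.mk_sub]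
    have h1' : (Submodule.Quotient.mk (φ (C.mkQ x)) : J ⧸ C) = Submodule.Quotient.mk x := h1
    rw [h1', sub_self]
  have h3 : x = φ (C.mkQ x) + (x - φ (C.mkQ x)) := by abel
  rw [h3]
  exact Submodule.add_mem_sup he h2

omit [AddCommGroup ι] in
theorem projectionOnto_mem_piece (E C : Submodule R J) (hE : E.IsHomogeneous 𝒥)
    (hC : C.IsHomogeneous 𝒥) (h : IsCompl E C) {k : ι} {x : J} (hx : x ∈ 𝒥 k) :
    ((Submodule.projectionOnto E C h x : ↥E) : J) ∈ 𝒥 k := by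
  set e : ↥E := Submodule.projectionOnto E C h x with he
  have hc : x - (e : J) ∈ C := by
    rw [← Submodule.projectionOnto_apply_eq_zero_iff h, map_sub,
      Submodule.projectionOnto_apply_left h e, sub_self]
  have hek : (decompose 𝒥 (e : J) k : J) ∈ E := hE k e.2
  have hck : (decompose 𝒥 (x - (e : J)) k : J) ∈ C := hC k hc
  have hsum : x = (decompose 𝒥 (e : J) k : J) + (decompose 𝒥 (x - (e : J)) k : J) := by
    rw [← AddSubgroup.coe_add, ← DirectSum.add_apply, ← decompose_add, add_sub_cancel,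
      decompose_of_mem_same 𝒥 hx]
  have hproj : Submodule.projectionOnto E C h x = ⟨(decompose 𝒥 (e : J) k : J), hek⟩ := by
    have h2 : Submodule.projectionOnto E C h x = Submodule.projectionOnto E C h
        ((decompose 𝒥 (e : J) k : J) + (decompose 𝒥 (x - (e : J)) k : J)) := congrArg _ hsum
    rw [map_add, Submodule.projectionOnto_apply_of_mem_left h hek,
      Submodule.projectionOnto_apply_of_mem_right h hck, add_zero] at h2
    exact h2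
  have hfinal : (e : J) = (decompose 𝒥 (e : J) k : J) := congrArg Subtype.val hproj
  rw [hfinal]
  exact (decompose 𝒥 (e : J) k).2

theorem isStarInj_gmodSub_of_isCompl (hJ : GrLC.IsStarInj 𝒜 𝒥) (E C : Submodule R J)
    (hE : E.IsHomogeneous 𝒥) (hC : C.IsHomogeneous 𝒥) (h : IsCompl E C) :
    GrLC.IsStarInj 𝒜 (gmodSub 𝒜 𝒥 E hE).gr := by
  intro A B f hf hfinj g hg
  change A.carrier →ₗ[R] ↥E at g
  have hg' : GrLC.IsGrHom A.gr 𝒥 (E.subtype ∘ₗ g) := fun k a ha => hg k a ha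
  obtain ⟨h', hh'gr, hh'⟩ := hJ A B f hf hfinj (E.subtype ∘ₗ g) hg'
  refine ⟨Submodule.projectionOnto E C h ∘ₗ h', ?_, ?_⟩
  · intro k b hb
    exact projectionOnto_mem_piece 𝒥 E C hE hC h (hh'gr k b hb)
  · ext a
    have h1 : h' (f a) = (g a : J) := LinearMap.congr_fun hh' a
    have h2 : Submodule.projectionOnto E C h (h' (f a)) = g a := by
      rw [h1, Submodule.projectionOnto_apply_left h (g a)]
    exact h2

theorem exists_hull_in (hJ : GrLC.IsStarInj 𝒜 𝒥) (M₀ : Submodule R J)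
    (hM₀ : M₀.IsHomogeneous 𝒥) :
    ∃ (E : Submodule R J) (hE : E.IsHomogeneous 𝒥), M₀ ≤ E ∧ IsStarEssIn 𝒥 M₀ E ∧
      GrLC.IsStarInj 𝒜 (gmodSub 𝒜 𝒥 E hE).gr ∧
      ∃ C : Submodule R J, C.IsHomogeneous 𝒥 ∧ IsCompl E C := by
  obtain ⟨E, hE, hle, hess, hEmax⟩ := exists_maximal_isStarEssIn 𝒥 M₀ hM₀
  obtain ⟨C, hC, hdis, hCmax⟩ := exists_maximal_disjoint 𝒥 E
  have hcompl : IsCompl E C := isCompl_of_maximal 𝒜 𝒥 hJ E C hE hC hdis hCmax
    (fun E' hE' hEE' hess' => hEmax E' hE' hEE' (IsStarEssIn.trans 𝒜 𝒥 hE hess hess'))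
  exact ⟨E, hE, hle, hess, isStarInj_gmodSub_of_isCompl 𝒜 𝒥 hJ E C hE hC hcompl, C, hC, hcompl⟩

variable {M : Type u} [AddCommGroup M] [Module R M] (ℳ : ι → AddSubgroup M)
  [DirectSum.Decomposition ℳ] [SetLike.GradedSMul 𝒜 ℳ]

theorem exists_isStarInjHull_of_embedding (hJ : GrLC.IsStarInj 𝒜 𝒥) (Λ : M →ₗ[R] J)
    (hΛ : GrLC.IsGrHom ℳ 𝒥 Λ) (hinj : Function.Injective Λ) :
    ∃ (E : Submodule R J) (hE : E.IsHomogeneous 𝒥) (hle : ∀ m, Λ m ∈ E),
      GrLC.IsStarInjHull 𝒜 ℳ (gmodSub 𝒜 𝒥 E hE).gr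
        (show M →ₗ[R] (gmodSub 𝒜 𝒥 E hE).carrier from Λ.codRestrict E hle) ∧
      ∃ C : Submodule R J, C.IsHomogeneous 𝒥 ∧ IsCompl E C := by
  obtain ⟨E, hE, hle, hess, hinjE, C, hC, hcompl⟩ := exists_hull_in 𝒜 𝒥 hJ (LinearMap.range Λ)
    (range_isHomogeneous ℳ 𝒥 Λ hΛ)
  refine ⟨E, hE, fun m => hle ⟨m, rfl⟩, ⟨⟨?_, ?_, ?_⟩, hinjE⟩, C, hC, hcompl⟩
  · intro x y hxy
    apply hinj
    exact congrArg Subtype.val hxy
  · intro g m hm
    exact hΛ g m hm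
  · intro P hP hPne
    obtain ⟨g, y, hyg, hyP, hy0⟩ :=
      exists_homogeneous_ne_zero_of_ne_bot (gmodSub 𝒜 𝒥 E hE).gr P hP hPne
    change ↥E at y
    have hy0' : (y : J) ≠ 0 := fun h0 => hy0 (Subtype.ext h0)
    obtain ⟨r, ⟨m, hm⟩, hr0⟩ := hess g (y : J) hyg y.2 hy0'
    intro hbot
    apply hr0
    have hmem : r • y ∈ P ⊓ LinearMap.range (Λ.codRestrict E fun m => hle ⟨m, rfl⟩) := by
      refine ⟨P.smul_mem r hyP, ⟨m, ?_⟩⟩
      apply Subtype.ext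
      exact hm
    rw [hbot] at hmem
    have h0 : r • y = 0 := (Submodule.mem_bot R).mp hmem
    exact congrArg Subtype.val h0

end Hull

section Existence

variable {ι : Type} [AddCommGroup ι] [DecidableEq ι]
variable {R : Type u} [CommRing R] (𝒜 : ι → AddSubgroup R) [GradedRing 𝒜]
variable {M : Type u} [AddCommGroup M] [Module R M] (ℳ : ι → AddSubgroup M)
  [DirectSum.Decomposition ℳ] [SetLike.GradedSMul 𝒜 ℳ]

/-- A graded-essential homogeneous injection of graded modules is essential. -/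
theorem inf_range_ne_bot_of_isStarEss {L : Type u} [AddCommGroup L] [Module R L]
    (𝓛 : ι → AddSubgroup L) [DirectSum.Decomposition 𝓛] [SetLike.GradedSMul 𝒜 𝓛]
    (f : M →ₗ[R] L) (hf : GrLC.IsStarEss ℳ 𝓛 f) (U : Submodule R L) (hU : U ≠ ⊥) :
    U ⊓ LinearMap.range f ≠ ⊥ :=
  inf_ne_bot_of_isStarEssIn 𝒜 𝓛 _ (range_isHomogeneous ℳ 𝓛 f hf.grHom)
    ((isStarEssIn_iff 𝒜 𝓛 _).mp hf.essential) U hU

/-- Injectivity of a map can be tested on the source of an essential injection. -/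
theorem injective_of_comp_injective_of_essential {L P : Type u} [AddCommGroup L] [Module R L]
    [AddCommGroup P] [Module R P] (f : M →ₗ[R] L) (j : L →ₗ[R] P)
    (hess : ∀ U : Submodule R L, U ≠ ⊥ → U ⊓ LinearMap.range f ≠ ⊥)
    (hjf : Function.Injective (j ∘ₗ f)) : Function.Injective j := by
  rw [← LinearMap.ker_eq_bot]
  by_contra hne
  apply hess _ hne
  rw [eq_bot_iff]
  rintro x ⟨hx1, ⟨m, rfl⟩⟩
  have : m = 0 := hjf (by rw [LinearMap.comp_apply, LinearMap.mem_ker.mp hx1, map_zero])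
  rw [this, map_zero]
  exact Submodule.zero_mem _

theorem exists_isStarInjHull (I : Type u) [AddCommGroup I] [Module R I] [Module.Injective R I]
    (e : M →ₗ[R] I) (he : Function.Injective e) :
    ∃ (E : GrLC.GMod.{u} 𝒜) (f : M →ₗ[R] E.carrier), GrLC.IsStarInjHull 𝒜 ℳ E.gr f ∧
      ∃ j : E.carrier →ₗ[R] I, Function.Injective j ∧ j ∘ₗ f = e := by
  obtain ⟨E₀, hE₀, hle, hull, -⟩ := exists_isStarInjHull_of_embedding 𝒜 (cofreeGr 𝒜 I) ℳ
    (isStarInj_cofree 𝒜 I) (cofreeLift 𝒜 I ℳ e) (cofreeLift_isGrHom 𝒜 I ℳ e)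
    (cofreeLift_injective 𝒜 I ℳ e he)
  refine ⟨gmodSub 𝒜 (cofreeGr 𝒜 I) E₀ hE₀, _, hull, ?_⟩
  have hjf : (show (gmodSub 𝒜 (cofreeGr 𝒜 I) E₀ hE₀).carrier →ₗ[R] I from
      cofreeSum 𝒜 I ∘ₗ E₀.subtype) ∘ₗ
      (show M →ₗ[R] (gmodSub 𝒜 (cofreeGr 𝒜 I) E₀ hE₀).carrier from
        (cofreeLift 𝒜 I ℳ e).codRestrict E₀ hle) = e := by
    ext m
    exact LinearMap.congr_fun (cofreeSum_comp_cofreeLift 𝒜 I ℳ e) m
  refine ⟨_, ?_, hjf⟩
  apply injective_of_comp_injective_of_essential _ _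
    (inf_range_ne_bot_of_isStarEss 𝒜 ℳ _ _ hull.toIsStarEss)
  rw [hjf]
  exact he

end Existence

end Groth.Agent.Lib.Helper30
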