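import Mathlib.Algebra.Homology.DerivedCategory.Ext.ExactSequences
import Mathlib.Algebra.Homology.DerivedCategory.Ext.EnoughProjectives

set_option autoImplicit false

namespace Groth.Agent.Lib.Helper30

universe w v u

open CategoryTheory Abelian

variable {C : Type u} [Category.{v} C] [Abelian C] [HasExt.{w} C]

/-- Vanishing of `Ext` passes to the middle term of a short exact sequence. -/
theorem ext_subsingleton_middle {S : ShortComplex C} (hS : S.ShortExact) (Y : C) (n : ℕ)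
    (h₁ : Subsingleton (Ext.{w} S.X₁ Y n)) (h₃ : Subsingleton (Ext.{w} S.X₃ Y n)) :
    Subsingleton (Ext.{w} S.X₂ Y n) := by
  refine subsingleton_of_forall_eq 0 (fun x₂ => ?_)
  obtain ⟨x₁, hx₁⟩ := Ext.contravariant_sequence_exact₂ hS Y x₂ (Subsingleton.elim _ _)
  rw [← hx₁, Subsingleton.elim x₁ 0, Ext.comp_zero]

/-- Dimension shifting along a short exact sequence with projective middle term. -/
theorem ext_subsingleton_shift {S : ShortComplex C} (hS : S.ShortExact) [Projective S.X₂] (Y : C)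
    (n : ℕ) (h₁ : Subsingleton (Ext.{w} S.X₁ Y (n + 1))) :
    Subsingleton (Ext.{w} S.X₃ Y (n + 2)) := by
  refine subsingleton_of_forall_eq 0 (fun x₃ => ?_)
  have h2 : (Ext.mk₀ S.g).comp x₃ (zero_add (n + 2)) = 0 := Ext.eq_zero_of_projective _
  obtain ⟨x₁, hx₁⟩ := Ext.contravariant_sequence_exact₃ hS Y x₃ h2 (n₀ := n + 1) (by omega)
  rw [← hx₁, Subsingleton.elim x₁ 0, Ext.comp_zero]

/-- `Ext¹` of the cokernel vanishes when every map from the kernel extends to the projective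
middle term. -/
theorem ext_one_subsingleton_of_extension {S : ShortComplex C} (hS : S.ShortExact)
    [Projective S.X₂] (Y : C) (hext : ∀ φ : S.X₁ ⟶ Y, ∃ ψ : S.X₂ ⟶ Y, S.f ≫ ψ = φ) :
    Subsingleton (Ext.{w} S.X₃ Y 1) := by
  refine subsingleton_of_forall_eq 0 (fun x₃ => ?_)
  have h2 : (Ext.mk₀ S.g).comp x₃ (zero_add 1) = 0 := Ext.eq_zero_of_projective _
  obtain ⟨x₁, hx₁⟩ := Ext.contravariant_sequence_exact₃ hS Y x₃ h2 (n₀ := 0) (by omega)
  obtain ⟨ψ, hψ⟩ := hext (Ext.addEquiv₀ x₁)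
  have hx₁' : x₁ = Ext.mk₀ (S.f ≫ ψ) := by rw [hψ, Ext.mk₀_addEquiv₀_apply]
  subst hx₁'
  rw [← hx₁, ← Ext.mk₀_comp_mk₀]
  exact hS.extClass_comp_assoc (Ext.mk₀ ψ)

end Groth.Agent.Lib.Helper30
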