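import Groth.Agent.Lib.Helper30.GradedHomComp
import Groth.Agent.Lib.Helper30.ExtVanish
import Mathlib.Algebra.Homology.ShortComplex.ModuleCat
import Mathlib.Algebra.Category.ModuleCat.Projective
import Mathlib.Algebra.Category.ModuleCat.Ext.HasExt

set_option autoImplicit false

open DirectSum CategoryTheory

namespace Groth.Agent.Lib.Helper30

universe u

section GradedExt

variable {ι : Type} [AddCommGroup ι] [DecidableEq ι]
variable {R : Type u} [CommRing R] (𝒜 : ι → AddSubgroup R) [GradedRing 𝒜]
variable {I : Type u} [AddCommGroup I] [Module R I] (ℐ : ι → AddSubgroup I)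
  [DirectSum.Decomposition ℐ] [SetLike.GradedSMul 𝒜 ℐ]

theorem ker_toSpanSingleton_isHomogeneous (N : GrLC.GMod.{u} 𝒜) (t : N.carrier) (g : ι)
    (ht : t ∈ N.gr g) :
    (LinearMap.ker (LinearMap.toSpanSingleton R N.carrier t)).IsHomogeneous 𝒜 := by
  intro h a ha
  rw [LinearMap.mem_ker, LinearMap.toSpanSingleton_apply] at ha ⊢
  rw [← decompose_smul_of_mem_right 𝒜 N.gr ht, ha, decompose_zero]
  rfl

/-- The cyclic step: vanishing of `Ext^(n+1)` for cyclic graded modules, given vanishing of
`Ext^n` for finitely generated graded modules when `n ≥ 1`. -/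
theorem ext_subsingleton_cyclic [IsNoetherianRing R] (hI : GrLC.IsStarInj 𝒜 ℐ) (n : ℕ)
    (hprev : n = 0 ∨ ∀ X : GrLC.GMod.{u} 𝒜, Module.Finite R X.carrier →
      Subsingleton (Abelian.Ext.{u} (ModuleCat.of R X.carrier) (ModuleCat.of R I) n))
    (N : GrLC.GMod.{u} 𝒜) (t : N.carrier) (g : ι) (ht : t ∈ N.gr g)
    (hspan : Submodule.span R {t} = ⊤) :
    Subsingleton (Abelian.Ext.{u} (ModuleCat.of R N.carrier) (ModuleCat.of R I) (n + 1)) := by
  let f : R →ₗ[R] N.carrier := LinearMap.toSpanSingleton R N.carrier t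
  have hf : Function.Surjective f := by
    rw [← LinearMap.range_eq_top, LinearMap.range_toSpanSingleton, hspan]
  have hS := LinearMap.shortExact_shortComplexKer hf
  have hJ : (LinearMap.ker f).IsHomogeneous 𝒜 := ker_toSpanSingleton_isHomogeneous 𝒜 N t g ht
  have : Projective f.shortComplexKer.X₂ :=
    (inferInstance : Projective (ModuleCat.of R R))
  have hfin : Module.Finite R ↥(LinearMap.ker f) :=
    Module.Finite.iff_fg.mpr (IsNoetherian.noetherian (LinearMap.ker f))
  rcases hprev with h0 | hprev
  · subst h0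
    apply ext_one_subsingleton_of_extension hS (ModuleCat.of R I)
    intro φ
    obtain ⟨Φ, hΦ⟩ := exists_extension_of_finite 𝒜 𝒜 ℐ hI (LinearMap.ker f) hJ φ.hom
    refine ⟨ModuleCat.ofHom Φ, ?_⟩
    ext k
    exact hΦ k
  · rcases n with _ | m
    · apply ext_one_subsingleton_of_extension hS (ModuleCat.of R I)
      intro φ
      obtain ⟨Φ, hΦ⟩ := exists_extension_of_finite 𝒜 𝒜 ℐ hI (LinearMap.ker f) hJ φ.hom
      refine ⟨ModuleCat.ofHom Φ, ?_⟩
      ext k
      exact hΦ k
    · apply ext_subsingleton_shift hS (ModuleCat.of R I) m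
      exact hprev (gmodSub 𝒜 𝒜 (LinearMap.ker f) hJ) hfin

/-- Devissage: vanishing of `Ext^i` into `I` for cyclic graded modules implies it for all
finitely generated graded modules. -/
theorem ext_subsingleton_of_cyclic (i : ℕ)
    (hcyc : ∀ (N : GrLC.GMod.{u} 𝒜) (t : N.carrier) (g : ι), t ∈ N.gr g →
      Submodule.span R {t} = ⊤ →
      Subsingleton (Abelian.Ext.{u} (ModuleCat.of R N.carrier) (ModuleCat.of R I) i)) (n : ℕ) :
    ∀ (X : GrLC.GMod.{u} 𝒜) (T : Finset X.carrier), T.card ≤ n → (∀ t ∈ T, ∃ g, t ∈ X.gr g) →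
      Submodule.span R (T : Set X.carrier) = ⊤ →
      Subsingleton (Abelian.Ext.{u} (ModuleCat.of R X.carrier) (ModuleCat.of R I) i) := by
  classical
  have hempty : ∀ (X : GrLC.GMod.{u} 𝒜), Submodule.span R ((∅ : Finset X.carrier) : Set X.carrier) = ⊤ →
      Subsingleton (Abelian.Ext.{u} (ModuleCat.of R X.carrier) (ModuleCat.of R I) i) := by
    intro X hspan
    apply hcyc X 0 0 (zero_mem _)
    rw [Submodule.span_zero_singleton, ← hspan, Finset.coe_empty, Submodule.span_empty]
  induction n with
  | zero =>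
    intro X T hcard _ hspan
    have hT : T = ∅ := Finset.card_eq_zero.mp (Nat.le_zero.mp hcard)
    subst hT
    exact hempty X hspan
  | succ n ih =>
    intro X T hcard hhom hspan
    by_cases hT : T = ∅
    · subst hT
      exact hempty X hspan
    obtain ⟨t, htT⟩ := Finset.nonempty_of_ne_empty hT
    obtain ⟨g, htg⟩ := hhom t htT
    let N' : Submodule R X.carrier := Submodule.span R {t}
    have hN' : N'.IsHomogeneous X.gr := span_singleton_isHomogeneous 𝒜 X.gr htg
    let f : X.carrier →ₗ[R] X.carrier ⧸ N' := N'.mkQ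
    have hS := LinearMap.shortExact_shortComplexKer (Submodule.mkQ_surjective N')
    have hker : LinearMap.ker f = N' := Submodule.ker_mkQ N'
    have hkerhom : (LinearMap.ker f).IsHomogeneous X.gr := by
      rw [hker]
      exact hN'
    have h₁ : Subsingleton (Abelian.Ext.{u}
        (ModuleCat.of R (gmodSub 𝒜 X.gr (LinearMap.ker f) hkerhom).carrier)
        (ModuleCat.of R I) i) := by
      have htker : t ∈ LinearMap.ker f := by
        rw [hker]
        exact Submodule.mem_span_singleton_self t
      refine hcyc (gmodSub 𝒜 X.gr (LinearMap.ker f) hkerhom) ⟨t, htker⟩ g htg ?_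
      rw [eq_top_iff]
      rintro ⟨x, hx⟩ _
      have hx' : x ∈ N' := by
        rw [← hker]
        exact hx
      obtain ⟨r, rfl⟩ := Submodule.mem_span_singleton.mp hx'
      rw [Submodule.mem_span_singleton]
      exact ⟨r, rfl⟩
    have h₃ : Subsingleton (Abelian.Ext.{u}
        (ModuleCat.of R (gmodQuot 𝒜 X.gr N' hN').carrier) (ModuleCat.of R I) i) := by
      refine ih (gmodQuot 𝒜 X.gr N' hN') ((T.erase t).image N'.mkQ) ?_ ?_ ?_
      · refine le_trans Finset.card_image_le ?_
        rw [Finset.card_erase_of_mem htT]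
        omega
      · intro y hy
        rw [Finset.mem_image] at hy
        obtain ⟨s, hs, rfl⟩ := hy
        obtain ⟨g', hg'⟩ := hhom s (Finset.mem_of_mem_erase hs)
        exact ⟨g', s, hg', rfl⟩
      · rw [eq_top_iff]
        intro y _
        obtain ⟨x, rfl⟩ := Submodule.mkQ_surjective N' y
        have hx : x ∈ Submodule.span R (T : Set X.carrier) := by rw [hspan]; trivial
        refine Submodule.span_induction ?_ ?_ ?_ ?_ hx
        · intro s hs
          by_cases hst : s = t
          · have h0 : N'.mkQ s = 0 := by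
              rw [Submodule.mkQ_apply, Submodule.Quotient.mk_eq_zero, hst]
              exact Submodule.mem_span_singleton_self t
            rw [h0]
            exact Submodule.zero_mem _
          · apply Submodule.subset_span
            rw [Finset.mem_coe, Finset.mem_image]
            exact ⟨s, Finset.mem_erase.mpr ⟨hst, hs⟩, rfl⟩
        · rw [map_zero]
          exact Submodule.zero_mem _
        · intro a b _ _ ha hb
          rw [map_add]
          exact Submodule.add_mem _ ha hb
        · intro r a _ ha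
          rw [map_smul]
          exact Submodule.smul_mem _ r ha
    exact ext_subsingleton_middle hS (ModuleCat.of R I) i h₁ h₃

theorem ext_subsingleton_of_isStarInj [IsNoetherianRing R] (hI : GrLC.IsStarInj 𝒜 ℐ) (i : ℕ) :
    ∀ X : GrLC.GMod.{u} 𝒜, Module.Finite R X.carrier →
      Subsingleton (Abelian.Ext.{u} (ModuleCat.of R X.carrier) (ModuleCat.of R I) (i + 1)) := by
  induction i with
  | zero =>
    intro X hfin
    obtain ⟨T, hT, hspan⟩ := exists_finset_homogeneous_span_eq_top (R := R) X.gr
    exact ext_subsingleton_of_cyclic 𝒜 (I := I) 1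
      (fun N t g ht hspan' => ext_subsingleton_cyclic 𝒜 ℐ hI 0 (Or.inl rfl) N t g ht hspan')
      T.card X T le_rfl hT hspan
  | succ i ih =>
    intro X hfin
    obtain ⟨T, hT, hspan⟩ := exists_finset_homogeneous_span_eq_top (R := R) X.gr
    exact ext_subsingleton_of_cyclic 𝒜 (I := I) (i + 1 + 1)
      (fun N t g ht hspan' => ext_subsingleton_cyclic 𝒜 ℐ hI (i + 1) (Or.inr ih) N t g ht hspan')
      T.card X T le_rfl hT hspan

end GradedExt

end Groth.Agent.Lib.Helper30
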