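import Mathlib.Algebra.Homology.LocalCohomology
import Mathlib.CategoryTheory.Abelian.Projective.Ext
import Mathlib.Algebra.Category.ModuleCat.Ext.HasExt
import Mathlib.Algebra.Homology.ShortComplex.ModuleCat

set_option autoImplicit false

namespace Groth.Agent.Lib.Helper30

universe u

open CategoryTheory Opposite Limits

variable {R : Type u} [CommRing R]

/-- Vanishing of the derived-category `Ext` implies vanishing of the derived-functor `Ext`
used by Mathlib's local cohomology. -/
theorem isZero_oldExt_of_subsingleton_ext (X Y : ModuleCat.{u} R) (p : ℕ)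
    (h : Subsingleton (Abelian.Ext.{u} X Y (p + 1))) :
    IsZero (((Ext R (ModuleCat.{u} R) (p + 1)).obj (op X)).obj Y) := by
  let P := ProjectiveResolution.of X
  refine IsZero.of_iso ?_ (P.isoExt (p + 1) Y)
  rw [← HomologicalComplex.exactAt_iff_isZero_homology,
    HomologicalComplex.exactAt_iff' _ p (p + 1) (p + 2) (by simp) (by simp)]
  rw [ShortComplex.moduleCat_exact_iff]
  intro (f : P.complex.X (p + 1) ⟶ Y) hf
  have hf' : P.complex.d (p + 2) (p + 1) ≫ f = 0 := by
    have := hf
    simp only [HomologicalComplex.shortComplexFunctor'_obj_g] at this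
    exact this
  have h0 : P.extMk f (p + 2) rfl hf' = 0 := Subsingleton.elim _ _
  obtain ⟨g, hg⟩ := (P.extMk_eq_zero_iff f (p + 2) rfl hf' p rfl).mp h0
  refine ⟨g, ?_⟩
  simp only [HomologicalComplex.shortComplexFunctor'_obj_f]
  exact hg

/-- Local cohomology vanishes when all the `Ext` modules in its defining diagram vanish. -/
theorem localCohomology_isZero_of_isZero_ext (I : Ideal R) (i : ℕ) (M : ModuleCat.{u} R)
    (h : ∀ t : ℕ, IsZero (((Ext R (ModuleCat.{u} R) i).obj
      (op (ModuleCat.of R (R ⧸ I ^ t)))).obj M)) :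
    IsZero ((localCohomology I i).obj M) := by
  let F := localCohomology.diagram (localCohomology.idealPowersDiagram I) i
  let e := colimitObjIsoColimitCompEvaluation F M
  refine IsZero.of_iso ?_ e
  rw [IsZero.iff_id_eq_zero]
  apply colimit.hom_ext
  intro j
  exact (h j.unop.unop).eq_of_src _ _

theorem localCohomology_subsingleton_of_subsingleton_ext (I : Ideal R) (p : ℕ)
    (M : ModuleCat.{u} R)
    (h : ∀ t : ℕ, Subsingleton (Abelian.Ext.{u} (ModuleCat.of R (R ⧸ I ^ t)) M (p + 1))) :
    Subsingleton ((localCohomology I (p + 1)).obj M) :=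
  ModuleCat.subsingleton_of_isZero (localCohomology_isZero_of_isZero_ext I (p + 1) M
    (fun t => isZero_oldExt_of_subsingleton_ext _ M p (h t)))

end Groth.Agent.Lib.Helper30
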