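import Groth.Agent.Lib.Helper30.GradedQuotient

set_option autoImplicit false

open DirectSum

namespace Groth.Agent.Lib.Helper30

universe u

section

variable {ι : Type} [AddCommGroup ι] [DecidableEq ι]
variable {R : Type u} [CommRing R] (𝒜 : ι → AddSubgroup R) [GradedRing 𝒜]
variable {X : Type u} [AddCommGroup X] [Module R X] (𝒳 : ι → AddSubgroup X)
  [DirectSum.Decomposition 𝒳] [SetLike.GradedSMul 𝒜 𝒳]

omit [GradedRing 𝒜] in
theorem decompose_smul_of_mem {h : ι} {s : R} (hs : s ∈ 𝒜 h) (x : X) (g : ι) :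
    (decompose 𝒳 (s • x) (h + g) : X) = s • (decompose 𝒳 x g : X) := by
  induction x using DirectSum.Decomposition.inductionOn 𝒳 with
  | zero => simp
  | @homogeneous j m =>
    have hsm : s • (m : X) ∈ 𝒳 (h + j) := by
      have := SetLike.GradedSMul.smul_mem (A := 𝒜) (B := 𝒳) hs m.2
      rwa [vadd_eq_add] at this
    by_cases hjg : j = g
    · subst hjg
      rw [decompose_of_mem_same 𝒳 hsm, decompose_of_mem_same 𝒳 m.2]
    · have hne : h + j ≠ h + g := fun e => hjg (add_left_cancel e)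
      rw [decompose_of_mem_ne 𝒳 hsm hne, decompose_of_mem_ne 𝒳 m.2 hjg, smul_zero]
  | add m m' hm hm' =>
    rw [smul_add, decompose_add, decompose_add]
    simp only [DirectSum.add_apply, AddSubgroup.coe_add, smul_add, hm, hm']

theorem pow_isHomogeneous (a : HomogeneousIdeal 𝒜) (n : ℕ) :
    (a.toIdeal ^ n).IsHomogeneous 𝒜 := by
  induction n with
  | zero =>
    rw [pow_zero, Ideal.one_eq_top]
    exact Ideal.IsHomogeneous.top 𝒜
  | succ n ih =>
    rw [pow_succ]
    exact ih.mul a.isHomogeneous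

theorem gam_isHomogeneous (a : HomogeneousIdeal 𝒜) :
    (GrLC.gam a.toIdeal X).IsHomogeneous 𝒳 := by
  classical
  rintro g x ⟨n, hn⟩
  refine ⟨n, fun r hr => ?_⟩
  have hhom := pow_isHomogeneous 𝒜 a n
  rw [← sum_support_decompose 𝒜 r, Finset.sum_smul]
  apply Finset.sum_eq_zero
  intro h _
  have hrh : (decompose 𝒜 r h : R) ∈ a.toIdeal ^ n := hhom h hr
  have h0 : (decompose 𝒜 r h : R) • x = 0 := hn _ hrh
  have := decompose_smul_of_mem 𝒜 𝒳 (decompose 𝒜 r h).2 x g
  rw [h0, decompose_zero] at this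
  exact this.symm

end

section

variable {ι : Type} [DecidableEq ι]
variable {R : Type u} [CommRing R]
variable {M : Type u} [AddCommGroup M] [Module R M] (ℳ : ι → AddSubgroup M) [DirectSum.Decomposition ℳ]
variable {N : Type u} [AddCommGroup N] [Module R N] (𝒩 : ι → AddSubgroup N) [DirectSum.Decomposition 𝒩]

theorem map_isHomogeneous (f : M →ₗ[R] N) (hf : GrLC.IsGrHom ℳ 𝒩 f) (P : Submodule R M)
    (hP : P.IsHomogeneous ℳ) : (P.map f).IsHomogeneous 𝒩 := by
  rintro i _ ⟨m, hm, rfl⟩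
  exact ⟨(decompose ℳ m i : M), hP i hm, decompose_map_of_isGrHom ℳ 𝒩 f hf m i⟩

theorem inf_isHomogeneous (P Q : Submodule R M) (hP : P.IsHomogeneous ℳ)
    (hQ : Q.IsHomogeneous ℳ) : (P ⊓ Q).IsHomogeneous ℳ :=
  fun i _ hm => ⟨hP i hm.1, hQ i hm.2⟩

theorem bot_isHomogeneous : (⊥ : Submodule R M).IsHomogeneous ℳ := by
  intro i m hm
  rw [Submodule.mem_bot] at hm
  rw [hm, decompose_zero]
  exact Submodule.zero_mem _

end

end Groth.Agent.Lib.Helper30
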