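import Mathlib
import Groth.Agent.S7661

/-!
# Finite sets of points in affine schemes: prime avoidance (helper30)
-/

set_option autoImplicit false
universe u
open CategoryTheory CategoryTheory.Limits AlgebraicGeometry TopologicalSpace

namespace Groth.Agent.Lib.Helper30.AffFin

variable {A : Scheme.{u}}

/-- The prime ideal of global functions vanishing at `y`. -/
noncomputable def ptIdeal (y : A) : Ideal Γ(A, ⊤) :=
  (IsLocalRing.maximalIdeal (A.presheaf.stalk y)).comap (A.presheaf.germ ⊤ y trivial).hom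

instance ptIdeal_isPrime (y : A) : (ptIdeal y).IsPrime := by
  unfold ptIdeal
  exact Ideal.comap_isPrime _ _

theorem mem_basicOpen_iff (a : Γ(A, ⊤)) (y : A) : y ∈ A.basicOpen a ↔ a ∉ ptIdeal y := by
  rw [Scheme.mem_basicOpen_top, ptIdeal, Ideal.mem_comap, IsLocalRing.mem_maximalIdeal,
    mem_nonunits_iff, not_not]

/-- In an affine scheme, a finite set of points missing a closed set is contained in a basic open missing the
closed set. -/
theorem exists_basicOpen [IsAffine A] (K : Set A) (hK : IsClosed K) (s : Finset A)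
    (hs : ∀ y ∈ s, y ∉ K) :
    ∃ a : Γ(A, ⊤), (∀ y ∈ s, y ∈ A.basicOpen a) ∧ ∀ k ∈ K, k ∉ A.basicOpen a := by
  classical
  let J : Ideal Γ(A, ⊤) := ⨅ k : K, ptIdeal k.1
  have hJ : ∀ y ∈ s, ¬ J ≤ ptIdeal y := by
    intro y hy hle
    obtain ⟨_, ⟨_, ⟨a, rfl⟩, rfl⟩, hya, haK⟩ := (isBasis_basicOpen A).exists_subset_of_mem_open
      (show y ∈ Kᶜ from hs y hy) hK.isOpen_compl
    have : a ∈ J := by
      rw [Ideal.mem_iInf]
      intro k
      by_contra h
      exact haK ((mem_basicOpen_iff a k.1).2 h) k.2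
    exact (mem_basicOpen_iff a y).1 hya (hle this)
  have hnot : ¬ ((J : Set Γ(A, ⊤)) ⊆ ⋃ y ∈ (↑s : Set A), (ptIdeal y : Set Γ(A, ⊤))) := by
    intro hsub
    by_cases hne : s.Nonempty
    · obtain ⟨y₀, hy₀⟩ := hne
      obtain ⟨y, hy, hle⟩ := (Ideal.subset_union_prime (s := s) (f := fun y => ptIdeal y) y₀ y₀
        (fun i _ _ _ => ptIdeal_isPrime i)).1 hsub
      exact hJ y hy hle
    · rw [Finset.not_nonempty_iff_eq_empty] at hne
      subst hne
      have h1 : (1 : Γ(A, ⊤)) ∈ (J : Set Γ(A, ⊤)) := by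
        have : J = ⊤ := by
          rw [eq_top_iff]
          -- without points in `s` we use `hsub` directly
          intro x _
          have := hsub (show (0 : Γ(A, ⊤)) ∈ (J : Set _) from J.zero_mem)
          simp at this
        rw [this]; trivial
      have := hsub h1
      simp at this
  rw [Set.not_subset] at hnot
  obtain ⟨a, haJ, hau⟩ := hnot
  refine ⟨a, fun y hy => ?_, fun k hk hka => ?_⟩
  · rw [mem_basicOpen_iff]
    intro hay
    exact hau (Set.mem_biUnion (show y ∈ (↑s : Set A) from hy) hay)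
  · rw [mem_basicOpen_iff] at hka
    exact hka ((Ideal.mem_iInf.1 haJ) ⟨k, hk⟩)


/-- Lifting a function along a closed immersion into an affine scheme, keeping finitely many points outside the
closed subscheme in the nonvanishing locus. -/
theorem exists_lift [IsAffine A] {P : Scheme.{u}} (g : P ⟶ A) [IsClosedImmersion g] (c : Γ(P, ⊤))
    (s : Finset A) (hs : ∀ y ∈ s, y ∉ Set.range g) :
    ∃ h : Γ(A, ⊤), g.appTop h = c ∧ ∀ y ∈ s, y ∈ A.basicOpen h := by
  classical
  obtain ⟨hP, hsurj⟩ := IsClosedImmersion.isAffine_surjective_of_isAffine g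
  let I : Ideal Γ(A, ⊤) := RingHom.ker g.appTop.hom
  have hI : ∀ p ∈ s.image (fun y => ptIdeal y), ¬ I ≤ p := by
    intro p hp hle
    obtain ⟨y, hy, rfl⟩ := Finset.mem_image.1 hp
    obtain ⟨a, hya, haK⟩ := exists_basicOpen (Set.range g) g.isClosedEmbedding.isClosed_range {y}
      (by intro z hz; rw [Finset.mem_singleton] at hz; subst hz; exact hs z hy)
    have hbot : P.basicOpen (g.appTop a) = ⊥ := by
      rw [← Scheme.preimage_basicOpen_top]
      ext z
      simp only [Opens.coe_bot, Set.mem_empty_iff_false, iff_false]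
      intro hz
      exact haK (g z) ⟨z, rfl⟩ hz
    obtain ⟨n, hn⟩ := (Scheme.isNilpotent_iff_basicOpen_eq_bot (g.appTop a)).2 hbot
    have : a ^ n ∈ I := by
      change g.appTop.hom (a ^ n) = 0
      rw [map_pow]
      exact hn
    have h2 := (ptIdeal_isPrime y).mem_of_pow_mem n (hle this)
    exact (mem_basicOpen_iff a y).1 (hya y (Finset.mem_singleton_self y)) h2
  obtain ⟨h₀, rfl⟩ := hsurj c
  obtain ⟨f, hf, hfp⟩ := Groth.Agent.S7661.result Γ(A, ⊤) I (s.image (fun y => ptIdeal y))
    (by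
      intro p hp
      obtain ⟨y, -, rfl⟩ := Finset.mem_image.1 hp
      exact ptIdeal_isPrime y) hI (Ideal.Quotient.mk I h₀)
  refine ⟨f, ?_, fun y hy => ?_⟩
  · have : f - h₀ ∈ I := (Ideal.Quotient.eq).1 hf
    have h0 : g.appTop.hom (f - h₀) = 0 := this
    rw [map_sub, sub_eq_zero] at h0
    exact h0
  · rw [mem_basicOpen_iff]
    exact hfp _ (Finset.mem_image_of_mem _ hy)

end Groth.Agent.Lib.Helper30.AffFin
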