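import Mathlib
import Groth.Agent.Lib.Helper30.AffFin
import Groth.Agent.Lib.Helper7.ClosedCover
import Groth.Agent.S0440

/-!
# Affine opens containing finitely many points, componentwise (helper30)
-/

set_option autoImplicit false
universe u
open CategoryTheory CategoryTheory.Limits AlgebraicGeometry TopologicalSpace

namespace Groth.Agent.Lib.Helper30.AffUnion

open Groth.Agent.Lib.Helper30.AffFin

variable {X : Scheme.{u}}

/-- A preimmersion whose range is `C ∩ W` with `C` closed and `W` open lifts to a closed immersion into `W`. -/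
theorem exists_closedImmersion_lift {C : Set X} (hc : IsClosed C) {B : Scheme.{u}} (e : B ⟶ X)
    [IsPreimmersion e] (W : X.Opens) (h : Set.range e = C ∩ W) :
    ∃ g : B ⟶ W.toScheme, IsClosedImmersion g ∧ g ≫ W.ι = e := by
  have hsub : Set.range e ⊆ Set.range W.ι := by
    rw [Scheme.Opens.range_ι, h]
    exact Set.inter_subset_right
  let g : B ⟶ W.toScheme := IsOpenImmersion.lift W.ι e hsub
  have fac : g ≫ W.ι = e := IsOpenImmersion.lift_fac _ _ _
  have h1 : IsPreimmersion (g ≫ W.ι) := by rw [fac]; infer_instance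
  have h2 : IsPreimmersion g := IsPreimmersion.of_comp g W.ι
  have hr : Set.range g = W.ι ⁻¹' C := by
    ext w
    constructor
    · rintro ⟨b, rfl⟩
      have : W.ι (g b) = e b := by rw [← Scheme.Hom.comp_apply, fac]
      change W.ι (g b) ∈ C
      rw [this]
      exact (h.le ⟨b, rfl⟩).1
    · intro hw
      have hw' : W.ι w ∈ Set.range e := by
        rw [h]
        exact ⟨hw, w.2⟩
      obtain ⟨b, hb⟩ := hw'
      refine ⟨b, W.ι.isOpenEmbedding.injective ?_⟩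
      rw [← hb, ← Scheme.Hom.comp_apply, fac]
  refine ⟨g, ?_, fac⟩
  exact IsClosedImmersion.of_isPreimmersion g (by rw [hr]; exact hc.preimage W.ι.continuous)


open Scheme IdealSheafData in
theorem support_inf (Y : Scheme.{u}) (I J : Y.IdealSheafData) :
    ((I ⊓ J).support : Set Y) = (I.support : Set Y) ∪ (J.support : Set Y) := by
  apply Set.Subset.antisymm
  · have hle : I * J ≤ I ⊓ J := by
      rw [le_def]
      intro U
      rw [ideal_mul, ideal_inf]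
      exact Ideal.mul_le_inf
    have := support_antitone hle
    rw [support_mul] at this
    exact this
  · apply Set.union_subset
    · exact support_antitone (inf_le_left : I ⊓ J ≤ I)
    · exact support_antitone (inf_le_right : I ⊓ J ≤ J)

/-- Gluing two affine pieces on closed sets `C₁`, `C₂` over the same open `W`. -/
theorem glue {C₁ C₂ : Set X} (hc₁ : IsClosed C₁) (hc₂ : IsClosed C₂) {B₁ B₂ : Scheme.{u}}
    (e₁ : B₁ ⟶ X) (e₂ : B₂ ⟶ X) [IsAffine B₁] [IsAffine B₂] [IsPreimmersion e₁] [IsPreimmersion e₂]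
    (W : X.Opens) (h₁ : Set.range e₁ = C₁ ∩ W) (h₂ : Set.range e₂ = C₂ ∩ W) :
    ∃ (A : Scheme.{u}) (f : A ⟶ X), IsAffine A ∧ IsPreimmersion f ∧
      Set.range f = (C₁ ∪ C₂) ∩ W := by
  obtain ⟨g₁, hg₁, fac₁⟩ := exists_closedImmersion_lift hc₁ e₁ W h₁
  obtain ⟨g₂, hg₂, fac₂⟩ := exists_closedImmersion_lift hc₂ e₂ W h₂
  have a₁ : IsAffine g₁.ker.subscheme := .of_isIso (inv g₁.toImage)
  have a₂ : IsAffine g₂.ker.subscheme := .of_isIso (inv g₂.toImage)
  have hA : IsAffine (g₁.ker ⊓ g₂.ker).subscheme :=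
    Groth.Agent.Lib.Helper7.ClosedCover.isAffine_subscheme_inf g₁.ker g₂.ker
  refine ⟨(g₁.ker ⊓ g₂.ker).subscheme, (g₁.ker ⊓ g₂.ker).subschemeι ≫ W.ι, hA, inferInstance, ?_⟩
  have hs₁ : (g₁.ker.support : Set W.toScheme) = Set.range g₁ := by
    rw [Scheme.Hom.support_ker]
    exact g₁.isClosedEmbedding.isClosed_range.closure_eq
  have hs₂ : (g₂.ker.support : Set W.toScheme) = Set.range g₂ := by
    rw [Scheme.Hom.support_ker]
    exact g₂.isClosedEmbedding.isClosed_range.closure_eq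
  have hr : Set.range ((g₁.ker ⊓ g₂.ker).subschemeι ≫ W.ι) =
      W.ι '' (Set.range g₁ ∪ Set.range g₂) := by
    rw [Scheme.Hom.comp_base, TopCat.coe_comp, Set.range_comp,
      Scheme.IdealSheafData.range_subschemeι, support_inf, hs₁, hs₂]
  rw [hr, Set.image_union, ← Set.range_comp, ← Set.range_comp]
  have e1 : Set.range (W.ι ∘ g₁) = Set.range e₁ := by
    rw [← fac₁, Scheme.Hom.comp_base, TopCat.coe_comp]
  have e2 : Set.range (W.ι ∘ g₂) = Set.range e₂ := by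
    rw [← fac₂, Scheme.Hom.comp_base, TopCat.coe_comp]
  rw [e1, e2, h₁, h₂, Set.union_inter_distrib_right]


/-- Restricting a piece to a basic open gives a piece. -/
theorem range_basicOpen_comp {A : Scheme.{u}} (f : A ⟶ X) [IsPreimmersion f] {C : Set X}
    (W : X.Opens) (hW : Set.range f = C ∩ W) (a : Γ(A, ⊤)) :
    Set.range ((A.basicOpen a).ι ≫ f) = f '' (A.basicOpen a) ∧
      ∃ W' : X.Opens, W' ≤ W ∧ Set.range ((A.basicOpen a).ι ≫ f) = C ∩ W' := by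
  have h0 : Set.range ((A.basicOpen a).ι ≫ f) = f '' (A.basicOpen a) := by
    rw [Scheme.Hom.comp_base, TopCat.coe_comp, Set.range_comp, Scheme.Opens.range_ι]
  refine ⟨h0, ?_⟩
  obtain ⟨O, hO, hpre⟩ := f.isEmbedding.isInducing.isOpen_iff.1 (A.basicOpen a).isOpen
  refine ⟨W ⊓ ⟨O, hO⟩, inf_le_left, ?_⟩
  rw [h0, ← hpre, Set.image_preimage_eq_inter_range, hW]
  ext x
  simp only [Set.mem_inter_iff, Opens.coe_inf, Opens.coe_mk, SetLike.mem_coe]
  tauto

/-- Shrinking a piece to avoid a closed set missing the marked points. -/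
theorem shrink {C : Set X} {T : Finset X} {A : Scheme.{u}} (f : A ⟶ X) [IsAffine A]
    [IsPreimmersion f] (hT : ∀ t ∈ T, t ∈ C → t ∈ Set.range f) (hfC : Set.range f ⊆ C)
    (K : Set X) (hK : IsClosed K) (hTK : ∀ t ∈ T, t ∈ C → t ∉ K) :
    ∃ a : Γ(A, ⊤), (∀ t ∈ T, t ∈ C → t ∈ f '' (A.basicOpen a)) ∧
      ∀ y ∈ A.basicOpen a, f y ∉ K := by
  classical
  let s : Finset A := T.preimage f f.isEmbedding.injective.injOn
  obtain ⟨a, has, haK⟩ := exists_basicOpen (f ⁻¹' K) (hK.preimage f.continuous) s (by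
    intro y hy hyK
    have hyT : f y ∈ T := Finset.mem_preimage.1 hy
    exact hTK _ hyT (hfC ⟨y, rfl⟩) hyK)
  refine ⟨a, fun t ht htC => ?_, fun y hy hyK => haK y hyK hy⟩
  obtain ⟨y, rfl⟩ := hT t ht htC
  exact ⟨y, has y (Finset.mem_preimage.2 ht), rfl⟩


/-- The closed set `C` has an affine piece (a locally closed affine subscheme of `X` of the form `C ∩ W`, `W` open)
containing the marked points on `C`. -/
def Good (C : Set X) (T : Finset X) : Prop :=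
  ∃ (A : Scheme.{u}) (f : A ⟶ X), IsAffine A ∧ IsPreimmersion f ∧
    (∃ W : X.Opens, Set.range f = C ∩ W) ∧ ∀ t ∈ T, t ∈ C → t ∈ Set.range f

theorem good_union_aux {C₁ C₂ : Set X} (hc₁ : IsClosed C₁) (hc₂ : IsClosed C₂) (T : Finset X)
    {A₁ A₂ : Scheme.{u}} (f₁ : A₁ ⟶ X) (f₂ : A₂ ⟶ X) [IsAffine A₁] [IsAffine A₂]
    [IsPreimmersion f₁] [IsPreimmersion f₂]
    (W₁ W₂ : X.Opens) (hW₁ : Set.range f₁ = C₁ ∩ W₁) (hW₂ : Set.range f₂ = C₂ ∩ W₂)
    (hT₁ : ∀ t ∈ T, t ∈ C₁ → t ∈ Set.range f₁) (hT₂ : ∀ t ∈ T, t ∈ C₂ → t ∈ Set.range f₂)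
    (hP1 : ∀ x ∈ Set.range f₁, x ∈ C₂ → x ∈ Set.range f₂) :
    Good (C₁ ∪ C₂) T := by
  classical
  -- Step 2 : shrink the second piece
  obtain ⟨b, hbT, hbK⟩ := shrink (C := C₂) (T := T) f₂ hT₂
    (by rw [hW₂]; exact Set.inter_subset_left)
    (C₁ ∩ (W₁ : Set X)ᶜ) (hc₁.inter W₁.isOpen.isClosed_compl) (by
      rintro t ht - ⟨htC₁, htW⟩
      have := hT₁ t ht htC₁
      rw [hW₁] at this
      exact htW this.2)
  -- Step 3 : the fibre product and the lift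
  have hrange : Set.range (pullback.fst f₁ f₂) = f₁ ⁻¹' C₂ := by
    rw [Scheme.Pullback.range_fst]
    ext y
    constructor
    · intro hy
      have : f₁ y ∈ Set.range f₂ := hy
      rw [hW₂] at this
      exact this.1
    · intro hy
      exact hP1 _ ⟨y, rfl⟩ hy
  have : IsClosedImmersion (pullback.fst f₁ f₂) :=
    IsClosedImmersion.of_isPreimmersion _ (by rw [hrange]; exact hc₂.preimage f₁.continuous)
  let s : Finset A₁ :=
    (T.preimage f₁ f₁.isEmbedding.injective.injOn).filter (fun y => f₁ y ∉ C₂)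
  obtain ⟨h, hh, hhs⟩ := exists_lift (pullback.fst f₁ f₂) ((pullback.snd f₁ f₂).appTop b) s (by
    intro y hy hyr
    rw [hrange] at hyr
    exact (Finset.mem_filter.1 hy).2 hyr)
  have K2 : ∀ (y : A₁) (z : A₂), f₁ y = f₂ z → (y ∈ A₁.basicOpen h ↔ z ∈ A₂.basicOpen b) := by
    intro y z hyz
    obtain ⟨p, rfl, rfl⟩ := Scheme.Pullback.exists_preimage_pullback y z hyz
    have e1 : pullback.fst f₁ f₂ ⁻¹ᵁ A₁.basicOpen h = pullback.snd f₁ f₂ ⁻¹ᵁ A₂.basicOpen b := by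
      rw [Scheme.preimage_basicOpen_top, Scheme.preimage_basicOpen_top, hh]
    have := congrArg (fun U : (pullback f₁ f₂).Opens => p ∈ U) e1
    exact Iff.of_eq this
  obtain ⟨hr₁, W₁', -, hW₁'⟩ := range_basicOpen_comp f₁ W₁ hW₁ h
  obtain ⟨hr₂, W₂', -, hW₂'⟩ := range_basicOpen_comp f₂ W₂ hW₂ b
  -- the matching condition
  have M : ∀ x, (x ∈ f₁ '' (A₁.basicOpen h) ∧ x ∈ C₂) ↔ (x ∈ f₂ '' (A₂.basicOpen b) ∧ x ∈ C₁) := by
    intro x
    constructor
    · rintro ⟨⟨y, hy, rfl⟩, hx₂⟩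
      obtain ⟨z, hz⟩ := hP1 _ ⟨y, rfl⟩ hx₂
      refine ⟨⟨z, (K2 y z hz.symm).1 hy, hz⟩, ?_⟩
      have : f₁ y ∈ Set.range f₁ := ⟨y, rfl⟩
      rw [hW₁] at this
      exact this.1
    · rintro ⟨⟨z, hz, rfl⟩, hx₁⟩
      have hzW : f₂ z ∈ (W₁ : Set X) := by
        by_contra hcon
        exact hbK z hz ⟨hx₁, hcon⟩
      have : f₂ z ∈ Set.range f₁ := by rw [hW₁]; exact ⟨hx₁, hzW⟩
      obtain ⟨y, hy⟩ := this
      refine ⟨⟨y, (K2 y z hy).2 hz, hy⟩, ?_⟩
      have : f₂ z ∈ Set.range f₂ := ⟨z, rfl⟩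
      rw [hW₂] at this
      exact this.1
  -- marked points
  have T1 : ∀ t ∈ T, t ∈ C₁ → t ∈ f₁ '' (A₁.basicOpen h) := by
    intro t ht htC₁
    obtain ⟨y, rfl⟩ := hT₁ t ht htC₁
    by_cases hC₂ : f₁ y ∈ C₂
    · obtain ⟨z, hz, hzy⟩ := hbT _ ht hC₂
      exact ⟨y, (K2 y z hzy.symm).2 hz, rfl⟩
    · refine ⟨y, hhs y ?_, rfl⟩
      exact Finset.mem_filter.2 ⟨Finset.mem_preimage.2 ht, hC₂⟩
  -- the common open
  let W : X.Opens := (W₁' ⊓ W₂') ⊔ (W₁' ⊓ ⟨C₂ᶜ, hc₂.isOpen_compl⟩) ⊔ (W₂' ⊓ ⟨C₁ᶜ, hc₁.isOpen_compl⟩)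
  have hR₁ : Set.range ((A₁.basicOpen h).ι ≫ f₁) = C₁ ∩ W := by
    rw [hW₁']
    ext x
    constructor
    · rintro ⟨hx₁, hxW⟩
      refine ⟨hx₁, ?_⟩
      by_cases hx₂ : x ∈ C₂
      · have hxR : x ∈ f₁ '' (A₁.basicOpen h) := by rw [← hr₁, hW₁']; exact ⟨hx₁, hxW⟩
        have hxR₂ := ((M x).1 ⟨hxR, hx₂⟩).1
        rw [← hr₂, hW₂'] at hxR₂
        exact Or.inl (Or.inl ⟨hxW, hxR₂.2⟩)
      · exact Or.inl (Or.inr ⟨hxW, hx₂⟩)
    · rintro ⟨hx₁, hxW⟩
      refine ⟨hx₁, ?_⟩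
      rcases hxW with (⟨hx, -⟩ | ⟨hx, -⟩) | ⟨-, hx⟩
      · exact hx
      · exact hx
      · exact absurd hx₁ hx
  have hR₂ : Set.range ((A₂.basicOpen b).ι ≫ f₂) = C₂ ∩ W := by
    rw [hW₂']
    ext x
    constructor
    · rintro ⟨hx₂, hxW⟩
      refine ⟨hx₂, ?_⟩
      by_cases hx₁ : x ∈ C₁
      · have hxR : x ∈ f₂ '' (A₂.basicOpen b) := by rw [← hr₂, hW₂']; exact ⟨hx₂, hxW⟩
        have hxR₁ := ((M x).2 ⟨hxR, hx₁⟩).1
        rw [← hr₁, hW₁'] at hxR₁
        exact Or.inl (Or.inl ⟨hxR₁.2, hxW⟩)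
      · exact Or.inr ⟨hxW, hx₁⟩
    · rintro ⟨hx₂, hxW⟩
      refine ⟨hx₂, ?_⟩
      rcases hxW with (⟨-, hx⟩ | ⟨-, hx⟩) | ⟨hx, -⟩
      · exact hx
      · exact absurd hx₂ hx
      · exact hx
  have : IsAffine (A₁.basicOpen h).toScheme := (isAffineOpen_top A₁).basicOpen h
  have : IsAffine (A₂.basicOpen b).toScheme := (isAffineOpen_top A₂).basicOpen b
  obtain ⟨A, f, hA, hf, hrf⟩ := glue hc₁ hc₂ ((A₁.basicOpen h).ι ≫ f₁) ((A₂.basicOpen b).ι ≫ f₂)
    W hR₁ hR₂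
  refine ⟨A, f, hA, hf, ⟨W, hrf⟩, ?_⟩
  intro t ht htC
  rw [hrf, Set.union_inter_distrib_right, ← hR₁, ← hR₂, hr₁, hr₂]
  rcases htC with htC | htC
  · exact Or.inl (T1 t ht htC)
  · exact Or.inr (hbT t ht htC)


theorem good_union {C₁ C₂ : Set X} (hc₁ : IsClosed C₁) (hc₂ : IsClosed C₂) (T : Finset X)
    (h₁ : Good C₁ T) (h₂ : Good C₂ T) : Good (C₁ ∪ C₂) T := by
  obtain ⟨A₁, f₁, hA₁, hf₁, ⟨W₁, hW₁⟩, hT₁⟩ := h₁
  obtain ⟨A₂, f₂, hA₂, hf₂, ⟨W₂, hW₂⟩, hT₂⟩ := h₂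
  obtain ⟨a, haT, haK⟩ := shrink (C := C₁) (T := T) f₁ hT₁
    (by rw [hW₁]; exact Set.inter_subset_left)
    (C₂ ∩ (W₂ : Set X)ᶜ) (hc₂.inter W₂.isOpen.isClosed_compl) (by
      rintro t ht - ⟨htC₂, htW⟩
      have := hT₂ t ht htC₂
      rw [hW₂] at this
      exact htW this.2)
  obtain ⟨hr₁, W₁', -, hW₁'⟩ := range_basicOpen_comp f₁ W₁ hW₁ a
  have : IsAffine (A₁.basicOpen a).toScheme := (isAffineOpen_top A₁).basicOpen a
  refine good_union_aux hc₁ hc₂ T ((A₁.basicOpen a).ι ≫ f₁) f₂ W₁' W₂ hW₁' hW₂ ?_ hT₂ ?_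
  · intro t ht htC
    rw [hr₁]
    exact haT t ht htC
  · intro x hx hx₂
    rw [hr₁] at hx
    obtain ⟨y, hy, rfl⟩ := hx
    rw [hW₂]
    refine ⟨hx₂, ?_⟩
    by_contra hcon
    exact haK y hy ⟨hx₂, hcon⟩

theorem good_empty (T : Finset X) : Good (∅ : Set X) T := by
  refine ⟨(⊥ : X.Opens).toScheme, (⊥ : X.Opens).ι, ?_, inferInstance, ⟨⊥, ?_⟩, ?_⟩
  · exact isAffineOpen_bot X
  · rw [Scheme.Opens.range_ι]
    simp
  · intro t _ ht
    exact absurd ht (Set.notMem_empty t)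

theorem good_biUnion (T : Finset X) (s : Finset (Set X))
    (hs : ∀ Z ∈ s, IsClosed Z ∧ Good Z T) : IsClosed (⋃ Z ∈ s, Z) ∧ Good (⋃ Z ∈ s, Z) T := by
  classical
  induction s using Finset.induction_on with
  | empty =>
    simp only [Finset.notMem_empty, Set.iUnion_of_empty, Set.iUnion_empty]
    exact ⟨isClosed_empty, good_empty T⟩
  | insert Z₀ s hZ₀ ih =>
    have h0 := hs Z₀ (Finset.mem_insert_self _ _)
    have h1 := ih (fun Z hZ => hs Z (Finset.mem_insert_of_mem hZ))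
    rw [Finset.set_biUnion_insert]
    exact ⟨h0.1.union h1.1, good_union h0.1 h1.1 T h0.2 h1.2⟩

/-- An affine open of the reduced closed subscheme on `Z` containing the marked points gives a good piece. -/
theorem good_of_affineOpen (Z : Closeds X) (T : Finset X)
    (V : (Scheme.IdealSheafData.vanishingIdeal Z).subscheme.Opens) (hV : IsAffineOpen V)
    (hT : ∀ t ∈ T, t ∈ (Z : Set X) →
      t ∈ (Scheme.IdealSheafData.vanishingIdeal Z).subschemeι.base '' (V : Set _)) :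
    Good (Z : Set X) T := by
  have hr : Set.range (V.ι ≫ (Scheme.IdealSheafData.vanishingIdeal Z).subschemeι) =
      (Scheme.IdealSheafData.vanishingIdeal Z).subschemeι '' (V : Set _) := by
    rw [Scheme.Hom.comp_base, TopCat.coe_comp, Set.range_comp, Scheme.Opens.range_ι]
  refine ⟨V.toScheme, V.ι ≫ (Scheme.IdealSheafData.vanishingIdeal Z).subschemeι, hV,
    inferInstance, ?_, ?_⟩
  · obtain ⟨O, hO, hpre⟩ := (Scheme.IdealSheafData.vanishingIdeal
      Z).subschemeι.isEmbedding.isInducing.isOpen_iff.1 V.isOpen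
    refine ⟨⟨O, hO⟩, ?_⟩
    rw [hr, ← hpre, Set.image_preimage_eq_inter_range, Scheme.IdealSheafData.range_subschemeι,
      Scheme.IdealSheafData.coe_support_vanishingIdeal, Set.inter_comm]
    rfl
  · intro t ht htZ
    rw [hr]
    exact hT t ht htZ

/-- From a good piece on the whole space to an affine open. -/
theorem exists_affineOpen_of_good_univ (T : Finset X) (h : Good (Set.univ : Set X) T) :
    ∃ U : X.Opens, IsAffineOpen U ∧ ∀ t ∈ T, t ∈ U := by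
  obtain ⟨A, f, hA, hf, ⟨W, hW⟩, hT⟩ := h
  obtain ⟨g, hg, fac⟩ := exists_closedImmersion_lift isClosed_univ f W hW
  refine ⟨W, ?_, ?_⟩
  · have hsurj : Function.Surjective g := by
      intro w
      have : W.ι w ∈ Set.range f := by
        rw [hW]
        exact ⟨trivial, w.2⟩
      obtain ⟨a, ha⟩ := this
      refine ⟨a, W.ι.isOpenEmbedding.injective ?_⟩
      rw [← ha, ← Scheme.Hom.comp_apply, fac]
    exact Groth.Agent.S0440.result g hsurj
  · intro t ht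
    have := hT t ht trivial
    rw [hW] at this
    exact this.2

end Groth.Agent.Lib.Helper30.AffUnion
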