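import Mathlib.AlgebraicGeometry.Morphisms.ClosedImmersion
import Mathlib.AlgebraicGeometry.Morphisms.Affine
import Mathlib.RingTheory.TensorProduct.Maps

/-!
# Closed immersions into fibre products of affine schemes, in terms of global sections
-/

set_option autoImplicit false
set_option linter.unusedSectionVars false
universe u
open CategoryTheory CategoryTheory.Limits AlgebraicGeometry

namespace Groth.Agent.Lib.Helper30.AffineProd

/-- In a pushout square of commutative rings, the images of the two legs generate the pushout. -/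
theorem closure_range_eq_top_of_isPushout {A B C D : CommRingCat.{u}} {f : A ⟶ B} {g : A ⟶ C}
    {inl : B ⟶ D} {inr : C ⟶ D} (h : IsPushout f g inl inr) :
    Subring.closure (Set.range inl.hom ∪ Set.range inr.hom) = ⊤ := by
  set R' := Subring.closure (Set.range inl.hom ∪ Set.range inr.hom) with hR'
  have hl : ∀ b, inl.hom b ∈ R' := fun b => Subring.subset_closure (Or.inl ⟨b, rfl⟩)
  have hr : ∀ c, inr.hom c ∈ R' := fun c => Subring.subset_closure (Or.inr ⟨c, rfl⟩)
  let inl' : B ⟶ CommRingCat.of R' := CommRingCat.ofHom (inl.hom.codRestrict R' hl)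
  let inr' : C ⟶ CommRingCat.of R' := CommRingCat.ofHom (inr.hom.codRestrict R' hr)
  let ι : CommRingCat.of R' ⟶ D := CommRingCat.ofHom R'.subtype
  have hw : f ≫ inl' = g ≫ inr' := by
    ext a
    exact congrArg (fun k => k.hom a) h.w
  have h1 : inl ≫ h.desc inl' inr' hw ≫ ι = inl ≫ 𝟙 D := by
    rw [← Category.assoc, h.inl_desc, Category.comp_id]; rfl
  have h2 : inr ≫ h.desc inl' inr' hw ≫ ι = inr ≫ 𝟙 D := by
    rw [← Category.assoc, h.inr_desc, Category.comp_id]; rfl
  have h3 : h.desc inl' inr' hw ≫ ι = 𝟙 D := h.hom_ext h1 h2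
  rw [eq_top_iff]
  intro d _
  have := congrArg (fun k => k.hom d) h3
  simp only [CommRingCat.hom_comp, RingHom.coe_comp, Function.comp_apply, CommRingCat.hom_id,
    RingHom.id_apply] at this
  rw [← this]
  exact ((h.desc inl' inr' hw).hom d).2

/-- If the images of `F` and `G` generate `D`, the product map from the tensor product over `ℤ`
is surjective. -/
theorem surjective_productMap_of_closure_eq_top {B C D : Type u} [CommRing B] [CommRing C]
    [CommRing D] (F : B →+* D) (G : C →+* D)
    (h : Subring.closure (Set.range F ∪ Set.range G) = ⊤) :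
    Function.Surjective (Algebra.TensorProduct.productMap F.toIntAlgHom G.toIntAlgHom) := by
  intro d
  have hd : d ∈ Subring.closure (Set.range F ∪ Set.range G) := by rw [h]; trivial
  have hle : Subring.closure (Set.range F ∪ Set.range G) ≤
      (Algebra.TensorProduct.productMap F.toIntAlgHom G.toIntAlgHom).range.toSubring := by
    rw [Subring.closure_le]
    rintro x (⟨b, rfl⟩ | ⟨c, rfl⟩)
    · exact ⟨b ⊗ₜ 1, by simp⟩
    · exact ⟨1 ⊗ₜ c, by simp⟩
  exact hle hd

variable {U V Z P : Scheme.{u}} [IsAffine U] [IsAffine V] [IsAffine Z]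

/-- The product map on global sections of `P` factors through the global sections of the fibre
product. -/
theorem productMap_eq (f : U ⟶ Z) (g : V ⟶ Z) (a : P ⟶ U) (b : P ⟶ V) (w : a ≫ f = b ≫ g)
    (x : TensorProduct ℤ Γ(U, ⊤) Γ(V, ⊤)) :
    Algebra.TensorProduct.productMap a.appTop.hom.toIntAlgHom b.appTop.hom.toIntAlgHom x =
      (pullback.lift a b w).appTop.hom
        (Algebra.TensorProduct.productMap (pullback.fst f g).appTop.hom.toIntAlgHom
          (pullback.snd f g).appTop.hom.toIntAlgHom x) := by
  have ha : a.appTop = (pullback.fst f g).appTop ≫ (pullback.lift a b w).appTop := by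
    rw [← Scheme.Hom.comp_appTop, pullback.lift_fst]
  have hb : b.appTop = (pullback.snd f g).appTop ≫ (pullback.lift a b w).appTop := by
    rw [← Scheme.Hom.comp_appTop, pullback.lift_snd]
  induction x using TensorProduct.induction_on with
  | zero => simp
  | tmul x y =>
    simp only [Algebra.TensorProduct.productMap_apply_tmul, RingHom.toIntAlgHom_apply, map_mul]
    rw [ha, hb]
    rfl
  | add x y hx hy => rw [map_add, map_add, map_add, hx, hy]

/-- A map into a fibre product of affine schemes is a closed immersion iff the source is affine and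
the product map on global sections is surjective. -/
theorem isClosedImmersion_lift_iff (f : U ⟶ Z) (g : V ⟶ Z) (a : P ⟶ U) (b : P ⟶ V)
    (w : a ≫ f = b ≫ g) :
    IsClosedImmersion (pullback.lift a b w) ↔ IsAffine P ∧ Function.Surjective
      (Algebra.TensorProduct.productMap a.appTop.hom.toIntAlgHom b.appTop.hom.toIntAlgHom) := by
  have hY : Function.Surjective
      (Algebra.TensorProduct.productMap (pullback.fst f g).appTop.hom.toIntAlgHom
          (pullback.snd f g).appTop.hom.toIntAlgHom) :=
    surjective_productMap_of_closure_eq_top _ _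
      (closure_range_eq_top_of_isPushout
        (isPushout_appTop_of_isPullback (IsPullback.of_hasPullback f g)))
  constructor
  · intro h
    obtain ⟨h1, h2⟩ := IsClosedImmersion.isAffine_surjective_of_isAffine (pullback.lift a b w)
    refine ⟨h1, fun c => ?_⟩
    obtain ⟨y, rfl⟩ := h2 c
    obtain ⟨x, rfl⟩ := hY y
    exact ⟨x, productMap_eq f g a b w x⟩
  · rintro ⟨h1, h2⟩
    refine IsClosedImmersion.of_surjective_of_isAffine _ (fun c => ?_)
    obtain ⟨x, rfl⟩ := h2 c
    exact ⟨_, (productMap_eq f g a b w x).symm⟩

end Groth.Agent.Lib.Helper30.AffineProd
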