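import Mathlib.FieldTheory.IsAlgClosed.Classification
import Mathlib.FieldTheory.IsAlgClosed.AlgebraicClosure
import Mathlib.RingTheory.Localization.FractionRing

set_option autoImplicit false
universe u v w
open Cardinal

namespace Groth.Agent.Lib.Helper30.AlgClosedIso

/-- Algebraically closed extensions with equipotent transcendence bases are isomorphic as algebras. -/
theorem exists_algEquiv_of_transcendenceBasis {R K L : Type*} [CommRing R] [Field K] [Algebra R K]
    [Field L] [Algebra R L] [IsAlgClosed K] [IsAlgClosed L] {ι κ : Type*} (v : ι → K) (w : κ → L)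
    (e : ι ≃ κ) (hv : IsTranscendenceBasis R v) (hw : IsTranscendenceBasis R w) :
    ∃ α : K ≃+* L, ∀ x : R, α (algebraMap R K x) = algebraMap R L x := by
  let := IsAlgClosed.isAlgClosure_of_transcendence_basis v hv
  let := IsAlgClosed.isAlgClosure_of_transcendence_basis w hw
  let e' : Algebra.adjoin R (Set.range v) ≃ₐ[R] Algebra.adjoin R (Set.range w) :=
    hv.1.aevalEquiv.symm.trans ((MvPolynomial.renameEquiv R e).trans hw.1.aevalEquiv)
  refine ⟨IsAlgClosure.equivOfEquiv K L e'.toRingEquiv, fun x => ?_⟩
  rw [IsScalarTower.algebraMap_apply R (Algebra.adjoin R (Set.range v)) K,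
    IsAlgClosure.equivOfEquiv_algebraMap]
  rw [IsScalarTower.algebraMap_apply R (Algebra.adjoin R (Set.range w)) L]
  congr 1
  exact e'.commutes x

/-- A transcendence basis of a large algebraically closed extension has the cardinality of the
extension. -/
theorem mk_transcendenceBasis_eq {k K : Type u} [Field k] [Field K] [Algebra k K] [IsAlgClosed K]
    {ι : Type u} (v : ι → K) (hv : IsTranscendenceBasis k v) (h1 : #k < #K) (h2 : ℵ₀ < #K) :
    #ι = #K := by
  refine le_antisymm (mk_le_of_injective hv.1.injective) ?_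
  by_contra hlt
  rw [not_le] at hlt
  have := IsAlgClosed.cardinal_le_max_transcendence_basis' v hv
  exact absurd this (not_le.2 (max_lt (max_lt h1 hlt) h2))

/-- Two large algebraically closed extensions of the same cardinality are isomorphic. -/
theorem exists_algEquiv_of_mk_eq {k K L : Type u} [Field k] [Field K] [Algebra k K] [IsAlgClosed K]
    [Field L] [Algebra k L] [IsAlgClosed L] (hKL : #K = #L)
    (h1 : #k < #K) (h2 : ℵ₀ < #K) :
    ∃ α : K ≃+* L, ∀ x : k, α (algebraMap k K x) = algebraMap k L x := by
  obtain ⟨s, hs⟩ := exists_isTranscendenceBasis k K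
  obtain ⟨t, ht⟩ := exists_isTranscendenceBasis k L
  have hs' := mk_transcendenceBasis_eq _ hs h1 h2
  have ht' := mk_transcendenceBasis_eq _ ht (hKL ▸ h1) (hKL ▸ h2)
  obtain ⟨e⟩ := Cardinal.eq.1 (hs'.trans (hKL.trans ht'.symm))
  exact exists_algEquiv_of_transcendenceBasis _ _ e hs ht

/-- Every field embeds in an algebraically closed field (in the same universe) of strictly larger,
uncountable cardinality. -/
theorem exists_large_algClosed (K : Type u) [Field K] :
    ∃ (k' : Type u) (_ : Field k') (_ : IsAlgClosed k') (_ : K →+* k'), #K < #k' ∧ ℵ₀ < #k' := by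
  let I : Type u := Set (K ⊕ ℕ)
  let F := FractionRing (MvPolynomial I K)
  refine ⟨AlgebraicClosure F, inferInstance, inferInstance,
    ((algebraMap F (AlgebraicClosure F)).comp (algebraMap (MvPolynomial I K) F)).comp
      MvPolynomial.C, ?_⟩
  have hinj : Function.Injective (fun i : I =>
      algebraMap F (AlgebraicClosure F) (algebraMap (MvPolynomial I K) F (MvPolynomial.X i))) :=
    (algebraMap F (AlgebraicClosure F)).injective.comp
      ((IsFractionRing.injective (MvPolynomial I K) F).comp (MvPolynomial.X_injective))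
  have hI : #I ≤ #(AlgebraicClosure F) := mk_le_of_injective hinj
  have hI' : #(K ⊕ ℕ) < #I := by
    rw [show #I = 2 ^ #(K ⊕ ℕ) from mk_set]
    exact cantor _
  have h3 : #(K ⊕ ℕ) = #K + ℵ₀ := by simp
  constructor
  · exact lt_of_le_of_lt (h3 ▸ self_le_add_right _ _) (lt_of_lt_of_le hI' hI)
  · exact lt_of_le_of_lt (h3 ▸ self_le_add_left _ _) (lt_of_lt_of_le hI' hI)

/-- Given two embeddings `f, g : k → K` of fields there is an algebraically closed extension `k'` of
`K` and an automorphism of `k'` carrying `f` to `g`. -/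
theorem exists_algClosed_aut {k K : Type u} [Field k] [Field K] (f g : k →+* K) :
    ∃ (k' : Type u) (_ : Field k') (_ : IsAlgClosed k') (ι : K →+* k') (α : k' ≃+* k'),
      ∀ x, α (ι (f x)) = ι (g x) := by
  obtain ⟨k', _, _, ι, h1, h2⟩ := exists_large_algClosed K
  refine ⟨k', inferInstance, inferInstance, ι, ?_⟩
  have hk : #k < #k' := lt_of_le_of_lt (mk_le_of_injective f.injective) h1
  exact @exists_algEquiv_of_mk_eq k k' k' _ _ (ι.comp f).toAlgebra _ _ (ι.comp g).toAlgebra _ rfl
    hk h2

end Groth.Agent.Lib.Helper30.AlgClosedIso
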