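import Groth.Agent.Lib.Helper30.EtaleSourceLFP
import Groth.Agent.Lib.Helper36.AlgSpCharts
import Mathlib.AlgebraicGeometry.PullbackCarrier

/-!
# Étale locality on the source for representable étale maps into algebraic spaces (family form)
-/

set_option autoImplicit false
universe u
open CategoryTheory CategoryTheory.Limits AlgebraicGeometry Opposite

namespace Groth.Agent.Lib.Helper30.AlgSpEtaleSource

open AlgSp Groth.Agent.Lib.Helper36.AlgSpCharts

set_option backward.isDefEq.respectTransparency false in
/-- Pointwise-family form of étale locality on the source for étale morphisms of schemes. -/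
theorem etale_of_family {X Y : Scheme.{u}} (f : X ⟶ Y)
    (H : ∀ x : X, ∃ (E : Scheme.{u}) (e : E ⟶ X), Etale e ∧ Etale (e ≫ f) ∧ x ∈ Set.range e) :
    Etale f := by
  choose E e he hef hx using H
  let χ : (∐ E) ⟶ X := Sigma.desc e
  have hχ : Etale χ := IsZariskiLocalAtSource.sigmaDesc (P := @Etale) he
  have hχs : Surjective χ := by
    refine ⟨fun x => ?_⟩
    obtain ⟨u, hu⟩ := hx x
    refine ⟨Sigma.ι E x u, ?_⟩
    rw [← Scheme.Hom.comp_apply, Sigma.ι_desc]
    exact hu
  have hχf : Etale (χ ≫ f) := by
    have : χ ≫ f = Sigma.desc fun x => e x ≫ f := by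
      apply Sigma.hom_ext
      intro x
      simp [χ]
    rw [this]
    exact IsZariskiLocalAtSource.sigmaDesc (P := @Etale) hef
  exact EtaleSource.etale_of_etale_surjective_comp χ f

variable {S : Scheme.{u}}

/-- **Family form of étale locality on the source**: a map `φ' : h_{U'} ⟶ X` to an algebraic space is
representable étale as soon as every point of `U'` is hit by an étale `χ : E ⟶ U'` with
`h_χ ≫ φ'` representable étale. -/
theorem repWith_etale_of_family {X : Sp S} (hX : IsAlgSpace X) {U' : Over S}
    (φ' : (yon S).obj U' ⟶ X)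
    (H : ∀ u : U'.left, ∃ (E : Over S) (χ : E ⟶ U'), Etale χ.left ∧ u ∈ Set.range χ.left ∧
      RepWith @Etale ((yon S).map χ ≫ φ')) : RepWith @Etale φ' := by
  have hrep : Representable φ' := hX.representable_from_yon φ'
  refine ⟨hrep, ?_⟩
  intro T V g fst snd sq
  obtain ⟨v, rfl⟩ := (yon S).map_surjective fst
  refine etale_of_family snd.left fun x => ?_
  obtain ⟨E, χ, hχ, ⟨e₀, he₀⟩, hχφ⟩ := H (v.left x)
  obtain ⟨W, p1, p2, sqW⟩ := exists_isPullback_yon ((yon S).map χ) ((yon S).map v)
    (representable_yon_map v)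
  have hp2e : Etale p2.left := prop_snd_of_isPullback sqW ((repWith_yon_map_iff _ _).2 hχ)
  have big : IsPullback ((yon S).map p1) ((yon S).map (p2 ≫ snd)) ((yon S).map χ ≫ φ') g := by
    rw [Functor.map_comp]
    exact sqW.paste_vert sq
  have hcomp : Etale (p2 ≫ snd).left := hχφ.property g ((yon S).map p1) (p2 ≫ snd) big
  rw [Over.comp_left] at hcomp
  have sqL : IsPullback p1.left p2.left χ.left v.left := isPullback_left_of_yon sqW
  obtain ⟨w, -, hw⟩ := Scheme.exists_preimage_of_isPullback sqL e₀ x he₀
  exact ⟨W.left, p2.left, hp2e, hcomp, w, hw⟩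

end Groth.Agent.Lib.Helper30.AlgSpEtaleSource
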