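import Groth.Prelude.Def_AlgSpOX2

/-!
# Base change of small étale sites preserves binary products (helper30)
-/

set_option autoImplicit false
set_option backward.isDefEq.respectTransparency false
universe u
open CategoryTheory CategoryTheory.Limits AlgebraicGeometry Opposite AlgSp

namespace Groth.Agent.Lib.Helper30.BcProd

variable {S : Scheme.{u}} {X : Sp S}

section

variable {E₁ E₂ P : EtOver X} (p₁ : P ⟶ E₁) (p₂ : P ⟶ E₂)
  (sq : IsPullback ((yon S).map p₁.hom.left) ((yon S).map p₂.hom.left) E₁.obj.hom E₂.obj.hom)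

/-- the lift on underlying schemes. -/
noncomputable def liftLeft {T : EtOver X} (t₁ : T ⟶ E₁) (t₂ : T ⟶ E₂) : T.obj.left ⟶ P.obj.left :=
  (yon S).preimage (sq.lift ((yon S).map t₁.hom.left) ((yon S).map t₂.hom.left)
    (by rw [EtOver.w t₁, EtOver.w t₂]))

theorem map_liftLeft {T : EtOver X} (t₁ : T ⟶ E₁) (t₂ : T ⟶ E₂) :
    (yon S).map (liftLeft p₁ p₂ sq t₁ t₂) =
      sq.lift ((yon S).map t₁.hom.left) ((yon S).map t₂.hom.left)
        (by rw [EtOver.w t₁, EtOver.w t₂]) := Functor.map_preimage _ _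

theorem liftLeft_fst {T : EtOver X} (t₁ : T ⟶ E₁) (t₂ : T ⟶ E₂) :
    liftLeft p₁ p₂ sq t₁ t₂ ≫ p₁.hom.left = t₁.hom.left :=
  (yon S).map_injective (by rw [Functor.map_comp, map_liftLeft, sq.lift_fst])

theorem liftLeft_snd {T : EtOver X} (t₁ : T ⟶ E₁) (t₂ : T ⟶ E₂) :
    liftLeft p₁ p₂ sq t₁ t₂ ≫ p₂.hom.left = t₂.hom.left :=
  (yon S).map_injective (by rw [Functor.map_comp, map_liftLeft, sq.lift_snd])

theorem liftLeft_uniq {T : EtOver X} (t₁ : T ⟶ E₁) (t₂ : T ⟶ E₂) (m : T.obj.left ⟶ P.obj.left)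
    (h₁ : m ≫ p₁.hom.left = t₁.hom.left) (h₂ : m ≫ p₂.hom.left = t₂.hom.left) :
    m = liftLeft p₁ p₂ sq t₁ t₂ := by
  apply (yon S).map_injective
  rw [map_liftLeft]
  apply sq.hom_ext
  · rw [sq.lift_fst, ← Functor.map_comp, h₁]
  · rw [sq.lift_snd, ← Functor.map_comp, h₂]

/-- A binary fan in the small étale site whose underlying square of sheaves is a pullback over `X` is a product. -/
noncomputable def isLimitOfIsPullback : IsLimit (BinaryFan.mk p₁ p₂) :=
  BinaryFan.IsLimit.mk _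
    (fun {T} t₁ t₂ => EtOver.homMk (liftLeft p₁ p₂ sq t₁ t₂) (by
      change _ ≫ P.obj.hom = _
      rw [← EtOver.w p₁, ← Category.assoc, ← Functor.map_comp, liftLeft_fst]
      exact EtOver.w t₁))
    (fun t₁ t₂ => EtOver.hom_ext _ _ (liftLeft_fst p₁ p₂ sq t₁ t₂))
    (fun t₁ t₂ => EtOver.hom_ext _ _ (liftLeft_snd p₁ p₂ sq t₁ t₂))
    (fun t₁ t₂ m h₁ h₂ => EtOver.hom_ext _ _ (liftLeft_uniq p₁ p₂ sq t₁ t₂ m.hom.left
      (congrArg (fun k => k.hom.left) h₁) (congrArg (fun k => k.hom.left) h₂)))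

end

theorem isPullback_prod (E₁ E₂ : EtOver X) :
    IsPullback ((yon S).map (EtOver.prodFst E₁ E₂).hom.left) ((yon S).map (EtOver.prodSnd E₁ E₂).hom.left)
      E₁.obj.hom E₂.obj.hom := by
  have h := (E₂.property.1.isPullback E₁.obj.hom).flip
  rw [← Functor.relativelyRepresentable.map_fst'] at h
  exact h

variable {Y : Sp S} {f : X ⟶ Y} (hf : Representable f)

theorem isPullback_bc_prod (E₁ E₂ : EtOver Y) :
    IsPullback ((yon S).map ((EtOver.bc hf).map (EtOver.prodFst E₁ E₂)).hom.left)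
      ((yon S).map ((EtOver.bc hf).map (EtOver.prodSnd E₁ E₂)).hom.left)
      ((EtOver.bc hf).obj E₁).obj.hom ((EtOver.bc hf).obj E₂).obj.hom := by
  have outer := ((EtOver.isPullback_map_bcMap hf (EtOver.prodSnd E₁ E₂)).paste_vert
    (isPullback_prod E₁ E₂).flip).flip
  have e1 : (yon S).map ((EtOver.bc hf).map (EtOver.prodFst E₁ E₂)).hom.left ≫
      (yon S).map (hf.snd E₁.obj.hom) =
      (yon S).map (hf.snd (EtOver.prodObj E₁ E₂).obj.hom) ≫
        (yon S).map (EtOver.prodFst E₁ E₂).hom.left := by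
    rw [← Functor.map_comp, ← Functor.map_comp]
    exact congrArg _ (EtOver.bcMap_snd hf (EtOver.prodFst E₁ E₂))
  have e2 : ((EtOver.bc hf).obj E₂).obj.hom ≫ f =
      (yon S).map (hf.snd E₂.obj.hom) ≫ E₂.obj.hom := hf.w _
  rw [← e1, ← e2] at outer
  refine IsPullback.of_right outer ?_ (hf.isPullback E₁.obj.hom).flip
  exact (EtOver.w ((EtOver.bc hf).map (EtOver.prodFst E₁ E₂))).trans
    (EtOver.w ((EtOver.bc hf).map (EtOver.prodSnd E₁ E₂))).symm

instance preservesLimit_pair_bc (E₁ E₂ : EtOver Y) : PreservesLimit (pair E₁ E₂) (EtOver.bc hf) :=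
  preservesLimit_of_preserves_limit_cone (EtOver.prodIsLimit E₁ E₂)
    ((isLimitMapConeBinaryFanEquiv _ _ _).symm (isLimitOfIsPullback _ _ (isPullback_bc_prod hf E₁ E₂)))

end Groth.Agent.Lib.Helper30.BcProd
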