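import Groth.Agent.Lib.Helper82.BlowUpPullback
import Groth.Agent.Lib.Helper82.EffCartier
import Mathlib.AlgebraicGeometry.Morphisms.Flat
import Mathlib.RingTheory.RingHom.FaithfullyFlat
import Mathlib.RingTheory.Flat.FaithfullyFlat.Algebra

set_option autoImplicit false
universe u
open CategoryTheory CategoryTheory.Limits AlgebraicGeometry Opposite
open Groth.Agent.Lib.Helper82
open scoped nonZeroDivisors

namespace Groth.Agent.Lib.Helper30.CartierDescent


/-- If the extension of `J` along `ρ` is generated by a nonzerodivisor `t`, then near any prime `q` of the target some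
element of `J` generates it: `ρ a = c * t` with `c ∉ q`. -/
theorem exists_mem_eq_mul {A B : Type*} [CommRing A] [CommRing B] (ρ : A →+* B) (J : Ideal A) (t : B)
    (ht : t ∈ nonZeroDivisors B) (hJ : J.map ρ = Ideal.span {t}) (q : Ideal B) [q.IsPrime] :
    ∃ a ∈ J, ∃ c : B, c ∉ q ∧ ρ a = c * t := by
  have hsub : ∀ j ∈ J, ∃ c : B, ρ j = c * t := by
    intro j hj
    have : ρ j ∈ Ideal.span {t} := hJ ▸ Ideal.mem_map_of_mem ρ hj
    obtain ⟨c, hc⟩ := Ideal.mem_span_singleton'.mp this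
    exact ⟨c, hc.symm⟩
  -- the set of `b` with `b * t ∈ {c * t | c ∈ q}` ...
  by_contra hcon
  push Not at hcon
  -- every `ρ j` lies in `q • t`
  have hle : J.map ρ ≤ q * Ideal.span {t} := by
    rw [Ideal.map_le_iff_le_comap]
    intro j hj
    obtain ⟨c, hc⟩ := hsub j hj
    have hcq : c ∈ q := by
      by_contra h
      exact hcon j hj c h hc
    rw [Ideal.mem_comap, hc]
    exact Ideal.mul_mem_mul hcq (Ideal.mem_span_singleton_self t)
  have ht' : t ∈ q * Ideal.span {t} := hle (hJ ▸ Ideal.mem_span_singleton_self t)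
  rw [Ideal.mem_mul_span_singleton] at ht'
  obtain ⟨z, hz, hzt⟩ := ht'
  have h1 : (z - 1) * t = 0 := by rw [sub_mul, hzt, one_mul, sub_self]
  have h2 : z - 1 = 0 := (mem_nonZeroDivisors_iff_right.mp ht) _ h1
  have : (1 : B) ∈ q := by
    have : z = 1 := sub_eq_zero.mp h2
    rwa [this] at hz
  exact (Ideal.IsPrime.ne_top inferInstance) ((Ideal.eq_top_iff_one q).mpr this)

/-- Faithfully flat descent of "generated by one nonzerodivisor". -/
theorem span_singleton_of_faithfullyFlat {A B : Type*} [CommRing A] [CommRing B] (ρ : A →+* B)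
    (hρ : ρ.FaithfullyFlat) (J : Ideal A) (a : A) (t c : B) (ht : t ∈ nonZeroDivisors B)
    (hc : IsUnit c) (hac : ρ a = c * t) (hJ : J.map ρ = Ideal.span {t}) :
    J = Ideal.span {a} ∧ a ∈ nonZeroDivisors A := by
  algebraize [ρ]
  have hff : Module.FaithfullyFlat A B := hρ
  constructor
  · apply Ideal.map_injective_of_faithfullyFlat (A := A) (B := B)
    change J.map ρ = (Ideal.span {a}).map ρ
    rw [hJ, Ideal.map_span, Set.image_singleton, hac]
    exact (Ideal.span_singleton_mul_left_unit hc t).symm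
  · rw [mem_nonZeroDivisors_iff_right]
    intro x hx
    apply hρ.injective
    rw [map_zero]
    have h1 : ρ x * (c * t) = 0 := by rw [← hac, ← map_mul, hx, map_zero]
    have h2 : (ρ x * c) * t = 0 := by rw [mul_assoc]; exact h1
    have h3 : ρ x * c = 0 := (mem_nonZeroDivisors_iff_right.mp ht) _ h2
    exact hc.mul_left_eq_zero.mp h3


/-- The prime ideal of functions on `U` vanishing at `x`. -/
theorem exists_prime_notMem_iff {X : Scheme.{u}} (U : X.Opens) (x : X) (hx : x ∈ U) :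
    ∃ q : Ideal Γ(X, U), q.IsPrime ∧ ∀ b : Γ(X, U), b ∉ q ↔ x ∈ X.basicOpen b := by
  refine ⟨Ideal.comap (X.presheaf.germ U x hx).hom (IsLocalRing.maximalIdeal (X.presheaf.stalk x)),
    Ideal.comap_isPrime _ _, fun b => ?_⟩
  rw [Ideal.mem_comap, IsLocalRing.mem_maximalIdeal, mem_nonunits_iff, not_not,
    Scheme.mem_basicOpen _ _ _ hx]

/-- **Local flat descent of effective Cartier ideals**: if `q : W ⟶ V` is flat and open and `J.comap q` is effective
Cartier, then `J` is generated by a nonzerodivisor on an affine neighbourhood of every point of the image of `q`. -/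
theorem exists_principal_nzd_of_comap {W V : Scheme.{u}} (q : W ⟶ V) [Flat q] (hopen : IsOpenMap q)
    (J : V.IdealSheafData) (hJ : BlowUp.IsEffCartierIdeal (J.comap q)) (w : W) :
    ∃ U : V.affineOpens, q w ∈ U.1 ∧
      ∃ a : Γ(V, U.1), a ∈ nonZeroDivisors Γ(V, U.1) ∧ J.ideal U = Ideal.span {a} := by
  -- affine neighbourhoods
  obtain ⟨U₀, hU₀, hvU₀, -⟩ := exists_isAffineOpen_mem_and_subset (U := (⊤ : V.Opens)) (x := q w) trivial
  obtain ⟨W₁, hwW₁, hW₁U₀, t, ht, hIt⟩ :=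
    exists_affine_isPrincipalNZD_le (J.comap q) hJ (q ⁻¹ᵁ U₀) w hvU₀
  set ρ := q.appLE U₀ W₁.1 hW₁U₀ with hρ
  have hJρ : (J.ideal ⟨U₀, hU₀⟩).map ρ.hom = Ideal.span {t} := by
    rw [← hIt, ideal_comap_of_le q J W₁.1 W₁.2 U₀ hU₀ hW₁U₀]
  obtain ⟨qw, hqw, hqw'⟩ := exists_prime_notMem_iff W₁.1 w hwW₁
  obtain ⟨a, haJ, c, hcq, hac⟩ := exists_mem_eq_mul ρ.hom (J.ideal ⟨U₀, hU₀⟩) t ht hJρ qw
  have hwc : w ∈ W.basicOpen c := (hqw' c).mp hcq
  -- shrink `U₀` inside the image of `D(c)`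
  have hO : IsOpen (q '' (W.basicOpen c : Set W)) := hopen _ (W.basicOpen c).isOpen
  let O : V.Opens := ⟨q '' (W.basicOpen c : Set W), hO⟩
  have hvO : q w ∈ O := ⟨w, hwc, rfl⟩
  obtain ⟨s, hsO, hvs⟩ := hU₀.exists_basicOpen_le (V := O) ⟨q w, hvO⟩ hvU₀
  have hU₁ : IsAffineOpen (V.basicOpen s) := hU₀.basicOpen s
  have hW₂ : IsAffineOpen (W.basicOpen (c * ρ.hom s)) := W₁.2.basicOpen _
  have hW₂eq : W.basicOpen (c * ρ.hom s) = W.basicOpen c ⊓ (W₁.1 ⊓ q ⁻¹ᵁ V.basicOpen s) := by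
    rw [Scheme.basicOpen_mul, hρ]
    congr 1
    exact Scheme.basicOpen_appLE q W₁.1 U₀ hW₁U₀ s
  have e₂ : W.basicOpen (c * ρ.hom s) ≤ q ⁻¹ᵁ V.basicOpen s := by
    rw [hW₂eq]; exact inf_le_right.trans inf_le_right
  have hW₂W₁ : W.basicOpen (c * ρ.hom s) ≤ W₁.1 := W.basicOpen_le _
  -- the restricted morphism is flat and surjective
  have : IsAffine (V.basicOpen s).toScheme := hU₁
  have : IsAffine (W.basicOpen (c * ρ.hom s)).toScheme := hW₂
  have hsurj : Surjective (q.resLE (V.basicOpen s) (W.basicOpen (c * ρ.hom s)) e₂) := by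
    refine ⟨fun y => ?_⟩
    obtain ⟨x, hxc, hxy⟩ := hsO y.2
    have hx₂ : x ∈ W.basicOpen (c * ρ.hom s) := by
      rw [hW₂eq]
      have hx1 : x ∈ q ⁻¹ᵁ V.basicOpen s := by
        change q x ∈ V.basicOpen s
        rw [hxy]; exact y.2
      exact ⟨hxc, W.basicOpen_le c hxc, hx1⟩
    refine ⟨⟨x, hx₂⟩, ?_⟩
    apply Subtype.ext
    have := Scheme.Hom.resLE_comp_ι q e₂
    have h2 := congrArg (fun f => f ⟨x, hx₂⟩) (congrArg (fun g : _ ⟶ V => (g : _ → V)) this)
    simpa [hxy] using h2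
  have hff := (Flat.flat_and_surjective_iff_faithfullyFlat_of_isAffine
    (q.resLE (V.basicOpen s) (W.basicOpen (c * ρ.hom s)) e₂)).mp ⟨inferInstance, hsurj⟩
  set ρ₁ := q.appLE (V.basicOpen s) (W.basicOpen (c * ρ.hom s)) e₂ with hρ₁
  have hρ₁ff : ρ₁.hom.FaithfullyFlat := by
    have h1 : (q.resLE (V.basicOpen s) (W.basicOpen (c * ρ.hom s)) e₂).appTop =
        (V.basicOpen s).topIso.hom ≫ ρ₁ ≫ (W.basicOpen (c * ρ.hom s)).topIso.inv :=
      Scheme.Hom.resLE_app_top q e₂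
    rw [h1, CommRingCat.hom_comp,
      RingHom.FaithfullyFlat.respectsIso.cancel_left_isIso, CommRingCat.hom_comp,
      RingHom.FaithfullyFlat.respectsIso.cancel_right_isIso] at hff
    exact hff
  -- the ideals
  let U₁ : V.affineOpens := ⟨V.basicOpen s, hU₁⟩
  let W₂ : W.affineOpens := ⟨W.basicOpen (c * ρ.hom s), hW₂⟩
  have hU₁U₀ : U₁ ≤ (⟨U₀, hU₀⟩ : V.affineOpens) := V.basicOpen_le s
  have hW₂W₁' : W₂ ≤ W₁ := hW₂W₁
  have hcomap₂ : (J.comap q).ideal W₂ = (J.ideal U₁).map ρ₁.hom :=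
    ideal_comap_of_le q J _ hW₂ _ hU₁ e₂
  have hcomap₂' : (J.comap q).ideal W₂ =
      Ideal.span {(W.presheaf.map (homOfLE hW₂W₁').op).hom t} := by
    rw [← (J.comap q).map_ideal hW₂W₁', hIt, Ideal.map_span, Set.image_singleton]
  have ht₂ : (W.presheaf.map (homOfLE hW₂W₁').op).hom t ∈ nonZeroDivisors Γ(W, W₂.1) :=
    mem_nonZeroDivisors_of_flat _ (flat_presheaf_map W₁.2 hW₂ hW₂W₁) ht
  have hac₁ : ρ₁.hom ((V.presheaf.map (homOfLE hU₁U₀).op).hom a) =
      (W.presheaf.map (homOfLE hW₂W₁').op).hom c * (W.presheaf.map (homOfLE hW₂W₁').op).hom t := by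
    have hcomm : V.presheaf.map (homOfLE hU₁U₀).op ≫ ρ₁ = ρ ≫ W.presheaf.map (homOfLE hW₂W₁').op := by
      rw [hρ₁, Scheme.Hom.map_appLE]
      exact (Scheme.Hom.appLE_map q hW₁U₀ (homOfLE hW₂W₁').op).symm
    rw [← map_mul, ← hac, ← CommRingCat.comp_apply, ← CommRingCat.comp_apply, hcomm]
  have hc₂ : IsUnit ((W.presheaf.map (homOfLE hW₂W₁').op).hom c) := by
    have hle : W₂.1 ≤ W.basicOpen c := by
      change W.basicOpen (c * ρ.hom s) ≤ _
      rw [hW₂eq]; exact inf_le_left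
    have h1 := W.toRingedSpace.isUnit_res_basicOpen c
    have h2 : (W.presheaf.map (homOfLE hW₂W₁').op).hom c =
        (W.presheaf.map (homOfLE hle).op).hom
          ((W.presheaf.map (homOfLE (W.basicOpen_le c)).op).hom c) := by
      rw [← CommRingCat.comp_apply, ← Functor.map_comp]
      rfl
    rw [h2]
    exact h1.map _
  obtain ⟨h1, h2⟩ := span_singleton_of_faithfullyFlat ρ₁.hom hρ₁ff (J.ideal U₁)
    ((V.presheaf.map (homOfLE hU₁U₀).op).hom a) _ _ ht₂ hc₂ hac₁ (by rw [← hcomap₂, hcomap₂'])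
  exact ⟨U₁, hvs, _, h2, h1⟩

end Groth.Agent.Lib.Helper30.CartierDescent
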