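import Groth.Prelude.Def_CurvBase
import Groth.Prelude.Def_AlgSp3
import Groth.Agent.Lib.Helper36.AlgSpCharts
import Mathlib.AlgebraicGeometry.Morphisms.Affine
import Mathlib.AlgebraicGeometry.IdealSheaf.Basic

/-!
# Chart criterion for `RepWith P` and complements of locally principal closed subschemes (helper30)

* `LocPrincipal.isAffineHom_of_range_eq_compl_support` : an open immersion of schemes onto the complement of the support of a
  locally principal ideal sheaf (`Curv2.IsLocPrincipal`) is an affine morphism.
* `ChartCriterion.repWith_of_chart` : a representable `f : X ⟶ Y` whose base change to ONE étale surjective chart `h_V ⟶ Y`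
  has `P` (stable under base change + fppf descent) satisfies `RepWith P f`.
-/

set_option autoImplicit false
universe u
open CategoryTheory CategoryTheory.Limits AlgebraicGeometry Opposite

namespace Groth.Agent.Lib.Helper30.LocPrincipal

/-- An open immersion whose range is the complement of the support of a locally principal ideal sheaf is an
affine morphism. -/
theorem isAffineHom_of_range_eq_compl_support {V W : Scheme.{u}} (ι : W ⟶ V) [IsOpenImmersion ι]
    (I : V.IdealSheafData) (hI : Curv2.IsLocPrincipal I)
    (h : Set.range ι = ((I.support : Set V))ᶜ) : IsAffineHom ι := by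
  refine isAffineHom_of_forall_exists_isAffineOpen ι (fun x => ?_)
  by_cases hx : x ∈ I.support
  · obtain ⟨U, hxU, f, hf⟩ := hI x hx
    refine ⟨U.1, hxU, U.2, ?_⟩
    rw [← ι.isAffineOpen_iff_of_isOpenImmersion, ι.image_preimage_eq_opensRange_inf]
    have : ι.opensRange ⊓ U.1 = V.basicOpen f := by
      ext y
      simp only [TopologicalSpace.Opens.coe_inf, Scheme.Hom.coe_opensRange, h]
      have h1 := I.coe_support_inter U
      rw [hf, Scheme.zeroLocus_span, Scheme.zeroLocus_singleton] at h1
      constructor
      · rintro ⟨hy1, hy2⟩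
        by_contra hy3
        exact hy1 (h1.ge ⟨hy3, hy2⟩).1
      · intro hy
        have hyU : y ∈ (U.1 : Set V) := V.basicOpen_le f hy
        refine ⟨fun hy' => ?_, hyU⟩
        exact (h1.le ⟨hy', hyU⟩).1 hy
    rw [this]
    exact U.2.basicOpen f
  · have hopen : IsOpen ((I.support : Set V))ᶜ := I.support.isClosed.isOpen_compl
    obtain ⟨_, ⟨U, hU, rfl⟩, hxU, hUs⟩ := (V.isBasis_affineOpens).exists_subset_of_mem_open hx hopen
    refine ⟨U, hxU, hU, ?_⟩
    rw [← ι.isAffineOpen_iff_of_isOpenImmersion, ι.image_preimage_eq_opensRange_inf]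
    have : ι.opensRange ⊓ U = U := by
      apply inf_eq_right.mpr
      intro y hy
      change y ∈ Set.range ι
      rw [h]
      exact hUs hy
    rw [this]
    exact hU

end Groth.Agent.Lib.Helper30.LocPrincipal

namespace Groth.Agent.Lib.Helper30.ChartCriterion

open AlgSp Groth.Agent.Lib.Helper36.AlgSpCharts

variable {S : Scheme.{u}}

/-- **Chart criterion**: a representable morphism `f : X ⟶ Y` of sheaves whose base change to ONE étale surjective
chart `h_V ⟶ Y` has the property `P` (stable under base change, satisfying fppf descent) is representable with `P`. -/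
theorem repWith_of_chart {P : MorphismProperty Scheme.{u}} [P.IsStableUnderBaseChange]
    [P.DescendsAlong (@Surjective ⊓ @Flat ⊓ @LocallyOfFinitePresentation)]
    {X Y : Sp S} (f : X ⟶ Y) (hrep : Representable f) {V : Over S} (φ : (yon S).obj V ⟶ Y)
    (hφE : RepWith @Etale φ) (hφS : RepWith @Surjective φ)
    {XV : Over S} {pV : XV ⟶ V} {fstV : (yon S).obj XV ⟶ X}
    (sqV : IsPullback fstV ((yon S).map pV) f φ) (hP : P pV.left) : RepWith P f := by
  have : P.RespectsIso := MorphismProperty.IsStableUnderBaseChange.respectsIso
  refine MorphismProperty.relative_of_snd hrep fun T g => ?_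
  have B := hrep.isPullback g
  set W := hrep.pullback g
  set snd := hrep.snd g
  set fst := hrep.fst g
  change P snd.left
  obtain ⟨T1, t1, t2, C⟩ := exists_isPullback_yon g φ hφE.rep
  have ht1e : Etale t1.left := prop_fst_of_isPullback C hφE
  have ht1s : Surjective t1.left := prop_fst_of_isPullback C hφS
  have A0 := IsPullback.of_hasPullback snd t1
  set v1 := pullback.fst snd t1
  set v2 := pullback.snd snd t1
  have A : IsPullback ((yon S).map v1) ((yon S).map v2) ((yon S).map snd) ((yon S).map t1) :=
    A0.map (yon S)
  have AB := (A.paste_horiz B).flip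
  obtain ⟨r', hr1, hr2⟩ := sqV.exists_lift ((yon S).map v1 ≫ fst) ((yon S).map (v2 ≫ t2)) (by
    rw [Functor.map_comp, Category.assoc, B.w, ← Functor.map_comp_assoc, A0.w,
      Functor.map_comp_assoc, C.w, Category.assoc])
  obtain ⟨r, rfl⟩ := (yon S).map_surjective r'
  have E : IsPullback ((yon S).map v2) ((yon S).map r) ((yon S).map t2) ((yon S).map pV) := by
    refine IsPullback.of_bot ?_ ?_ sqV.flip
    · rw [hr1, ← C.w]
      exact AB
    · rw [hr2, Functor.map_comp]
  have E' := (isPullback_of_yon E).map (Over.forget S)
  have hv2 : P v2.left := MorphismProperty.of_isPullback E'.flip hP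
  exact descend_of_isPullback A0 ht1e ht1s hv2

end Groth.Agent.Lib.Helper30.ChartCriterion
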