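import Groth.Agent.Lib.Helper30.ClosedPushoutGlobal

set_option autoImplicit false
set_option backward.isDefEq.respectTransparency false
universe u
open CategoryTheory CategoryTheory.Limits AlgebraicGeometry Opposite

namespace Groth.Agent.Lib.Helper30.ClosedBcDense

open AlgSp Groth.Agent.Lib.Helper30.EtaleLift Groth.Agent.Lib.Helper30.EtaleSection
  Groth.Agent.Lib.Helper30.ClosedPushoutSp Groth.Agent.Lib.Helper30.IdealEtSheaf

variable {S : Scheme.{u}} {X Z : Sp S} {i : Z ⟶ X}

/-- **Pointed lifting.**  An étale map to the inverse image of a closed subspace in a chart lifts, around any given point of its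
source, to an étale map to the chart. -/
theorem exists_lift_chart_at_affine (hi : RepWith @IsClosedImmersion i) (E : EtOver X)
    {Z' : Over S} (ε : Z' ⟶ hi.1.pullback E.obj.hom) (hεE : Etale ε.left) (z' : Z'.left) :
    ∃ (E₁ : EtOver X) (_ : IsAffine E₁.obj.left.left) (g₁ : E₁ ⟶ E)
      (μ : hi.1.pullback E₁.obj.hom ⟶ Z'),
      μ ≫ ε = (EtOver.bcMap hi.1 g₁).hom.left ∧ z' ∈ Set.range μ.left := by
  have hcl : IsClosedImmersion (hi.1.snd E.obj.hom).left :=
    hi.property _ _ _ (hi.1.isPullback E.obj.hom)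
  obtain ⟨V₁, h₁, hE₁, hV₁aff, m, hm, v, hv⟩ :=
    exists_etale_lift (hi.1.snd E.obj.hom).left ε.left z'
  let B₁ : Over S := Over.mk (h₁ ≫ E.obj.left.hom)
  let ι₁ : B₁ ⟶ E.obj.left := Over.homMk h₁ rfl
  have hι₁ : Etale ι₁.left := hE₁
  let E₁ : EtOver X := EtOver.mk ((yon S).map ι₁ ≫ E.obj.hom)
    (MorphismProperty.comp_mem _ _ _ ((repWith_yon_map_iff _ _).2 hι₁) E.property)
  let g₁ : E₁ ⟶ E := EtOver.homMk ι₁ rfl
  have sqL := EtOver.isPullback_bcMap_left hi.1 g₁
  have sqF : IsPullback (hi.1.snd E₁.obj.hom).left (EtOver.bcMap hi.1 g₁).hom.left.left h₁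
      (hi.1.snd E.obj.hom).left := sqL.flip
  let θ : (hi.1.pullback E₁.obj.hom).left ⟶ pullback h₁ (hi.1.snd E.obj.hom).left :=
    sqF.isoPullback.hom
  have hθ2 : θ ≫ pullback.snd _ _ = (EtOver.bcMap hi.1 g₁).hom.left.left := sqF.isoPullback_hom_snd
  have hμ₀ : (θ ≫ m) ≫ ε.left = (EtOver.bcMap hi.1 g₁).hom.left.left := by
    rw [Category.assoc, hm, hθ2]
  let μ : hi.1.pullback E₁.obj.hom ⟶ Z' := Over.homMk (θ ≫ m) (by
    rw [← Over.w ε, ← Category.assoc, hμ₀]
    exact Over.w (EtOver.bcMap hi.1 g₁).hom.left)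
  refine ⟨E₁, hV₁aff, g₁, μ, ?_, sqF.isoPullback.inv v, ?_⟩
  · ext
    exact hμ₀
  · change (θ ≫ m) (sqF.isoPullback.inv v) = z'
    have h1 : sqF.isoPullback.hom (sqF.isoPullback.inv v) = v := by
      rw [← Scheme.Hom.comp_apply, Iso.inv_hom_id]; rfl
    rw [Scheme.Hom.comp_apply]
    exact (congrArg (fun t => m t) h1).trans hv

/-- **Pointed lifting.**  An étale map to the inverse image of a closed subspace in a chart lifts, around any given point of its
source, to an étale map to the chart. -/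
theorem exists_lift_chart_at (hi : RepWith @IsClosedImmersion i) (E : EtOver X)
    {Z' : Over S} (ε : Z' ⟶ hi.1.pullback E.obj.hom) (hεE : Etale ε.left) (z' : Z'.left) :
    ∃ (E₁ : EtOver X) (g₁ : E₁ ⟶ E) (μ : hi.1.pullback E₁.obj.hom ⟶ Z'),
      μ ≫ ε = (EtOver.bcMap hi.1 g₁).hom.left ∧ z' ∈ Set.range μ.left := by
  obtain ⟨E₁, -, g₁, μ, h1, h2⟩ := exists_lift_chart_at_affine hi E ε hεE z'
  exact ⟨E₁, g₁, μ, h1, h2⟩

/-- **Cover density, pointwise.**  Every object of the small étale site of a closed subspace `Z` of an algebraic space `X` is, around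
any of its points, dominated by the inverse image of an object of the small étale site of `X`. -/
theorem exists_bc_lift_affine (hX : IsAlgSpace X) (hi : RepWith @IsClosedImmersion i) (U : EtOver Z)
    (u : U.obj.left.left) :
    ∃ (V : EtOver X) (_ : IsAffine V.obj.left.left) (m : (EtOver.bc hi.1).obj V ⟶ U),
      u ∈ Set.range m.hom.left.left := by
  obtain ⟨A, φ, hφE, hφS⟩ := hX.atlas
  let E : EtOver X := EtOver.mk φ hφE
  let bE : EtOver Z := (EtOver.bc hi.1).obj E
  have hsurj : Surjective (EtOver.prodFst U bE).hom.left.left := by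
    have h1 : RepWith @Surjective bE.obj.hom :=
      MorphismProperty.of_isPullback (hi.1.isPullback E.obj.hom).flip hφS
    exact h1.property _ _ _ (bE.property.1.isPullback U.obj.hom)
  obtain ⟨z', hz'⟩ := hsurj.surj u
  obtain ⟨E₁, hE₁, g₁, μ, hμ, x, hx⟩ := exists_lift_chart_at_affine hi E (EtOver.prodSnd U bE).hom.left
    (EtOver.etale_left _) z'
  refine ⟨E₁, hE₁, EtOver.homMk (μ ≫ (EtOver.prodFst U bE).hom.left) ?_, ?_⟩
  · rw [Functor.map_comp, Category.assoc, EtOver.w (EtOver.prodFst U bE),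
      ← EtOver.w (EtOver.prodSnd U bE), ← Category.assoc, ← Functor.map_comp, hμ]
    exact EtOver.map_bcMap_fst hi.1 g₁
  · refine ⟨x, ?_⟩
    change (μ ≫ (EtOver.prodFst U bE).hom.left).left x = u
    rw [Over.comp_left, Scheme.Hom.comp_apply, hx, hz']

/-- **Cover density, pointwise.**  Every object of the small étale site of a closed subspace `Z` of an algebraic space `X` is, around
any of its points, dominated by the inverse image of an object of the small étale site of `X`. -/
theorem exists_bc_lift (hX : IsAlgSpace X) (hi : RepWith @IsClosedImmersion i) (U : EtOver Z)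
    (u : U.obj.left.left) :
    ∃ (V : EtOver X) (m : (EtOver.bc hi.1).obj V ⟶ U), u ∈ Set.range m.hom.left.left := by
  obtain ⟨V, -, m, hm⟩ := exists_bc_lift_affine hX hi U u
  exact ⟨V, m, hm⟩

/-- **Local fullness, pointwise.**  A morphism between the inverse images in a closed subspace `Z` of two objects of the small étale
site of `X` is, around every point of its source, induced by a morphism of the small étale site of `X`. -/
theorem exists_bc_lift_hom (hi : RepWith @IsClosedImmersion i) {V' V : EtOver X}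
    (p : (EtOver.bc hi.1).obj V' ⟶ (EtOver.bc hi.1).obj V)
    (z : ((EtOver.bc hi.1).obj V').obj.left.left) :
    ∃ (V'' : EtOver X) (r : V'' ⟶ V') (t : V'' ⟶ V),
      (EtOver.bc hi.1).map r ≫ p = (EtOver.bc hi.1).map t ∧
      z ∈ Set.range ((EtOver.bc hi.1).map r).hom.left.left := by
  let P := EtOver.prodObj V' V
  obtain ⟨l, hl1, hl2⟩ := exists_prod_lift hi.1 V' V (𝟙 (hi.1.pullback V'.obj.hom)) p.hom.left (by
    rw [CategoryTheory.Functor.map_id, Category.id_comp]; exact (EtOver.w p).symm)
  have hEt : Etale (EtOver.bcMap hi.1 (EtOver.prodFst V' V)).hom.left.left := etale_bcMap hi.1 _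
  have hopen : IsOpenImmersion l.left :=
    isOpenImmersion_of_section (EtOver.bcMap hi.1 (EtOver.prodFst V' V)).hom.left.left l.left
      (by rw [← Over.comp_left, hl1]; rfl)
  have hcl : IsClosedImmersion (hi.1.snd P.obj.hom).left :=
    hi.property _ _ _ (hi.1.isPullback P.obj.hom)
  have hemb := (hi.1.snd P.obj.hom).left.isClosedEmbedding
  have hC : IsClosed ((hi.1.snd P.obj.hom).left '' (Set.range l.left)ᶜ) :=
    hemb.isClosedMap _ (l.left.isOpenEmbedding.isOpen_range.isClosed_compl)
  let O : P.obj.left.left.Opens := ⟨((hi.1.snd P.obj.hom).left '' (Set.range l.left)ᶜ)ᶜ, hC.isOpen_compl⟩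
  let V'' : EtOver X := openObj P.obj.hom P.property O
  let ι : V'' ⟶ P :=
    EtOver.homMk (Over.homMk O.ι rfl : Over.mk (O.ι ≫ P.obj.left.hom) ⟶ P.obj.left) rfl
  have sqL := EtOver.isPullback_bcMap_left hi.1 ι
  have hrange : Set.range (EtOver.bcMap hi.1 ι).hom.left.left ⊆ Set.range l.left := by
    rintro _ ⟨x, rfl⟩
    by_contra hcon
    have h1 : (hi.1.snd P.obj.hom).left ((EtOver.bcMap hi.1 ι).hom.left.left x) ∈
        (hi.1.snd P.obj.hom).left '' (Set.range l.left)ᶜ := ⟨_, hcon, rfl⟩
    have h2 : (hi.1.snd P.obj.hom).left ((EtOver.bcMap hi.1 ι).hom.left.left x) ∈ O := by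
      have h3 := congrArg (fun f => f x) sqL.w
      simp only [Scheme.Hom.comp_apply] at h3
      have h4 : ι.hom.left.left ((hi.1.snd V''.obj.hom).left x) ∈ O :=
        ((hi.1.snd V''.obj.hom).left x).2
      exact (congrArg (fun t => t ∈ O) h3).mpr h4
    exact h2 h1
  let k := IsOpenImmersion.lift l.left (EtOver.bcMap hi.1 ι).hom.left.left hrange
  have hk : k ≫ l.left = (EtOver.bcMap hi.1 ι).hom.left.left := IsOpenImmersion.lift_fac _ _ _
  have hl1' : l.left ≫ (EtOver.bcMap hi.1 (EtOver.prodFst V' V)).hom.left.left = 𝟙 _ := by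
    rw [← Over.comp_left, hl1]; rfl
  have hl2' : l.left ≫ (EtOver.bcMap hi.1 (EtOver.prodSnd V' V)).hom.left.left = p.hom.left.left := by
    rw [← Over.comp_left, hl2]
  have hr : (EtOver.bcMap hi.1 (ι ≫ EtOver.prodFst V' V)).hom.left.left = k := by
    have h1 : EtOver.bcMap hi.1 (ι ≫ EtOver.prodFst V' V) =
        EtOver.bcMap hi.1 ι ≫ EtOver.bcMap hi.1 (EtOver.prodFst V' V) := (EtOver.bc hi.1).map_comp _ _
    rw [h1]
    change (EtOver.bcMap hi.1 ι).hom.left.left ≫ (EtOver.bcMap hi.1 (EtOver.prodFst V' V)).hom.left.left = k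
    rw [← hk, Category.assoc, hl1', Category.comp_id]
  have ht : (EtOver.bcMap hi.1 (ι ≫ EtOver.prodSnd V' V)).hom.left.left = k ≫ p.hom.left.left := by
    have h1 : EtOver.bcMap hi.1 (ι ≫ EtOver.prodSnd V' V) =
        EtOver.bcMap hi.1 ι ≫ EtOver.bcMap hi.1 (EtOver.prodSnd V' V) := (EtOver.bc hi.1).map_comp _ _
    rw [h1]
    change (EtOver.bcMap hi.1 ι).hom.left.left ≫ (EtOver.bcMap hi.1 (EtOver.prodSnd V' V)).hom.left.left = _
    rw [← hk, Category.assoc, hl2']
  refine ⟨V'', ι ≫ EtOver.prodFst V' V, ι ≫ EtOver.prodSnd V' V, ?_, ?_⟩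
  · apply EtOver.hom_ext
    ext1
    change (EtOver.bcMap hi.1 (ι ≫ EtOver.prodFst V' V)).hom.left.left ≫ p.hom.left.left =
      (EtOver.bcMap hi.1 (ι ≫ EtOver.prodSnd V' V)).hom.left.left
    rw [hr, ht]
  · change z ∈ Set.range (EtOver.bcMap hi.1 (ι ≫ EtOver.prodFst V' V)).hom.left.left
    rw [hr]
    have hy : (hi.1.snd P.obj.hom).left (l.left z) ∈ O := by
      rintro ⟨y', hy', hy'e⟩
      exact hy' ⟨z, (hemb.injective hy'e).symm⟩
    have hmem : l.left z ∈ Set.range (EtOver.bcMap hi.1 ι).hom.left.left := by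
      rw [Groth.Agent.Lib.Helper5.range_fst_of_isPullback sqL]
      exact ⟨⟨_, hy⟩, rfl⟩
    obtain ⟨x, hx⟩ := hmem
    refine ⟨x, ?_⟩
    apply l.left.isOpenEmbedding.injective
    have h5 : l.left (k x) = (k ≫ l.left) x := (Scheme.Hom.comp_apply _ _ _).symm
    have h6 : (k ≫ l.left) x = (EtOver.bcMap hi.1 ι).hom.left.left x := congrArg (fun f => f x) hk
    exact h5.trans (h6.trans hx)


/-- Inverse image to a closed subspace is a cover-dense functor of small étale sites. -/
theorem isCoverDense_bc (hX : IsAlgSpace X) (hi : RepWith @IsClosedImmersion i) :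
    (EtOver.bc hi.1).IsCoverDense (etTop Z) where
  is_cover U := by
    choose V m hm using exists_bc_lift hX hi U
    refine (etTop Z).superset_covering ?_
      (ofArrows_mem_etTop (fun u => (EtOver.bc hi.1).obj (V u)) m (fun u => ⟨u, hm u⟩))
    rw [Sieve.ofArrows, Sieve.generate_le_iff]
    rintro _ _ ⟨u⟩
    exact Presieve.in_coverByImage _ (m u)

/-- Inverse image to a closed subspace is a locally full functor of small étale sites. -/
theorem isLocallyFull_bc (hi : RepWith @IsClosedImmersion i) :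
    (EtOver.bc hi.1).IsLocallyFull (etTop Z) where
  functorPushforward_imageSieve_mem {V' V} p := by
    choose V'' r t hrt hz using exists_bc_lift_hom hi p
    refine (etTop Z).superset_covering ?_
      (ofArrows_mem_etTop (fun z => (EtOver.bc hi.1).obj (V'' z))
        (fun z => (EtOver.bc hi.1).map (r z)) (fun z => ⟨z, hz z⟩))
    rw [Sieve.ofArrows, Sieve.generate_le_iff]
    rintro _ _ ⟨z⟩
    exact ⟨V'' z, r z, 𝟙 _, ⟨t z, (hrt z).symm⟩, (Category.id_comp _).symm⟩

/-- Direct image along a closed immersion of algebraic spaces is full, for sheaves with values in any category. -/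
theorem full_pushEt (hX : IsAlgSpace X) (hi : RepWith @IsClosedImmersion i) (A : Type*) [Category A] :
    (pushEt hi.1 A).Full := by
  have := isCoverDense_bc hX hi
  have := isLocallyFull_bc hi
  exact Functor.IsCoverDense.full_sheafPushforwardContinuous _ _ (EtOver.bc hi.1)

/-- Direct image along a closed immersion of algebraic spaces is faithful, for sheaves with values in any category. -/
theorem faithful_pushEt (hX : IsAlgSpace X) (hi : RepWith @IsClosedImmersion i) (A : Type*) [Category A] :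
    (pushEt hi.1 A).Faithful := by
  have := isCoverDense_bc hX hi
  have := isLocallyFull_bc hi
  exact Functor.IsCoverDense.faithful_sheafPushforwardContinuous _ _ (EtOver.bc hi.1)

end Groth.Agent.Lib.Helper30.ClosedBcDense
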