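import Groth.Agent.Lib.Helper30.SubTransfer
import Groth.Agent.Lib.Helper30.CartierDescent
import Groth.Agent.Lib.Helper37.AlgSpPoints
import Groth.Prelude.Def_AlgSpSub
import Mathlib.AlgebraicGeometry.Morphisms.ClosedImmersion
import Mathlib.AlgebraicGeometry.Morphisms.Etale
import Mathlib.AlgebraicGeometry.Morphisms.UniversallyOpen

/-!
# Charts of closed subspaces of algebraic spaces; comparison of effective Cartier charts (helper30)

* `exists_isPullback_subschemeι` : replace a closed-immersion leg of a pullback square over a chart by `I.subschemeι`, `I` the kernel.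
* `eq_of_isPullback` : the ideal sheaf cutting out the inverse image of a closed subspace in a chart is unique.
* `exists_principal_nzd_of_charts` : two-chart comparison for effective Cartier divisors (flat descent of principal+nzd).
* `exists_principal_nzd_of_notMem_support`, `isEffCartierIdeal_of_ideal_top`.
* `exists_chart_of_isEffCartierSub` : every étale chart of the space sees an effective Cartier divisor as an effective Cartier ideal.
-/

set_option autoImplicit false
universe u
open CategoryTheory CategoryTheory.Limits AlgebraicGeometry Opposite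

namespace Groth.Agent.Lib.Helper30.ClosedChart

open AlgSp Groth.Agent.Lib.Helper30.SubTransfer Groth.Agent.Lib.Helper30.CartierDescent
open Groth.Agent.Lib.Helper37.AlgSpPoints

variable {S : Scheme.{u}}

/-- A pullback square whose scheme-level leg is a closed immersion can be replaced by one whose leg is the inclusion
of the closed subscheme of the kernel ideal sheaf. -/
theorem exists_isPullback_subschemeι {F G : Sp S} {i : G ⟶ F} {V XV : Over S} {φ : (yon S).obj V ⟶ F}
    {ιV : XV ⟶ V} {fstV : (yon S).obj XV ⟶ G} (sqV : IsPullback fstV ((yon S).map ιV) i φ)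
    [IsClosedImmersion ιV.left] :
    ∃ fst : (yon S).obj (Over.mk (ιV.left.ker.subschemeι ≫ V.hom)) ⟶ G,
      IsPullback fst ((yon S).map (Over.homMk ιV.left.ker.subschemeι rfl :
        Over.mk (ιV.left.ker.subschemeι ≫ V.hom) ⟶ V)) i φ := by
  let e0 : XV.left ≅ ιV.left.ker.subscheme := asIso ιV.left.toImage
  have he0 : e0.hom ≫ ιV.left.ker.subschemeι = ιV.left := ιV.left.toImage_imageι
  let e : XV ≅ Over.mk (ιV.left.ker.subschemeι ≫ V.hom) := Over.isoMk e0 (by
    change e0.hom ≫ ιV.left.ker.subschemeι ≫ V.hom = XV.hom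
    rw [← Category.assoc, he0, Over.w ιV])
  have he : e.hom ≫ (Over.homMk ιV.left.ker.subschemeι rfl :
      Over.mk (ιV.left.ker.subschemeι ≫ V.hom) ⟶ V) = ιV := by
    ext
    exact he0
  refine ⟨(yon S).map e.inv ≫ fstV, ?_⟩
  refine IsPullback.of_iso sqV ((yon S).mapIso e) (Iso.refl _) (Iso.refl _) (Iso.refl _) ?_ ?_
    (by simp) (by simp)
  · simp only [Iso.refl_hom, Category.comp_id, Functor.mapIso_hom]
    rw [← Category.assoc, ← Functor.map_comp, Iso.hom_inv_id, CategoryTheory.Functor.map_id, Category.id_comp]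
  · simp only [Iso.refl_hom, Category.comp_id, Functor.mapIso_hom]
    rw [← Functor.map_comp, he]

/-- The ideal sheaf cutting out the inverse image of a closed subspace in a chart is unique. -/
theorem eq_of_isPullback {F G : Sp S} {i : G ⟶ F} {V : Over S} {φ : (yon S).obj V ⟶ F}
    (I J : V.left.IdealSheafData)
    {fstI : (yon S).obj (Over.mk (I.subschemeι ≫ V.hom)) ⟶ G}
    {fstJ : (yon S).obj (Over.mk (J.subschemeι ≫ V.hom)) ⟶ G}
    (sqI : IsPullback fstI ((yon S).map (Over.homMk I.subschemeι rfl :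
        Over.mk (I.subschemeι ≫ V.hom) ⟶ V)) i φ)
    (sqJ : IsPullback fstJ ((yon S).map (Over.homMk J.subschemeι rfl :
        Over.mk (J.subschemeι ≫ V.hom) ⟶ V)) i φ) : I = J := by
  let e := sqI.isoIsPullback _ _ sqJ
  have he : e.hom ≫ (yon S).map (Over.homMk J.subschemeι rfl :
        Over.mk (J.subschemeι ≫ V.hom) ⟶ V) = (yon S).map (Over.homMk I.subschemeι rfl :
        Over.mk (I.subschemeι ≫ V.hom) ⟶ V) := sqI.isoIsPullback_hom_snd _ _ sqJ
  obtain ⟨e0, he0⟩ := (yon S).map_surjective e.hom
  have : IsIso ((yon S).map e0) := by rw [he0]; infer_instance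
  have hiso : IsIso e0 := isIso_of_fully_faithful (yon S) e0
  rw [← he0, ← Functor.map_comp] at he
  have he' := (yon S).map_injective he
  have h1 : e0.left ≫ J.subschemeι = I.subschemeι := congrArg CommaMorphism.left he'
  have : IsIso e0.left := (Over.forget S).map_isIso e0
  rw [← I.ker_subschemeι, ← h1, Scheme.Hom.ker_comp_of_isIso, J.ker_subschemeι]

/-- **Two-chart comparison**: if the inverse image of `D` in an étale chart `V` is an effective Cartier ideal, then in any
other étale chart `U` the ideal of the inverse image of `D` is generated by a nonzerodivisor near every point of `U` whose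
image in `|F|` comes from `V`. -/
theorem exists_principal_nzd_of_charts {F D : Sp S} {i : D ⟶ F}
    {V : Over S} (φ : (yon S).obj V ⟶ F) (hφE : RepWith @Etale φ) (I : V.left.IdealSheafData)
    (hI : BlowUp.IsEffCartierIdeal I)
    {fstI : (yon S).obj (Over.mk (I.subschemeι ≫ V.hom)) ⟶ D}
    (sqI : IsPullback fstI ((yon S).map (Over.homMk I.subschemeι rfl :
      Over.mk (I.subschemeι ≫ V.hom) ⟶ V)) i φ)
    {U : Over S} (ψ : (yon S).obj U ⟶ F) (hψE : RepWith @Etale ψ) (J : U.left.IdealSheafData)
    {fstJ : (yon S).obj (Over.mk (J.subschemeι ≫ U.hom)) ⟶ D}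
    (sqJ : IsPullback fstJ ((yon S).map (Over.homMk J.subschemeι rfl :
      Over.mk (J.subschemeι ≫ U.hom) ⟶ U)) i ψ)
    (v : V.left) (u : U.left) (huv : Points.ofPt φ v = Points.ofPt ψ u) :
    ∃ U₀ : U.left.affineOpens, u ∈ U₀.1 ∧
      ∃ a : Γ(U.left, U₀.1), a ∈ nonZeroDivisors Γ(U.left, U₀.1) ∧ J.ideal U₀ = Ideal.span {a} := by
  have hrep := hφE.rep
  have sqW := hrep.isPullback' ψ
  set p := hrep.fst' ψ with hp
  set q := hrep.snd ψ with hq
  have hqE : Etale q.left := hφE.property_snd ψ
  have hpE : Etale p.left := hψE.property _ _ _ sqW.flip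
  obtain ⟨w, hw1, hw2⟩ := (ofPt_eq_ofPt_iff sqW v u).1 huv
  obtain ⟨fst1, sq1⟩ := exists_isPullback_comap (IsPullback.of_id_fst (f := i)) I sqI
    ((yon S).map p ≫ φ) p (Category.comp_id _)
  obtain ⟨fst2, sq2⟩ := exists_isPullback_comap (IsPullback.of_id_fst (f := i)) J sqJ
    ((yon S).map q ≫ ψ) q (Category.comp_id _)
  rw [← sqW.w] at sq2
  have heq : I.comap p.left = J.comap q.left := eq_of_isPullback _ _ sq1 sq2
  have hJ' : BlowUp.IsEffCartierIdeal (J.comap q.left) :=
    heq ▸ Groth.Agent.Lib.Helper82.isEffCartierIdeal_comap_of_flat p.left I hI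
  obtain ⟨U₀, hU₀, a, ha, hJa⟩ := exists_principal_nzd_of_comap q.left q.left.isOpenMap J hJ' w
  exact ⟨U₀, hw2 ▸ hU₀, a, ha, hJa⟩


/-- Away from the support the ideal sheaf is the unit ideal on a small affine open. -/
theorem exists_principal_nzd_of_notMem_support {X : Scheme.{u}} (I : X.IdealSheafData) (x : X)
    (hx : x ∉ I.support) :
    ∃ U : X.affineOpens, x ∈ U.1 ∧
      ∃ a : Γ(X, U.1), a ∈ nonZeroDivisors Γ(X, U.1) ∧ I.ideal U = Ideal.span {a} := by
  obtain ⟨U, hU, hxU, hUle⟩ := exists_isAffineOpen_mem_and_subset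
    (U := ⟨((I.support : Set X))ᶜ, I.support.isClosed.isOpen_compl⟩) (x := x) hx
  refine ⟨⟨U, hU⟩, hxU, 1, one_mem _, ?_⟩
  rw [Ideal.span_singleton_one]
  have h1 : X.zeroLocus (U := U) (I.ideal ⟨U, hU⟩) ∩ U = ∅ := by
    rw [Set.eq_empty_iff_forall_notMem]
    rintro y ⟨hy1, hy2⟩
    exact hUle hy2 (Scheme.IdealSheafData.zeroLocus_inter_subset_supportSet I ⟨U, hU⟩ ⟨hy1, hy2⟩)
  have h2 := hU.fromSpec_image_zeroLocus (I.ideal ⟨U, hU⟩)
  rw [h1] at h2
  exact PrimeSpectrum.zeroLocus_empty_iff_eq_top.mp (Set.image_eq_empty.mp h2)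

/-- On an affine scheme, an ideal sheaf whose global ideal is generated by a nonzerodivisor is effective Cartier. -/
theorem isEffCartierIdeal_of_ideal_top {X : Scheme.{u}} [IsAffine X] (I : X.IdealSheafData)
    (f : Γ(X, ⊤)) (hf : f ∈ nonZeroDivisors Γ(X, ⊤))
    (hI : I.ideal ⟨⊤, isAffineOpen_top X⟩ = Ideal.span {f}) : BlowUp.IsEffCartierIdeal I :=
  fun _ => ⟨⟨⊤, isAffineOpen_top X⟩, trivial, f, hf, hI⟩

set_option backward.isDefEq.respectTransparency false in
/-- **Every étale chart sees an effective Cartier divisor** (the direction (2) ⇒ (3)): for an effective Cartier divisor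
`i : D ⟶ F` and any representable étale `a : h_U ⟶ F`, the inverse image of `D` in `U` is the closed subscheme of an
effective Cartier ideal sheaf `J` on `U`, and `h_{V(J)} ⟶ D` is representable étale (surjective if `a` is). -/
theorem exists_chart_of_isEffCartierSub {F D : Sp S} {i : D ⟶ F} (hD : IsEffCartierSub i)
    {U : Over S} (a : (yon S).obj U ⟶ F) (haE : RepWith @Etale a) :
    ∃ (J : U.left.IdealSheafData) (fst : (yon S).obj (Over.mk (J.subschemeι ≫ U.hom)) ⟶ D),
      IsPullback fst ((yon S).map (Over.homMk J.subschemeι rfl :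
        Over.mk (J.subschemeι ≫ U.hom) ⟶ U)) i a ∧ BlowUp.IsEffCartierIdeal J ∧
      RepWith @Etale fst ∧ (RepWith @Surjective a → RepWith @Surjective fst) := by
  obtain ⟨hi, V, φ, I, fstI, hφE, hφS, sqI, hI⟩ := hD
  have sqU := hi.rep.isPullback a
  have : IsClosedImmersion (hi.rep.snd a).left := hi.property a _ _ sqU
  obtain ⟨fst, sq⟩ := exists_isPullback_subschemeι sqU
  refine ⟨_, fst, sq, ?_, MorphismProperty.of_isPullback (P := RepWith @Etale) sq.flip haE,
    fun haS => MorphismProperty.of_isPullback (P := RepWith @Surjective) sq.flip haS⟩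
  intro u
  obtain ⟨v, hv⟩ := ofPt_surjective φ hφS (Points.ofPt a u)
  exact exists_principal_nzd_of_charts φ hφE I hI sqI a haE _ sq v u hv

end Groth.Agent.Lib.Helper30.ClosedChart
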