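import Groth.Agent.Lib.Helper30.IdealDescent
import Groth.Agent.Lib.Helper30.AlgSpAtlas
import Groth.Agent.Lib.Helper5.LocalRep
import Groth.Agent.Lib.Helper5.SheafPullback
import Groth.Agent.Lib.Helper5.AlgSpCoprod

/-!
# Etale descent of closed subspaces of algebraic spaces (helper30)
-/

set_option autoImplicit false
universe u
open CategoryTheory CategoryTheory.Limits AlgebraicGeometry Opposite

namespace Groth.Agent.Lib.Helper30.ClosedDescent

open AlgSp Groth.Agent.Lib.Helper30.IdealDescent

variable {S : Scheme.{u}} {X : Sp S} {A : Over S} (φ : (yon S).obj A ⟶ X)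
  (I : A.left.IdealSheafData)

/-- `g : h_T ⟶ X` lands in the closed subspace defined by `I` on the chart `φ : h_A ⟶ X`: every lift of `g` to the chart
factors through `V(I)`. -/
def Pred {T : Over S} (g : (yon S).obj T ⟶ X) : Prop :=
  ∀ (T' : Over S) (a : T' ⟶ T) (b : T' ⟶ A), (yon S).map a ≫ g = (yon S).map b ≫ φ → I ≤ b.left.ker

theorem pred_comp {T T₁ : Over S} (ψ : T₁ ⟶ T) {g : (yon S).obj T ⟶ X} (hg : Pred φ I g) :
    Pred φ I ((yon S).map ψ ≫ g) := by
  intro T' a b hab
  exact hg T' (a ≫ ψ) b (by rw [Functor.map_comp, Category.assoc, hab])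

/-- The subfunctor of `X` of sections landing in the closed subspace. -/
def sub : Subfunctor X.obj where
  obj T := {x | Pred φ I ((J S).uliftYonedaEquiv.symm x)}
  map := by
    intro T T₁ ψ x hx
    show Pred φ I ((J S).uliftYonedaEquiv.symm (X.obj.map ψ x))
    have e : (J S).uliftYonedaEquiv.symm (X.obj.map ψ x) =
        (yon S).map ψ.unop ≫ (J S).uliftYonedaEquiv.symm x :=
      (GrothendieckTopology.uliftYonedaEquiv_symm_naturality_left (J S) ψ.unop X x).symm
    rw [e]
    exact pred_comp φ I ψ.unop hx

set_option backward.isDefEq.respectTransparency false in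
/-- The predicate is local for the fppf topology. -/
theorem pred_of_mem_J {T : Over S} (g : (yon S).obj T ⟶ X) (R : Sieve T) (hR : R ∈ J S T)
    (h : ∀ ⦃T₁ : Over S⦄ (ψ : T₁ ⟶ T), R ψ → Pred φ I ((yon S).map ψ ≫ g)) : Pred φ I g := by
  rw [J_eq, GrothendieckTopology.mem_over_iff] at hR
  have : MorphismProperty.IsMultiplicative
      (@LocallyOfFinitePresentation : MorphismProperty Scheme.{u}) :=
    { id_mem := fun _ => inferInstance
      comp_mem := fun f g hf hg => by
        have : LocallyOfFinitePresentation f := hf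
        have : LocallyOfFinitePresentation g := hg
        exact (inferInstance : LocallyOfFinitePresentation (f ≫ g)) }
  obtain ⟨𝒰, h𝒰⟩ := (Scheme.mem_grothendieckTopology_iff
    (P := @Flat ⊓ @LocallyOfFinitePresentation)).1 hR
  intro T' a b hab
  have hflat : ∀ i, Flat (pullback.fst a.left (𝒰.f i)) := fun i => by
    have : Flat (𝒰.f i) := (𝒰.map_prop i).1
    infer_instance
  refine le_ker_of_flat_cover b.left I (fun i => pullback.fst a.left (𝒰.f i)) ?_ ?_
  · intro y
    obtain ⟨i, z, hz⟩ := 𝒰.exists_eq (a.left y)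
    obtain ⟨w, hw1, -⟩ := Scheme.Pullback.exists_preimage_pullback y z hz.symm
    exact ⟨i, w, hw1⟩
  · intro i
    have h1 : Sieve.overEquiv T R (𝒰.f i) := h𝒰 _ _ (Presieve.ofArrows.mk i)
    rw [Sieve.overEquiv_iff] at h1
    have h2 := h _ h1
    let Ti : Over S := Over.mk (pullback.fst a.left (𝒰.f i) ≫ T'.hom)
    let ci : Ti ⟶ T' := Over.homMk (pullback.fst a.left (𝒰.f i)) rfl
    let di : Ti ⟶ Over.mk (𝒰.f i ≫ T.hom) := Over.homMk (pullback.snd a.left (𝒰.f i)) (by
      change pullback.snd a.left (𝒰.f i) ≫ 𝒰.f i ≫ T.hom = pullback.fst a.left (𝒰.f i) ≫ T'.hom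
      rw [← Category.assoc, ← pullback.condition, Category.assoc, Over.w a])
    have hcd : di ≫ (Over.homMk (𝒰.f i) : Over.mk (𝒰.f i ≫ T.hom) ⟶ T) = ci ≫ a := by
      ext
      exact pullback.condition.symm
    have h3 := h2 Ti di (ci ≫ b) (by
      rw [← Category.assoc, ← Functor.map_comp, hcd, Functor.map_comp, Functor.map_comp,
        Category.assoc, Category.assoc, hab])
    exact h3

theorem sub_isSheaf : Presheaf.IsSheaf (J S) (sub φ I).toFunctor := by
  rw [isSheaf_iff_isSheaf_of_type]
  rw [Subfunctor.isSheaf_iff _ ((isSheaf_iff_isSheaf_of_type _ _).1 X.property)]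
  intro T s hs
  show Pred φ I ((J S).uliftYonedaEquiv.symm s)
  refine pred_of_mem_J φ I _ _ hs (fun T₁ ψ hψ => ?_)
  have h1 : X.obj.map ψ.op s ∈ (sub φ I).obj (op T₁) := hψ
  have e : (J S).uliftYonedaEquiv.symm (X.obj.map ψ.op s) =
      (yon S).map ψ ≫ (J S).uliftYonedaEquiv.symm s :=
    (GrothendieckTopology.uliftYonedaEquiv_symm_naturality_left (J S) ψ X s).symm
  rw [← e]
  exact h1

/-- The closed subspace of `X` defined by the ideal sheaf `I` on the chart `φ` (as a sheaf). -/
def closedSub : Sp S := ⟨(sub φ I).toFunctor, sub_isSheaf φ I⟩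

/-- The inclusion of the closed subspace. -/
def closedSubι : closedSub φ I ⟶ X := ObjectProperty.homMk (sub φ I).ι

instance : Mono (closedSubι φ I) := by
  have : Mono ((sheafToPresheaf (J S) (Type (u + 1))).map (closedSubι φ I)) :=
    inferInstanceAs (Mono (sub φ I).ι)
  exact (sheafToPresheaf (J S) (Type (u + 1))).mono_of_mono_map this

theorem pred_comp_closedSubι {T : Over S} (g : (yon S).obj T ⟶ closedSub φ I) :
    Pred φ I (g ≫ closedSubι φ I) := by
  have h := ((J S).uliftYonedaEquiv g).2
  have e : (J S).uliftYonedaEquiv.symm (((J S).uliftYonedaEquiv g).1) = g ≫ closedSubι φ I := by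
    apply (J S).uliftYonedaEquiv.injective
    rw [Equiv.apply_symm_apply, GrothendieckTopology.uliftYonedaEquiv_comp]
    rfl
  rw [← e]
  exact h

theorem exists_lift_closedSub {T : Over S} (g : (yon S).obj T ⟶ X) (hg : Pred φ I g) :
    ∃ g' : (yon S).obj T ⟶ closedSub φ I, g' ≫ closedSubι φ I = g := by
  have hmem : (J S).uliftYonedaEquiv g ∈ (sub φ I).obj (op T) := by
    show Pred φ I ((J S).uliftYonedaEquiv.symm ((J S).uliftYonedaEquiv g))
    rw [Equiv.symm_apply_apply]
    exact hg
  refine ⟨(J S).uliftYonedaEquiv.symm (⟨(J S).uliftYonedaEquiv g, hmem⟩ :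
    (closedSub φ I).obj.obj (op T)), ?_⟩
  apply (J S).uliftYonedaEquiv.injective
  rw [GrothendieckTopology.uliftYonedaEquiv_comp]
  erw [Equiv.apply_symm_apply]
  rfl


/-- Lifting a morphism killing `I` through the closed subscheme, over `S`. -/
theorem exists_over_lift {T A' : Over S} (K : A'.left.IdealSheafData) (y : T ⟶ A') (hy : K ≤ y.left.ker) :
    ∃ ψ : T ⟶ Over.mk (K.subschemeι ≫ A'.hom),
      ψ ≫ (Over.homMk K.subschemeι rfl : Over.mk (K.subschemeι ≫ A'.hom) ⟶ A') = y := by
  let ψ0 : T.left ⟶ K.subscheme := IsClosedImmersion.lift K.subschemeι y.left (by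
    rw [Scheme.IdealSheafData.ker_subschemeι]; exact hy)
  have hψ0 : ψ0 ≫ K.subschemeι = y.left := IsClosedImmersion.lift_fac _ _ _
  refine ⟨Over.homMk ψ0 (by
    change ψ0 ≫ K.subschemeι ≫ A'.hom = T.hom
    rw [← Category.assoc, hψ0]; exact Over.w y), ?_⟩
  ext
  exact hψ0

instance mono_over_subschemeι {A' : Over S} (K : A'.left.IdealSheafData) :
    Mono (Over.homMk K.subschemeι rfl : Over.mk (K.subschemeι ≫ A'.hom) ⟶ A') := by
  have : Mono ((Over.forget S).map
      (Over.homMk K.subschemeι rfl : Over.mk (K.subschemeι ≫ A'.hom) ⟶ A')) := by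
    change Mono K.subschemeι
    infer_instance
  exact (Over.forget S).mono_of_mono_map this

/-- A square over a closed subscheme of a scheme with the closed subspace is cartesian as soon as the predicate is
characterised by the ideal sheaf. -/
theorem isPullback_of_pred_iff {T : Over S} (g : (yon S).obj T ⟶ X) (K : T.left.IdealSheafData)
    (hK : ∀ {T₀ : Over S} (y : T₀ ⟶ T), Pred φ I ((yon S).map y ≫ g) ↔ K ≤ y.left.ker) :
    ∃ top : (yon S).obj (Over.mk (K.subschemeι ≫ T.hom)) ⟶ closedSub φ I,
      IsPullback top ((yon S).map (Over.homMk K.subschemeι rfl : Over.mk (K.subschemeι ≫ T.hom) ⟶ T))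
        (closedSubι φ I) g := by
  have h0 : Pred φ I ((yon S).map (Over.homMk K.subschemeι rfl :
      Over.mk (K.subschemeι ≫ T.hom) ⟶ T) ≫ g) := by
    rw [hK]
    change K ≤ K.subschemeι.ker
    rw [Scheme.IdealSheafData.ker_subschemeι]
  obtain ⟨top, htop⟩ := exists_lift_closedSub φ I _ h0
  refine ⟨top, Groth.Agent.Lib.Helper5.sheaf_isPullback_of_yon.{u, u + 1, u + 1} (J S) top _
    (closedSubι φ I) g htop ?_ ?_⟩
  · intro T0 z z' _ h2
    obtain ⟨ψ, rfl⟩ := (yon S).map_surjective z
    obtain ⟨ψ', rfl⟩ := (yon S).map_surjective z'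
    rw [← Functor.map_comp, ← Functor.map_comp] at h2
    have h3 := (yon S).map_injective h2
    rw [cancel_mono] at h3
    rw [h3]
  · intro T0 x y hxy
    obtain ⟨y₀, rfl⟩ := (yon S).map_surjective y
    have hp : Pred φ I ((yon S).map y₀ ≫ g) := by
      rw [← hxy]; exact pred_comp_closedSubι φ I x
    obtain ⟨ψ, hψ⟩ := exists_over_lift K y₀ ((hK y₀).1 hp)
    refine ⟨(yon S).map ψ, ?_, ?_⟩
    · rw [← cancel_mono (closedSubι φ I), Category.assoc, htop, ← Category.assoc,
        ← Functor.map_comp, hψ, hxy]
    · rw [← Functor.map_comp, hψ]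


/-- The predicate in terms of any chart pullback square. -/
theorem pred_iff {T T' : Over S} (g : (yon S).obj T ⟶ X) (p : T' ⟶ A) (q : T' ⟶ T)
    (sqT : IsPullback ((yon S).map p) ((yon S).map q) φ g) {T₀ : Over S} (y : T₀ ⟶ T) :
    Pred φ I ((yon S).map y ≫ g) ↔ I ≤ (pullback.snd y.left q.left ≫ p.left).ker := by
  have hw : (yon S).map p ≫ φ = (yon S).map q ≫ g := sqT.w
  constructor
  · intro h
    let P₀ : Over S := Over.mk (pullback.fst y.left q.left ≫ T₀.hom)
    let a : P₀ ⟶ T₀ := Over.homMk (pullback.fst y.left q.left) rfl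
    let b₀ : P₀ ⟶ T' := Over.homMk (pullback.snd y.left q.left) (by
      change pullback.snd y.left q.left ≫ T'.hom = pullback.fst y.left q.left ≫ T₀.hom
      rw [← Over.w q, ← Category.assoc, ← pullback.condition, Category.assoc, Over.w y])
    have hab : a ≫ y = b₀ ≫ q := by
      ext
      exact pullback.condition
    have := h P₀ a (b₀ ≫ p) (by
      rw [← Category.assoc, ← Functor.map_comp, hab, Functor.map_comp, Functor.map_comp,
        Category.assoc, Category.assoc, hw])
    exact this
  · intro h T'' a b hab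
    obtain ⟨c', hc1, hc2⟩ := sqT.exists_lift ((yon S).map b) ((yon S).map (a ≫ y)) (by
      rw [Functor.map_comp, Category.assoc, hab])
    obtain ⟨c, rfl⟩ := (yon S).map_surjective c'
    rw [← Functor.map_comp] at hc1 hc2
    have f1 : c.left ≫ p.left = b.left := by
      have := congrArg (fun m => m.left) ((yon S).map_injective hc1)
      simpa using this
    have f2 : c.left ≫ q.left = a.left ≫ y.left := by
      have := congrArg (fun m => m.left) ((yon S).map_injective hc2)
      simpa using this
    let d : T''.left ⟶ pullback y.left q.left := pullback.lift a.left c.left f2.symm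
    have hd : d ≫ pullback.snd y.left q.left = c.left := pullback.lift_snd _ _ _
    rw [← f1, ← hd, Category.assoc]
    exact h.trans (Scheme.Hom.le_ker_comp _ _)

section KernelPair

variable {φ I}
variable {R : Over S} {s t : R ⟶ A} (hR : IsPullback ((yon S).map s) ((yon S).map t) φ φ)
  (hI : I.comap s.left = I.comap t.left)

include hR hI

/-- The closed subscheme `V(I)` of the chart lands in the closed subspace. -/
theorem pred_subschemeι_comp :
    Pred φ I ((yon S).map (Over.homMk I.subschemeι rfl : Over.mk (I.subschemeι ≫ A.hom) ⟶ A) ≫ φ) := by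
  intro T' a b hab
  obtain ⟨r', hr1, hr2⟩ := hR.exists_lift ((yon S).map (a ≫ Over.homMk I.subschemeι rfl)) ((yon S).map b)
    (by rw [Functor.map_comp, Category.assoc, hab])
  obtain ⟨r, rfl⟩ := (yon S).map_surjective r'
  rw [← Functor.map_comp] at hr1 hr2
  have e1 : r.left ≫ s.left = a.left ≫ I.subschemeι := by
    have := congrArg (fun m => m.left) ((yon S).map_injective hr1)
    simpa using this
  have e2 : r.left ≫ t.left = b.left := by
    have := congrArg (fun m => m.left) ((yon S).map_injective hr2)
    simpa using this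
  rw [← e2, Scheme.Hom.ker_comp, Scheme.IdealSheafData.le_map_iff_comap_le, ← hI,
    ← Scheme.IdealSheafData.le_map_iff_comap_le, ← Scheme.Hom.ker_comp, e1]
  calc I = I.subschemeι.ker := (Scheme.IdealSheafData.ker_subschemeι _).symm
    _ ≤ (a.left ≫ I.subschemeι).ker := Scheme.Hom.le_ker_comp _ _

/-- The inverse image of the closed subspace in the chart `h_A` is `V(I)`. -/
theorem pred_chart_iff {T₀ : Over S} (y : T₀ ⟶ A) :
    Pred φ I ((yon S).map y ≫ φ) ↔ I ≤ y.left.ker := by
  constructor
  · intro h
    exact h T₀ (𝟙 _) y (by rw [CategoryTheory.Functor.map_id, Category.id_comp])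
  · intro h
    obtain ⟨ψ, hψ⟩ := exists_over_lift I y h
    rw [← hψ, Functor.map_comp, Category.assoc]
    exact pred_comp φ I ψ (pred_subschemeι_comp hR hI)

theorem exists_isPullback_chart :
    ∃ top : (yon S).obj (Over.mk (I.subschemeι ≫ A.hom)) ⟶ closedSub φ I,
      IsPullback top ((yon S).map (Over.homMk I.subschemeι rfl : Over.mk (I.subschemeι ≫ A.hom) ⟶ A))
        (closedSubι φ I) φ :=
  isPullback_of_pred_iff φ I φ I (fun y => pred_chart_iff hR hI y)

set_option backward.isDefEq.respectTransparency false in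
/-- Over an affine scheme, the closed subspace is cut out by an ideal sheaf. -/
theorem exists_ideal_of_isAffine (hφE : RepWith @Etale φ) (hφS : RepWith @Surjective φ)
    {T : Over S} [IsAffine T.left] (g : (yon S).obj T ⟶ X) :
    ∃ K : T.left.IdealSheafData, ∀ {T₀ : Over S} (y : T₀ ⟶ T),
      Pred φ I ((yon S).map y ≫ g) ↔ K ≤ y.left.ker := by
  have hrep := hφE.rep
  have sqT := hrep.isPullback' g
  set p := hrep.fst' g with hp
  set q := hrep.snd g with hq
  have hqE : Etale q.left := hφE.property_snd g
  have hqS : Surjective q.left := hφS.property _ _ _ (hrep.isPullback g)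
  have hw : (yon S).map p ≫ φ = (yon S).map q ≫ g := sqT.w
  -- the cocycle condition
  let pr₁ := pullback.fst q.left q.left
  let pr₂ := pullback.snd q.left q.left
  let P₂ : Over S := Over.mk (pr₁ ≫ (hrep.pullback g).hom)
  let pr₁' : P₂ ⟶ hrep.pullback g := Over.homMk pr₁ rfl
  let pr₂' : P₂ ⟶ hrep.pullback g := Over.homMk pr₂ (by
    change pr₂ ≫ (hrep.pullback g).hom = pr₁ ≫ (hrep.pullback g).hom
    rw [← Over.w q, ← Category.assoc, ← Category.assoc]
    congr 1
    exact pullback.condition.symm)
  have hpq : pr₁' ≫ q = pr₂' ≫ q := by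
    ext
    exact pullback.condition
  obtain ⟨r', hr1, hr2⟩ := hR.exists_lift ((yon S).map (pr₁' ≫ p)) ((yon S).map (pr₂' ≫ p)) (by
    rw [Functor.map_comp, Functor.map_comp, Category.assoc, Category.assoc, hw,
      ← Category.assoc, ← Category.assoc, ← Functor.map_comp, ← Functor.map_comp, hpq])
  obtain ⟨r, rfl⟩ := (yon S).map_surjective r'
  rw [← Functor.map_comp] at hr1 hr2
  have e1 : r.left ≫ s.left = pr₁ ≫ p.left := by
    have := congrArg (fun m => m.left) ((yon S).map_injective hr1)
    simp only [Over.comp_left] at this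
    exact this
  have e2 : r.left ≫ t.left = pr₂ ≫ p.left := by
    have := congrArg (fun m => m.left) ((yon S).map_injective hr2)
    simp only [Over.comp_left] at this
    exact this
  have hc : (I.comap p.left).comap pr₁ = (I.comap p.left).comap pr₂ := by
    rw [← Scheme.IdealSheafData.comap_comp, ← Scheme.IdealSheafData.comap_comp, ← e1, ← e2,
      Scheme.IdealSheafData.comap_comp, Scheme.IdealSheafData.comap_comp, hI]
  obtain ⟨K, hK⟩ := exists_descent_of_isAffine q.left q.left.isOpenMap (I.comap p.left) hc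
  refine ⟨K, fun {T₀} y => ?_⟩
  have sq₀ := IsPullback.of_hasPullback y.left q.left
  rw [hK y.left _ _ sq₀, ← Scheme.IdealSheafData.le_map_iff_comap_le, ← Scheme.Hom.ker_comp]
  constructor
  · intro h
    let P₀ : Over S := Over.mk (pullback.fst y.left q.left ≫ T₀.hom)
    let a : P₀ ⟶ T₀ := Over.homMk (pullback.fst y.left q.left) rfl
    let b₀ : P₀ ⟶ hrep.pullback g := Over.homMk (pullback.snd y.left q.left) (by
      change pullback.snd y.left q.left ≫ (hrep.pullback g).hom = pullback.fst y.left q.left ≫ T₀.hom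
      rw [← Over.w q, ← Category.assoc, ← pullback.condition, Category.assoc, Over.w y])
    have hab : a ≫ y = b₀ ≫ q := by
      ext
      exact pullback.condition
    have := h P₀ a (b₀ ≫ p) (by
      rw [← Category.assoc, ← Functor.map_comp, hab, Functor.map_comp, Functor.map_comp,
        Category.assoc, Category.assoc, hw])
    exact this
  · intro h T' a b hab
    obtain ⟨c', hc1, hc2⟩ := sqT.exists_lift ((yon S).map b) ((yon S).map (a ≫ y)) (by
      rw [Functor.map_comp, Category.assoc, hab])
    obtain ⟨c, rfl⟩ := (yon S).map_surjective c'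
    rw [← Functor.map_comp] at hc1 hc2
    have f1 : c.left ≫ p.left = b.left := by
      have := congrArg (fun m => m.left) ((yon S).map_injective hc1)
      simpa using this
    have f2 : c.left ≫ q.left = a.left ≫ y.left := by
      have := congrArg (fun m => m.left) ((yon S).map_injective hc2)
      simpa using this
    let d : T'.left ⟶ pullback y.left q.left := pullback.lift a.left c.left f2.symm
    have hd : d ≫ pullback.snd y.left q.left = c.left := pullback.lift_snd _ _ _
    rw [← f1, ← hd, Category.assoc]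
    exact h.trans (Scheme.Hom.le_ker_comp _ _)

/-- The inclusion of the closed subspace is representable by closed immersions. -/
theorem repWith_isClosedImmersion_closedSubι (hφE : RepWith @Etale φ) (hφS : RepWith @Surjective φ) :
    RepWith @IsClosedImmersion (closedSubι φ I) := by
  refine Groth.Agent.Lib.Helper5.LocalRep.repWith_of_affine_test @IsClosedImmersion (closedSubι φ I)
    (fun Z hZ g => ?_)
  haveI := hZ
  obtain ⟨K, hK⟩ := exists_ideal_of_isAffine hR hI hφE hφS g
  obtain ⟨top, sq⟩ := isPullback_of_pred_iff φ I g K hK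
  exact ⟨_, _, top, sq, (inferInstance : IsClosedImmersion K.subschemeι)⟩

set_option backward.isDefEq.respectTransparency false in
/-- The closed subspace is an algebraic space. -/
theorem isAlgSpace_closedSub (hX : IsAlgSpace X) (hφE : RepWith @Etale φ)
    (hφS : RepWith @Surjective φ) : IsAlgSpace (closedSub φ I) := by
  constructor
  · have sq := Groth.Agent.Lib.Helper5.isPullback_diag_of_mono (closedSubι φ I)
    exact (Functor.relativelyRepresentable.isStableUnderBaseChange (yon S)).of_isPullback
      sq.flip hX.diag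
  · obtain ⟨top, sq⟩ := exists_isPullback_chart hR hI
    exact ⟨_, top, (RepWith @Etale).of_isPullback sq.flip hφE,
      (RepWith @Surjective).of_isPullback sq.flip hφS⟩

end KernelPair

/-- A morphism of sheaves all of whose sections satisfy the predicate factors through the closed subspace. -/
theorem exists_lift_of_forall_pred {F : Sp S} (f : F ⟶ X)
    (h : ∀ (T : Over S) (x : (yon S).obj T ⟶ F), Pred φ I (x ≫ f)) :
    ∃ f' : F ⟶ closedSub φ I, f' ≫ closedSubι φ I = f := by
  have hmem : Subfunctor.range f.hom ≤ sub φ I := by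
    rintro ⟨T⟩ _ ⟨x, rfl⟩
    show Pred φ I ((J S).uliftYonedaEquiv.symm (f.hom.app (op T) x))
    rw [← GrothendieckTopology.uliftYonedaEquiv_symm_naturality_right]
    exact h _ _
  refine ⟨ObjectProperty.homMk (Subfunctor.lift f.hom hmem), ?_⟩
  apply ObjectProperty.hom_ext
  exact Subfunctor.lift_ι f.hom hmem

theorem pred_of_factors {F : Sp S} (f : F ⟶ X) (f' : F ⟶ closedSub φ I)
    (hf : f' ≫ closedSubι φ I = f) {T : Over S} (x : (yon S).obj T ⟶ F) : Pred φ I (x ≫ f) := by
  rw [← hf, ← Category.assoc]
  exact pred_comp_closedSubι φ I _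

end Groth.Agent.Lib.Helper30.ClosedDescent
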