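import Mathlib

set_option autoImplicit false
universe v v₁ v₂ u₁ u₂ u
open CategoryTheory Opposite

namespace Groth.Agent.Lib.Helper30.DensePushMod

variable {C : Type u₁} [Category.{v₁} C] {D : Type u₂} [Category.{v₂} D]
  {J : GrothendieckTopology C} {K : GrothendieckTopology D} {F : C ⥤ D}
  {S : Sheaf J RingCat.{u}} {R : Sheaf K RingCat.{u}}
  [Functor.IsContinuous F J K]
  (φ : S ⟶ (F.sheafPushforwardContinuous RingCat.{u} J K).obj R)

/-- The sieve of arrows to `U` factoring through some `F V ⟶ U` along which the section `r` of `R` comes from a section of `S`. -/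
def liftSieve (U : D) (r : R.obj.obj (op U)) : Sieve U where
  arrows W g := ∃ (V : C) (a : W ⟶ F.obj V) (f : F.obj V ⟶ U) (s : S.obj.obj (op V)),
    a ≫ f = g ∧ φ.hom.app (op V) s = R.obj.map f.op r
  downward_closed := by
    rintro W W' g ⟨V, a, f, s, rfl, hs⟩ b
    exact ⟨V, b ≫ a, f, s, Category.assoc _ _ _, hs⟩

theorem faithful_pushforward [F.IsCoverDense K] [F.IsLocallyFull K] :
    (SheafOfModules.pushforward.{v} φ).Faithful where
  map_injective {M N} f g h := by
    apply (SheafOfModules.toSheaf R).map_injective
    apply (F.sheafPushforwardContinuous AddCommGrpCat.{v} J K).map_injective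
    exact congrArg (fun k => (SheafOfModules.toSheaf S).map k) h


theorem full_pushforward [F.IsCoverDense K] [F.IsLocallyFull K]
    (H : ∀ (U : D) (r : R.obj.obj (op U)), liftSieve φ U r ∈ K U) :
    (SheafOfModules.pushforward.{v} φ).Full where
  map_surjective {M N} h := by
    let hab : (F.sheafPushforwardContinuous AddCommGrpCat.{v} J K).obj ((SheafOfModules.toSheaf R).obj M) ⟶
        (F.sheafPushforwardContinuous AddCommGrpCat.{v} J K).obj ((SheafOfModules.toSheaf R).obj N) :=
      (SheafOfModules.toSheaf S).map h
    obtain ⟨ψ, hψ⟩ := (F.sheafPushforwardContinuous AddCommGrpCat.{v} J K).map_surjective hab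
    let ψ' : M.val.presheaf ⟶ N.val.presheaf := ψ.hom
    have hψ' : ∀ (V : C) (x : M.val.obj (op (F.obj V))),
        ψ'.app (op (F.obj V)) x = h.val.app (op V) x := by
      intro V x
      have h1 := congrArg (fun k => k.hom.app (op V)) hψ
      exact congrArg (fun k => k x) h1
    have hlin : ∀ (U : Dᵒᵖ) (r : R.obj.obj U) (m : M.val.obj U),
        ψ'.app U (r • m) = r • ψ'.app U m := by
      intro U r m
      obtain ⟨U⟩ := U
      refine N.isSheaf.isSeparated U (liftSieve φ U r) (H U r) _ _ ?_
      rintro W g ⟨V, a, f, s, rfl, hs⟩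
      -- reduce to the restriction along `f`
      suffices hf : N.val.presheaf.map f.op (ψ'.app (op U) (r • m)) =
          N.val.presheaf.map f.op (r • ψ'.app (op U) m) by
        have e1 : ∀ x : N.val.presheaf.obj (op U), N.val.presheaf.map (a ≫ f).op x =
            N.val.presheaf.map a.op (N.val.presheaf.map f.op x) := fun x => by
          rw [op_comp, Functor.map_comp]; rfl
        exact (e1 _).trans ((congrArg (fun t => N.val.presheaf.map a.op t) hf).trans (e1 _).symm)
      have nat : ∀ x : M.val.presheaf.obj (op U), N.val.presheaf.map f.op (ψ'.app (op U) x) =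
          ψ'.app (op (F.obj V)) (M.val.presheaf.map f.op x) := fun x =>
        (ConcreteCategory.congr_hom (ψ'.naturality f.op) x).symm
      -- the restricted module element
      let m' : M.val.obj (op (F.obj V)) := M.val.map f.op m
      let ρ : R.obj.obj (op (F.obj V)) := φ.hom.app (op V) s
      have hρ : ρ = R.obj.map f.op r := hs
      have t2 : M.val.presheaf.map f.op (r • m) = ρ • m' := by
        rw [hρ]; exact M.val.map_smul f.op r m
      let n' : N.val.obj (op (F.obj V)) := h.val.app (op V) m'
      have t4 : h.val.app (op V) (ρ • m') = ρ • n' :=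
        (h.val.app (op V)).hom.map_smul s m'
      have t5 : N.val.presheaf.map f.op (r • ψ'.app (op U) m) =
          ρ • N.val.map f.op (ψ'.app (op U) m) := by
        rw [hρ]; exact N.val.map_smul f.op r (ψ'.app (op U) m)
      have t6 : N.val.map f.op (ψ'.app (op U) m) = n' :=
        (nat m).trans (hψ' V m')
      refine (nat _).trans ?_
      refine (congrArg (fun t => ψ'.app (op (F.obj V)) t) t2).trans ?_
      refine (hψ' V _).trans ?_
      refine t4.trans ?_
      refine Eq.trans ?_ t5.symm
      exact congrArg (fun t => ρ • t) t6.symm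
    refine ⟨⟨PresheafOfModules.homMk ψ' hlin⟩, ?_⟩
    apply SheafOfModules.hom_ext
    apply PresheafOfModules.hom_ext
    intro X
    obtain ⟨V⟩ := X
    ext x
    exact hψ' V x

end Groth.Agent.Lib.Helper30.DensePushMod
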