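import Groth.Agent.Lib.Helper30.ClosedBcDense
import Groth.Agent.Lib.Helper30.DensePushMod

set_option autoImplicit false
set_option backward.isDefEq.respectTransparency false
universe u
open CategoryTheory CategoryTheory.Limits AlgebraicGeometry Opposite

namespace Groth.Agent.Lib.Helper30.ClosedModPush

open AlgSp Groth.Agent.Lib.Helper30.ClosedBcDense Groth.Agent.Lib.Helper30.DensePushMod

variable {S : Scheme.{u}} {X Z : Sp S} {i : Z ⟶ X}

/-- Functions on an étale `Z`-scheme lift, étale locally, to functions on étale `X`-schemes. -/
theorem liftSieve_mem (hX : IsAlgSpace X) (hi : RepWith @IsClosedImmersion i) (U : EtOver Z)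
    (r : (OEtRing Z).obj.obj (op U)) : liftSieve (bcRingHom hi.1) U r ∈ etTop Z U := by
  choose V hV m hm using exists_bc_lift_affine hX hi U
  refine (etTop Z).superset_covering ?_
    (ofArrows_mem_etTop (fun u => (EtOver.bc hi.1).obj (V u)) m (fun u => ⟨u, hm u⟩))
  rw [Sieve.ofArrows, Sieve.generate_le_iff]
  rintro _ _ ⟨u⟩
  have hcl : IsClosedImmersion (hi.1.snd (V u).obj.hom).left :=
    hi.property _ _ _ (hi.1.isPullback (V u).obj.hom)
  have := hV u
  obtain ⟨-, hsurj⟩ := IsClosedImmersion.isAffine_surjective_of_isAffine (hi.1.snd (V u).obj.hom).left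
  obtain ⟨s, hs⟩ := hsurj ((m u).hom.left.left.appTop.hom r.down)
  exact ⟨V u, 𝟙 _, m u, ULift.up s, Category.id_comp _, congrArg ULift.up hs⟩


/-- Direct image of modules along a closed immersion of algebraic spaces is faithful. -/
theorem faithful_pushModEt (hX : IsAlgSpace X) (hi : RepWith @IsClosedImmersion i) :
    (pushModEt hi.1).Faithful := by
  have := isCoverDense_bc hX hi
  have := isLocallyFull_bc hi
  exact faithful_pushforward (bcRingHom hi.1)

/-- Direct image of modules along a closed immersion of algebraic spaces is full. -/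
theorem full_pushModEt (hX : IsAlgSpace X) (hi : RepWith @IsClosedImmersion i) :
    (pushModEt hi.1).Full := by
  have := isCoverDense_bc hX hi
  have := isLocallyFull_bc hi
  exact full_pushforward (bcRingHom hi.1) (liftSieve_mem hX hi)

/-- The counit `i^* i_* ⟶ 𝟭` on modules is an isomorphism for a closed immersion of algebraic spaces. -/
theorem isIso_counit_pullPushAdjModEt (hX : IsAlgSpace X) (hi : RepWith @IsClosedImmersion i)
    [(SheafOfModules.pushforward.{u + 1} (bcRingHom hi.1)).IsRightAdjoint] :
    IsIso (pullPushAdjModEt hi.1).counit := by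
  have := faithful_pushModEt hX hi
  have := full_pushModEt hX hi
  infer_instance

end Groth.Agent.Lib.Helper30.ClosedModPush
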