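import Groth.Agent.Lib.Helper6.PinchClosed

set_option autoImplicit false
universe u
open CategoryTheory CategoryTheory.Limits AlgebraicGeometry

namespace Groth.Agent.Lib.Helper30.ClosedPushout

open Scheme

/-- **The scheme theoretic union of two closed subschemes is their pushout along the intersection**, for arbitrary closed
immersions with the right kernels. -/
theorem isPushout_of_ker {E Y Z W V : Scheme.{u}} (y : Y ⟶ E) (z : Z ⟶ E) (w : W ⟶ E) (v : V ⟶ E)
    [IsClosedImmersion y] [IsClosedImmersion z] [IsClosedImmersion w] [IsClosedImmersion v]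
    (hw : w.ker = y.ker ⊓ z.ker) (hv : v.ker = y.ker ⊔ z.ker)
    (a : Y ⟶ W) (b : Z ⟶ W) (c : V ⟶ Y) (d : V ⟶ Z)
    (ha : a ≫ w = y) (hb : b ≫ w = z) (hc : c ≫ y = v) (hd : d ≫ z = v) :
    IsPushout c d a b := by
  have h0 := Groth.Agent.Lib.Helper6.PinchClosed.isPushout y.ker z.ker
  -- the four isomorphisms
  let eY : y.ker.subscheme ⟶ Y := IsClosedImmersion.lift y y.ker.subschemeι
    (by rw [IdealSheafData.ker_subschemeι])
  have heY : eY ≫ y = y.ker.subschemeι := IsClosedImmersion.lift_fac _ _ _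
  have : IsIso eY := IsClosedImmersion.isIso_of_ker_eq _ y eY heY
    (by rw [IdealSheafData.ker_subschemeι])
  let eZ : z.ker.subscheme ⟶ Z := IsClosedImmersion.lift z z.ker.subschemeι
    (by rw [IdealSheafData.ker_subschemeι])
  have heZ : eZ ≫ z = z.ker.subschemeι := IsClosedImmersion.lift_fac _ _ _
  have : IsIso eZ := IsClosedImmersion.isIso_of_ker_eq _ z eZ heZ
    (by rw [IdealSheafData.ker_subschemeι])
  let eW : (y.ker ⊓ z.ker).subscheme ⟶ W := IsClosedImmersion.lift w (y.ker ⊓ z.ker).subschemeι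
    (by rw [IdealSheafData.ker_subschemeι, hw])
  have heW : eW ≫ w = (y.ker ⊓ z.ker).subschemeι := IsClosedImmersion.lift_fac _ _ _
  have : IsIso eW := IsClosedImmersion.isIso_of_ker_eq _ w eW heW
    (by rw [IdealSheafData.ker_subschemeι, hw])
  let eV : (y.ker ⊔ z.ker).subscheme ⟶ V := IsClosedImmersion.lift v (y.ker ⊔ z.ker).subschemeι
    (by rw [IdealSheafData.ker_subschemeι, hv])
  have heV : eV ≫ v = (y.ker ⊔ z.ker).subschemeι := IsClosedImmersion.lift_fac _ _ _
  have : IsIso eV := IsClosedImmersion.isIso_of_ker_eq _ v eV heV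
    (by rw [IdealSheafData.ker_subschemeι, hv])
  refine h0.of_iso (asIso eV) (asIso eY) (asIso eZ) (asIso eW) ?_ ?_ ?_ ?_
  · change _ ≫ eY = eV ≫ c
    rw [← cancel_mono y, Category.assoc, heY, IdealSheafData.inclusion_subschemeι, Category.assoc, hc, heV]
  · change _ ≫ eZ = eV ≫ d
    rw [← cancel_mono z, Category.assoc, heZ, IdealSheafData.inclusion_subschemeι, Category.assoc, hd, heV]
  · change _ ≫ eW = eY ≫ a
    rw [← cancel_mono w, Category.assoc, heW, IdealSheafData.inclusion_subschemeι, Category.assoc, ha, heY]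
  · change _ ≫ eW = eZ ≫ b
    rw [← cancel_mono w, Category.assoc, heW, IdealSheafData.inclusion_subschemeι, Category.assoc, hb, heZ]

end Groth.Agent.Lib.Helper30.ClosedPushout
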