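import Groth.Agent.Lib.Helper30.ClosedPushoutLocal
import Groth.Agent.Lib.Helper5.LocalRep
import Groth.Agent.Lib.Helper5.AlgSpCoprod
import Groth.Agent.Lib.Helper5.QuotShDescend
import Groth.Agent.Lib.Helper30.AlgSpAtlas

set_option autoImplicit false
set_option backward.isDefEq.respectTransparency false
universe u
open CategoryTheory CategoryTheory.Limits AlgebraicGeometry Opposite

namespace Groth.Agent.Lib.Helper30.ClosedPushoutSp

open AlgSp

variable {S : Scheme.{u}} {X : Sp S}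

/-! ### Gluing over étale covering families -/

/-- A jointly surjective family of étale morphisms generates a covering sieve. -/
theorem ofArrows_mem_J_of_etale {Z : Over S} {ι : Type u} (Y : ι → Over S) (f : ∀ i, Y i ⟶ Z)
    (hf : ∀ i, Etale (f i).left) (hc : ∀ z : ↥Z.left, ∃ i, z ∈ Set.range (f i).left) :
    Sieve.ofArrows Y f ∈ J S Z := by
  rw [AlgSp.J_eq, GrothendieckTopology.mem_over_iff, Sieve.overEquiv_ofArrows]
  let 𝒰 : Z.left.Cover (Scheme.precoverage (@Flat ⊓ @LocallyOfFinitePresentation)) :=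
    Scheme.Cover.mkOfCovers ι (fun i => (Y i).left) (fun i => (f i).left)
      (fun x => by obtain ⟨i, y, hy⟩ := hc x; exact ⟨i, y, hy⟩)
      (fun i => ⟨by have := hf i; infer_instance, by have := hf i; infer_instance⟩)
  exact 𝒰.mem_grothendieckTopology

/-- Morphisms from `h_Z` to a sheaf agreeing on an étale covering agree. -/
theorem hom_ext_of_etale_cover {Z : Over S} {G : Sp S} {ι : Type u} (Y : ι → Over S)
    (f : ∀ i, Y i ⟶ Z) (hf : ∀ i, Etale (f i).left)
    (hc : ∀ z : ↥Z.left, ∃ i, z ∈ Set.range (f i).left)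
    (x y : (yon S).obj Z ⟶ G) (h : ∀ i, (yon S).map (f i) ≫ x = (yon S).map (f i) ≫ y) : x = y := by
  apply (J S).uliftYonedaEquiv.injective
  have hG : Presieve.IsSheaf (J S) G.obj := (isSheaf_iff_isSheaf_of_type _ _).1 G.property
  refine (hG.isSheafFor (Presieve.ofArrows Y f)
    (ofArrows_mem_J_of_etale Y f hf hc)).isSeparatedFor.ext ?_
  rintro _ _ ⟨i⟩
  rw [GrothendieckTopology.uliftYonedaEquiv_naturality,
    GrothendieckTopology.uliftYonedaEquiv_naturality, h i]

/-- Compatible morphisms from the members of an étale covering of `Z` to a sheaf glue. -/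
theorem exists_glue_of_etale_cover {Z : Over S} {G : Sp S} {ι : Type u} (Y : ι → Over S)
    (f : ∀ i, Y i ⟶ Z) (hf : ∀ i, Etale (f i).left)
    (hc : ∀ z : ↥Z.left, ∃ i, z ∈ Set.range (f i).left)
    (x : ∀ i, (yon S).obj (Y i) ⟶ G)
    (hx : ∀ (i j : ι) (Z' : Over S) (gi : Z' ⟶ Y i) (gj : Z' ⟶ Y j), gi ≫ f i = gj ≫ f j →
      (yon S).map gi ≫ x i = (yon S).map gj ≫ x j) :
    ∃ y : (yon S).obj Z ⟶ G, ∀ i, (yon S).map (f i) ≫ y = x i := by
  have hG : Presieve.IsSheaf (J S) G.obj := (isSheaf_iff_isSheaf_of_type _ _).1 G.property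
  have h1 : Presieve.IsSheafFor G.obj (Presieve.ofArrows Y f) :=
    hG.isSheafFor (Presieve.ofArrows Y f) (ofArrows_mem_J_of_etale Y f hf hc)
  rw [Presieve.isSheafFor_arrows_iff] at h1
  obtain ⟨t, ht, -⟩ := h1 (fun i => (J S).uliftYonedaEquiv (x i)) (by
    intro i j Z' gi gj hij
    dsimp only
    rw [GrothendieckTopology.uliftYonedaEquiv_naturality,
      GrothendieckTopology.uliftYonedaEquiv_naturality, hx i j Z' gi gj hij])
  refine ⟨(J S).uliftYonedaEquiv.symm t, fun i => ?_⟩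
  apply (J S).uliftYonedaEquiv.injective
  rw [← GrothendieckTopology.uliftYonedaEquiv_naturality, Equiv.apply_symm_apply]
  exact ht i

/-! ### Base change of étale covering families of charts -/

section BaseChangeFamily

variable {Z : Sp S} {i : Z ⟶ X} (hi : Representable i)

theorem etale_bcMap {E' E : EtOver X} (g : E' ⟶ E) : Etale (EtOver.bcMap hi g).hom.left.left :=
  MorphismProperty.of_isPullback (P := @Etale) (EtOver.isPullback_bcMap_left hi g).flip
    (EtOver.etale_left g)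

theorem exists_mem_range_bcMap (E : EtOver X) {ι : Type u} (Eι : ι → EtOver X) (g : ∀ j, Eι j ⟶ E)
    (hc : ∀ e : E.obj.left.left, ∃ j, e ∈ Set.range (g j).hom.left.left)
    (z : (hi.pullback E.obj.hom).left) :
    ∃ j, z ∈ Set.range (EtOver.bcMap hi (g j)).hom.left.left := by
  obtain ⟨j, hj⟩ := hc ((hi.snd E.obj.hom).left z)
  refine ⟨j, ?_⟩
  rw [Groth.Agent.Lib.Helper5.range_fst_of_isPullback (EtOver.isPullback_bcMap_left hi (g j))]
  exact hj

/-- A point of the product chart from two points with the same image in the closed subspace. -/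
theorem exists_prod_lift (E₁ E₂ : EtOver X) {Q : Over S} (γ₁ : Q ⟶ hi.pullback E₁.obj.hom)
    (γ₂ : Q ⟶ hi.pullback E₂.obj.hom)
    (h : (yon S).map γ₁ ≫ hi.fst E₁.obj.hom = (yon S).map γ₂ ≫ hi.fst E₂.obj.hom) :
    ∃ l : Q ⟶ hi.pullback (EtOver.prodObj E₁ E₂).obj.hom,
      l ≫ (EtOver.bcMap hi (EtOver.prodFst E₁ E₂)).hom.left = γ₁ ∧
      l ≫ (EtOver.bcMap hi (EtOver.prodSnd E₁ E₂)).hom.left = γ₂ := by
  have hτ : (yon S).map (γ₂ ≫ hi.snd E₂.obj.hom) ≫ E₂.obj.hom =
      (yon S).map (γ₁ ≫ hi.snd E₁.obj.hom) ≫ E₁.obj.hom := by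
    rw [Functor.map_comp, Category.assoc, ← hi.w, ← Category.assoc, ← h, Category.assoc, hi.w,
      Functor.map_comp, Category.assoc]
  let τ : Q ⟶ (EtOver.prodObj E₁ E₂).obj.left :=
    E₂.property.1.lift' (γ₂ ≫ hi.snd E₂.obj.hom) (γ₁ ≫ hi.snd E₁.obj.hom) hτ
  have hτ1 : τ ≫ (EtOver.prodFst E₁ E₂).hom.left = γ₁ ≫ hi.snd E₁.obj.hom :=
    E₂.property.1.lift'_snd _ _ _
  have hτ2 : τ ≫ (EtOver.prodSnd E₁ E₂).hom.left = γ₂ ≫ hi.snd E₂.obj.hom :=
    E₂.property.1.lift'_fst _ _ _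
  have hl : ((yon S).map γ₁ ≫ hi.fst E₁.obj.hom) ≫ i =
      (yon S).map τ ≫ (EtOver.prodObj E₁ E₂).obj.hom := by
    rw [← EtOver.w (EtOver.prodFst E₁ E₂), ← Category.assoc, ← Functor.map_comp, hτ1,
      Functor.map_comp, Category.assoc, Category.assoc, hi.w]
  refine ⟨hi.lift _ τ hl, ?_, ?_⟩
  · apply hi.hom_ext
    · rw [Functor.map_comp, Category.assoc, EtOver.map_bcMap_fst, hi.lift_fst]
    · rw [Category.assoc, EtOver.bcMap_snd, ← Category.assoc, hi.lift_snd, hτ1]
  · apply hi.hom_ext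
    · rw [Functor.map_comp, Category.assoc, EtOver.map_bcMap_fst, hi.lift_fst, h]
    · rw [Category.assoc, EtOver.bcMap_snd, ← Category.assoc, hi.lift_snd, hτ2]

/-- The chart of a representable subspace over an atlas chart is an epimorphism. -/
theorem epi_fst_of_atlas (E : EtOver X) (hES : RepWith @Surjective E.obj.hom) :
    Epi (hi.fst E.obj.hom) :=
  Groth.Agent.Lib.Helper30.AlgSpAtlas.epi_of_atlas _
    (MorphismProperty.of_isPullback (hi.isPullback E.obj.hom).flip E.property)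
    (MorphismProperty.of_isPullback (hi.isPullback E.obj.hom).flip hES)

end BaseChangeFamily

/-! ### Solutions on charts -/

namespace UnionData

variable (D : UnionData X) {T : Sp S} (p : D.Y ⟶ T) (q : D.Z ⟶ T)

/-- A map from the inverse image of `W` in a chart which restricts to `p` and `q`. -/
def IsSol (E : EtOver X) (r : (yon S).obj (D.WE E) ⟶ T) : Prop :=
  (yon S).map (D.aE E) ≫ r = D.ψY E ≫ p ∧ (yon S).map (D.bE E) ≫ r = D.ψZ E ≫ q

variable {D p q}

theorem IsSol.unique (hT : Representable (Limits.diag T)) {E : EtOver X}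
    {r₁ r₂ : (yon S).obj (D.WE E) ⟶ T} (h₁ : D.IsSol p q E r₁) (h₂ : D.IsSol p q E r₂) : r₁ = r₂ :=
  D.chart_hom_ext E hT r₁ r₂ (h₁.1.trans h₂.1.symm) (h₁.2.trans h₂.2.symm)

theorem IsSol.restrict {E' E : EtOver X} (g : E' ⟶ E) {r : (yon S).obj (D.WE E) ⟶ T}
    (h : D.IsSol p q E r) :
    D.IsSol p q E' ((yon S).map (EtOver.bcMap D.hW.1 g).hom.left ≫ r) := by
  constructor
  · rw [← Category.assoc, ← Functor.map_comp, chartMap_natural D.hY.1 D.hW.1 D.a D.ha g,
      Functor.map_comp, Category.assoc, h.1, ← Category.assoc, EtOver.map_bcMap_fst]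
  · rw [← Category.assoc, ← Functor.map_comp, chartMap_natural D.hZ.1 D.hW.1 D.b D.hb g,
      Functor.map_comp, Category.assoc, h.2, ← Category.assoc, EtOver.map_bcMap_fst]

/-- Solutions glue along étale covering families of charts. -/
theorem exists_sol_of_cover (hT : Representable (Limits.diag T)) (E : EtOver X) {ι : Type u}
    (Eι : ι → EtOver X) (g : ∀ j, Eι j ⟶ E)
    (hc : ∀ e : E.obj.left.left, ∃ j, e ∈ Set.range (g j).hom.left.left)
    (r : ∀ j, (yon S).obj (D.WE (Eι j)) ⟶ T) (hr : ∀ j, D.IsSol p q (Eι j) (r j)) :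
    ∃ r₀, D.IsSol p q E r₀ := by
  obtain ⟨r₀, hr₀⟩ := exists_glue_of_etale_cover (G := T) (fun j => D.WE (Eι j))
    (fun j => (EtOver.bcMap D.hW.1 (g j)).hom.left) (fun j => etale_bcMap D.hW.1 (g j))
    (exists_mem_range_bcMap D.hW.1 E Eι g hc) r (by
      intro j k Z' gj gk hjk
      have h' : (yon S).map gj ≫ D.hW.1.fst (Eι j).obj.hom =
          (yon S).map gk ≫ D.hW.1.fst (Eι k).obj.hom := by
        rw [← EtOver.map_bcMap_fst D.hW.1 (g j), ← EtOver.map_bcMap_fst D.hW.1 (g k),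
          ← Category.assoc, ← Category.assoc, ← Functor.map_comp, ← Functor.map_comp, hjk]
      obtain ⟨l, hl1, hl2⟩ := exists_prod_lift D.hW.1 (Eι j) (Eι k) gj gk h'
      rw [← hl1, ← hl2, Functor.map_comp, Functor.map_comp, Category.assoc, Category.assoc,
        ((hr j).restrict (EtOver.prodFst (Eι j) (Eι k))).unique hT
          ((hr k).restrict (EtOver.prodSnd (Eι j) (Eι k)))])
  refine ⟨r₀, ?_, ?_⟩
  · refine hom_ext_of_etale_cover (fun j => D.YE (Eι j))
      (fun j => (EtOver.bcMap D.hY.1 (g j)).hom.left) (fun j => etale_bcMap D.hY.1 (g j))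
      (exists_mem_range_bcMap D.hY.1 E Eι g hc) _ _ (fun j => ?_)
    rw [← Category.assoc, ← Functor.map_comp, ← chartMap_natural D.hY.1 D.hW.1 D.a D.ha (g j),
      Functor.map_comp, Category.assoc, hr₀ j, (hr j).1, ← Category.assoc, EtOver.map_bcMap_fst]
  · refine hom_ext_of_etale_cover (fun j => D.ZE (Eι j))
      (fun j => (EtOver.bcMap D.hZ.1 (g j)).hom.left) (fun j => etale_bcMap D.hZ.1 (g j))
      (exists_mem_range_bcMap D.hZ.1 E Eι g hc) _ _ (fun j => ?_)
    rw [← Category.assoc, ← Functor.map_comp, ← chartMap_natural D.hZ.1 D.hW.1 D.b D.hb (g j),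
      Functor.map_comp, Category.assoc, hr₀ j, (hr j).2, ← Category.assoc, EtOver.map_bcMap_fst]

/-- A solution on an atlas chart descends to `W`. -/
theorem exists_desc_of_sol (hT : Representable (Limits.diag T)) (E : EtOver X)
    (hES : RepWith @Surjective E.obj.hom) {r₀ : (yon S).obj (D.WE E) ⟶ T}
    (hr₀ : D.IsSol p q E r₀) : ∃ r : D.W ⟶ T, D.a ≫ r = p ∧ D.b ≫ r = q := by
  have hepiW : Epi (D.ψW E) := epi_fst_of_atlas D.hW.1 E hES
  have hepiY : Epi (D.ψY E) := epi_fst_of_atlas D.hY.1 E hES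
  have hepiZ : Epi (D.ψZ E) := epi_fst_of_atlas D.hZ.1 E hES
  obtain ⟨r, hr, -⟩ := Groth.Agent.Lib.Helper5.QuotShDescend.existsUnique_desc_of_epi (D.ψW E) r₀ (by
    intro Q g₁ g₂ hg
    obtain ⟨γ₁, rfl⟩ := (yon S).map_surjective g₁
    obtain ⟨γ₂, rfl⟩ := (yon S).map_surjective g₂
    obtain ⟨l, hl1, hl2⟩ := exists_prod_lift D.hW.1 E E γ₁ γ₂ hg
    rw [← hl1, ← hl2, Functor.map_comp, Functor.map_comp, Category.assoc, Category.assoc,
      (hr₀.restrict (EtOver.prodFst E E)).unique hT (hr₀.restrict (EtOver.prodSnd E E))])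
  refine ⟨r, ?_, ?_⟩
  · rw [← cancel_epi (D.ψY E), ← Category.assoc, ← chartMap_fst D.hY.1 D.hW.1 D.a D.ha E,
      Category.assoc, hr, hr₀.1]
  · rw [← cancel_epi (D.ψZ E), ← Category.assoc, ← chartMap_fst D.hZ.1 D.hW.1 D.b D.hb E,
      Category.assoc, hr, hr₀.2]

variable (D)

/-- **Existence**: maps `p : Y ⟶ T`, `q : Z ⟶ T` to an algebraic space which agree on `V` glue to a map from `W`. -/
theorem exists_desc (hX : IsAlgSpace X) (hT : IsAlgSpace T) (p : D.Y ⟶ T) (q : D.Z ⟶ T)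
    (hpq : D.c ≫ p = D.d ≫ q) : ∃ r : D.W ⟶ T, D.a ≫ r = p ∧ D.b ≫ r = q := by
  obtain ⟨A, φ, hφE, hφS⟩ := hX.atlas
  let E : EtOver X := EtOver.mk φ hφE
  choose Eι g e' he' r hr using fun e : E.obj.left.left => D.exists_local_solution hT p q hpq E e
  obtain ⟨r₀, hr₀⟩ := exists_sol_of_cover hT.diag E Eι g (fun e => ⟨e, e' e, he' e⟩) r hr
  exact exists_desc_of_sol hT.diag E hφS hr₀

/-- **Uniqueness**: maps from `W` to a sheaf with representable diagonal are determined by their restrictions to `Y` and `Z`. -/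
theorem hom_ext (hX : IsAlgSpace X) (hT : Representable (Limits.diag T)) (r₁ r₂ : D.W ⟶ T)
    (h₁ : D.a ≫ r₁ = D.a ≫ r₂) (h₂ : D.b ≫ r₁ = D.b ≫ r₂) : r₁ = r₂ := by
  obtain ⟨A, φ, hφE, hφS⟩ := hX.atlas
  let E : EtOver X := EtOver.mk φ hφE
  have hepiW : Epi (D.ψW E) := epi_fst_of_atlas D.hW.1 E hφS
  rw [← cancel_epi (D.ψW E)]
  apply D.chart_hom_ext E hT
  · rw [← Category.assoc, ← Category.assoc, chartMap_fst D.hY.1 D.hW.1 D.a D.ha E, Category.assoc,
      Category.assoc, h₁]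
  · rw [← Category.assoc, ← Category.assoc, chartMap_fst D.hZ.1 D.hW.1 D.b D.hb E, Category.assoc,
      Category.assoc, h₂]

end UnionData

end Groth.Agent.Lib.Helper30.ClosedPushoutSp
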