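import Groth.Agent.Lib.Helper30.EtaleLiftRing

set_option autoImplicit false
universe u
open CategoryTheory CategoryTheory.Limits AlgebraicGeometry

namespace Groth.Agent.Lib.Helper30.EtaleLift

open Groth.Agent.Lib.Helper30.EtaleLiftRing

/-- Affine case of the local lifting of étale morphisms along a closed immersion. -/
theorem exists_etale_lift_affine {A Ab Bb : CommRingCat.{u}} (π : A ⟶ Ab)
    (hπ : Function.Surjective π.hom) (γ : Ab ⟶ Bb) (hγ : γ.hom.Etale) (u : Spec Bb) :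
    ∃ (B : CommRingCat.{u}) (φ : A ⟶ B) (_ : φ.hom.Etale) (P : Scheme.{u}) (fst : P ⟶ Spec B)
      (snd : P ⟶ Spec Ab) (_ : IsPullback fst snd (Spec.map φ) (Spec.map π))
      (m : P ⟶ Spec Bb) (_ : m ≫ Spec.map γ = snd) (v : P), m v = u := by
  algebraize [γ.hom]
  have : Algebra.Etale Ab Bb := hγ
  let u' : PrimeSpectrum Bb := u
  have hu' : u'.asIdeal.IsPrime := u'.isPrime
  obtain ⟨f, hf, hstd⟩ := Algebra.IsEtaleAt.exists_isStandardEtale (R := Ab) u'.asIdeal
  obtain ⟨B, φ, ψ, hφ, hpo⟩ := exists_etale_lift_ring (C := Localization.Away f) π.hom hπ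
  have hpb := isPullback_SpecMap_of_isPushout _ _ _ _ hpo
  refine ⟨B, φ, hφ, Spec (CommRingCat.of (Localization.Away f)), Spec.map ψ,
    Spec.map (CommRingCat.ofHom (algebraMap Ab (Localization.Away f))), hpb.flip,
    Spec.map (CommRingCat.ofHom (algebraMap Bb (Localization.Away f))), ?_, ?_⟩
  · rw [← Spec.map_comp]
    congr 1
  · have hu : u' ∈ Set.range (PrimeSpectrum.comap (algebraMap Bb (Localization.Away f))) := by
      rw [PrimeSpectrum.localization_away_comap_range (Localization.Away f) f]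
      exact hf
    obtain ⟨v, hv⟩ := hu
    exact ⟨v, hv⟩

/-- **Local lifting of étale morphisms along a closed immersion.**  For a closed immersion `i : Z ⟶ X`, an étale
`g : U ⟶ Z` and a point `u` of `U` there are an affine scheme `V` étale over `X` and a `Z`-morphism from `V ×_X Z`
to `U` whose image contains `u`. -/
theorem exists_etale_lift {X Z U : Scheme.{u}} (i : Z ⟶ X) [IsClosedImmersion i] (g : U ⟶ Z)
    [Etale g] (u : U) :
    ∃ (V : Scheme.{u}) (h : V ⟶ X) (_ : Etale h) (_ : IsAffine V) (m : pullback h i ⟶ U)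
      (_ : m ≫ g = pullback.snd h i) (v : ↥(pullback h i)), m v = u := by
  obtain ⟨X₀, hX₀, hx, -⟩ := exists_isAffineOpen_mem_and_subset (x := i (g u))
    (U := (⊤ : X.Opens)) trivial
  have hZ₀ : IsAffineOpen (i ⁻¹ᵁ X₀) := hX₀.preimage i
  have hu₀ : u ∈ g ⁻¹ᵁ (i ⁻¹ᵁ X₀) := hx
  obtain ⟨U₀, hU₀, huU₀, e⟩ := exists_isAffineOpen_mem_and_subset (x := u)
    (U := g ⁻¹ᵁ (i ⁻¹ᵁ X₀)) hu₀
  let π : Γ(X, X₀) ⟶ Γ(Z, i ⁻¹ᵁ X₀) := i.app X₀
  have hπ : Function.Surjective π.hom := i.app_surjective X₀ hX₀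
  let γ := g.appLE (i ⁻¹ᵁ X₀) U₀ e
  have hγ : γ.hom.Etale := Etale.etale_appLE g hZ₀ hU₀ e
  obtain ⟨B, φ, hφ, P, fst, snd, sq, m₀, hm₀, v₀, hv₀⟩ :=
    exists_etale_lift_affine π hπ γ hγ (hU₀.primeIdealOf ⟨u, huU₀⟩)
  let h : Spec B ⟶ X := Spec.map φ ≫ hX₀.fromSpec
  have hE1 : Etale (Spec.map φ) := (HasRingHomProperty.Spec_iff (P := @Etale)).2 hφ
  have hE : Etale h := inferInstance
  have n1 : Spec.map π ≫ hX₀.fromSpec = hZ₀.fromSpec ≫ i := by
    have := hX₀.SpecMap_appLE_fromSpec i hZ₀ le_rfl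
    rwa [← Scheme.Hom.app_eq_appLE] at this
  have n2 : Spec.map γ ≫ hZ₀.fromSpec = hU₀.fromSpec ≫ g := hZ₀.SpecMap_appLE_fromSpec g hU₀ e
  have hrange : Set.range (pullback.snd h i) ⊆ Set.range hZ₀.fromSpec := by
    rw [hZ₀.range_fromSpec]
    rintro _ ⟨w, rfl⟩
    change i (pullback.snd h i w) ∈ X₀
    rw [← Scheme.Hom.comp_apply, ← pullback.condition, Scheme.Hom.comp_apply]
    have : h (pullback.fst h i w) ∈ Set.range hX₀.fromSpec :=
      ⟨Spec.map φ (pullback.fst h i w), rfl⟩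
    rwa [hX₀.range_fromSpec] at this
  let s₀ : pullback h i ⟶ Spec Γ(Z, i ⁻¹ᵁ X₀) :=
    IsOpenImmersion.lift hZ₀.fromSpec (pullback.snd h i) hrange
  have hs₀ : s₀ ≫ hZ₀.fromSpec = pullback.snd h i := IsOpenImmersion.lift_fac _ _ _
  have hcomm : pullback.fst h i ≫ Spec.map φ = s₀ ≫ Spec.map π := by
    rw [← cancel_mono hX₀.fromSpec, Category.assoc, Category.assoc, n1, ← Category.assoc s₀, hs₀]
    exact pullback.condition
  let l : pullback h i ⟶ P := sq.lift (pullback.fst h i) s₀ hcomm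
  let k : P ⟶ pullback h i := pullback.lift fst (snd ≫ hZ₀.fromSpec) (by
    rw [Category.assoc, ← n1, ← Category.assoc, sq.w, Category.assoc])
  have hkl : k ≫ l = 𝟙 P := by
    apply sq.hom_ext
    · rw [Category.assoc, sq.lift_fst, pullback.lift_fst, Category.id_comp]
    · rw [Category.assoc, sq.lift_snd, Category.id_comp, ← cancel_mono hZ₀.fromSpec,
        Category.assoc, hs₀, pullback.lift_snd]
  refine ⟨Spec B, h, hE, inferInstance, l ≫ m₀ ≫ hU₀.fromSpec, ?_, k v₀, ?_⟩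
  · rw [Category.assoc, Category.assoc, ← n2, ← Category.assoc m₀, hm₀, ← Category.assoc,
      sq.lift_snd, hs₀]
  · rw [← Scheme.Hom.comp_apply, ← Category.assoc, ← Category.assoc, hkl, Category.id_comp,
      Scheme.Hom.comp_apply, hv₀]
    exact hU₀.fromSpec_primeIdealOf ⟨u, huU₀⟩

end Groth.Agent.Lib.Helper30.EtaleLift
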