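import Mathlib

set_option autoImplicit false
universe u
open CategoryTheory CategoryTheory.Limits AlgebraicGeometry

namespace Groth.Agent.Lib.Helper30.EtaleSection

/-- A section of an étale morphism is an open immersion. -/
theorem isOpenImmersion_of_section {X₀ S₀ : Scheme.{u}} (f : X₀ ⟶ S₀) [Etale f] (s : S₀ ⟶ X₀)
    (hs : s ≫ f = 𝟙 _) : IsOpenImmersion s := by
  have h := pullback_lift_diagonal_isPullback s f
  have hd : IsOpenImmersion (pullback.diagonal f) := inferInstance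
  have hΓ : IsOpenImmersion (pullback.lift (𝟙 S₀) s (by simp) : S₀ ⟶ pullback (s ≫ f) f) :=
    MorphismProperty.of_isPullback (P := @IsOpenImmersion) h hd
  have hiso : IsIso (s ≫ f) := by rw [hs]; infer_instance
  have hsnd : IsIso (pullback.snd (s ≫ f) f) := inferInstance
  have e : s = (pullback.lift (𝟙 S₀) s (by simp) : S₀ ⟶ pullback (s ≫ f) f) ≫ pullback.snd (s ≫ f) f :=
    (pullback.lift_snd _ _ _).symm
  rw [e]
  infer_instance

/-- Removing from an étale cover of `Z₀` the points over a closed subscheme `V₀` which are not in the image of a given section over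
`V₀`. -/
theorem exists_open_of_section {Z' Z₀ V₀ : Scheme.{u}} (ε : Z' ⟶ Z₀) [Etale ε] [Surjective ε]
    (δ : V₀ ⟶ Z₀) [IsClosedImmersion δ] (s : V₀ ⟶ Z') (hs : s ≫ ε = δ) :
    ∃ O : Z'.Opens, Surjective (O.ι ≫ ε) ∧
      ∀ {Q : Scheme.{u}} (α : Q ⟶ O) (β : Q ⟶ V₀), α ≫ O.ι ≫ ε = β ≫ δ → α ≫ O.ι = β ≫ s := by
  let sV : V₀ ⟶ pullback ε δ := pullback.lift s (𝟙 _) (by rw [hs, Category.id_comp])
  have hsV : sV ≫ pullback.snd ε δ = 𝟙 _ := pullback.lift_snd _ _ _
  have hsV1 : sV ≫ pullback.fst ε δ = s := pullback.lift_fst _ _ _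
  have hopen : IsOpenImmersion sV := isOpenImmersion_of_section (pullback.snd ε δ) sV hsV
  have hfstcl : IsClosedImmersion (pullback.fst ε δ) := inferInstance
  have hemb := (pullback.fst ε δ).isClosedEmbedding
  have hC : IsClosed ((pullback.fst ε δ) '' (Set.range sV)ᶜ) :=
    hemb.isClosedMap _ (sV.isOpenEmbedding.isOpen_range.isClosed_compl)
  let O : Z'.Opens := ⟨((pullback.fst ε δ) '' (Set.range sV)ᶜ)ᶜ, hC.isOpen_compl⟩
  refine ⟨O, ⟨fun z₀ => ?_⟩, ?_⟩
  · by_cases hz : z₀ ∈ Set.range δ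
    · obtain ⟨v₀, rfl⟩ := hz
      have hmem : s v₀ ∈ O := by
        rintro ⟨p, hp, hpe⟩
        apply hp
        refine ⟨v₀, ?_⟩
        apply hemb.injective
        rw [hpe, ← hsV1, Scheme.Hom.comp_apply]
      refine ⟨⟨s v₀, hmem⟩, ?_⟩
      change ε (s v₀) = δ v₀
      rw [← Scheme.Hom.comp_apply, hs]
    · obtain ⟨z', hz'⟩ := (inferInstance : Surjective ε).surj z₀
      have hmem : z' ∈ O := by
        rintro ⟨p, hp, hpe⟩
        apply hz
        refine ⟨pullback.snd ε δ p, ?_⟩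
        rw [← Scheme.Hom.comp_apply, ← pullback.condition, Scheme.Hom.comp_apply, hpe, hz']
      refine ⟨⟨z', hmem⟩, ?_⟩
      exact hz'
  · intro Q α β hαβ
    let τ : Q ⟶ pullback ε δ := pullback.lift (α ≫ O.ι) β (by rw [Category.assoc]; exact hαβ)
    have hτ1 : τ ≫ pullback.fst ε δ = α ≫ O.ι := pullback.lift_fst _ _ _
    have hτ2 : τ ≫ pullback.snd ε δ = β := pullback.lift_snd _ _ _
    have hrange : Set.range τ ⊆ Set.range sV := by
      rintro _ ⟨x, rfl⟩
      by_contra hcon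
      have h1 : pullback.fst ε δ (τ x) ∈ (pullback.fst ε δ) '' (Set.range sV)ᶜ := ⟨_, hcon, rfl⟩
      have h2 : pullback.fst ε δ (τ x) ∈ O := by
        rw [← Scheme.Hom.comp_apply, hτ1, Scheme.Hom.comp_apply]
        exact (α x).2
      exact h2 h1
    let t := IsOpenImmersion.lift sV τ hrange
    have ht : t ≫ sV = τ := IsOpenImmersion.lift_fac _ _ _
    have htβ : t = β := by
      rw [← hτ2, ← ht, Category.assoc, hsV, Category.comp_id]
    rw [← hτ1, ← ht, htβ, Category.assoc, hsV1]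

end Groth.Agent.Lib.Helper30.EtaleSection
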