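import Groth.Agent.Lib.Helper30.ClosedPushoutSp
import Groth.Agent.Lib.Helper30.EtaleLift
import Groth.Agent.Lib.Helper5.YonCoprod
import Groth.Agent.Lib.Helper30.EtaleSection

set_option autoImplicit false
set_option backward.isDefEq.respectTransparency false
universe u
open CategoryTheory CategoryTheory.Limits AlgebraicGeometry Opposite

namespace Groth.Agent.Lib.Helper30.ClosedPushoutSp

open AlgSp Groth.Agent.Lib.Helper30.IdealEtChart Groth.Agent.Lib.Helper30.IdealEtSheaf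
  Groth.Agent.Lib.Helper30.ClosedChart Groth.Agent.Lib.Helper30.ClosedPushout
  Groth.Agent.Lib.Helper30.EtaleLift Groth.Agent.Lib.Helper30.EtaleSection

variable {S : Scheme.{u}} {X : Sp S}

/-- **One-sided lifting.**  Given an étale surjective cover of the inverse image of a closed subspace in a chart, around every point
of the chart there is an étale neighbourhood over which the inverse image of the closed subspace lifts to the cover. -/
theorem exists_lift_chart {Z : Sp S} {i : Z ⟶ X} (hi : RepWith @IsClosedImmersion i) (E : EtOver X)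
    {Z' : Over S} (ε : Z' ⟶ hi.1.pullback E.obj.hom) (hεE : Etale ε.left) (hεS : Surjective ε.left)
    (e : E.obj.left.left) :
    ∃ (E₁ : EtOver X) (g₁ : E₁ ⟶ E) (e₁ : E₁.obj.left.left) (_ : g₁.hom.left.left e₁ = e)
      (μ : hi.1.pullback E₁.obj.hom ⟶ Z'), μ ≫ ε = (EtOver.bcMap hi.1 g₁).hom.left := by
  have hcl : IsClosedImmersion (hi.1.snd E.obj.hom).left :=
    hi.property _ _ _ (hi.1.isPullback E.obj.hom)
  by_cases he : e ∈ Set.range (hi.1.snd E.obj.hom).left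
  · obtain ⟨z₀, hz₀⟩ := he
    obtain ⟨z', hz'⟩ := hεS.surj z₀
    obtain ⟨V₁, h₁, hE₁, hV₁aff, m, hm, v, hv⟩ :=
      exists_etale_lift (hi.1.snd E.obj.hom).left ε.left z'
    let B₁ : Over S := Over.mk (h₁ ≫ E.obj.left.hom)
    let ι₁ : B₁ ⟶ E.obj.left := Over.homMk h₁ rfl
    have hι₁ : Etale ι₁.left := hE₁
    let E₁ : EtOver X := EtOver.mk ((yon S).map ι₁ ≫ E.obj.hom)
      (MorphismProperty.comp_mem _ _ _ ((repWith_yon_map_iff _ _).2 hι₁) E.property)
    let g₁ : E₁ ⟶ E := EtOver.homMk ι₁ rfl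
    have sqL := EtOver.isPullback_bcMap_left hi.1 g₁
    let θ : (hi.1.pullback E₁.obj.hom).left ⟶ pullback h₁ (hi.1.snd E.obj.hom).left :=
      pullback.lift (hi.1.snd E₁.obj.hom).left (EtOver.bcMap hi.1 g₁).hom.left.left sqL.w.symm
    have hθ2 : θ ≫ pullback.snd _ _ = (EtOver.bcMap hi.1 g₁).hom.left.left := pullback.lift_snd _ _ _
    have hμ₀ : (θ ≫ m) ≫ ε.left = (EtOver.bcMap hi.1 g₁).hom.left.left := by
      rw [Category.assoc, hm, hθ2]
    let μ : hi.1.pullback E₁.obj.hom ⟶ Z' := Over.homMk (θ ≫ m) (by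
      rw [← Over.w ε, ← Category.assoc, hμ₀]
      exact Over.w (EtOver.bcMap hi.1 g₁).hom.left)
    refine ⟨E₁, g₁, pullback.fst h₁ _ v, ?_, μ, ?_⟩
    · change h₁ (pullback.fst h₁ _ v) = e
      rw [← Scheme.Hom.comp_apply, pullback.condition, Scheme.Hom.comp_apply, ← hm,
        Scheme.Hom.comp_apply, hv, hz', hz₀]
    · ext
      exact hμ₀
  · have hcl' : IsClosed (Set.range (hi.1.snd E.obj.hom).left) :=
      (hi.1.snd E.obj.hom).left.isClosedEmbedding.isClosed_range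
    let O : E.obj.left.left.Opens := ⟨(Set.range (hi.1.snd E.obj.hom).left)ᶜ, hcl'.isOpen_compl⟩
    let E₁ : EtOver X := openObj E.obj.hom E.property O
    let g₁ : E₁ ⟶ E := EtOver.homMk (Over.homMk O.ι rfl : Over.mk (O.ι ≫ E.obj.left.hom) ⟶ E.obj.left) rfl
    have sqL := EtOver.isPullback_bcMap_left hi.1 g₁
    have hempty : IsEmpty (hi.1.pullback E₁.obj.hom).left := by
      refine ⟨fun x => ?_⟩
      have h1 := congrArg (fun f => f x) sqL.w
      simp only [Scheme.Hom.comp_apply] at h1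
      have h2 : g₁.hom.left.left ((hi.1.snd E₁.obj.hom).left x) ∈ O :=
        ((hi.1.snd E₁.obj.hom).left x).2
      have h3 := (congrArg (fun t => t ∈ O) h1).mpr h2
      exact h3 ⟨_, rfl⟩
    refine ⟨E₁, g₁, ⟨e, he⟩, rfl, (Groth.Agent.Lib.Helper5.isInitialOverOfIsEmpty _).to Z', ?_⟩
    exact (Groth.Agent.Lib.Helper5.isInitialOverOfIsEmpty _).hom_ext _ _

namespace UnionData

variable (D : UnionData X)

/-- **Local existence.**  Given maps `p : Y ⟶ T`, `q : Z ⟶ T` to an algebraic space which agree on `V`, around every point of every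
chart there is an étale neighbourhood over which the two maps glue to a map from the inverse image of `W`. -/
theorem exists_local_solution {T : Sp S} (hT : IsAlgSpace T) (p : D.Y ⟶ T) (q : D.Z ⟶ T)
    (hpq : D.c ≫ p = D.d ≫ q) (E : EtOver X) (e : E.obj.left.left) :
    ∃ (E' : EtOver X) (g : E' ⟶ E) (e' : E'.obj.left.left) (_ : g.hom.left.left e' = e)
      (r : (yon S).obj (D.WE E') ⟶ T),
      (yon S).map (D.aE E') ≫ r = D.ψY E' ≫ p ∧ (yon S).map (D.bE E') ≫ r = D.ψZ E' ≫ q := by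
  obtain ⟨U₀, u, huE, huS⟩ := hT.atlas
  -- Step 1: the cover of `Y_E`
  have sqY := huE.rep.isPullback' (D.ψY E ≫ p)
  set εY := huE.rep.snd (D.ψY E ≫ p) with hεY
  set yt := huE.rep.fst' (D.ψY E ≫ p) with hyt
  have hεYE : Etale εY.left := huE.property _ _ _ (huE.rep.isPullback (D.ψY E ≫ p))
  have hεYS : Surjective εY.left := huS.property _ _ _ (huE.rep.isPullback (D.ψY E ≫ p))
  -- Step 2
  obtain ⟨E₁, g₁, e₁, he₁, μ₁, hμ₁⟩ := exists_lift_chart D.hY E εY hεYE hεYS e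
  have hp₁ : (yon S).map (μ₁ ≫ yt) ≫ u = D.ψY E₁ ≫ p := by
    rw [Functor.map_comp, Category.assoc, sqY.w, ← Category.assoc, ← Functor.map_comp, hμ₁,
      ← Category.assoc, EtOver.map_bcMap_fst]
  -- Step 3: the cover of `Z_{E₁}` and its section over `V_{E₁}`
  have sqZ := huE.rep.isPullback' (D.ψZ E₁ ≫ q)
  set εZ := huE.rep.snd (D.ψZ E₁ ≫ q) with hεZ
  set zt := huE.rep.fst' (D.ψZ E₁ ≫ q) with hzt
  have hεZE : Etale εZ.left := huE.property _ _ _ (huE.rep.isPullback (D.ψZ E₁ ≫ q))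
  have hεZS : Surjective εZ.left := huS.property _ _ _ (huE.rep.isPullback (D.ψZ E₁ ≫ q))
  have hcomm : (yon S).map (D.cE E₁ ≫ μ₁ ≫ yt) ≫ u = (yon S).map (D.dE E₁) ≫ D.ψZ E₁ ≫ q := by
    rw [Functor.map_comp, Category.assoc, hp₁, ← Category.assoc,
      chartMap_fst D.hV.1 D.hY.1 D.c D.hc E₁, Category.assoc, hpq, ← Category.assoc,
      ← chartMap_fst D.hV.1 D.hZ.1 D.d D.hd E₁, Category.assoc]
  let s := huE.rep.lift' (D.cE E₁ ≫ μ₁ ≫ yt) (D.dE E₁) hcomm
  have hs1 : s ≫ zt = D.cE E₁ ≫ μ₁ ≫ yt := huE.rep.lift'_fst _ _ _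
  have hs2 : s ≫ εZ = D.dE E₁ := huE.rep.lift'_snd _ _ _
  -- Step 4: shrink the cover
  have hdcl : IsClosedImmersion (D.dE E₁).left := by
    have h1 : (D.dE E₁).left ≫ (D.zE E₁).left = (D.vE E₁).left :=
      congrArg CommaMorphism.left (chartMap_snd D.hV.1 D.hZ.1 D.d D.hd E₁)
    have h2 : IsClosedImmersion ((D.dE E₁).left ≫ (D.zE E₁).left) := by rw [h1]; infer_instance
    exact IsClosedImmersion.of_comp (D.dE E₁).left (D.zE E₁).left
  obtain ⟨O, hOsurj, hO⟩ := exists_open_of_section εZ.left (D.dE E₁).left s.left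
    (congrArg CommaMorphism.left hs2)
  let Z'' : Over S := Over.mk (O.ι ≫ (huE.rep.pullback (D.ψZ E₁ ≫ q)).hom)
  let o : Z'' ⟶ huE.rep.pullback (D.ψZ E₁ ≫ q) := Over.homMk O.ι rfl
  have hε'E : Etale (o ≫ εZ).left := by
    change Etale (O.ι ≫ εZ.left)
    infer_instance
  have hε'S : Surjective (o ≫ εZ).left := hOsurj
  -- Step 5
  obtain ⟨E₂, g₂, e₂, he₂, μ₂, hμ₂⟩ := exists_lift_chart D.hZ E₁ (o ≫ εZ) hε'E hε'S e₁
  have hq₂ : (yon S).map (μ₂ ≫ o ≫ zt) ≫ u = D.ψZ E₂ ≫ q := by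
    rw [← Category.assoc μ₂, Functor.map_comp, Category.assoc, sqZ.w, ← Category.assoc,
      ← Functor.map_comp, Category.assoc, hμ₂, ← Category.assoc, EtOver.map_bcMap_fst]
  have hp₂ : (yon S).map ((EtOver.bcMap D.hY.1 g₂).hom.left ≫ μ₁ ≫ yt) ≫ u = D.ψY E₂ ≫ p := by
    rw [Functor.map_comp, Category.assoc, hp₁, ← Category.assoc, EtOver.map_bcMap_fst]
  -- Step 6: agreement on `V_{E₂}`
  have hagree : D.cE E₂ ≫ (EtOver.bcMap D.hY.1 g₂).hom.left ≫ μ₁ ≫ yt = D.dE E₂ ≫ μ₂ ≫ o ≫ zt := by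
    have h1 : (D.dE E₂ ≫ μ₂).left ≫ O.ι ≫ εZ.left =
        (EtOver.bcMap D.hV.1 g₂).hom.left.left ≫ (D.dE E₁).left := by
      have := congrArg CommaMorphism.left
        ((congrArg (D.dE E₂ ≫ ·) hμ₂).trans (chartMap_natural D.hV.1 D.hZ.1 D.d D.hd g₂))
      exact this
    have h2 := hO (D.dE E₂ ≫ μ₂).left (EtOver.bcMap D.hV.1 g₂).hom.left.left h1
    have h3 : D.dE E₂ ≫ μ₂ ≫ o = (EtOver.bcMap D.hV.1 g₂).hom.left ≫ s := by
      ext
      exact h2
    rw [← Category.assoc (D.dE E₂), ← Category.assoc (D.dE E₂ ≫ μ₂), Category.assoc (D.dE E₂), h3,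
      Category.assoc, hs1, ← Category.assoc (D.cE E₂), chartMap_natural D.hV.1 D.hY.1 D.c D.hc g₂,
      Category.assoc]
  -- Step 7: glue in the chart
  have P := D.isPushout_chart E₂
  let rt := P.desc ((EtOver.bcMap D.hY.1 g₂).hom.left ≫ μ₁ ≫ yt).left (μ₂ ≫ o ≫ zt).left
    (congrArg CommaMorphism.left hagree)
  have hrt1 : (D.aE E₂).left ≫ rt = ((EtOver.bcMap D.hY.1 g₂).hom.left ≫ μ₁ ≫ yt).left := P.inl_desc _ _ _
  have hrt2 : (D.bE E₂).left ≫ rt = (μ₂ ≫ o ≫ zt).left := P.inr_desc _ _ _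
  let rh : D.WE E₂ ⟶ U₀ := Over.homMk rt (by
    apply P.hom_ext
    · rw [← Category.assoc, hrt1, Over.w, Over.w]
      rfl
    · rw [← Category.assoc, hrt2, Over.w, Over.w])
  have hrh1 : D.aE E₂ ≫ rh = (EtOver.bcMap D.hY.1 g₂).hom.left ≫ μ₁ ≫ yt := by ext; exact hrt1
  have hrh2 : D.bE E₂ ≫ rh = μ₂ ≫ o ≫ zt := by ext; exact hrt2
  refine ⟨E₂, g₂ ≫ g₁, e₂, ?_, (yon S).map rh ≫ u, ?_, ?_⟩
  · change g₁.hom.left.left (g₂.hom.left.left e₂) = e
    rw [he₂, he₁]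
  · rw [← Category.assoc, ← Functor.map_comp, hrh1, hp₂]
  · rw [← Category.assoc, ← Functor.map_comp, hrh2, hq₂]

end UnionData

end Groth.Agent.Lib.Helper30.ClosedPushoutSp
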