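import Groth.Agent.Lib.Helper30.IdealEtSheaf
import Groth.Agent.Lib.Helper30.ClosedChart
import Groth.Agent.Lib.Helper30.ClosedPushout

set_option autoImplicit false
set_option backward.isDefEq.respectTransparency false
universe u
open CategoryTheory CategoryTheory.Limits AlgebraicGeometry Opposite

namespace Groth.Agent.Lib.Helper30.ClosedPushoutSp

open AlgSp Groth.Agent.Lib.Helper30.IdealEtChart Groth.Agent.Lib.Helper30.IdealEtSheaf
  Groth.Agent.Lib.Helper30.ClosedChart Groth.Agent.Lib.Helper30.ClosedPushout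

variable {S : Scheme.{u}} {X : Sp S}

/-! ### Maps between the charts of two subspaces -/

section ChartMap

variable {Z₁ Z₂ : Sp S} {i₁ : Z₁ ⟶ X} {i₂ : Z₂ ⟶ X} (h₁ : Representable i₁) (h₂ : Representable i₂)
  (k : Z₁ ⟶ Z₂) (hk : k ≫ i₂ = i₁)

/-- The map induced by `k : Z₁ ⟶ Z₂` over `X` on the inverse images in a chart. -/
noncomputable def chartMap (E : EtOver X) : h₁.pullback E.obj.hom ⟶ h₂.pullback E.obj.hom :=
  h₂.lift (h₁.fst E.obj.hom ≫ k) (h₁.snd E.obj.hom) (by rw [Category.assoc, hk, h₁.w])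

theorem chartMap_fst (E : EtOver X) :
    (yon S).map (chartMap h₁ h₂ k hk E) ≫ h₂.fst E.obj.hom = h₁.fst E.obj.hom ≫ k :=
  h₂.lift_fst _ _ _

theorem chartMap_snd (E : EtOver X) :
    chartMap h₁ h₂ k hk E ≫ h₂.snd E.obj.hom = h₁.snd E.obj.hom :=
  h₂.lift_snd _ _ _

theorem chartMap_natural {E' E : EtOver X} (g : E' ⟶ E) :
    chartMap h₁ h₂ k hk E' ≫ (EtOver.bcMap h₂ g).hom.left =
      (EtOver.bcMap h₁ g).hom.left ≫ chartMap h₁ h₂ k hk E := by
  apply h₂.hom_ext
  · rw [Functor.map_comp, Category.assoc, EtOver.map_bcMap_fst, chartMap_fst, Functor.map_comp,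
      Category.assoc, chartMap_fst, ← Category.assoc, EtOver.map_bcMap_fst]
  · rw [Category.assoc, EtOver.bcMap_snd, ← Category.assoc, chartMap_snd, Category.assoc,
      chartMap_snd, EtOver.bcMap_snd]

end ChartMap

/-! ### Kernel ideal sheaves in charts -/

theorem map_inf_of_inverse {R R' : Type*} [CommRing R] [CommRing R'] (f : R →+* R') (g : R' →+* R)
    (h₁ : f.comp g = RingHom.id R') (h₂ : g.comp f = RingHom.id R) (I J : Ideal R) :
    (I ⊓ J).map f = I.map f ⊓ J.map f := by
  have key : ∀ K : Ideal R, K.map f = K.comap g := by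
    intro K
    apply le_antisymm
    · rw [Ideal.map_le_iff_le_comap, Ideal.comap_comap, h₂, Ideal.comap_id]
    · intro x hx
      have : f (g x) ∈ K.map f := Ideal.mem_map_of_mem f hx
      rwa [← RingHom.comp_apply, h₁] at this
  rw [key, key, key, Ideal.comap_inf]

theorem ker_chart_ideal {Z : Sp S} {i : Z ⟶ X} (hi : RepWith @IsClosedImmersion i) (E : EtOver X)
    (W₀ : E.obj.left.left.affineOpens) :
    (hi.1.snd E.obj.hom).left.ker.ideal W₀ =
      ((idealOfRep hi.1).ideal (openObj E.obj.hom E.property W₀.1) W₀.2).map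
        W₀.1.topIso.hom.hom := by
  have sqV := hi.1.isPullback E.obj.hom
  have : IsClosedImmersion (hi.1.snd E.obj.hom).left := hi.property _ _ _ sqV
  obtain ⟨fstJ, sqJ⟩ := exists_isPullback_subschemeι sqV
  have h := idealOfRep_ideal_chart hi.1 E.obj.hom E.property _ sqJ W₀
  change _ = Ideal.map _ ((idealOfRep hi.1).ideal (EtOver.mk _ (repWith_etale_opens_ι_comp E.obj.hom E.property W₀.1)) W₀.2)
  rw [h, Ideal.map_map, ← CommRingCat.hom_comp, Iso.inv_hom_id]
  exact (Ideal.map_id _).symm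

/-! ### The data of two closed subspaces with their union and intersection -/

/-- Two closed subspaces `Y`, `Z` of `X` together with closed subspaces `W`, `V` whose ideals are the intersection and the sum of
the ideals of `Y` and `Z`, and the inclusions between them. -/
structure UnionData (X : Sp S) where
  Y : Sp S
  Z : Sp S
  W : Sp S
  V : Sp S
  iY : Y ⟶ X
  iZ : Z ⟶ X
  w : W ⟶ X
  v : V ⟶ X
  hY : RepWith @IsClosedImmersion iY
  hZ : RepWith @IsClosedImmersion iZ
  hW : RepWith @IsClosedImmersion w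
  hV : RepWith @IsClosedImmersion v
  a : Y ⟶ W
  b : Z ⟶ W
  c : V ⟶ Y
  d : V ⟶ Z
  ha : a ≫ w = iY
  hb : b ≫ w = iZ
  hc : c ≫ iY = v
  hd : d ≫ iZ = v
  hinf : ∀ (E : EtOver X) (hE : IsAffine E.obj.left.left),
    (idealOfRep hW.1).ideal E hE = (idealOfRep hY.1).ideal E hE ⊓ (idealOfRep hZ.1).ideal E hE
  hsup : ∀ (E : EtOver X) (hE : IsAffine E.obj.left.left),
    (idealOfRep hV.1).ideal E hE = (idealOfRep hY.1).ideal E hE ⊔ (idealOfRep hZ.1).ideal E hE

namespace UnionData

variable (D : UnionData X) (E : EtOver X)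

/-- The inverse images in a chart. -/
noncomputable abbrev YE : Over S := D.hY.1.pullback E.obj.hom
noncomputable abbrev ZE : Over S := D.hZ.1.pullback E.obj.hom
noncomputable abbrev WE : Over S := D.hW.1.pullback E.obj.hom
noncomputable abbrev VE : Over S := D.hV.1.pullback E.obj.hom

noncomputable abbrev yE : D.YE E ⟶ E.obj.left := D.hY.1.snd E.obj.hom
noncomputable abbrev zE : D.ZE E ⟶ E.obj.left := D.hZ.1.snd E.obj.hom
noncomputable abbrev wE : D.WE E ⟶ E.obj.left := D.hW.1.snd E.obj.hom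
noncomputable abbrev vE : D.VE E ⟶ E.obj.left := D.hV.1.snd E.obj.hom

noncomputable abbrev ψY : (yon S).obj (D.YE E) ⟶ D.Y := D.hY.1.fst E.obj.hom
noncomputable abbrev ψZ : (yon S).obj (D.ZE E) ⟶ D.Z := D.hZ.1.fst E.obj.hom
noncomputable abbrev ψW : (yon S).obj (D.WE E) ⟶ D.W := D.hW.1.fst E.obj.hom
noncomputable abbrev ψV : (yon S).obj (D.VE E) ⟶ D.V := D.hV.1.fst E.obj.hom

noncomputable abbrev aE : D.YE E ⟶ D.WE E := chartMap D.hY.1 D.hW.1 D.a D.ha E
noncomputable abbrev bE : D.ZE E ⟶ D.WE E := chartMap D.hZ.1 D.hW.1 D.b D.hb E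
noncomputable abbrev cE : D.VE E ⟶ D.YE E := chartMap D.hV.1 D.hY.1 D.c D.hc E
noncomputable abbrev dE : D.VE E ⟶ D.ZE E := chartMap D.hV.1 D.hZ.1 D.d D.hd E

instance : IsClosedImmersion (D.yE E).left := D.hY.property _ _ _ (D.hY.1.isPullback E.obj.hom)
instance : IsClosedImmersion (D.zE E).left := D.hZ.property _ _ _ (D.hZ.1.isPullback E.obj.hom)
instance : IsClosedImmersion (D.wE E).left := D.hW.property _ _ _ (D.hW.1.isPullback E.obj.hom)
instance : IsClosedImmersion (D.vE E).left := D.hV.property _ _ _ (D.hV.1.isPullback E.obj.hom)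

theorem ker_wE : (D.wE E).left.ker = (D.yE E).left.ker ⊓ (D.zE E).left.ker := by
  apply Scheme.IdealSheafData.ext
  funext W₀
  rw [Scheme.IdealSheafData.ideal_inf, Pi.inf_apply, ker_chart_ideal D.hW, ker_chart_ideal D.hY,
    ker_chart_ideal D.hZ, D.hinf]
  refine map_inf_of_inverse _ W₀.1.topIso.inv.hom ?_ ?_ _ _
  · rw [← CommRingCat.hom_comp, Iso.inv_hom_id]; rfl
  · rw [← CommRingCat.hom_comp, Iso.hom_inv_id]; rfl

theorem ker_vE : (D.vE E).left.ker = (D.yE E).left.ker ⊔ (D.zE E).left.ker := by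
  apply Scheme.IdealSheafData.ext
  funext W₀
  rw [Scheme.IdealSheafData.ideal_sup, Pi.sup_apply, ker_chart_ideal D.hV, ker_chart_ideal D.hY,
    ker_chart_ideal D.hZ, D.hsup, Ideal.map_sup]

/-- In every chart, the inverse image of `W` is the pushout of the inverse images of `Y` and `Z` along that of `V`, in the
category of schemes. -/
theorem isPushout_chart :
    IsPushout (D.cE E).left (D.dE E).left (D.aE E).left (D.bE E).left :=
  isPushout_of_ker (D.yE E).left (D.zE E).left (D.wE E).left (D.vE E).left (D.ker_wE E) (D.ker_vE E)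
    _ _ _ _
    (congrArg CommaMorphism.left (chartMap_snd D.hY.1 D.hW.1 D.a D.ha E))
    (congrArg CommaMorphism.left (chartMap_snd D.hZ.1 D.hW.1 D.b D.hb E))
    (congrArg CommaMorphism.left (chartMap_snd D.hV.1 D.hY.1 D.c D.hc E))
    (congrArg CommaMorphism.left (chartMap_snd D.hV.1 D.hZ.1 D.d D.hd E))

/-- **Uniqueness**: two maps from the inverse image of `W` in a chart to a sheaf with representable diagonal agree as soon as
they agree on the inverse images of `Y` and `Z`. -/
theorem chart_hom_ext {T : Sp S} (hT : Representable (Limits.diag T))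
    (r₁ r₂ : (yon S).obj (D.WE E) ⟶ T)
    (h₁ : (yon S).map (D.aE E) ≫ r₁ = (yon S).map (D.aE E) ≫ r₂)
    (h₂ : (yon S).map (D.bE E) ≫ r₁ = (yon S).map (D.bE E) ≫ r₂) : r₁ = r₂ := by
  let pair : (yon S).obj (D.WE E) ⟶ T ⨯ T := prod.lift r₁ r₂
  have sq := hT.isPullback pair
  set m := hT.snd pair with hm
  have hmono : Mono ((yon S).map m) := by
    refine ⟨fun {Q} α β hαβ => sq.hom_ext ?_ hαβ⟩
    rw [← cancel_mono (Limits.diag T), Category.assoc, Category.assoc, sq.w, ← Category.assoc,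
      ← Category.assoc, hαβ]
  have hmono' : Mono m := (yon S).mono_of_mono_map hmono
  have hmono'' : Mono m.left := inferInstance
  have hwY : ((yon S).map (D.aE E) ≫ r₁) ≫ Limits.diag T = (yon S).map (D.aE E) ≫ pair := by
    apply Limits.prod.hom_ext
    · simp [pair]
    · simp [pair, h₁]
  have hwZ : ((yon S).map (D.bE E) ≫ r₁) ≫ Limits.diag T = (yon S).map (D.bE E) ≫ pair := by
    apply Limits.prod.hom_ext
    · simp [pair]
    · simp [pair, h₂]
  let σY := hT.lift _ (D.aE E) hwY
  let σZ := hT.lift _ (D.bE E) hwZ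
  have hσY : σY ≫ m = D.aE E := hT.lift_snd _ _ _
  have hσZ : σZ ≫ m = D.bE E := hT.lift_snd _ _ _
  have P := D.isPushout_chart E
  have hσY' : σY.left ≫ m.left = (D.aE E).left := congrArg CommaMorphism.left hσY
  have hσZ' : σZ.left ≫ m.left = (D.bE E).left := congrArg CommaMorphism.left hσZ
  have hcomp : (D.cE E).left ≫ σY.left = (D.dE E).left ≫ σZ.left := by
    rw [← cancel_mono m.left, Category.assoc, Category.assoc, hσY', hσZ']
    exact P.w
  let σ := P.desc σY.left σZ.left hcomp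
  have hσ : σ ≫ m.left = 𝟙 _ := by
    apply P.hom_ext
    · rw [← Category.assoc, P.inl_desc, hσY', Category.comp_id]
    · rw [← Category.assoc, P.inr_desc, hσZ', Category.comp_id]
  have hsplit : IsSplitEpi m.left := ⟨⟨σ, hσ⟩⟩
  have hiso : IsIso m.left := isIso_of_mono_of_isSplitEpi m.left
  have hiso' : IsIso ((Over.forget S).map m) := hiso
  have hiso'' : IsIso m := isIso_of_reflects_iso m (Over.forget S)
  have e1 : hT.fst pair = (yon S).map m ≫ r₁ := by
    have := congrArg (· ≫ Limits.prod.fst) sq.w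
    simpa [pair] using this
  have e2 : hT.fst pair = (yon S).map m ≫ r₂ := by
    have := congrArg (· ≫ Limits.prod.snd) sq.w
    simpa [pair] using this
  rw [← cancel_epi ((yon S).map m), ← e1, ← e2]

end UnionData

end Groth.Agent.Lib.Helper30.ClosedPushoutSp
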