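import Groth.Agent.Lib.Helper30.ClosedBcDense
import Groth.Agent.Lib.Helper4.EtPt

set_option autoImplicit false
set_option backward.isDefEq.respectTransparency false
universe u
open CategoryTheory CategoryTheory.Limits AlgebraicGeometry Opposite

namespace Groth.Agent.Lib.Helper30.ClosedStalk

open AlgSp Groth.Agent.Lib.Helper4.EtPt Groth.Agent.Lib.Helper30.ClosedBcDense

variable {S : Scheme.{u}} {X Z : Sp S} {i : Z ⟶ X} (hi : Representable i) (z : FieldPt Z)

/-- The lift to `V ×_X Z` of the lift to `V` of the image point. -/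
noncomputable def liftPt (N : EtNbhd (z.map i)) : (FieldPt.liftsTo z).obj ((EtOver.bc hi).obj N.1) :=
  ⟨hi.lift z.toHom N.2.1 ((N.2.2.trans (FieldPt.toHom_map i z)).symm), hi.lift_fst _ _ _⟩

theorem liftPt_snd (N : EtNbhd (z.map i)) : (liftPt hi z N).1 ≫ hi.snd N.1.obj.hom = N.2.1 :=
  hi.lift_snd _ _ _

theorem liftsTo_bc_ext {V : EtOver X} (a b : (FieldPt.liftsTo z).obj ((EtOver.bc hi).obj V))
    (h : a.1 ≫ hi.snd V.obj.hom = b.1 ≫ hi.snd V.obj.hom) : a = b := by
  apply Subtype.ext
  apply hi.hom_ext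
  · exact a.2.trans b.2.symm
  · exact h

/-- Inverse image of étale neighbourhoods of the image point. -/
noncomputable def nbhdBc : EtNbhd (z.map i) ⥤ EtNbhd z where
  obj N := ⟨(EtOver.bc hi).obj N.1, liftPt hi z N⟩
  map {N N'} g := ⟨(EtOver.bc hi).map g.1, by
    apply liftsTo_bc_ext
    rw [liftPt_snd, FieldPt.liftsTo_map_coe, Category.assoc]
    change _ ≫ (EtOver.bcMap hi g.1).hom.left ≫ _ = _
    rw [EtOver.bcMap_snd, ← Category.assoc, liftPt_snd]
    exact congrArg Subtype.val g.2⟩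
  map_id N := by
    apply Subtype.ext
    exact (EtOver.bc hi).map_id _
  map_comp g g' := by
    apply Subtype.ext
    exact (EtOver.bc hi).map_comp _ _

/-- A neighbourhood of the image point from a lift to the inverse image. -/
noncomputable def nbhdOf (V : EtOver X) (v : (FieldPt.liftsTo z).obj ((EtOver.bc hi).obj V)) :
    EtNbhd (z.map i) :=
  ⟨V, ⟨v.1 ≫ hi.snd V.obj.hom, by
    rw [Functor.map_comp, Category.assoc, ← hi.w, ← Category.assoc, FieldPt.toHom_map]
    exact congrArg (· ≫ i) v.2⟩⟩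

theorem nbhdBc_nbhdOf (V : EtOver X) (v : (FieldPt.liftsTo z).obj ((EtOver.bc hi).obj V)) :
    (nbhdBc hi z).obj (nbhdOf hi z V v) = ⟨(EtOver.bc hi).obj V, v⟩ := by
  change (⟨(EtOver.bc hi).obj V, liftPt hi z (nbhdOf hi z V v)⟩ : EtNbhd z) = _
  congr 1
  apply liftsTo_bc_ext
  rw [liftPt_snd]
  rfl


section Main

variable {z}
variable (hX : IsAlgSpace X) (hic : RepWith @IsClosedImmersion i) (hz : z.IsGeometric)

include hX hz in
/-- Every étale neighbourhood of a geometric point of a closed subspace is dominated by the inverse image of an étale neighbourhood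
of the image point. -/
theorem exists_nbhd_hom (M : EtNbhd z) :
    ∃ N : EtNbhd (z.map i), Nonempty ((nbhdBc hic.1 z).obj N ⟶ M) := by
  obtain ⟨V, m, y, hy⟩ := exists_bc_lift hX hic M.1
    (M.2.1.left (default : ↥(Spec (CommRingCat.of z.K))))
  obtain ⟨v, hv, -⟩ := exists_lift_of_mem_range z hz m M.2 y hy
  refine ⟨nbhdOf hic.1 z V v, ⟨?_⟩⟩
  rw [nbhdBc_nbhdOf]
  exact ⟨m, hv⟩

include hz in
/-- Morphisms between inverse images of étale neighbourhoods are induced, after shrinking, by morphisms of étale neighbourhoods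
of the image point. -/
theorem exists_nbhd_lift_hom {N' N : EtNbhd (z.map i)}
    (m : (nbhdBc hic.1 z).obj N' ⟶ (nbhdBc hic.1 z).obj N) :
    ∃ (N'' : EtNbhd (z.map i)) (r : N'' ⟶ N') (t : N'' ⟶ N),
      (nbhdBc hic.1 z).map r ≫ m = (nbhdBc hic.1 z).map t := by
  obtain ⟨V'', r, t, hrt, y, hy⟩ := exists_bc_lift_hom hic m.1
    ((liftPt hic.1 z N').1.left (default : ↥(Spec (CommRingCat.of z.K))))
  obtain ⟨v, hv, -⟩ := exists_lift_of_mem_range z hz ((EtOver.bc hic.1).map r) (liftPt hic.1 z N') y hy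
  have hv' : v.1 ≫ (EtOver.bcMap hic.1 r).hom.left = (liftPt hic.1 z N').1 := congrArg Subtype.val hv
  have hm : (liftPt hic.1 z N').1 ≫ m.1.hom.left = (liftPt hic.1 z N).1 := congrArg Subtype.val m.2
  have hrt' : (EtOver.bcMap hic.1 r).hom.left ≫ m.1.hom.left = (EtOver.bcMap hic.1 t).hom.left :=
    congrArg (fun k => k.hom.left) hrt
  refine ⟨nbhdOf hic.1 z V'' v, ⟨r, ?_⟩, ⟨t, ?_⟩, ?_⟩
  · apply Subtype.ext
    change (v.1 ≫ hic.1.snd V''.obj.hom) ≫ r.hom.left = N'.2.1
    rw [Category.assoc, ← EtOver.bcMap_snd, ← Category.assoc, hv', liftPt_snd]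
  · apply Subtype.ext
    change (v.1 ≫ hic.1.snd V''.obj.hom) ≫ t.hom.left = N.2.1
    rw [Category.assoc, ← EtOver.bcMap_snd, ← Category.assoc, ← hrt', ← Category.assoc, hv', hm,
      liftPt_snd]
  · apply Subtype.ext
    exact hrt

include hX hz in
/-- Inverse image of étale neighbourhoods along a closed immersion is an initial functor. -/
theorem initial_nbhdBc : (nbhdBc hic.1 z).Initial := by
  refine Functor.initial_of_exists_of_isCofiltered _ (exists_nbhd_hom hX hic hz) ?_
  intro M N s s'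
  obtain ⟨N', ⟨a⟩⟩ := exists_nbhd_hom hX hic hz (IsCofiltered.eq s s')
  obtain ⟨N'', r, t, hrt⟩ := exists_nbhd_lift_hom hic hz (a ≫ IsCofiltered.eqHom s s')
  refine ⟨N'', t, ?_⟩
  rw [← hrt, Category.assoc, Category.assoc, Category.assoc, Category.assoc,
    IsCofiltered.eq_condition]


include hX hz in
/-- **Stalks of the direct image along a closed immersion.** -/
theorem exists_stalk_equiv (F : EtSh Z (Type (u + 1))) :
    ∃ φ : stalkEt (z.map i) ((pushEt hic.1 (Type (u + 1))).obj F) ≃ stalkEt z F,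
      ∀ (N : EtNbhd (z.map i)) (s : F.obj.obj (op ((EtOver.bc hic.1).obj N.1))),
        φ (stalkEtι (z.map i) ((pushEt hic.1 (Type (u + 1))).obj F) N s) =
          stalkEtι z F ((nbhdBc hic.1 z).obj N) s := by
  have hinit := initial_nbhdBc hX hic hz
  have hfin : (nbhdBc hic.1 z).op.Final := inferInstance
  let c : Cocone ((nbhdBc hic.1 z).op ⋙ stalkEtDiagram z F) :=
    (colimit.cocone (stalkEtDiagram z F)).whisker (nbhdBc hic.1 z).op
  have hc : IsColimit c :=
    (Functor.Final.isColimitWhiskerEquiv _ _).symm (colimit.isColimit (stalkEtDiagram z F))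
  let c' : Cocone (stalkEtDiagram (z.map i) ((pushEt hic.1 (Type (u + 1))).obj F)) := c
  have hc' : IsColimit c' := hc
  let e := (colimit.isColimit (stalkEtDiagram (z.map i) ((pushEt hic.1 (Type (u + 1))).obj F))).coconePointUniqueUpToIso hc'
  refine ⟨e.toEquiv, fun N s => ?_⟩
  have h1 := (colimit.isColimit (stalkEtDiagram (z.map i)
    ((pushEt hic.1 (Type (u + 1))).obj F))).comp_coconePointUniqueUpToIso_hom hc' (op N)
  exact congrArg (fun f => f s) h1

end Main

end Groth.Agent.Lib.Helper30.ClosedStalk
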