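import Mathlib
import Groth.Agent.Lib.Helper37.QsSober
import Groth.Agent.Lib.Helper37.UbfCover
import Groth.Agent.Lib.Helper37.UnivBdd2

set_option autoImplicit false
universe u
open CategoryTheory CategoryTheory.Limits AlgebraicGeometry Opposite TopologicalSpace

namespace Groth.Agent.Lib.Helper30.DecentSober

open AlgSp Groth.Agent.Lib.Helper37.AlgSpPoints Groth.Agent.Lib.Helper37.AlgSpFibres

variable {S : Scheme.{u}}

section Gpd

variable {F : Sp S} {V R : Over S} {a : (yon S).obj V ⟶ F} {s t : R ⟶ V}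

theorem hom_ext_left (hR : IsPullback ((yon S).map s) ((yon S).map t) a a) {Z : Scheme.{u}}
    (l l' : Z ⟶ R.left) (h1 : l ≫ s.left = l' ≫ s.left) (h2 : l ≫ t.left = l' ≫ t.left) :
    l = l' := by
  have hS : l' ≫ R.hom = l ≫ R.hom := by
    calc l' ≫ R.hom = l' ≫ s.left ≫ V.hom := by rw [Over.w s]
      _ = l ≫ s.left ≫ V.hom := by rw [← Category.assoc, ← h1, Category.assoc]
      _ = l ≫ R.hom := by rw [Over.w s]
  let Z' : Over S := Over.mk (l ≫ R.hom)
  let L : Z' ⟶ R := Over.homMk l rfl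
  let L' : Z' ⟶ R := Over.homMk l' hS
  have : L = L' := by
    apply (yon S).map_injective
    apply hR.hom_ext
    · rw [← Functor.map_comp, ← Functor.map_comp]
      congr 1
      ext
      exact h1
    · rw [← Functor.map_comp, ← Functor.map_comp]
      congr 1
      ext
      exact h2
  exact congrArg (fun k => k.left) this

theorem exists_comp (hR : IsPullback ((yon S).map s) ((yon S).map t) a a) {Z : Scheme.{u}}
    (l1 l2 : Z ⟶ R.left) (h : l1 ≫ t.left = l2 ≫ s.left) :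
    ∃ l : Z ⟶ R.left, l ≫ s.left = l1 ≫ s.left ∧ l ≫ t.left = l2 ≫ t.left := by
  have hS : l2 ≫ R.hom = l1 ≫ R.hom := by
    calc l2 ≫ R.hom = l2 ≫ s.left ≫ V.hom := by rw [Over.w s]
      _ = l1 ≫ t.left ≫ V.hom := by rw [← Category.assoc, ← h, Category.assoc]
      _ = l1 ≫ R.hom := by rw [Over.w t]
  let Z' : Over S := Over.mk (l1 ≫ R.hom)
  let L1 : Z' ⟶ R := Over.homMk l1 rfl
  let L2 : Z' ⟶ R := Over.homMk l2 hS
  have h12 : L1 ≫ t = L2 ≫ s := by
    ext
    exact h
  have heq : (yon S).map (L1 ≫ s) ≫ a = (yon S).map (L2 ≫ t) ≫ a := by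
    rw [Functor.map_comp, Category.assoc, hR.w, ← Category.assoc, ← Functor.map_comp, h12,
      Functor.map_comp, Category.assoc, hR.w, ← Category.assoc, ← Functor.map_comp]
  obtain ⟨L, hL⟩ := (yon S).map_surjective (hR.lift _ _ heq)
  refine ⟨L.left, ?_, ?_⟩
  · have : L ≫ s = L1 ≫ s := by
      apply (yon S).map_injective
      rw [Functor.map_comp, hL, hR.lift_fst]
    exact congrArg (fun k => k.left) this
  · have : L ≫ t = L2 ≫ t := by
      apply (yon S).map_injective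
      rw [Functor.map_comp, hL, hR.lift_snd]
    exact congrArg (fun k => k.left) this

end Gpd

/-- Étale data of `ι` pairwise geometrically disjoint lifts. -/
structure Datum {V R : Over S} (s : R ⟶ V) (ι : Type) where
  Y : Scheme.{u}
  π : Y ⟶ V.left
  etale : Etale π
  ρ : ι → (Y ⟶ R.left)
  hρ : ∀ i, ρ i ≫ s.left = π
  disj : ∀ i j, i ≠ j → ∀ (Z : Scheme.{u}) (g : Z ⟶ Y), g ≫ ρ i = g ≫ ρ j → IsEmpty ↥Z

/-- The locus of degree `≥ d`. -/
def Vd {V R : Over S} (s : R ⟶ V) (d : ℕ) : Set ↥V.left :=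
  {y | ∃ (ι : Type) (_ : Fintype ι) (D : Datum s ι), Fintype.card ι = d ∧ y ∈ Set.range D.π}

theorem isOpen_Vd {V R : Over S} (s : R ⟶ V) (d : ℕ) : IsOpen (Vd s d) := by
  rw [isOpen_iff_forall_mem_open]
  rintro y ⟨ι, hι, D, hc, hy⟩
  have := D.etale
  refine ⟨Set.range D.π, ?_, D.π.isOpenMap.isOpen_range, hy⟩
  rintro _ ⟨w, rfl⟩
  exact ⟨ι, hι, D, hc, w, rfl⟩

theorem Vd_zero {V R : Over S} (s : R ⟶ V) : Vd s 0 = Set.univ := by
  ext y
  simp only [Set.mem_univ, iff_true]
  refine ⟨PEmpty, inferInstance, ⟨V.left, 𝟙 _, inferInstance, fun i => i.elim, fun i => i.elim,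
    fun i => i.elim⟩, by simp, y, rfl⟩


section Sat

variable {F : Sp S} {V R : Over S} {a : (yon S).obj V ⟶ F} {s t : R ⟶ V}

theorem etale_s (ha : RepWith @Etale a) (hR : IsPullback ((yon S).map s) ((yon S).map t) a a) :
    Etale s.left := ha.property a _ s hR.flip

theorem etale_t (ha : RepWith @Etale a) (hR : IsPullback ((yon S).map s) ((yon S).map t) a a) :
    Etale t.left := ha.property a _ t hR

theorem Vd_saturated (ha : RepWith @Etale a) (hR : IsPullback ((yon S).map s) ((yon S).map t) a a)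
    (d : ℕ) {y y' : ↥V.left} (hy : y ∈ Vd s d) (he : Points.ofPt a y' = Points.ofPt a y) :
    y' ∈ Vd s d := by
  obtain ⟨ι, hι, D, hc, w, rfl⟩ := hy
  obtain ⟨r, hr1, hr2⟩ := (ofPt_eq_ofPt_iff hR y' (D.π w)).1 he
  have := D.etale
  have := etale_s ha hR
  have := etale_t ha hR
  obtain ⟨w'', hw1, hw2⟩ := Scheme.Pullback.exists_preimage_pullback (f := D.π) (g := t.left) w r
    hr2.symm
  have hcomp : ∀ i, ∃ l : pullback D.π t.left ⟶ R.left,
      l ≫ s.left = pullback.snd D.π t.left ≫ s.left ∧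
      l ≫ t.left = (pullback.fst D.π t.left ≫ D.ρ i) ≫ t.left := by
    intro i
    apply exists_comp hR
    rw [Category.assoc, D.hρ, pullback.condition]
  choose ρ' hρ's hρ't using hcomp
  refine ⟨ι, hι, ⟨pullback D.π t.left, pullback.snd D.π t.left ≫ s.left, inferInstance, ρ', hρ's,
    ?_⟩, hc, w'', ?_⟩
  · intro i j hij Z g hg
    refine D.disj i j hij Z (g ≫ pullback.fst D.π t.left) ?_
    apply hom_ext_left hR
    · simp only [Category.assoc, D.hρ]
    · have := congrArg (fun k => k ≫ t.left) hg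
      simp only [Category.assoc, hρ't] at this
      simpa only [Category.assoc] using this
  · rw [Scheme.Hom.comp_apply, hw2, hr1]


theorem mem_Vd_succ (ha : RepWith @Etale a) (hR : IsPullback ((yon S).map s) ((yon S).map t) a a)
    [IsSeparated s.left] {ι : Type} [Fintype ι] (D : Datum s ι) (w' : ↥D.Y) (y' : ↥V.left)
    (he : Points.ofPt a (D.π w') = Points.ofPt a y') (hne : ∀ i, t.left (D.ρ i w') ≠ y') :
    D.π w' ∈ Vd s (Fintype.card ι + 1) := by
  obtain ⟨r, hr1, hr2⟩ := (ofPt_eq_ofPt_iff hR (D.π w') y').1 he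
  have := D.etale
  have := etale_s ha hR
  obtain ⟨w'', hw1, hw2⟩ := Scheme.Pullback.exists_preimage_pullback (f := D.π) (g := s.left) w' r
    hr1.symm
  let A : Over V.left := Over.mk (pullback.fst D.π s.left ≫ D.π)
  let B : Over V.left := Over.mk s.left
  let f : ι → (A ⟶ B) := fun i => Over.homMk (pullback.fst D.π s.left ≫ D.ρ i)
    (by simp [A, B, D.hρ])
  let g : A ⟶ B := Over.homMk (pullback.snd D.π s.left) (pullback.condition.symm)
  have : IsSeparated B.hom := inferInstanceAs (IsSeparated s.left)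
  have hcl : ∀ i, IsClosed (Set.range (equalizer.ι (f i) g).left) := fun i =>
    (equalizer.ι (f i) g).left.isClosedEmbedding.isClosed_range
  have hE : IsClosed (⋃ i, Set.range (equalizer.ι (f i) g).left) := isClosed_iUnion_of_finite hcl
  let U : (pullback D.π s.left).Opens := ⟨(⋃ i, Set.range (equalizer.ι (f i) g).left)ᶜ, hE.isOpen_compl⟩
  -- points equalized lie in `E`
  have aux : ∀ (j : ι) (Z : Scheme.{u}) (g' : Z ⟶ pullback D.π s.left),
      g' ≫ pullback.fst D.π s.left ≫ D.ρ j = g' ≫ pullback.snd D.π s.left →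
      ∀ z : ↥Z, g' z ∈ Set.range (equalizer.ι (f j) g).left := by
    intro j Z g' hg' z
    let Z' : Over V.left := Over.mk (g' ≫ pullback.fst D.π s.left ≫ D.π)
    let G : Z' ⟶ A := Over.homMk g' rfl
    have hG : G ≫ f j = G ≫ g := by
      ext
      exact hg'
    refine ⟨(equalizer.lift G hG).left z, ?_⟩
    rw [← Scheme.Hom.comp_apply, ← Over.comp_left, equalizer.lift_ι]
    rfl
  have hwU : w'' ∈ U := by
    rintro ⟨_, ⟨i, rfl⟩, e, he'⟩
    have h1 := congrArg (fun k => k.left e) (equalizer.condition (f i) g)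
    simp only [Over.comp_left, Scheme.Hom.comp_apply] at h1
    rw [he'] at h1
    have h2 : D.ρ i (pullback.fst D.π s.left w'') = pullback.snd D.π s.left w'' := h1
    rw [hw1, hw2] at h2
    exact hne i (by rw [h2, hr2])
  refine ⟨Option ι, inferInstance, ⟨U.toScheme, U.ι ≫ pullback.fst D.π s.left ≫ D.π, inferInstance,
    fun o => o.elim (U.ι ≫ pullback.snd D.π s.left) (fun i => U.ι ≫ pullback.fst D.π s.left ≫ D.ρ i),
    ?_, ?_⟩, Fintype.card_option, ⟨w'', hwU⟩, ?_⟩
  · rintro (_ | i)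
    · simp only [Option.elim, Category.assoc, pullback.condition]
    · simp only [Option.elim, Category.assoc, D.hρ]
  · rintro (_ | i) (_ | j) hij Z g₀ hg
    · exact absurd rfl hij
    · simp only [Option.elim] at hg
      refine ⟨fun z => ?_⟩
      have h1 := aux j Z (g₀ ≫ U.ι) (by simpa only [Category.assoc] using hg.symm) z
      have h2 : (g₀ ≫ U.ι) z ∈ U := by
        rw [Scheme.Hom.comp_apply]
        exact (g₀ z).2
      exact h2 (Set.mem_iUnion.2 ⟨j, h1⟩)
    · simp only [Option.elim] at hg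
      refine ⟨fun z => ?_⟩
      have h1 := aux i Z (g₀ ≫ U.ι) (by simpa only [Category.assoc] using hg) z
      have h2 : (g₀ ≫ U.ι) z ∈ U := by
        rw [Scheme.Hom.comp_apply]
        exact (g₀ z).2
      exact h2 (Set.mem_iUnion.2 ⟨i, h1⟩)
    · simp only [Option.elim] at hg
      exact D.disj i j (fun h => hij (congrArg some h)) Z (g₀ ≫ U.ι ≫ pullback.fst D.π s.left)
        (by simpa only [Category.assoc] using hg)
  · change D.π (pullback.fst D.π s.left w'') = D.π w'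
    rw [hw1]

end Sat


section Bound

open IsLocalRing

/-- Two sections of a morphism to the spectrum of a field with the same image point are equal. -/
theorem section_ext {L : Type u} [Field L] {Q : Scheme.{u}} (c : Q ⟶ Spec (CommRingCat.of L))
    (σ σ' : Spec (CommRingCat.of L) ⟶ Q) (h : σ ≫ c = 𝟙 _) (h' : σ' ≫ c = 𝟙 _)
    (hx : σ (closedPoint L) = σ' (closedPoint L)) : σ = σ' := by
  obtain ⟨⟨x, φ⟩, rfl⟩ := (Scheme.SpecToEquivOfField L Q).symm.surjective σ
  obtain ⟨⟨x', φ'⟩, rfl⟩ := (Scheme.SpecToEquivOfField L Q).symm.surjective σ'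
  simp only [Scheme.SpecToEquivOfField_symm_apply] at hx h h'
  have e1 : (Spec.map φ ≫ Q.fromSpecResidueField x) (closedPoint L) = x :=
    Scheme.fromSpecResidueField_apply x _
  have e2 : (Spec.map φ' ≫ Q.fromSpecResidueField x') (closedPoint L) = x' :=
    Scheme.fromSpecResidueField_apply x' _
  rw [e1, e2] at hx
  subst hx
  simp only [Scheme.SpecToEquivOfField_symm_apply]
  congr 1
  -- `γ : L → κ(x)` induced by `c`
  obtain ⟨γ, hγ⟩ : ∃ γ : CommRingCat.of L ⟶ Q.residueField x,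
      Spec.map γ = Q.fromSpecResidueField x ≫ c := ⟨Spec.preimage _, Spec.map_preimage _⟩
  have h1 : γ ≫ φ = 𝟙 _ := by
    apply Spec.map_injective
    rw [Spec.map_comp, hγ, ← Category.assoc, h, Spec.map_id]
  have h2 : γ ≫ φ' = 𝟙 _ := by
    apply Spec.map_injective
    rw [Spec.map_comp, hγ, ← Category.assoc, h', Spec.map_id]
  have hinj : Function.Injective φ.hom := φ.hom.injective
  have h3 : φ ≫ γ = 𝟙 _ := by
    ext a
    apply hinj
    have := congrArg (fun k => k.hom (φ.hom a)) h1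
    simpa using this
  congr 1
  calc φ = φ ≫ (γ ≫ φ') := by rw [h2, Category.comp_id]
    _ = (φ ≫ γ) ≫ φ' := by rw [Category.assoc]
    _ = φ' := by rw [h3, Category.id_comp]

variable {F : Sp S} {V R : Over S} {a : (yon S).obj V ⟶ F} {s t : R ⟶ V}

open Groth.Agent.Lib.Helper37.AlgSpDecent Groth.Agent.Lib.Helper37.UbfCover
  Groth.Agent.Lib.Helper37.UnivBdd in
theorem exists_bound_Vd (ha : RepWith @Etale a)
    (hR : IsPullback ((yon S).map s) ((yon S).map t) a a) [CompactSpace ↥V.left]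
    (p : FieldPt F) (hm : Mono p.toHom) (hq : RepWith @QuasiCompact p.toHom) :
    ∃ N : ℕ, ∀ y : ↥V.left, Points.ofPt a y = Points.mk p → ∀ d, y ∈ Vd s d → d ≤ N := by
  have hrep : Representable a := ha.rep
  have sqP : IsPullback ((yon S).map (hrep.fst' p.toHom)) ((yon S).map (hrep.snd p.toHom)) a p.toHom :=
    hrep.isPullback' p.toHom
  have hsP : Etale (hrep.snd p.toHom).left := ha.property p.toHom _ _ sqP
  have hfP : QuasiCompact (hrep.fst' p.toHom).left := hq.property a _ _ sqP.flip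
  have : CompactSpace ↥(hrep.pullback p.toHom).left :=
    QuasiCompact.compactSpace_of_compactSpace (hrep.fst' p.toHom).left
  obtain ⟨N, hN⟩ := exists_bound_of_etale (hrep.snd p.toHom).left
  refine ⟨N, ?_⟩
  rintro y hy d ⟨ι, hι, D, rfl, w, rfl⟩
  let YO : Over S := Over.mk (D.π ≫ V.hom)
  let πO : YO ⟶ V := Over.homMk D.π rfl
  have hρw : ∀ i, D.ρ i ≫ R.hom = D.π ≫ V.hom := fun i => by
    rw [← Over.w s, ← Category.assoc, D.hρ]
  let ρO : ι → (YO ⟶ R) := fun i => Over.homMk (D.ρ i) (hρw i)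
  have hρO : ∀ i, ρO i ≫ s = πO := fun i => by
    ext
    exact D.hρ i
  let b : (yon S).obj YO ⟶ F := (yon S).map πO ≫ a
  let q : FieldPt F := FieldPt.ofPt b w
  have hqp : Points.mk p = Points.mk q := by
    have h1 : Points.mk q = Points.ofPt b w := rfl
    rw [h1, ofPt_map_comp]
    exact hy.symm
  obtain ⟨c, hc⟩ := exists_factor_of_mono_fieldPt p q hqp hm hq.rep
  let z : q.pt ⟶ YO := Over.homMk (YO.left.fromSpecResidueField w) rfl
  have hqz : q.toHom = (yon S).map z ≫ b := FieldPt.toHom_ofPt b w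
  have hlift : ∀ i, ∃ g : q.pt ⟶ hrep.pullback p.toHom,
      g ≫ hrep.fst' p.toHom = z ≫ ρO i ≫ t ∧ g ≫ hrep.snd p.toHom = c := by
    intro i
    have heq : (yon S).map (z ≫ ρO i ≫ t) ≫ a = (yon S).map c ≫ p.toHom := by
      rw [hc, hqz]
      calc (yon S).map (z ≫ ρO i ≫ t) ≫ a
          = (yon S).map z ≫ (yon S).map (ρO i) ≫ (yon S).map t ≫ a := by
            simp only [Functor.map_comp, Category.assoc]
        _ = (yon S).map z ≫ (yon S).map (ρO i) ≫ (yon S).map s ≫ a := by rw [hR.w]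
        _ = (yon S).map z ≫ (yon S).map (ρO i ≫ s) ≫ a := by
            rw [Functor.map_comp, Category.assoc]
        _ = (yon S).map z ≫ b := by rw [hρO]
    obtain ⟨g, hg⟩ := (yon S).map_surjective (sqP.lift _ _ heq)
    refine ⟨g, ?_, ?_⟩
    · apply (yon S).map_injective
      rw [Functor.map_comp, hg, sqP.lift_fst]
    · apply (yon S).map_injective
      rw [Functor.map_comp, hg, sqP.lift_snd]
  choose g hg1 hg2 using hlift
  obtain ⟨hfinite, hrank⟩ := hN q.K c.left (pullback c.left (hrep.snd p.toHom).left)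
    (pullback.fst _ _) (pullback.snd _ _) (IsPullback.of_hasPullback _ _)
  have hσw : ∀ i, 𝟙 _ ≫ c.left = (g i).left ≫ (hrep.snd p.toHom).left := fun i => by
    rw [Category.id_comp, ← Over.comp_left, hg2]
  let σ : ι → (q.pt.left ⟶ pullback c.left (hrep.snd p.toHom).left) := fun i =>
    pullback.lift (𝟙 _) (g i).left (hσw i)
  have hσ : ∀ i, σ i ≫ pullback.fst _ _ = 𝟙 _ := fun i => pullback.lift_fst _ _ _
  have hinj : Function.Injective (fun i => σ i (closedPoint q.K)) := by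
    intro i j hij
    by_contra hne
    have h1 : σ i = σ j := section_ext _ _ _ (hσ i) (hσ j) hij
    have h2 : (g i).left = (g j).left := by
      have := congrArg (fun k => k ≫ pullback.snd _ _) h1
      simpa only [σ, pullback.lift_snd] using this
    have h3 : z.left ≫ D.ρ i ≫ t.left = z.left ≫ D.ρ j ≫ t.left := by
      have e1 := congrArg (fun k => k.left) (hg1 i)
      have e2 := congrArg (fun k => k.left) (hg1 j)
      simp only [Over.comp_left] at e1 e2
      rw [h2] at e1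
      exact e1.symm.trans e2 |>.symm ▸ rfl
    have h4 : z.left ≫ D.ρ i = z.left ≫ D.ρ j := by
      apply hom_ext_left hR
      · simp only [Category.assoc, D.hρ]
      · simpa only [Category.assoc] using h3
    exact (D.disj i j hne _ z.left h4).false (closedPoint q.K)
  have hcard := card_le_finrank_of_isFinite (pullback.fst c.left (hrep.snd p.toHom).left)
    (closedPoint q.K)
  have : IsAffine q.pt.left := inferInstanceAs (IsAffine (Spec (CommRingCat.of q.K)))
  have haff : IsAffine (pullback c.left (hrep.snd p.toHom).left) :=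
    isAffine_of_isAffineHom (pullback.fst c.left (hrep.snd p.toHom).left)
  have hFin : Finite ↥(pullback c.left (hrep.snd p.toHom).left) :=
    finite_of_etale_over_field q.K (pullback.fst c.left (hrep.snd p.toHom).left)
  calc Fintype.card ι = Nat.card ι := (Nat.card_eq_fintype_card).symm
    _ ≤ Nat.card ↥(pullback c.left (hrep.snd p.toHom).left) := Nat.card_le_card_of_injective _ hinj
    _ ≤ N := hcard.trans (hrank _)

end Bound


section Baire

open PrimeSpectrum

/-- A Baire-type property of prime spectra: a countable family of open sets, each meeting every nonempty relatively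
open subset of a nonempty closed set `C`, has a common point in `C`. -/
theorem exists_mem_iInter_primeSpectrum {A : Type*} [CommRing A] (C : Set (PrimeSpectrum A))
    (hC : IsClosed C) (U : ℕ → Set (PrimeSpectrum A)) (hU : ∀ n, IsOpen (U n))
    (H : ∀ O : Set (PrimeSpectrum A), IsOpen O → (C ∩ O).Nonempty → ∀ n, (C ∩ O ∩ U n).Nonempty)
    (hne : C.Nonempty) : ∃ p ∈ C, ∀ n, p ∈ U n := by
  obtain ⟨I, rfl⟩ : ∃ I : Ideal A, C = zeroLocus I := (isClosed_iff_zeroLocus_ideal _).1 hC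
  -- one step
  have step : ∀ (n : ℕ) (g : {g : A // (zeroLocus (I : Set A) ∩ (basicOpen g : Set (PrimeSpectrum A))).Nonempty}),
      ∃ g' : {g : A // (zeroLocus (I : Set A) ∩ (basicOpen g : Set (PrimeSpectrum A))).Nonempty},
        (basicOpen g'.1 : Set (PrimeSpectrum A)) ⊆ basicOpen g.1 ∧
        (basicOpen g'.1 : Set (PrimeSpectrum A)) ⊆ U n := by
    rintro n ⟨g, hg⟩
    obtain ⟨p, ⟨hpC, hpg⟩, hpU⟩ := H _ (basicOpen g).2 hg n
    obtain ⟨_, ⟨f, rfl⟩, hpf, hfU⟩ :=
      isTopologicalBasis_basic_opens.exists_subset_of_mem_open hpU (hU n)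
    refine ⟨⟨g * f, ⟨p, hpC, ?_⟩⟩, ?_, ?_⟩
    · rw [basicOpen_mul]
      exact ⟨hpg, hpf⟩
    · rw [basicOpen_mul]
      exact Set.inter_subset_left
    · rw [basicOpen_mul]
      exact Set.inter_subset_right.trans hfU
  choose nxt hnxt1 hnxt2 using step
  let G : ℕ → {g : A // (zeroLocus (I : Set A) ∩ (basicOpen g : Set (PrimeSpectrum A))).Nonempty} :=
    fun n => Nat.rec ⟨1, by simpa using hne⟩ (fun n g => nxt n g) n
  have hG1 : ∀ n, (basicOpen (G (n + 1)).1 : Set (PrimeSpectrum A)) ⊆ basicOpen (G n).1 :=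
    fun n => hnxt1 n (G n)
  have hG2 : ∀ n, (basicOpen (G (n + 1)).1 : Set (PrimeSpectrum A)) ⊆ U n := fun n => hnxt2 n (G n)
  have hanti : Antitone (fun n => (basicOpen (G n).1 : Set (PrimeSpectrum A))) :=
    antitone_nat_of_succ_le hG1
  let M : Submonoid A :=
    { carrier := {x | ∃ n, (basicOpen (G n).1 : Set (PrimeSpectrum A)) ⊆ basicOpen x}
      one_mem' := ⟨0, by simp⟩
      mul_mem' := by
        rintro x y ⟨n, hn⟩ ⟨m, hm⟩
        refine ⟨max n m, ?_⟩
        rw [basicOpen_mul]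
        exact Set.subset_inter ((hanti (le_max_left n m)).trans hn) ((hanti (le_max_right n m)).trans hm) }
  have hdisj : Disjoint (I : Set A) (M : Set A) := by
    rw [Set.disjoint_left]
    rintro x hxI ⟨n, hn⟩
    obtain ⟨p, hpC, hpG⟩ := (G n).2
    exact hn hpG (hpC hxI)
  obtain ⟨p, hp, hIp, hpM⟩ := Ideal.exists_le_prime_disjoint I M hdisj
  refine ⟨⟨p, hp⟩, by simpa using hIp, fun n => hG2 n ?_⟩
  intro hmem
  exact Set.disjoint_left.1 hpM hmem ⟨n + 1, subset_rfl⟩

/-- The same for affine schemes. -/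
theorem exists_mem_iInter_affine {V : Scheme.{u}} [IsAffine V] (C : Set ↥V) (hC : IsClosed C)
    (U : ℕ → Set ↥V) (hU : ∀ n, IsOpen (U n))
    (H : ∀ O : Set ↥V, IsOpen O → (C ∩ O).Nonempty → ∀ n, (C ∩ O ∩ U n).Nonempty)
    (hne : C.Nonempty) : ∃ p ∈ C, ∀ n, p ∈ U n := by
  let e : ↥V ≃ₜ PrimeSpectrum Γ(V, ⊤) := Scheme.homeoOfIso V.isoSpec
  have H' : ∀ O : Set (PrimeSpectrum Γ(V, ⊤)), IsOpen O → (e '' C ∩ O).Nonempty →
      ∀ n, (e '' C ∩ O ∩ e '' U n).Nonempty := by
    rintro O hO ⟨_, ⟨y, hy, rfl⟩, hyO⟩ n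
    obtain ⟨x, ⟨hxC, hxO⟩, hxU⟩ := H (e ⁻¹' O) (hO.preimage e.continuous) ⟨y, hy, hyO⟩ n
    exact ⟨e x, ⟨⟨x, hxC, rfl⟩, hxO⟩, ⟨x, hxU, rfl⟩⟩
  obtain ⟨p, hpC, hpU⟩ := exists_mem_iInter_primeSpectrum (e '' C) (e.isClosed_image.2 hC)
    (fun n => e '' U n) (fun n => e.isOpen_image.2 (hU n)) H' (hne.image e)
  obtain ⟨y, hy, rfl⟩ := hpC
  refine ⟨y, hy, fun n => ?_⟩
  exact (e.injective.mem_set_image).1 (hpU n)

end Baire


section Final

open Groth.Agent.Lib.Helper37.QsSober Groth.Agent.Lib.Helper37.EtaleFibres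

variable {F : Sp S} {V R : Over S} {a : (yon S).obj V ⟶ F} {s t : R ⟶ V}

theorem isSeparated_s (hR : IsPullback ((yon S).map s) ((yon S).map t) a a) [IsAffine V.left] :
    IsSeparated s.left := by
  have hw : s.left ≫ V.hom = t.left ≫ V.hom := (Over.w s).trans (Over.w t).symm
  have hm : Mono (pullback.lift s.left t.left hw) := by
    constructor
    intro Z r₁ r₂ hr
    apply hom_ext_left hR
    · have := congrArg (· ≫ pullback.fst V.hom V.hom) hr
      simpa only [Category.assoc, pullback.lift_fst] using this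
    · have := congrArg (· ≫ pullback.snd V.hom V.hom) hr
      simpa only [Category.assoc, pullback.lift_snd] using this
  have h1 : IsSeparated V.hom := inferInstance
  have h2 : s.left = pullback.lift s.left t.left hw ≫ pullback.fst V.hom V.hom :=
    (pullback.lift_fst _ _ _).symm
  rw [h2]
  infer_instance

/-- Points equivalent to a minimal point of a saturated closed set are minimal. -/
theorem minimal_of_equiv (ha : RepWith @Etale a)
    (hR : IsPullback ((yon S).map s) ((yon S).map t) a a) {C : Set ↥V.left}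
    (hCsat : ∀ y y', Points.ofPt a y = Points.ofPt a y' → y ∈ C → y' ∈ C)
    {ξ η : ↥V.left} (hξ : ξ ∈ C) (hmin : ∀ w ∈ C, w ⤳ ξ → w = ξ)
    (he : Points.ofPt a ξ = Points.ofPt a η) :
    η ∈ C ∧ ∀ w ∈ C, w ⤳ η → w = η := by
  refine ⟨hCsat _ _ he hξ, fun w hw hs => ?_⟩
  obtain ⟨r, hr1, hr2⟩ := (ofPt_eq_ofPt_iff hR ξ η).1 he
  have := etale_s ha hR
  have := etale_t ha hR
  obtain ⟨r', hr's, hr't⟩ := exists_specializes_lift_of_etale t.left (r := r) (y' := w)
    (by rw [hr2]; exact hs)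
  have h1 : s.left r' ⤳ ξ := hr1 ▸ hr's.map s.left.continuous
  have h2 : s.left r' ∈ C :=
    hCsat w _ ((ofPt_eq_ofPt_iff hR (s.left r') w).2 ⟨r', rfl, hr't⟩).symm hw
  have h3 : s.left r' = ξ := hmin _ h2 h1
  have h4 : r' = r := eq_of_specializes_of_etale s.left hr's (by rw [h3, hr1])
  rw [← hr't, h4, hr2]

theorem exists_isGenericPoint_of_chart (hF : IsDecent F) [IsAffine V.left] (ha : RepWith @Etale a)
    (hR : IsPullback ((yon S).map s) ((yon S).map t) a a) {T : Set (Points F)}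
    (hT : IsIrreducible T) (hTc : IsClosed T)
    (hne : (T ∩ Set.range (Points.ofPt a)).Nonempty) : ∃ ξ, IsGenericPoint ξ T := by
  have hsep := isSeparated_s hR
  have hcont := Points.continuous_ofPt a
  have hopen := isOpenMap_ofPt a ha
  have hCc : IsClosed (Points.ofPt a ⁻¹' T) := hTc.preimage hcont
  have hCsat : ∀ y y', Points.ofPt a y = Points.ofPt a y' → y ∈ Points.ofPt a ⁻¹' T →
      y' ∈ Points.ofPt a ⁻¹' T := fun y y' h hy => by
    change Points.ofPt a y' ∈ T
    rw [← h]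
    exact hy
  have hCne : (Points.ofPt a ⁻¹' T).Nonempty := by
    obtain ⟨_, hx, y, rfl⟩ := hne
    exact ⟨y, hx⟩
  -- density
  have hdense : ∀ O : Set ↥V.left, IsOpen O → (Points.ofPt a ⁻¹' T ∩ O).Nonempty → ∀ n,
      (Points.ofPt a ⁻¹' T ∩ Vd s n).Nonempty → (Points.ofPt a ⁻¹' T ∩ O ∩ Vd s n).Nonempty := by
    rintro O hO ⟨y, hyC, hyO⟩ n ⟨y', hy'C, hy'V⟩
    obtain ⟨x, hxT, ⟨y₁, hy₁O, hy₁⟩, ⟨y₂, hy₂V, hy₂⟩⟩ := hT.2 (Points.ofPt a '' O)
      (Points.ofPt a '' Vd s n) (hopen _ hO) (hopen _ (isOpen_Vd s n)) ⟨_, hyC, y, hyO, rfl⟩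
      ⟨_, hy'C, y', hy'V, rfl⟩
    refine ⟨y₁, ⟨?_, hy₁O⟩, ?_⟩
    · change Points.ofPt a y₁ ∈ T
      rw [hy₁]
      exact hxT
    · exact Vd_saturated ha hR n hy₂V (hy₁.trans hy₂.symm)
  -- Step 1: the maximal degree
  obtain ⟨d, hd1, hd2⟩ : ∃ d, (Points.ofPt a ⁻¹' T ∩ Vd s d).Nonempty ∧
      ¬ (Points.ofPt a ⁻¹' T ∩ Vd s (d + 1)).Nonempty := by
    by_contra hcon
    push Not at hcon
    have hall : ∀ d, (Points.ofPt a ⁻¹' T ∩ Vd s d).Nonempty := by
      intro d
      induction d with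
      | zero =>
        rw [Vd_zero]
        simpa using hCne
      | succ d ih => exact hcon d ih
    obtain ⟨y, hyC, hyV⟩ := exists_mem_iInter_affine (Points.ofPt a ⁻¹' T) hCc (fun n => Vd s n)
      (fun n => isOpen_Vd s n) (fun O hO hne n => hdense O hO hne n (hall n)) hCne
    obtain ⟨p, hp, hm, hq⟩ := hF (Points.ofPt a y)
    obtain ⟨N, hN⟩ := exists_bound_Vd ha hR p hm hq
    have := hN y hp.symm (N + 1) (hyV (N + 1))
    omega
  -- Step 2
  obtain ⟨y₀, hy₀C, hy₀V⟩ := hd1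
  obtain ⟨ξ₀, hξ₀C, hξ₀s, hξ₀min⟩ := exists_minimal_generalization hCc hy₀C
  have hξ₀V : ξ₀ ∈ Vd s d := hξ₀s.mem_open (isOpen_Vd s d) hy₀V
  obtain ⟨ι, hι, D, hcard, w, hw⟩ := hξ₀V
  have := D.etale
  -- Step 3
  have key : ∀ ξ₂ ∈ Points.ofPt a ⁻¹' T, (∀ w' ∈ Points.ofPt a ⁻¹' T, w' ⤳ ξ₂ → w' = ξ₂) →
      Points.ofPt a ξ₂ = Points.ofPt a ξ₀ := by
    intro ξ₂ hξ₂C hξ₂min
    by_contra hneq
    have hη : ∀ i, Points.ofPt a ξ₀ = Points.ofPt a (t.left (D.ρ i w)) := fun i =>
      (ofPt_eq_ofPt_iff hR _ _).2 ⟨D.ρ i w, by rw [← Scheme.Hom.comp_apply, D.hρ, hw], rfl⟩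
    have hηmin := fun i => minimal_of_equiv ha hR hCsat hξ₀C hξ₀min (hη i)
    have hsepar : ∀ i, ∃ G : Set ↥V.left, IsOpen G ∧ t.left (D.ρ i w) ∈ G ∧
        ξ₂ ∉ closure (G ∩ Points.ofPt a ⁻¹' T) := by
      intro i
      have hns : ¬ ξ₂ ⤳ t.left (D.ρ i w) := fun hs => by
        have := (hηmin i).2 ξ₂ hξ₂C hs
        exact hneq (by rw [this, ← hη i])
      rw [specializes_iff_forall_open] at hns
      push Not at hns
      obtain ⟨O, hO, hηO, hξO⟩ := hns
      obtain ⟨_, ⟨G, hG, rfl⟩, hηG, hGO⟩ :=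
        V.left.isBasis_affineOpens.exists_subset_of_mem_open hηO hO
      refine ⟨G, G.2, hηG, fun hcl => hξO (hGO ?_)⟩
      exact mem_of_mem_closure_of_minimal hCc hG.isCompact G.2 hξ₂min hcl
    choose G hGo hηG hξG using hsepar
    have hNo : IsOpen (⋂ i, (D.ρ i ≫ t.left) ⁻¹' G i) :=
      isOpen_iInter_of_finite fun i => (hGo i).preimage (D.ρ i ≫ t.left).continuous
    have hwN : w ∈ ⋂ i, (D.ρ i ≫ t.left) ⁻¹' G i := Set.mem_iInter.2 fun i => by
      change (D.ρ i ≫ t.left) w ∈ G i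
      rw [Scheme.Hom.comp_apply]
      exact hηG i
    have hO'o : IsOpen (⋂ i, (closure (G i ∩ Points.ofPt a ⁻¹' T))ᶜ) :=
      isOpen_iInter_of_finite fun i => isClosed_closure.isOpen_compl
    have hξO' : ξ₂ ∈ ⋂ i, (closure (G i ∩ Points.ofPt a ⁻¹' T))ᶜ := Set.mem_iInter.2 fun i => hξG i
    obtain ⟨x, hxT, ⟨_, ⟨w', hw'N, rfl⟩, hw'x⟩, ⟨y', hy'O, hy'x⟩⟩ :=
      hT.2 (Points.ofPt a '' (D.π '' ⋂ i, (D.ρ i ≫ t.left) ⁻¹' G i))
        (Points.ofPt a '' ⋂ i, (closure (G i ∩ Points.ofPt a ⁻¹' T))ᶜ)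
        (hopen _ (D.π.isOpenMap _ hNo)) (hopen _ hO'o) ⟨_, hξ₀C, _, ⟨w, hwN, hw⟩, rfl⟩
        ⟨_, hξ₂C, ξ₂, hξO', rfl⟩
    have hw'C : D.π w' ∈ Points.ofPt a ⁻¹' T := by
      change Points.ofPt a (D.π w') ∈ T
      rw [hw'x]
      exact hxT
    have hy'C : y' ∈ Points.ofPt a ⁻¹' T := by
      change Points.ofPt a y' ∈ T
      rw [hy'x]
      exact hxT
    have hex : ∃ i, t.left (D.ρ i w') = y' := by
      by_contra hno
      push Not at hno
      have := mem_Vd_succ ha hR D w' y' (hw'x.trans hy'x.symm) hno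
      rw [hcard] at this
      exact hd2 ⟨_, hw'C, this⟩
    obtain ⟨i, hi⟩ := hex
    have h1 : y' ∈ G i := by
      rw [← hi, ← Scheme.Hom.comp_apply]
      exact Set.mem_iInter.1 hw'N i
    exact Set.mem_iInter.1 hy'O i (subset_closure ⟨h1, hy'C⟩)
  -- Step 4
  refine ⟨Points.ofPt a ξ₀, ?_⟩
  apply subset_antisymm
  · exact closure_minimal (Set.singleton_subset_iff.2 hξ₀C) hTc
  · have hd : T ⊆ closure (T ∩ Set.range (Points.ofPt a)) :=
      subset_closure_inter_of_isPreirreducible_of_isOpen hT.2 hopen.isOpen_range hne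
    refine hd.trans (closure_minimal ?_ isClosed_closure)
    rintro _ ⟨hzT, y, rfl⟩
    obtain ⟨ξ₂, hξ₂C, hξ₂s, hξ₂min⟩ := exists_minimal_generalization hCc (w₀ := y) hzT
    have h1 := key ξ₂ hξ₂C hξ₂min
    have h2 : Points.ofPt a ξ₂ ⤳ Points.ofPt a y := hξ₂s.map hcont
    rw [h1] at h2
    exact specializes_iff_mem_closure.1 h2

/-- **S10339**: the space of points of a decent algebraic space is quasi-sober. -/
theorem quasiSober_of_isDecent (X : Space S) (hX : IsDecent X.obj) : QuasiSober (Points X.obj) := by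
  refine ⟨fun {T} hT hTc => ?_⟩
  obtain ⟨x, hx⟩ := hT.1
  obtain ⟨V, a, v, hV, ha, rfl⟩ := exists_affine_chart X x
  have hrep : Representable a := X.property.representable_from_yon _
  exact exists_isGenericPoint_of_chart hX ha (hrep.isPullback' a) hT hTc ⟨_, hx, v, rfl⟩

end Final

end Groth.Agent.Lib.Helper30.DecentSober
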