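import Mathlib
import Groth.Agent.Lib.Helper30.AffFin
import Groth.Agent.Lib.Helper95.Q1

/-!
# Invariant affine opens for finite locally free relations via norms (helper30)
-/

set_option autoImplicit false
universe u
open CategoryTheory CategoryTheory.Limits AlgebraicGeometry TopologicalSpace

namespace Groth.Agent.Lib.Helper30.InvAffine

open Groth.Agent.Lib.Helper30.AffFin

section Restrict

variable {X Y : Scheme.{u}}

theorem image_preimage_of_le {U N : Y.Opens} (h : N ≤ U) : U.ι ''ᵁ (U.ι ⁻¹ᵁ N) = N := by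
  rw [Scheme.Hom.image_preimage_eq_opensRange_inf, Scheme.Opens.opensRange_ι]
  exact inf_eq_right.2 h

theorem restrict_restrict_iff (P : MorphismProperty Scheme.{u}) [P.RespectsIso] (f : X ⟶ Y)
    {U N : Y.Opens} (h : N ≤ U) : P ((f ∣_ U) ∣_ (U.ι ⁻¹ᵁ N)) ↔ P (f ∣_ N) :=
  (P.arrow_mk_iso_iff (morphismRestrictRestrict f U _)).trans
    (P.arrow_mk_iso_iff (morphismRestrictEq f (image_preimage_of_le h)))

set_option backward.isDefEq.respectTransparency.types false in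
theorem isFinite_restrict_of_le (f : X ⟶ Y) {U N : Y.Opens} (h : N ≤ U) (hU : IsFinite (f ∣_ U)) :
    IsFinite (f ∣_ N) :=
  (restrict_restrict_iff (@IsFinite : MorphismProperty Scheme.{u}) f h).1 inferInstance

set_option backward.isDefEq.respectTransparency.types false in
theorem isFinite_restrict_of_cover (f : X ⟶ Y) (O : Y.Opens)
    (H : ∀ y ∈ O, ∃ N : Y.Opens, y ∈ N ∧ N ≤ O ∧ IsFinite (f ∣_ N)) : IsFinite (f ∣_ O) := by
  apply IsZariskiLocalAtTarget.of_forall_exists_morphismRestrict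
    (P := (@IsFinite : MorphismProperty Scheme.{u}))
  intro x
  obtain ⟨N, hxN, hNO, hN⟩ := H x.1 x.2
  exact ⟨O.ι ⁻¹ᵁ N, hxN,
    (restrict_restrict_iff (@IsFinite : MorphismProperty Scheme.{u}) f hNO).2 hN⟩

end Restrict

section PtIdeal

variable {A B : Scheme.{u}}

theorem ptIdeal_map (f : A ⟶ B) (x : A) : ptIdeal (f x) = (ptIdeal x).comap f.appTop.hom := by
  ext b
  rw [Ideal.mem_comap, ← not_iff_not, ← mem_basicOpen_iff, ← mem_basicOpen_iff,
    ← Scheme.preimage_basicOpen_top]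
  rfl

theorem ptIdeal_injective [IsAffine A] : Function.Injective (ptIdeal (A := A)) := by
  intro x y h
  have hins : Inseparable x y := by
    rw [(isBasis_basicOpen A).inseparable_iff]
    rintro _ ⟨_, ⟨a, rfl⟩, rfl⟩
    change x ∈ A.basicOpen a ↔ y ∈ A.basicOpen a
    rw [mem_basicOpen_iff, mem_basicOpen_iff, h]
  exact hins.eq

theorem ptIdeal_surjective [IsAffine A] (p : Ideal Γ(A, ⊤)) [hp : p.IsPrime] :
    ∃ x : A, ptIdeal x = p := by
  let P : ↥(Spec Γ(A, ⊤)) := (⟨p, hp⟩ : PrimeSpectrum Γ(A, ⊤))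
  refine ⟨A.isoSpec.inv P, ?_⟩
  ext a
  rw [← not_iff_not, ← mem_basicOpen_iff, ← Scheme.toSpecΓ_preimage_basicOpen]
  change A.toSpecΓ (A.isoSpec.inv P) ∈ PrimeSpectrum.basicOpen a ↔ _
  have : A.toSpecΓ (A.isoSpec.inv P) = P := by
    change (A.isoSpec.inv ≫ A.isoSpec.hom) P = P
    rw [Iso.inv_hom_id]
    rfl
  rw [this]
  rfl

end PtIdeal


set_option backward.isDefEq.respectTransparency.types false in
set_option linter.style.haveILetI false in
open Groth.Agent.Lib.Helper15.ProjCharpoly Groth.Agent.Lib.Helper95 in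
/-- For a finite étale `s` over the basic open `W = D(a)` of an affine scheme and any `t`, the set of points `u ∈ W`
all of whose `s`-fibre is mapped into `W` by `t` is an affine open (a basic open of `W`, cut out by a norm). -/
theorem exists_invariant_affine {V R : Scheme.{u}} [IsAffine V] (s t : R ⟶ V) [Etale s]
    (a : Γ(V, ⊤)) (hfin : IsFinite (s ∣_ V.basicOpen a)) :
    ∃ V₁ : V.Opens, IsAffineOpen V₁ ∧ ∀ u : V, u ∈ V₁ ↔
      (u ∈ V.basicOpen a ∧ ∀ r : R, s r = u → t r ∈ V.basicOpen a) := by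
  have hW : IsAffineOpen (V.basicOpen a) := (isAffineOpen_top V).basicOpen a
  have hWa : IsAffine (V.basicOpen a).toScheme := hW
  have hRa : IsAffine (s ⁻¹ᵁ V.basicOpen a).toScheme := isAffine_of_isAffineHom (s ∣_ V.basicOpen a)
  have hfinr : (s ∣_ V.basicOpen a).appTop.hom.Finite :=
    ((HasAffineProperty.iff_of_isAffine (P := @IsFinite)).mp hfin).2
  have hflat : (s ∣_ V.basicOpen a).appTop.hom.Flat :=
    (HasRingHomProperty.iff_of_isAffine (P := @Flat)).mp inferInstance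
  have hfp : (s ∣_ V.basicOpen a).appTop.hom.FinitePresentation :=
    (HasRingHomProperty.iff_of_isAffine (P := @LocallyOfFinitePresentation)).mp inferInstance
  letI alg : Algebra Γ((V.basicOpen a).toScheme, ⊤) Γ((s ⁻¹ᵁ V.basicOpen a).toScheme, ⊤) :=
    (s ∣_ V.basicOpen a).appTop.hom.toAlgebra
  haveI : Module.Finite Γ((V.basicOpen a).toScheme, ⊤) Γ((s ⁻¹ᵁ V.basicOpen a).toScheme, ⊤) := hfinr
  haveI : Module.Flat Γ((V.basicOpen a).toScheme, ⊤) Γ((s ⁻¹ᵁ V.basicOpen a).toScheme, ⊤) := hflat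
  haveI : Algebra.FinitePresentation Γ((V.basicOpen a).toScheme, ⊤)
    Γ((s ⁻¹ᵁ V.basicOpen a).toScheme, ⊤) := hfp
  haveI : Module.FinitePresentation Γ((V.basicOpen a).toScheme, ⊤)
      Γ((s ⁻¹ᵁ V.basicOpen a).toScheme, ⊤) :=
    Module.FinitePresentation.of_finite_of_finitePresentation _ _
  haveI : Module.Projective Γ((V.basicOpen a).toScheme, ⊤) Γ((s ⁻¹ᵁ V.basicOpen a).toScheme, ⊤) :=
    Module.Flat.projective_of_finitePresentation
  obtain ⟨π⟩ := exists_pres (R := Γ((V.basicOpen a).toScheme, ⊤))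
    (P := Γ((s ⁻¹ᵁ V.basicOpen a).toScheme, ⊤))
  let y : Γ((s ⁻¹ᵁ V.basicOpen a).toScheme, ⊤) := ((s ⁻¹ᵁ V.basicOpen a).ι ≫ t).appTop.hom a
  let n : Γ((V.basicOpen a).toScheme, ⊤) := Q1.dn π y
  have hy : ∀ r₀ : (s ⁻¹ᵁ V.basicOpen a).toScheme,
      r₀ ∈ (s ⁻¹ᵁ V.basicOpen a).toScheme.basicOpen y ↔ t r₀.1 ∈ V.basicOpen a := by
    intro r₀
    change r₀ ∈ (s ⁻¹ᵁ V.basicOpen a).toScheme.basicOpen
      (((s ⁻¹ᵁ V.basicOpen a).ι ≫ t).appTop a) ↔ _
    rw [← Scheme.preimage_basicOpen_top]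
    rfl
  have key : ∀ w : (V.basicOpen a).toScheme, w ∈ (V.basicOpen a).toScheme.basicOpen n ↔
      ∀ r₀ : (s ⁻¹ᵁ V.basicOpen a).toScheme, (s ∣_ V.basicOpen a) r₀ = w →
        r₀ ∈ (s ⁻¹ᵁ V.basicOpen a).toScheme.basicOpen y := by
    intro w
    constructor
    · intro hw r₀ hr₀
      by_contra hyr
      rw [mem_basicOpen_iff, not_not] at hyr
      obtain ⟨c, hc⟩ := Q1.dvd_dn π y
      have h1 : (s ∣_ V.basicOpen a).appTop.hom n ∈ ptIdeal r₀ := by
        change algebraMap _ _ (Q1.dn π y) ∈ ptIdeal r₀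
        rw [hc]
        exact Ideal.mul_mem_right _ _ hyr
      have h2 : n ∈ ptIdeal ((s ∣_ V.basicOpen a) r₀) := by
        rw [ptIdeal_map]
        exact h1
      rw [hr₀] at h2
      exact (mem_basicOpen_iff n w).1 hw h2
    · intro H
      rw [mem_basicOpen_iff]
      intro hn
      obtain ⟨𝔯, h𝔯p, h𝔯c, hy𝔯⟩ := Q1.exists_prime_of_dn_mem π y (ptIdeal w) hn
      obtain ⟨r₀, hr₀⟩ := ptIdeal_surjective 𝔯
      have h1 : ptIdeal ((s ∣_ V.basicOpen a) r₀) = ptIdeal w := by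
        rw [ptIdeal_map, hr₀]
        exact h𝔯c
      have h2 : (s ∣_ V.basicOpen a) r₀ = w := ptIdeal_injective h1
      have h3 := H r₀ h2
      rw [mem_basicOpen_iff, hr₀] at h3
      exact h3 hy𝔯
  refine ⟨(V.basicOpen a).ι ''ᵁ ((V.basicOpen a).toScheme.basicOpen n),
    ((isAffineOpen_top _).basicOpen n).image_of_isOpenImmersion (V.basicOpen a).ι, fun u => ?_⟩
  constructor
  · rintro ⟨w, hw, rfl⟩
    refine ⟨w.2, fun r hr => ?_⟩
    have hrW : r ∈ s ⁻¹ᵁ V.basicOpen a := by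
      change s r ∈ V.basicOpen a
      rw [hr]
      exact w.2
    have h1 : (s ∣_ V.basicOpen a) ⟨r, hrW⟩ = w := by
      apply (V.basicOpen a).ι.injective
      rw [← Scheme.Hom.comp_apply, morphismRestrict_ι, Scheme.Hom.comp_apply]
      exact hr
    exact (hy ⟨r, hrW⟩).1 ((key w).1 hw _ h1)
  · rintro ⟨huW, H⟩
    refine ⟨⟨u, huW⟩, (key _).2 fun r₀ hr₀ => (hy r₀).2 (H r₀.1 ?_), rfl⟩
    change s ((s ⁻¹ᵁ V.basicOpen a).ι r₀) = u
    rw [← Scheme.Hom.comp_apply, ← morphismRestrict_ι, Scheme.Hom.comp_apply, hr₀]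
    rfl

end Groth.Agent.Lib.Helper30.InvAffine
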