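import Mathlib
import Groth.Agent.Lib.Helper30.DecentSober
import Groth.Agent.Lib.Helper30.InvAffine
import Groth.Agent.Lib.Helper30.EtaleSection
import Groth.Agent.Lib.Helper23.SLQSplit2
import Groth.Agent.Lib.Helper37.EtaleFibres

/-!
# The kernel pair of a chart is finite over the locus of constant degree (helper30)
-/

set_option autoImplicit false
universe u
open CategoryTheory CategoryTheory.Limits AlgebraicGeometry Opposite TopologicalSpace

namespace Groth.Agent.Lib.Helper30.ConstDeg

open AlgSp Groth.Agent.Lib.Helper37.AlgSpPoints Groth.Agent.Lib.Helper37.AlgSpFibres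
  Groth.Agent.Lib.Helper30.DecentSober Groth.Agent.Lib.Helper30.InvAffine

variable {S : Scheme.{u}}

set_option backward.isDefEq.respectTransparency.types false in
/-- Finiteness of an étale separated morphism descends along an étale morphism onto its (open) image. -/
theorem isFinite_restrict_range {X Y Y' : Scheme.{u}} (f : X ⟶ Y) [Etale f] [IsSeparated f]
    (π : Y' ⟶ Y) [Etale π] (h : IsFinite (pullback.fst π f)) (N : Y.Opens)
    (hN : (N : Set Y) = Set.range π) : IsFinite (f ∣_ N) := by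
  have hr : Set.range π ⊆ Set.range N.ι := by
    rw [Scheme.Opens.range_ι, hN]
  let π' : Y' ⟶ N.toScheme := IsOpenImmersion.lift N.ι π hr
  have hπ' : π' ≫ N.ι = π := IsOpenImmersion.lift_fac _ _ _
  have hsurj : Surjective π' := by
    refine ⟨fun y => ?_⟩
    have hy : y.1 ∈ Set.range π := by
      rw [← hN]
      exact y.2
    obtain ⟨x, hx⟩ := hy
    refine ⟨x, N.ι.injective ?_⟩
    rw [← Scheme.Hom.comp_apply, hπ', hx]
    rfl
  have sqπ : IsPullback π' (𝟙 Y') N.ι π :=
    IsPullback.of_vert_isIso_mono ⟨by rw [hπ', Category.id_comp]⟩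
  have hét : Etale π' := MorphismProperty.of_isPullback (P := @Etale) sqπ.flip inferInstance
  -- the map to the restriction
  have hk : Set.range (pullback.snd π f) ⊆ Set.range (f ⁻¹ᵁ N).ι := by
    rintro _ ⟨z, rfl⟩
    rw [Scheme.Opens.range_ι]
    change f (pullback.snd π f z) ∈ (N : Set Y)
    rw [← Scheme.Hom.comp_apply, ← pullback.condition, Scheme.Hom.comp_apply, hN]
    exact ⟨_, rfl⟩
  let k : pullback π f ⟶ (f ⁻¹ᵁ N).toScheme := IsOpenImmersion.lift (f ⁻¹ᵁ N).ι (pullback.snd π f) hk
  have hkι : k ≫ (f ⁻¹ᵁ N).ι = pullback.snd π f := IsOpenImmersion.lift_fac _ _ _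
  have hbig : IsPullback (k ≫ (f ⁻¹ᵁ N).ι) (pullback.fst π f) f (π' ≫ N.ι) := by
    rw [hkι, hπ']
    exact (IsPullback.of_hasPullback π f).flip
  have hp : k ≫ (f ∣_ N) = pullback.fst π f ≫ π' := by
    rw [← cancel_mono N.ι, Category.assoc, morphismRestrict_ι, ← Category.assoc, hkι,
      Category.assoc, hπ', pullback.condition]
  have sq := IsPullback.of_right hbig hp (isPullback_morphismRestrict f N).flip
  have hflat : Flat π' := inferInstance
  have hlfp : LocallyOfFinitePresentation π' := inferInstance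
  have huc : UniversallyClosed (f ∣_ N) :=
    MorphismProperty.of_isPullback_of_descendsAlong (P := @UniversallyClosed)
      (Q := @Surjective ⊓ @Flat ⊓ @LocallyOfFinitePresentation) sq.flip
      ⟨⟨hsurj, hflat⟩, hlfp⟩ (inferInstance : UniversallyClosed (pullback.fst π f))
  have hqf : LocallyQuasiFinite (f ∣_ N) :=
    Groth.Agent.Lib.Helper37.EtaleFibres.locallyQuasiFinite_of_etale _
  have : IsProper (f ∣_ N) := {}
  exact IsFinite.of_isProper_of_locallyQuasiFinite _

section

variable {F : Sp S} {V R : Over S} {a : (yon S).obj V ⟶ F} {s t : R ⟶ V}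

/-- The section of `Y ×_V R ⟶ Y` given by a lift. -/
noncomputable def _root_.Groth.Agent.Lib.Helper30.DecentSober.Datum.σ {ι : Type} (D : Datum s ι) (i : ι) : D.Y ⟶ pullback D.π s.left :=
  pullback.lift (𝟙 _) (D.ρ i) (by rw [Category.id_comp, D.hρ])

@[reassoc (attr := simp)]
theorem _root_.Groth.Agent.Lib.Helper30.DecentSober.Datum.σ_fst {ι : Type} (D : Datum s ι) (i : ι) : D.σ i ≫ pullback.fst D.π s.left = 𝟙 _ :=
  pullback.lift_fst _ _ _

@[reassoc (attr := simp)]
theorem _root_.Groth.Agent.Lib.Helper30.DecentSober.Datum.σ_snd {ι : Type} (D : Datum s ι) (i : ι) : D.σ i ≫ pullback.snd D.π s.left = D.ρ i :=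
  pullback.lift_snd _ _ _

theorem _root_.Groth.Agent.Lib.Helper30.DecentSober.Datum.eq_comp_σ {ι : Type} (D : Datum s ι) (i : ι) {Z : Scheme.{u}}
    (g : Z ⟶ pullback D.π s.left)
    (h : g ≫ pullback.fst D.π s.left ≫ D.ρ i = g ≫ pullback.snd D.π s.left) :
    g = (g ≫ pullback.fst D.π s.left) ≫ D.σ i := by
  apply pullback.hom_ext
  · rw [Category.assoc, D.σ_fst, Category.comp_id]
  · rw [Category.assoc, D.σ_snd, ← h, Category.assoc]

/-- A point of `Y ×_V R` outside all the sections gives degree one more. -/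
theorem mem_Vd_succ' (ha : RepWith @Etale a) (hR : IsPullback ((yon S).map s) ((yon S).map t) a a)
    [IsSeparated s.left] {ι : Type} [Fintype ι] (D : Datum s ι) (z : ↥(pullback D.π s.left))
    (hz : ∀ i, z ∉ Set.range (D.σ i)) :
    D.π (pullback.fst D.π s.left z) ∈ Vd s (Fintype.card ι + 1) := by
  have := D.etale
  have := etale_s ha hR
  have hcl : ∀ i, IsClosed (Set.range (D.σ i)) := fun i => by
    have : IsClosedImmersion (D.σ i ≫ pullback.fst D.π s.left) := by
      rw [D.σ_fst]
      infer_instance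
    have := IsClosedImmersion.of_comp (D.σ i) (pullback.fst D.π s.left)
    exact (D.σ i).isClosedEmbedding.isClosed_range
  have hE : IsClosed (⋃ i, Set.range (D.σ i)) := isClosed_iUnion_of_finite hcl
  let U : (pullback D.π s.left).Opens := ⟨(⋃ i, Set.range (D.σ i))ᶜ, hE.isOpen_compl⟩
  have hzU : z ∈ U := by
    rintro ⟨_, ⟨i, rfl⟩, hi⟩
    exact hz i hi
  have aux : ∀ (j : ι) (Z : Scheme.{u}) (g' : Z ⟶ pullback D.π s.left),
      g' ≫ pullback.fst D.π s.left ≫ D.ρ j = g' ≫ pullback.snd D.π s.left →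
      ∀ z' : ↥Z, g' z' ∈ Set.range (D.σ j) := by
    intro j Z g' hg' z'
    rw [D.eq_comp_σ j g' hg', Scheme.Hom.comp_apply]
    exact ⟨_, rfl⟩
  refine ⟨Option ι, inferInstance, ⟨U.toScheme, U.ι ≫ pullback.fst D.π s.left ≫ D.π, inferInstance,
    fun o => o.elim (U.ι ≫ pullback.snd D.π s.left) (fun i => U.ι ≫ pullback.fst D.π s.left ≫ D.ρ i),
    ?_, ?_⟩, Fintype.card_option, ⟨z, hzU⟩, rfl⟩
  · rintro (_ | i)
    · simp only [Option.elim, Category.assoc, pullback.condition]
    · simp only [Option.elim, Category.assoc, D.hρ]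
  · rintro (_ | i) (_ | j) hij Z g₀ hg
    · exact absurd rfl hij
    · simp only [Option.elim] at hg
      refine ⟨fun z' => ?_⟩
      have h1 := aux j Z (g₀ ≫ U.ι) (by simpa only [Category.assoc] using hg.symm) z'
      have h2 : (g₀ ≫ U.ι) z' ∈ U := by
        rw [Scheme.Hom.comp_apply]
        exact (g₀ z').2
      exact h2 (Set.mem_iUnion.2 ⟨j, h1⟩)
    · simp only [Option.elim] at hg
      refine ⟨fun z' => ?_⟩
      have h1 := aux i Z (g₀ ≫ U.ι) (by simpa only [Category.assoc] using hg) z'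
      have h2 : (g₀ ≫ U.ι) z' ∈ U := by
        rw [Scheme.Hom.comp_apply]
        exact (g₀ z').2
      exact h2 (Set.mem_iUnion.2 ⟨i, h1⟩)
    · simp only [Option.elim] at hg
      exact D.disj i j (fun h => hij (congrArg some h)) Z (g₀ ≫ U.ι ≫ pullback.fst D.π s.left)
        (by simpa only [Category.assoc] using hg)

set_option backward.isDefEq.respectTransparency.types false in
open Groth.Agent.Lib.Helper23.SLQSplit Groth.Agent.Lib.Helper30 in
/-- If the degree is nowhere larger than the number of sections, `Y ×_V R ⟶ Y` is finite. -/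
theorem isFinite_fst_of_max (ha : RepWith @Etale a)
    (hR : IsPullback ((yon S).map s) ((yon S).map t) a a)
    [IsSeparated s.left] {ι : Type} [Fintype ι] (D : Datum s ι)
    (hmax : ∀ y : ↥D.Y, D.π y ∉ Vd s (Fintype.card ι + 1)) :
    IsFinite (pullback.fst D.π s.left) := by
  have := D.etale
  have := etale_s ha hR
  have hoi : ∀ i, IsOpenImmersion (D.σ i) := fun i =>
    EtaleSection.isOpenImmersion_of_section (pullback.fst D.π s.left) (D.σ i) (D.σ_fst i)
  let W : ι → (pullback D.π s.left).Opens := fun i => (D.σ i).opensRange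
  have hfin : ∀ i, IsFinite ((W i).ι ≫ pullback.fst D.π s.left) := by
    intro i
    have e1 : (D.σ i).isoOpensRange.hom ≫ (W i).ι = D.σ i := (D.σ i).isoOpensRange_hom_ι
    have e2 : (W i).ι ≫ pullback.fst D.π s.left = (D.σ i).isoOpensRange.inv := by
      rw [← cancel_epi (D.σ i).isoOpensRange.hom, ← Category.assoc, e1, D.σ_fst, Iso.hom_inv_id]
    rw [e2]
    infer_instance
  have hdisj : Pairwise (Function.onFun Disjoint W) := by
    intro i j hij
    rw [Function.onFun, disjoint_iff]
    by_contra hne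
    obtain ⟨z, hz⟩ := (Opens.ne_bot_iff_nonempty _).1 hne
    let k := (W i ⊓ W j).ι
    have hki : Set.range k ⊆ Set.range (D.σ i) := by
      rw [Scheme.Opens.range_ι]
      exact fun x hx => hx.1
    have hkj : Set.range k ⊆ Set.range (D.σ j) := by
      rw [Scheme.Opens.range_ι]
      exact fun x hx => hx.2
    let gi := IsOpenImmersion.lift (D.σ i) k hki
    let gj := IsOpenImmersion.lift (D.σ j) k hkj
    have hgi : gi ≫ D.σ i = k := IsOpenImmersion.lift_fac _ _ _
    have hgj : gj ≫ D.σ j = k := IsOpenImmersion.lift_fac _ _ _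
    have hij' : gi = gj := by
      calc gi = gi ≫ D.σ i ≫ pullback.fst D.π s.left := by rw [D.σ_fst, Category.comp_id]
        _ = gj ≫ D.σ j ≫ pullback.fst D.π s.left := by
          rw [← Category.assoc, hgi, ← Category.assoc, hgj]
        _ = gj := by rw [D.σ_fst, Category.comp_id]
    have h1 : gi ≫ D.ρ i = gi ≫ D.ρ j := by
      calc gi ≫ D.ρ i = gi ≫ D.σ i ≫ pullback.snd D.π s.left := by rw [D.σ_snd]
        _ = gj ≫ D.σ j ≫ pullback.snd D.π s.left := by
          rw [← Category.assoc, hgi, ← Category.assoc, hgj]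
        _ = gi ≫ D.ρ j := by rw [D.σ_snd, hij']
    exact (D.disj i j hij _ gi h1).false ⟨z, hz⟩
  have htop : (⨆ i, W i) = ⊤ := by
    rw [eq_top_iff]
    intro z _
    by_contra hz
    have hz' : ∀ i, z ∉ Set.range (D.σ i) := by
      intro i hi
      apply hz
      rw [Opens.mem_iSup]
      exact ⟨i, hi⟩
    exact hmax _ (mem_Vd_succ' ha hR D z hz')
  have h1 := isFinite_iSup_ι_comp (pullback.fst D.π s.left) W hdisj hfin
  rw [htop] at h1
  have hiso : IsIso (⊤ : (pullback D.π s.left).Opens).ι :=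
    inferInstanceAs (IsIso (pullback D.π s.left).topIso.hom)
  exact (MorphismProperty.cancel_left_of_respectsIso (@IsFinite : MorphismProperty Scheme.{u})
    (⊤ : (pullback D.π s.left).Opens).ι _).1 h1

/-- Restriction of a datum to an open subscheme of its source. -/
noncomputable def _root_.Groth.Agent.Lib.Helper30.DecentSober.Datum.restrict {ι : Type}
    (D : Datum s ι) (Y' : D.Y.Opens) : Datum s ι where
  Y := Y'.toScheme
  π := Y'.ι ≫ D.π
  etale := by
    have := D.etale
    infer_instance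
  ρ i := Y'.ι ≫ D.ρ i
  hρ i := by rw [Category.assoc, D.hρ]
  disj i j hij Z g hg := D.disj i j hij Z (g ≫ Y'.ι) (by simpa only [Category.assoc] using hg)

theorem _root_.Groth.Agent.Lib.Helper30.DecentSober.Datum.restrict_π_apply {ι : Type}
    (D : Datum s ι) (Y' : D.Y.Opens) (y' : ↥Y'.toScheme) :
    (D.restrict Y').π y' = D.π y'.1 := by
  change (Y'.ι ≫ D.π) y' = _
  rw [Scheme.Hom.comp_apply]
  rfl

/-- **The kernel pair is finite over a locus of constant degree.** -/
theorem isFinite_restrict_constDeg (ha : RepWith @Etale a)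
    (hR : IsPullback ((yon S).map s) ((yon S).map t) a a) [IsAffine V.left] (d : ℕ)
    (O' : V.left.Opens) (h1 : ∀ y ∈ O', y ∈ Vd s d) (h2 : ∀ y ∈ O', y ∉ Vd s (d + 1)) :
    IsFinite (s.left ∣_ O') := by
  have hsep := isSeparated_s hR
  have := etale_s ha hR
  refine isFinite_restrict_of_cover s.left O' fun y hy => ?_
  obtain ⟨ι, hι, D, hc, w, hw⟩ := h1 y hy
  let D' := D.restrict (D.π ⁻¹ᵁ O')
  have := D'.etale
  have hmem : ∀ y' : ↥D'.Y, D'.π y' ∈ O' := fun y' => by
    have h := D.restrict_π_apply (D.π ⁻¹ᵁ O') y'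
    rw [h]
    exact y'.2
  have hmax : ∀ y' : ↥D'.Y, D'.π y' ∉ Vd s (Fintype.card ι + 1) := fun y' => by
    rw [hc]
    exact h2 _ (hmem y')
  have hfin := isFinite_fst_of_max ha hR D' hmax
  let N : V.left.Opens := ⟨Set.range D'.π, D'.π.isOpenMap.isOpen_range⟩
  refine ⟨N, ?_, ?_, isFinite_restrict_range s.left D'.π hfin N rfl⟩
  · have hwO : w ∈ D.π ⁻¹ᵁ O' := by
      change D.π w ∈ O'
      rw [hw]
      exact hy
    refine ⟨⟨w, hwO⟩, ?_⟩
    have h := D.restrict_π_apply (D.π ⁻¹ᵁ O') ⟨w, hwO⟩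
    rw [h]
    exact hw
  · rintro _ ⟨y', rfl⟩
    exact hmem y'

end

end Groth.Agent.Lib.Helper30.ConstDeg
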