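import Mathlib
import Groth.Agent.Lib.Helper30.DecentSober
import Groth.Agent.Lib.Helper72.GrpdPair
import Groth.Agent.Lib.Helper37.QuotField
import Groth.Agent.Lib.Helper36.OpenImmIso
import Groth.Agent.Lib.Helper23.SLQDesc
import Groth.Agent.Lib.Helper30.AlgSpAtlas
import Groth.Agent.Lib.Helper30.LocPNbhd
import Groth.Agent.Lib.Helper23.AlgSpDiag
import Groth.Agent.S1877
import Groth.Agent.S1878
import Groth.Agent.S7488

set_option autoImplicit false
universe u
open CategoryTheory CategoryTheory.Limits AlgebraicGeometry Opposite TopologicalSpace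

namespace Groth.Agent.Lib.Helper30.QuotRep

open AlgSp Groth.Agent.Lib.Helper37.AlgSpPoints Groth.Agent.Lib.Helper37.AlgSpFibres
  Groth.Agent.Lib.Helper30.DecentSober Groth.Agent.Lib.Helper5.SheafQuot
  Groth.Agent.Lib.Helper5.FppfRep Groth.Agent.Lib.Helper36.OpenSubspace

variable {S : Scheme.{u}}

/-- An fppf cover gives an epimorphism of representable sheaves. -/
theorem epi_yon_map_of_fppf {A B : Over S} (c : A ⟶ B) [Flat c.left] [Surjective c.left]
    [LocallyOfFinitePresentation c.left] : Epi ((yon S).map c) := by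
  refine epi_of_fppf_local_lift _ fun Z z => ?_
  obtain ⟨ζ, rfl⟩ := (yon S).map_surjective z
  let Z' : Over S := Over.mk (pullback.fst ζ.left c.left ≫ Z.hom)
  let c' : Z' ⟶ Z := Over.homMk (pullback.fst ζ.left c.left) rfl
  let l : Z' ⟶ A := Over.homMk (pullback.snd ζ.left c.left) (by
    change pullback.snd ζ.left c.left ≫ A.hom = pullback.fst ζ.left c.left ≫ Z.hom
    rw [← Over.w c, ← Category.assoc, ← pullback.condition, Category.assoc, Over.w ζ])
  refine ⟨Z', c', inferInstanceAs (Flat (pullback.fst ζ.left c.left)),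
    inferInstanceAs (Surjective (pullback.fst ζ.left c.left)),
    inferInstanceAs (LocallyOfFinitePresentation (pullback.fst ζ.left c.left)),
    (yon S).map l, ?_⟩
  rw [← Functor.map_comp, ← Functor.map_comp]
  congr 1
  ext
  exact pullback.condition.symm

section Gpd

variable {F : Sp S} {V R : Over S} {a : (yon S).obj V ⟶ F} {s t : R ⟶ V}

theorem exists_id (hR : IsPullback ((yon S).map s) ((yon S).map t) a a) :
    ∃ e : V.left ⟶ R.left, e ≫ s.left = 𝟙 _ ∧ e ≫ t.left = 𝟙 _ := by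
  obtain ⟨E, hE⟩ := (yon S).map_surjective (hR.lift ((yon S).map (𝟙 V)) ((yon S).map (𝟙 V)) rfl)
  refine ⟨E.left, ?_, ?_⟩
  · have : E ≫ s = 𝟙 V := by
      apply (yon S).map_injective
      rw [Functor.map_comp, hE, hR.lift_fst]
    exact congrArg (fun k => k.left) this
  · have : E ≫ t = 𝟙 V := by
      apply (yon S).map_injective
      rw [Functor.map_comp, hE, hR.lift_snd]
    exact congrArg (fun k => k.left) this

theorem exists_inv (hR : IsPullback ((yon S).map s) ((yon S).map t) a a) :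
    ∃ i : R.left ⟶ R.left, i ≫ s.left = t.left ∧ i ≫ t.left = s.left := by
  obtain ⟨E, hE⟩ := (yon S).map_surjective (hR.lift ((yon S).map t) ((yon S).map s) hR.w.symm)
  refine ⟨E.left, ?_, ?_⟩
  · have : E ≫ s = t := by
      apply (yon S).map_injective
      rw [Functor.map_comp, hE, hR.lift_fst]
    exact congrArg (fun k => k.left) this
  · have : E ≫ t = s := by
      apply (yon S).map_injective
      rw [Functor.map_comp, hE, hR.lift_snd]
    exact congrArg (fun k => k.left) this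


open Groth.Agent.Lib.Helper72.GrpdPts in
set_option backward.isDefEq.respectTransparency false in
/-- The quotient of the restriction of the groupoid `(V, R)` to a saturated affine open `V₁` over which `s` is
finite. -/
theorem exists_quotient (ha : RepWith @Etale a)
    (hR : IsPullback ((yon S).map s) ((yon S).map t) a a) (V₁ : V.left.Opens)
    (hV₁ : IsAffineOpen V₁)
    (hsat : ∀ r : ↥R.left, s.left r ∈ V₁ ↔ t.left r ∈ V₁) (hfin : IsFinite (s.left ∣_ V₁)) :
    ∃ (Q : Scheme.{u}) (m : Q ⟶ S) (q : V₁.toScheme ⟶ Q)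
      (t₁ : (s.left ⁻¹ᵁ V₁).toScheme ⟶ V₁.toScheme),
      q ≫ m = V₁.ι ≫ V.hom ∧ t₁ ≫ V₁.ι = (s.left ⁻¹ᵁ V₁).ι ≫ t.left ∧
      Flat q ∧ Surjective q ∧ LocallyOfFinitePresentation q ∧
      IsPullback t₁ (s.left ∣_ V₁) q q := by
  let RO : R.left.Opens := s.left ⁻¹ᵁ V₁
  let s₁ : RO.toScheme ⟶ V₁.toScheme := s.left ∣_ V₁
  have hs₁ : s₁ ≫ V₁.ι = RO.ι ≫ s.left := morphismRestrict_ι _ _
  have hrange : Set.range (RO.ι ≫ t.left) ⊆ Set.range V₁.ι := by
    rintro _ ⟨r, rfl⟩
    rw [Scheme.Opens.range_ι, Scheme.Hom.comp_apply]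
    exact (hsat _).1 r.2
  let t₁ : RO.toScheme ⟶ V₁.toScheme := IsOpenImmersion.lift V₁.ι (RO.ι ≫ t.left) hrange
  have ht₁ : t₁ ≫ V₁.ι = RO.ι ≫ t.left := IsOpenImmersion.lift_fac _ _ _
  let pU : V₁.toScheme ⟶ S := V₁.ι ≫ V.hom
  have hext : ∀ {Z : Scheme.{u}} (l l' : Z ⟶ RO.toScheme), l ≫ s₁ = l' ≫ s₁ → l ≫ t₁ = l' ≫ t₁ →
      l = l' := by
    intro Z l l' h1 h2
    rw [← cancel_mono RO.ι]
    apply hom_ext_left hR
    · rw [Category.assoc, Category.assoc, ← hs₁, ← Category.assoc, h1, Category.assoc]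
    · rw [Category.assoc, Category.assoc, ← ht₁, ← Category.assoc, h2, Category.assoc]
  have hlift : ∀ {Z : Scheme.{u}} (l : Z ⟶ R.left), (∀ z, s.left (l z) ∈ V₁) →
      ∃ l₁ : Z ⟶ RO.toScheme, l₁ ≫ RO.ι = l := by
    intro Z l hl
    refine ⟨IsOpenImmersion.lift RO.ι l ?_, IsOpenImmersion.lift_fac _ _ _⟩
    rintro _ ⟨z, rfl⟩
    rw [Scheme.Opens.range_ι]
    exact hl z
  have hlift' : ∀ {Z : Scheme.{u}} (l : Z ⟶ R.left) (p q : Z ⟶ V₁.toScheme),
      l ≫ s.left = q ≫ V₁.ι → l ≫ t.left = p ≫ V₁.ι →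
      ∃ l₁ : Z ⟶ RO.toScheme, l₁ ≫ s₁ = q ∧ l₁ ≫ t₁ = p := by
    intro Z l p q h1 h2
    obtain ⟨l₁, hl₁⟩ := hlift l (fun z => by
      have := congrArg (fun k => k z) h1
      simp only [Scheme.Hom.comp_apply] at this
      rw [this]
      exact (q z).2)
    refine ⟨l₁, ?_, ?_⟩
    · rw [← cancel_mono V₁.ι, Category.assoc, hs₁, ← Category.assoc, hl₁, h1]
    · rw [← cancel_mono V₁.ι, Category.assoc, ht₁, ← Category.assoc, hl₁, h2]
  have hw : t₁ ≫ pU = s₁ ≫ pU := by
    change t₁ ≫ V₁.ι ≫ V.hom = s₁ ≫ V₁.ι ≫ V.hom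
    rw [← Category.assoc, ht₁, ← Category.assoc, hs₁, Category.assoc, Category.assoc, Over.w s,
      Over.w t]
  let G₀ := pair pU
  let ι : RO.toScheme ⟶ G₀.R := pullback.lift t₁ s₁ hw
  have hι1 : ι ≫ pullback.fst pU pU = t₁ := pullback.lift_fst _ _ _
  have hι2 : ι ≫ pullback.snd pU pU = s₁ := pullback.lift_snd _ _ _
  have hιm : Mono ι := by
    constructor
    intro Z l l' h
    apply hext
    · have := congrArg (· ≫ pullback.snd pU pU) h
      simpa only [Category.assoc, hι2] using this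
    · have := congrArg (· ≫ pullback.fst pU pU) h
      simpa only [Category.assoc, hι1] using this
  -- identity
  obtain ⟨e, he1, he2⟩ := exists_id hR
  obtain ⟨e', he's, he't⟩ := hlift' (V₁.ι ≫ e) (𝟙 _) (𝟙 _)
    (by rw [Category.assoc, he1, Category.comp_id, Category.id_comp])
    (by rw [Category.assoc, he2, Category.comp_id, Category.id_comp])
  -- inverse
  obtain ⟨i, hi1, hi2⟩ := exists_inv hR
  obtain ⟨i', hi's, hi't⟩ := hlift' (RO.ι ≫ i) s₁ t₁
    (by rw [Category.assoc, hi1, ht₁]) (by rw [Category.assoc, hi2, hs₁])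
  -- composition
  have hcond : (pullback.snd (ι ≫ G₀.s) (ι ≫ G₀.t) ≫ RO.ι) ≫ t.left =
      (pullback.fst (ι ≫ G₀.s) (ι ≫ G₀.t) ≫ RO.ι) ≫ s.left := by
    have h0 : pullback.fst (ι ≫ G₀.s) (ι ≫ G₀.t) ≫ s₁ = pullback.snd (ι ≫ G₀.s) (ι ≫ G₀.t) ≫ t₁ := by
      have := pullback.condition (f := ι ≫ G₀.s) (g := ι ≫ G₀.t)
      change pullback.fst _ _ ≫ ι ≫ pullback.snd pU pU = pullback.snd _ _ ≫ ι ≫ pullback.fst pU pU
        at this
      rwa [hι1, hι2] at this
    rw [Category.assoc, Category.assoc, ← ht₁, ← hs₁, ← Category.assoc, ← Category.assoc, h0]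
  obtain ⟨c, hc1, hc2⟩ := exists_comp hR _ _ hcond
  obtain ⟨c', hc's, hc't⟩ := hlift' c (pullback.fst (ι ≫ G₀.s) (ι ≫ G₀.t) ≫ t₁)
    (pullback.snd (ι ≫ G₀.s) (ι ≫ G₀.t) ≫ s₁)
    (by rw [hc1, Category.assoc, Category.assoc, hs₁])
    (by rw [hc2, Category.assoc, Category.assoc, ht₁])
  have hE : e' ≫ ι = G₀.e := by
    apply pullback.hom_ext
    · rw [Category.assoc, hι1, he't]
      change _ = pullback.lift (𝟙 _) (𝟙 _) rfl ≫ pullback.fst pU pU
      rw [pullback.lift_fst]
    · rw [Category.assoc, hι2, he's]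
      change _ = pullback.lift (𝟙 _) (𝟙 _) rfl ≫ pullback.snd pU pU
      rw [pullback.lift_snd]
  have hI : i' ≫ ι = ι ≫ G₀.i := by
    apply pullback.hom_ext
    · rw [Category.assoc, hι1, hi't]
      change _ = (ι ≫ pullback.lift (pullback.snd pU pU) (pullback.fst pU pU)
        pullback.condition.symm) ≫ pullback.fst pU pU
      rw [Category.assoc, pullback.lift_fst, hι2]
    · rw [Category.assoc, hι2, hi's]
      change _ = (ι ≫ pullback.lift (pullback.snd pU pU) (pullback.fst pU pU)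
        pullback.condition.symm) ≫ pullback.snd pU pU
      rw [Category.assoc, pullback.lift_snd, hι1]
  have hC : c' ≫ ι = pullback.map (ι ≫ G₀.s) (ι ≫ G₀.t) G₀.s G₀.t ι ι (𝟙 G₀.U) (by simp)
      (by simp) ≫ G₀.c := by
    apply pullback.hom_ext
    · rw [Category.assoc, hι1, hc't]
      change _ = (_ ≫ pullback.lift (pullback.fst _ _ ≫ pullback.fst pU pU)
        (pullback.snd _ _ ≫ pullback.snd pU pU) _) ≫ pullback.fst pU pU
      rw [Category.assoc, pullback.lift_fst, pullback.lift_fst_assoc, Category.assoc, hι1]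
    · rw [Category.assoc, hι2, hc's]
      change _ = (_ ≫ pullback.lift (pullback.fst _ _ ≫ pullback.fst pU pU)
        (pullback.snd _ _ ≫ pullback.snd pU pU) _) ≫ pullback.snd pU pU
      rw [Category.assoc, pullback.lift_snd, pullback.lift_snd_assoc, Category.assoc, hι2]
  have hii : i' ≫ i' = 𝟙 _ := by
    apply hext
    · rw [Category.assoc, hi's, hi't, Category.id_comp]
    · rw [Category.assoc, hi't, hi's, Category.id_comp]
  have hiiso : IsIso i' := ⟨i', hii, hii⟩
  let G : Grpd.GroupoidScheme S := restrict G₀ ι e' hE i' hI c' hC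
  have hGs : G.s = s₁ := hι2
  have hGt : G.t = t₁ := hι1
  have : Etale s.left := etale_s ha hR
  have hs₁e : Etale s₁ := inferInstanceAs (Etale (s.left ∣_ V₁))
  have hs₁f : IsFinite s₁ := hfin
  have ht₁' : t₁ = i' ≫ s₁ := hi's.symm
  have ht₁e : Etale t₁ := by rw [ht₁']; infer_instance
  have ht₁f : IsFinite t₁ := by rw [ht₁']; infer_instance
  have : IsAffine G.U := hV₁
  have : IsFinite G.s := by rw [hGs]; exact hs₁f
  have : Flat G.s := by rw [hGs]; infer_instance
  have : LocallyOfFinitePresentation G.s := by rw [hGs]; infer_instance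
  have : IsFinite G.t := by rw [hGt]; exact ht₁f
  have : Flat G.t := by rw [hGt]; infer_instance
  have : LocallyOfFinitePresentation G.t := by rw [hGt]; infer_instance
  have : IsAffine G.R := isAffine_of_isAffineHom G.s
  have : Mono G.j := by
    change Mono (restrict G₀ ι e' hE i' hI c' hC).j
    rw [restrict_j, pair_j]
    exact @mono_comp _ _ _ _ _ ι hιm (𝟙 _) inferInstance
  obtain ⟨⟨hqf, hqflat, hqfp⟩, φ, hφ1, hφ2⟩ := Groth.Agent.S1877.result S G
  obtain ⟨⟨hqsurj, -⟩, -⟩ := Groth.Agent.S1878.result S G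
  obtain ⟨m, ⟨hm, -⟩, -⟩ := Groth.Agent.S7488.result S G
  refine ⟨_, m, G.toQuot, t₁, hm, ht₁, hqflat, ⟨hqsurj⟩, hqfp, ?_⟩
  have hcs : CommSq G.t G.s G.toQuot G.toQuot := ⟨by
    rw [← hφ1, ← hφ2, Category.assoc, Category.assoc, pullback.condition]⟩
  have := IsPullback.of_iso_pullback hcs φ hφ1 hφ2
  rwa [hGs, hGt] at this


theorem mono_yon_map_of_mono_left {A B : Over S} (c : A ⟶ B) [Mono c.left] : Mono ((yon S).map c) := by
  refine mono_of_yon_cancel _ fun Z x y h => ?_
  obtain ⟨α, rfl⟩ := (yon S).map_surjective x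
  obtain ⟨β, rfl⟩ := (yon S).map_surjective y
  rw [← Functor.map_comp, ← Functor.map_comp] at h
  have h1 := (yon S).map_injective h
  have h2 : α.left ≫ c.left = β.left ≫ c.left := congrArg (fun k => k.left) h1
  congr 1
  ext
  exact (cancel_mono c.left).1 h2

theorem isPullback_yon_map' {A B C D : Over S} (a : A ⟶ B) (b : A ⟶ C) (c : B ⟶ D)
    (d : C ⟶ D) (sq : IsPullback a.left b.left c.left d.left) :
    IsPullback ((yon S).map a) ((yon S).map b) ((yon S).map c) ((yon S).map d) :=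
  (IsPullback.of_map (Over.forget S) (Over.OverMorphism.ext sq.w) sq).map (yon S)

theorem isPullback_of_factor_mono' {C : Type*} [Category C] {P X₁ X Y V : C} {fst : P ⟶ X}
    {snd : P ⟶ V} {f : X ⟶ Y} {j : V ⟶ Y} (sq : IsPullback fst snd f j) (ι : X₁ ⟶ X) [Mono ι]
    (k : P ⟶ X₁) (hk : k ≫ ι = fst) : IsPullback k snd (ι ≫ f) j := by
  have w : k ≫ ι ≫ f = snd ≫ j := by rw [← Category.assoc, hk, sq.w]
  refine ⟨⟨w⟩, ⟨PullbackCone.IsLimit.mk _
    (fun s => sq.lift (s.fst ≫ ι) s.snd (by rw [Category.assoc]; exact s.condition))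
    (fun s => by
      rw [← cancel_mono ι, Category.assoc, hk, sq.lift_fst])
    (fun s => sq.lift_snd _ _ _)
    (fun s m h1 h2 => sq.hom_ext (by rw [sq.lift_fst, ← hk, ← Category.assoc, h1])
      (by rw [sq.lift_snd]; exact h2))⟩⟩

open Groth.Agent.Lib.Helper37.QuotField Groth.Agent.Lib.Helper23.AlgSpMor
  Groth.Agent.Lib.Helper30.AlgSpAtlas Groth.Agent.Lib.Helper30.LocPNbhd
  Groth.Agent.Lib.Helper23.SLQ in
/-- The open subspace of `F` which is the image of a saturated affine open `V₁` of an étale chart `V`, over which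
the kernel pair is finite, is a scheme. -/
theorem isRepresentable_openSub_image (ha : RepWith @Etale a)
    (hR : IsPullback ((yon S).map s) ((yon S).map t) a a) (V₁ : V.left.Opens)
    (hV₁ : IsAffineOpen V₁)
    (hsat : ∀ r : ↥R.left, s.left r ∈ V₁ ↔ t.left r ∈ V₁) (hfin : IsFinite (s.left ∣_ V₁)) :
    (openSub F (Points.ofPt a '' (V₁ : Set ↥V.left))).obj.IsRepresentable := by
  obtain ⟨Q, m, q, t₁, hqm, ht₁, hq1, hq2, hq3, sq⟩ := exists_quotient ha hR V₁ hV₁ hsat hfin
  let RO : R.left.Opens := s.left ⁻¹ᵁ V₁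
  let s₁ : RO.toScheme ⟶ V₁.toScheme := s.left ∣_ V₁
  have hs₁ : s₁ ≫ V₁.ι = RO.ι ≫ s.left := morphismRestrict_ι _ _
  let Q' : Over S := Over.mk m
  let U' : Over S := Over.mk (V₁.ι ≫ V.hom)
  let R' : Over S := Over.mk (RO.ι ≫ R.hom)
  let q' : U' ⟶ Q' := Over.homMk q hqm
  let ιU : U' ⟶ V := Over.homMk V₁.ι rfl
  let ιR : R' ⟶ R := Over.homMk RO.ι rfl
  let s' : R' ⟶ U' := Over.homMk s₁ (by
    change s₁ ≫ V₁.ι ≫ V.hom = RO.ι ≫ R.hom
    rw [← Category.assoc, hs₁, Category.assoc, Over.w s])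
  let t' : R' ⟶ U' := Over.homMk t₁ (by
    change t₁ ≫ V₁.ι ≫ V.hom = RO.ι ≫ R.hom
    rw [← Category.assoc, ht₁, Category.assoc, Over.w t])
  have hs'ι : s' ≫ ιU = ιR ≫ s := by
    ext
    exact hs₁
  have ht'ι : t' ≫ ιU = ιR ≫ t := by
    ext
    exact ht₁
  have sqQ : IsPullback ((yon S).map t') ((yon S).map s') ((yon S).map q') ((yon S).map q') :=
    isPullback_yon_map' t' s' q' q' sq
  -- the chart of the open subspace
  let W₁ : Set (Points F) := Points.ofPt a '' (V₁ : Set ↥V.left)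
  obtain ⟨a₁, ha₁⟩ := exists_lift_openSub F W₁ (g := (yon S).map ιU ≫ a) (fun u => by
    rw [ofPt_map_comp]
    exact ⟨_, u.2, rfl⟩)
  -- kernel pair of a₁
  have sq1 : IsPullback ((yon S).map ιR) ((yon S).map s') ((yon S).map s) ((yon S).map ιU) :=
    isPullback_yon_map' ιR s' s ιU (isPullback_morphismRestrict s.left V₁).flip
  have sq2 := sq1.paste_horiz hR.flip
  have : Mono ιU.left := inferInstanceAs (Mono V₁.ι)
  have := mono_yon_map_of_mono_left ιU
  have sq3 : IsPullback ((yon S).map t') ((yon S).map s') ((yon S).map ιU ≫ a)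
      ((yon S).map ιU ≫ a) :=
    isPullback_of_factor_mono' sq2 ((yon S).map ιU) ((yon S).map t') (by
      rw [← Functor.map_comp, ← Functor.map_comp, ht'ι])
  have sqA : IsPullback ((yon S).map t') ((yon S).map s') a₁ a₁ := by
    rw [← ha₁] at sq3
    exact isPullback_of_comp_mono (openSubι F W₁) sq3
  -- a₁ is an epimorphism
  have hopen : IsOpen W₁ := isOpenMap_ofPt a ha _ V₁.2
  have hét : RepWith @Etale a₁ := by
    apply repWith_of_comp_mono @Etale a₁ (openSubι F W₁)
    rw [ha₁]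
    exact repWith_etale_restrict a ha V₁
  have hsurj : Function.Surjective (Points.ofPt a₁) := by
    intro x
    have hx : Points.map (openSubι F W₁) x ∈ W₁ := (range_map_openSubι F W₁).subset ⟨x, rfl⟩
    obtain ⟨v₁, hv₁, hv₁x⟩ := hx
    let u : ↥U'.left := ⟨v₁, hv₁⟩
    refine ⟨u, ?_⟩
    apply points_map_injective_of_mono (openSubι F W₁)
    have h1 : Points.map (openSubι F W₁) (Points.ofPt a₁ u) =
        Points.ofPt (a₁ ≫ openSubι F W₁) u := Points.map_ofPt _ _ _
    rw [h1, ha₁, ofPt_map_comp, ← hv₁x]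
    rfl
  have hepi₁ : Epi a₁ := epi_of_atlas a₁ hét
    (repWith_surjective_of_ofPt_surjective a₁ hét.rep hsurj)
  have hepi₂ : Epi ((yon S).map q') := by
    have : Flat q'.left := hq1
    have : Surjective q'.left := hq2
    have : LocallyOfFinitePresentation q'.left := hq3
    exact epi_yon_map_of_fppf q'
  have := effectiveEpi_of_epi a₁
  have := effectiveEpi_of_epi ((yon S).map q')
  obtain ⟨e, -⟩ := exists_iso_of_same_kernelPair ((yon S).map q') a₁ _ _ sqQ sqA
  exact isRepresentable_of_iso e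

end Gpd

end Groth.Agent.Lib.Helper30.QuotRep
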