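import Mathlib
import Groth.Agent.Lib.Helper30.ConstDeg
import Groth.Agent.Lib.Helper30.QuotRep
import Groth.Agent.Lib.Helper23.SLQGlue
import Groth.Agent.Lib.Helper23.SLQInd

/-!
# Decent algebraic spaces have a dense open subscheme (helper30)
-/

set_option autoImplicit false
universe u
open CategoryTheory CategoryTheory.Limits AlgebraicGeometry Opposite TopologicalSpace

namespace Groth.Agent.Lib.Helper30.DecentOpenScheme

open AlgSp Groth.Agent.Lib.Helper37.AlgSpPoints Groth.Agent.Lib.Helper37.AlgSpFibres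
  Groth.Agent.Lib.Helper30.DecentSober Groth.Agent.Lib.Helper30.InvAffine
  Groth.Agent.Lib.Helper30.ConstDeg Groth.Agent.Lib.Helper30.QuotRep
  Groth.Agent.Lib.Helper36.OpenSubspace Groth.Agent.Lib.Helper30.AffFin

variable {S : Scheme.{u}}

section

variable {F : Sp S} {V R : Over S} {a : (yon S).obj V ⟶ F} {s t : R ⟶ V}

theorem ofPt_s_eq_ofPt_t (hR : IsPullback ((yon S).map s) ((yon S).map t) a a) (r : ↥R.left) :
    Points.ofPt a (s.left r) = Points.ofPt a (t.left r) :=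
  (ofPt_eq_ofPt_iff hR _ _).2 ⟨r, rfl, rfl⟩

/-- **Part A**: a nonempty saturated open of constant degree inside a given open. -/
theorem exists_constDeg_open (hF : IsDecent F) [IsAffine V.left] (ha : RepWith @Etale a)
    (hR : IsPullback ((yon S).map s) ((yon S).map t) a a) (Ω : Set (Points F)) (hΩ : IsOpen Ω)
    (hne : (Ω ∩ Set.range (Points.ofPt a)).Nonempty) :
    ∃ (d : ℕ) (O' : V.left.Opens), (O' : Set ↥V.left).Nonempty ∧
      (∀ y ∈ O', Points.ofPt a y ∈ Ω) ∧ (∀ y ∈ O', y ∈ Vd s d) ∧ (∀ y ∈ O', y ∉ Vd s (d + 1)) ∧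
      ∀ y y', Points.ofPt a y = Points.ofPt a y' → y ∈ O' → y' ∈ O' := by
  have hcont := Points.continuous_ofPt a
  have hopen := isOpenMap_ofPt a ha
  obtain ⟨_, hx₀Ω, x₀, rfl⟩ := hne
  have hO : IsOpen (Points.ofPt a ⁻¹' Ω) := hΩ.preimage hcont
  obtain ⟨_, ⟨_, ⟨f, rfl⟩, rfl⟩, hx₀f, hfO⟩ :=
    (isBasis_basicOpen V.left).exists_subset_of_mem_open (show x₀ ∈ Points.ofPt a ⁻¹' Ω from hx₀Ω) hO
  have hVf : IsAffine (V.left.basicOpen f).toScheme := (isAffineOpen_top V.left).basicOpen f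
  let U : ℕ → Set ↥V.left := fun n => Vd s n ∪ (closure (Vd s n))ᶜ
  have hUo : ∀ n, IsOpen (U n) := fun n => (isOpen_Vd s n).union isClosed_closure.isOpen_compl
  have hUd : ∀ n (G : Set ↥V.left), IsOpen G → G.Nonempty → (G ∩ U n).Nonempty := by
    intro n G hG hGne
    by_cases h : (G ∩ Vd s n).Nonempty
    · obtain ⟨y, hyG, hyV⟩ := h
      exact ⟨y, hyG, Or.inl hyV⟩
    · obtain ⟨y, hy⟩ := hGne
      refine ⟨y, hy, Or.inr fun hcl => h ?_⟩
      exact mem_closure_iff.1 hcl G hG hy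
  obtain ⟨p, -, hp⟩ := exists_mem_iInter_affine (V := (V.left.basicOpen f).toScheme) Set.univ
    isClosed_univ (fun n => (V.left.basicOpen f).ι ⁻¹' U n)
    (fun n => (hUo n).preimage (V.left.basicOpen f).ι.continuous)
    (fun G hG hGne n => by
      rw [Set.univ_inter] at hGne ⊢
      obtain ⟨_, ⟨y, hyG, rfl⟩, hyU⟩ := hUd n ((V.left.basicOpen f).ι '' G)
        ((V.left.basicOpen f).ι.isOpenEmbedding.isOpenMap _ hG) (hGne.image _)
      exact ⟨y, hyG, hyU⟩) ⟨⟨x₀, hx₀f⟩, trivial⟩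
  let x : ↥V.left := (V.left.basicOpen f).ι p
  have hxO : x ∈ Points.ofPt a ⁻¹' Ω := hfO p.2
  have hxU : ∀ n, x ∈ U n := hp
  obtain ⟨p₀, hp₀, hm, hq⟩ := hF (Points.ofPt a x)
  obtain ⟨N, hN⟩ := exists_bound_Vd ha hR p₀ hm hq
  obtain ⟨d, hd1, hd2⟩ : ∃ d, x ∈ Vd s d ∧ x ∉ Vd s (d + 1) := by
    by_contra hcon
    push Not at hcon
    have hall : ∀ d, x ∈ Vd s d := by
      intro d
      induction d with
      | zero =>
        rw [Vd_zero]
        trivial
      | succ d ih => exact hcon d ih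
    have := hN x hp₀.symm (N + 1) (hall (N + 1))
    omega
  have hxcl : x ∈ (closure (Vd s (d + 1)))ᶜ := (hxU (d + 1)).resolve_left hd2
  let G : Set ↥V.left := (Points.ofPt a ⁻¹' Ω ∩ Vd s d) ∩ (closure (Vd s (d + 1)))ᶜ
  have hG : IsOpen G := (hO.inter (isOpen_Vd s d)).inter isClosed_closure.isOpen_compl
  have hxG : x ∈ G := ⟨⟨hxO, hd1⟩, hxcl⟩
  let O' : V.left.Opens := ⟨Points.ofPt a ⁻¹' (Points.ofPt a '' G), (hopen _ hG).preimage hcont⟩
  refine ⟨d, O', ⟨x, x, hxG, rfl⟩, ?_, ?_, ?_, ?_⟩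
  · rintro y ⟨g, hg, hgy⟩
    rw [← hgy]
    exact hg.1.1
  · rintro y ⟨g, hg, hgy⟩
    exact Vd_saturated ha hR d hg.1.2 hgy.symm
  · rintro y ⟨g, hg, hgy⟩ hy
    exact hg.2 (subset_closure (Vd_saturated ha hR (d + 1) hy hgy))
  · rintro y y' hyy' ⟨g, hg, hgy⟩
    exact ⟨g, hg, hgy.trans hyy'⟩

/-- **Part C'**: invariant affine open neighbourhoods in a saturated open over which `s` is finite. -/
theorem exists_invariant_affine_nbhd [IsAffine V.left] (ha : RepWith @Etale a)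
    (hR : IsPullback ((yon S).map s) ((yon S).map t) a a) (O' : V.left.Opens)
    (hfin : IsFinite (s.left ∣_ O')) (v : ↥V.left) (hv : v ∈ O')
    (hsat : ∀ y y', Points.ofPt a y = Points.ofPt a y' → y ∈ O' → y' ∈ O') :
    ∃ V₁ : V.left.Opens, IsAffineOpen V₁ ∧ v ∈ V₁ ∧ V₁ ≤ O' ∧
      ∀ y y', Points.ofPt a y = Points.ofPt a y' → y ∈ V₁ → y' ∈ V₁ := by
  classical
  have := etale_s ha hR
  -- the orbit of `v` is finite
  have hfib : (s.left ⁻¹' {v}).Finite := by
    have h1 := Scheme.Hom.finite_preimage_singleton (s.left ∣_ O') ⟨v, hv⟩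
    refine (h1.image (s.left ⁻¹ᵁ O').ι).subset ?_
    intro r hr
    have hrO : r ∈ s.left ⁻¹ᵁ O' := by
      change s.left r ∈ O'
      rw [hr]
      exact hv
    let r₀ : ↥(s.left ⁻¹ᵁ O').toScheme := ⟨r, hrO⟩
    refine ⟨r₀, ?_, rfl⟩
    apply O'.ι.injective
    have e : O'.ι ((s.left ∣_ O') r₀) = s.left ((s.left ⁻¹ᵁ O').ι r₀) := by
      rw [← Scheme.Hom.comp_apply, morphismRestrict_ι, Scheme.Hom.comp_apply]
    rw [e]
    exact hr
  have horb : {y | Points.ofPt a y = Points.ofPt a v}.Finite := by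
    refine (hfib.image t.left).subset ?_
    intro y hy
    obtain ⟨r, hr1, hr2⟩ := (ofPt_eq_ofPt_iff hR v y).1 hy.symm
    exact ⟨r, hr1, hr2⟩
  obtain ⟨a_, ha1, ha2⟩ := exists_basicOpen (A := V.left) (O' : Set ↥V.left)ᶜ O'.2.isClosed_compl
    horb.toFinset (fun y hy hyc => by
      rw [Set.Finite.mem_toFinset] at hy
      exact hyc (hsat v y hy.symm hv))
  have hWO : V.left.basicOpen a_ ≤ O' := fun y hy => by
    by_contra hyO
    exact ha2 y hyO hy
  have hfinW : IsFinite (s.left ∣_ V.left.basicOpen a_) := isFinite_restrict_of_le s.left hWO hfin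
  obtain ⟨V₁, hV₁a, hV₁⟩ := exists_invariant_affine s.left t.left a_ hfinW
  have horbW : ∀ y, Points.ofPt a y = Points.ofPt a v → y ∈ V.left.basicOpen a_ := fun y hy =>
    ha1 y (by rw [Set.Finite.mem_toFinset]; exact hy)
  refine ⟨V₁, hV₁a, ?_, fun u hu => hWO ((hV₁ u).1 hu).1, ?_⟩
  · refine (hV₁ v).2 ⟨horbW v rfl, fun r hr => horbW _ ?_⟩
    rw [← ofPt_s_eq_ofPt_t hR r, hr]
  · intro y y' hyy' hy
    obtain ⟨hyW, hyall⟩ := (hV₁ y).1 hy
    obtain ⟨r, hr1, hr2⟩ := (ofPt_eq_ofPt_iff hR y y').1 hyy'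
    refine (hV₁ y').2 ⟨hr2 ▸ hyall r hr1, fun r' hr' => ?_⟩
    have h1 : Points.ofPt a y = Points.ofPt a (t.left r') := by
      rw [hyy', ← hr', ofPt_s_eq_ofPt_t hR r']
    obtain ⟨r'', hr''1, hr''2⟩ := (ofPt_eq_ofPt_iff hR y (t.left r')).1 h1
    exact hr''2 ▸ hyall r'' hr''1

/-- Every nonempty open set of points meeting the image of an affine étale chart of a decent space contains a
nonempty open which is a scheme. -/
theorem exists_rep_open_of_chart (hF : IsDecent F) [IsAffine V.left] (ha : RepWith @Etale a)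
    (hR : IsPullback ((yon S).map s) ((yon S).map t) a a) (Ω : Set (Points F)) (hΩ : IsOpen Ω)
    (hne : (Ω ∩ Set.range (Points.ofPt a)).Nonempty) :
    ∃ W : Set (Points F), W ⊆ Ω ∧ IsOpen W ∧ W.Nonempty ∧ (openSub F W).obj.IsRepresentable := by
  obtain ⟨d, O', ⟨v, hv⟩, hO'Ω, hO'1, hO'2, hO'sat⟩ := exists_constDeg_open hF ha hR Ω hΩ hne
  have hfin := isFinite_restrict_constDeg ha hR d O' hO'1 hO'2
  obtain ⟨V₁, hV₁a, hvV₁, hV₁O, hV₁sat⟩ := exists_invariant_affine_nbhd ha hR O' hfin v hv hO'sat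
  have hfin₁ : IsFinite (s.left ∣_ V₁) := isFinite_restrict_of_le s.left hV₁O hfin
  have hsat : ∀ r : ↥R.left, s.left r ∈ V₁ ↔ t.left r ∈ V₁ := fun r =>
    ⟨hV₁sat _ _ (ofPt_s_eq_ofPt_t hR r), hV₁sat _ _ (ofPt_s_eq_ofPt_t hR r).symm⟩
  refine ⟨Points.ofPt a '' (V₁ : Set ↥V.left), ?_, isOpenMap_ofPt a ha _ V₁.2, ⟨_, v, hvV₁, rfl⟩,
    isRepresentable_openSub_image ha hR V₁ hV₁a hsat hfin₁⟩
  rintro _ ⟨y, hy, rfl⟩
  exact hO'Ω y (hV₁O hy)

end


open Groth.Agent.Lib.Helper37.QsSober in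
/-- Every nonempty open of a decent space contains a nonempty open subscheme. -/
theorem exists_rep_open (X : Space S) (hX : IsDecent X.obj) (Ω : Set (Points X.obj))
    (hΩ : IsOpen Ω) (hne : Ω.Nonempty) :
    ∃ W : Set (Points X.obj), W ⊆ Ω ∧ IsOpen W ∧ W.Nonempty ∧
      (openSub X.obj W).obj.IsRepresentable := by
  obtain ⟨x, hx⟩ := hne
  obtain ⟨V, a, v, hV, ha, rfl⟩ := exists_affine_chart X x
  have hrep : Representable a := X.property.representable_from_yon _
  exact exists_rep_open_of_chart hX ha (hrep.isPullback' a) Ω hΩ ⟨_, hx, v, rfl⟩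

/-- The schematic locus: the union of all open sets of points whose open subspace is a scheme. -/
def schematicLocus (X : Sp S) : Set (Points X) :=
  ⋃₀ {W | IsOpen W ∧ (openSub X W).obj.IsRepresentable}

theorem isOpen_schematicLocus (X : Sp S) : IsOpen (schematicLocus X) :=
  isOpen_sUnion fun _ hW => hW.1

open Groth.Agent.Lib.Helper23.SLQ Groth.Agent.Lib.Helper23.SLQGlue in
/-- The schematic locus of an algebraic space is a scheme. -/
theorem isRepresentable_schematicLocus (X : Space S) :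
    (openSub X.obj (schematicLocus X.obj)).obj.IsRepresentable := by
  obtain ⟨U, p, hpe, hps⟩ := X.property.atlas
  have hWt := isOpen_schematicLocus X.obj
  have hj := repWith_isOpenImmersion_openSubι X.obj (schematicLocus X.obj) hWt
  have hch : ∀ i : {u : ↥U.left // Points.ofPt p u ∈ schematicLocus X.obj},
      ∃ W : Set (Points X.obj), (IsOpen W ∧ (openSub X.obj W).obj.IsRepresentable) ∧
        Points.ofPt p i.1 ∈ W := fun i => by
    obtain ⟨W, hW, hiW⟩ := i.2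
    exact ⟨W, hW, hiW⟩
  choose W hW hiW using hch
  refine isRepresentable_of_local
    (fun i => Points.map (openSubι X.obj (schematicLocus X.obj)) ⁻¹' W i)
    (fun i => (hW i).1.preimage (Points.continuous_map _))
    (fun i => isRepresentable_preimage _ hj.rep (W i) (hW i).1 (hW i).2) ?_
  intro x
  have hx : Points.map (openSubι X.obj (schematicLocus X.obj)) x ∈ schematicLocus X.obj :=
    (range_map_openSubι X.obj _).subset ⟨x, rfl⟩
  obtain ⟨u, hu⟩ := ofPt_surjective p hps (Points.map (openSubι X.obj (schematicLocus X.obj)) x)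
  have hu' : Points.ofPt p u ∈ schematicLocus X.obj := hu ▸ hx
  refine ⟨⟨u, hu'⟩, ?_⟩
  have h1 := hiW ⟨u, hu'⟩
  change Points.map (openSubι X.obj (schematicLocus X.obj)) x ∈ W ⟨u, hu'⟩
  exact hu ▸ h1

/-- The schematic locus of a decent space is dense. -/
theorem dense_schematicLocus (X : Space S) (hX : IsDecent X.obj) :
    Dense (schematicLocus X.obj) := by
  rw [dense_iff_inter_open]
  intro Ω hΩ hne
  obtain ⟨W, hWΩ, hW, ⟨w, hw⟩, hrep⟩ := exists_rep_open X hX Ω hΩ hne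
  exact ⟨w, hWΩ hw, W, ⟨hW, hrep⟩, hw⟩

end Groth.Agent.Lib.Helper30.DecentOpenScheme
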