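import Mathlib
import Groth.Agent.Lib.Helper30.DecentOpenScheme

/-!
# Schematic locus via charts with bounded degree (helper30)
-/

set_option autoImplicit false
universe u
open CategoryTheory CategoryTheory.Limits AlgebraicGeometry Opposite TopologicalSpace

namespace Groth.Agent.Lib.Helper30.SchemLoc2

open AlgSp Groth.Agent.Lib.Helper37.AlgSpPoints Groth.Agent.Lib.Helper37.AlgSpFibres
  Groth.Agent.Lib.Helper30.DecentSober Groth.Agent.Lib.Helper30.InvAffine
  Groth.Agent.Lib.Helper30.ConstDeg Groth.Agent.Lib.Helper30.QuotRep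
  Groth.Agent.Lib.Helper36.OpenSubspace Groth.Agent.Lib.Helper30.AffFin
  Groth.Agent.Lib.Helper30.DecentOpenScheme

variable {S : Scheme.{u}}

section

variable {F : Sp S} {V R : Over S} {a : (yon S).obj V ⟶ F} {s t : R ⟶ V}

open IsLocalRing Groth.Agent.Lib.Helper37.UbfCover Groth.Agent.Lib.Helper37.UnivBdd in
/-- If the kernel pair embeds (over `V`) in a quasi-compact étale `V`-scheme, the degrees are uniformly bounded. -/
theorem exists_bound_Vd_of_mono {P : Scheme.{u}} (s' : P ⟶ V.left) [Etale s'] [CompactSpace ↥P]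
    (m : R.left ⟶ P) [Mono m] (hm : m ≫ s' = s.left) :
    ∃ N : ℕ, ∀ (y : ↥V.left) (d : ℕ), y ∈ Vd s d → d ≤ N := by
  obtain ⟨N, hN⟩ := exists_bound_of_etale s'
  refine ⟨N, ?_⟩
  rintro y d ⟨ι, hι, D, rfl, w, rfl⟩
  let K := D.Y.residueField w
  let z : Spec (CommRingCat.of K) ⟶ D.Y := D.Y.fromSpecResidueField w
  let c : Spec (CommRingCat.of K) ⟶ V.left := z ≫ D.π
  obtain ⟨hfinite, hrank⟩ := hN K c (pullback c s') (pullback.fst _ _) (pullback.snd _ _)
    (IsPullback.of_hasPullback _ _)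
  have hσw : ∀ i, 𝟙 _ ≫ c = (z ≫ D.ρ i ≫ m) ≫ s' := fun i => by
    rw [Category.id_comp, Category.assoc, Category.assoc, hm, D.hρ]
  let σ : ι → (Spec (CommRingCat.of K) ⟶ pullback c s') := fun i =>
    pullback.lift (𝟙 _) (z ≫ D.ρ i ≫ m) (hσw i)
  have hσ : ∀ i, σ i ≫ pullback.fst _ _ = 𝟙 _ := fun i => pullback.lift_fst _ _ _
  have hinj : Function.Injective (fun i => σ i (closedPoint K)) := by
    intro i j hij
    by_contra hne
    have h1 : σ i = σ j := section_ext _ _ _ (hσ i) (hσ j) hij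
    have h2 : z ≫ D.ρ i ≫ m = z ≫ D.ρ j ≫ m := by
      have := congrArg (fun k => k ≫ pullback.snd _ _) h1
      simpa only [σ, pullback.lift_snd] using this
    have h4 : z ≫ D.ρ i = z ≫ D.ρ j := by
      rw [← cancel_mono m]
      simpa only [Category.assoc] using h2
    exact (D.disj i j hne _ z h4).false (closedPoint K)
  have hcard := card_le_finrank_of_isFinite (pullback.fst c s') (closedPoint K)
  have haff : IsAffine (pullback c s') := isAffine_of_isAffineHom (pullback.fst c s')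
  have hFin : Finite ↥(pullback c s') := finite_of_etale_over_field K (pullback.fst c s')
  calc Fintype.card ι = Nat.card ι := (Nat.card_eq_fintype_card).symm
    _ ≤ Nat.card ↥(pullback c s') := Nat.card_le_card_of_injective _ hinj
    _ ≤ N := hcard.trans (hrank _)

/-- A point of degree exactly `d` with a neighbourhood missing the locus of degree `> d` has a scheme
neighbourhood. -/
theorem exists_rep_nbhd_of_chart [IsAffine V.left] (ha : RepWith @Etale a)
    (hR : IsPullback ((yon S).map s) ((yon S).map t) a a) (v : ↥V.left) (d : ℕ)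
    (hv : v ∈ Vd s d) (G : Set ↥V.left) (hG : IsOpen G) (hvG : v ∈ G)
    (hGd : ∀ y ∈ G, y ∉ Vd s (d + 1)) :
    ∃ W : Set (Points F), Points.ofPt a v ∈ W ∧ W ⊆ Points.ofPt a '' G ∧ IsOpen W ∧
      (openSub F W).obj.IsRepresentable := by
  have hcont := Points.continuous_ofPt a
  have hopen := isOpenMap_ofPt a ha
  let G' : Set ↥V.left := G ∩ Vd s d
  have hG' : IsOpen G' := hG.inter (isOpen_Vd s d)
  let O' : V.left.Opens := ⟨Points.ofPt a ⁻¹' (Points.ofPt a '' G'), (hopen _ hG').preimage hcont⟩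
  have hvO' : v ∈ O' := ⟨v, ⟨hvG, hv⟩, rfl⟩
  have hO'1 : ∀ y ∈ O', y ∈ Vd s d := by
    rintro y ⟨g, hg, hgy⟩
    exact Vd_saturated ha hR d hg.2 hgy.symm
  have hO'2 : ∀ y ∈ O', y ∉ Vd s (d + 1) := by
    rintro y ⟨g, hg, hgy⟩ hy
    exact hGd g hg.1 (Vd_saturated ha hR (d + 1) hy hgy)
  have hO'sat : ∀ y y', Points.ofPt a y = Points.ofPt a y' → y ∈ O' → y' ∈ O' := by
    rintro y y' hyy' ⟨g, hg, hgy⟩
    exact ⟨g, hg, hgy.trans hyy'⟩
  have hfin := isFinite_restrict_constDeg ha hR d O' hO'1 hO'2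
  obtain ⟨V₁, hV₁a, hvV₁, hV₁O, hV₁sat⟩ := exists_invariant_affine_nbhd ha hR O' hfin v hvO' hO'sat
  have hfin₁ : IsFinite (s.left ∣_ V₁) := isFinite_restrict_of_le s.left hV₁O hfin
  have hsat : ∀ r : ↥R.left, s.left r ∈ V₁ ↔ t.left r ∈ V₁ := fun r =>
    ⟨hV₁sat _ _ (ofPt_s_eq_ofPt_t hR r), hV₁sat _ _ (ofPt_s_eq_ofPt_t hR r).symm⟩
  refine ⟨Points.ofPt a '' (V₁ : Set ↥V.left), ⟨v, hvV₁, rfl⟩, ?_, isOpenMap_ofPt a ha _ V₁.2,
    isRepresentable_openSub_image ha hR V₁ hV₁a hsat hfin₁⟩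
  rintro _ ⟨y, hy, rfl⟩
  obtain ⟨g, hg, hgy⟩ := hV₁O hy
  exact ⟨g, hg.1, hgy⟩

/-- Version of `exists_rep_open_of_chart` with a pointwise bound on degrees instead of decency. -/
theorem exists_rep_open_of_chart' [IsAffine V.left] (ha : RepWith @Etale a)
    (hR : IsPullback ((yon S).map s) ((yon S).map t) a a)
    (hbound : ∀ x : ↥V.left, ∃ N : ℕ, ∀ d, x ∈ Vd s d → d ≤ N)
    (Ω : Set (Points F)) (hΩ : IsOpen Ω)
    (hne : (Ω ∩ Set.range (Points.ofPt a)).Nonempty) :
    ∃ W : Set (Points F), W ⊆ Ω ∧ IsOpen W ∧ W.Nonempty ∧ (openSub F W).obj.IsRepresentable := by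
  have hcont := Points.continuous_ofPt a
  obtain ⟨_, hx₀Ω, x₀, rfl⟩ := hne
  have hO : IsOpen (Points.ofPt a ⁻¹' Ω) := hΩ.preimage hcont
  obtain ⟨_, ⟨_, ⟨f, rfl⟩, rfl⟩, hx₀f, hfO⟩ :=
    (isBasis_basicOpen V.left).exists_subset_of_mem_open (show x₀ ∈ Points.ofPt a ⁻¹' Ω from hx₀Ω) hO
  have hVf : IsAffine (V.left.basicOpen f).toScheme := (isAffineOpen_top V.left).basicOpen f
  let U : ℕ → Set ↥V.left := fun n => Vd s n ∪ (closure (Vd s n))ᶜ
  have hUo : ∀ n, IsOpen (U n) := fun n => (isOpen_Vd s n).union isClosed_closure.isOpen_compl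
  have hUd : ∀ n (G : Set ↥V.left), IsOpen G → G.Nonempty → (G ∩ U n).Nonempty := by
    intro n G hG hGne
    by_cases h : (G ∩ Vd s n).Nonempty
    · obtain ⟨y, hyG, hyV⟩ := h
      exact ⟨y, hyG, Or.inl hyV⟩
    · obtain ⟨y, hy⟩ := hGne
      refine ⟨y, hy, Or.inr fun hcl => h ?_⟩
      exact mem_closure_iff.1 hcl G hG hy
  obtain ⟨p, -, hp⟩ := exists_mem_iInter_affine (V := (V.left.basicOpen f).toScheme) Set.univ
    isClosed_univ (fun n => (V.left.basicOpen f).ι ⁻¹' U n)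
    (fun n => (hUo n).preimage (V.left.basicOpen f).ι.continuous)
    (fun G hG hGne n => by
      rw [Set.univ_inter] at hGne ⊢
      obtain ⟨_, ⟨y, hyG, rfl⟩, hyU⟩ := hUd n ((V.left.basicOpen f).ι '' G)
        ((V.left.basicOpen f).ι.isOpenEmbedding.isOpenMap _ hG) (hGne.image _)
      exact ⟨y, hyG, hyU⟩) ⟨⟨x₀, hx₀f⟩, trivial⟩
  let x : ↥V.left := (V.left.basicOpen f).ι p
  have hxO : x ∈ Points.ofPt a ⁻¹' Ω := hfO p.2
  have hxU : ∀ n, x ∈ U n := hp
  obtain ⟨N, hN⟩ := hbound x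
  obtain ⟨d, hd1, hd2⟩ : ∃ d, x ∈ Vd s d ∧ x ∉ Vd s (d + 1) := by
    by_contra hcon
    push Not at hcon
    have hall : ∀ d, x ∈ Vd s d := by
      intro d
      induction d with
      | zero =>
        rw [Vd_zero]
        trivial
      | succ d ih => exact hcon d ih
    have := hN (N + 1) (hall (N + 1))
    omega
  have hxcl : x ∈ (closure (Vd s (d + 1)))ᶜ := (hxU (d + 1)).resolve_left hd2
  obtain ⟨W, hxW, hWG, hWo, hWrep⟩ := exists_rep_nbhd_of_chart ha hR x d hd1
    (Points.ofPt a ⁻¹' Ω ∩ (closure (Vd s (d + 1)))ᶜ) (hO.inter isClosed_closure.isOpen_compl)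
    ⟨hxO, hxcl⟩ (fun y hy hyV => hy.2 (subset_closure hyV))
  refine ⟨W, ?_, hWo, ⟨_, hxW⟩, hWrep⟩
  intro w hw
  obtain ⟨g, hg, rfl⟩ := hWG hw
  exact hg.1

end


/-- Density of the schematic locus from affine étale charts with bounded degrees. -/
theorem dense_schematicLocus_of_charts (X : Space S)
    (H : ∀ x : Points X.obj, ∃ (V : Over S) (a : (yon S).obj V ⟶ X.obj) (v : ↥V.left),
      IsAffine V.left ∧ RepWith @Etale a ∧ Points.ofPt a v = x ∧
      ∀ (R : Over S) (s t : R ⟶ V), IsPullback ((yon S).map s) ((yon S).map t) a a →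
        ∀ y : ↥V.left, ∃ N : ℕ, ∀ d, y ∈ Vd s d → d ≤ N) :
    Dense (schematicLocus X.obj) := by
  rw [dense_iff_inter_open]
  intro Ω hΩ ⟨x, hx⟩
  obtain ⟨V, a, v, hV, ha, rfl, hb⟩ := H x
  have hrep : Representable a := X.property.representable_from_yon _
  obtain ⟨W, hWΩ, hW, ⟨w, hw⟩, hWrep⟩ := exists_rep_open_of_chart' ha (hrep.isPullback' a)
    (hb _ _ _ (hrep.isPullback' a)) Ω hΩ ⟨_, hx, v, rfl⟩
  exact ⟨w, hWΩ hw, W, ⟨hW, hWrep⟩, hw⟩

/-- The bound on degrees for a chart which is an affine open of a finite étale atlas. -/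
theorem exists_bound_of_finite_atlas {F : Sp S} {U : Over S} (a : (yon S).obj U ⟶ F)
    (hf : RepWith @IsFinite a) (he : RepWith @Etale a) (V₀ : U.left.Opens) (hV₀ : IsAffineOpen V₀)
    {R : Over S} (s t : R ⟶ openOver U V₀)
    (hR : IsPullback ((yon S).map s) ((yon S).map t) ((yon S).map (openι U V₀) ≫ a)
      ((yon S).map (openι U V₀) ≫ a)) :
    ∃ N : ℕ, ∀ (y : ↥(openOver U V₀).left) (d : ℕ), y ∈ Vd s d → d ≤ N := by
  set aV := (yon S).map (openι U V₀) ≫ a with haV
  have sqP := hf.rep.isPullback' aV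
  have hfin : IsFinite (hf.rep.snd aV).left := hf.property_snd aV
  have hét : Etale (hf.rep.snd aV).left := he.property_snd aV
  have hVaff : IsAffine (openOver U V₀).left := hV₀
  have hPaff : IsAffine (hf.rep.pullback aV).left := isAffine_of_isAffineHom (hf.rep.snd aV).left
  obtain ⟨m, hm⟩ := (yon S).map_surjective (sqP.lift ((yon S).map (t ≫ openι U V₀)) ((yon S).map s)
    (by rw [Functor.map_comp, Category.assoc, ← haV, hR.w]))
  have hm1 : m ≫ hf.rep.fst' aV = t ≫ openι U V₀ := by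
    apply (yon S).map_injective
    rw [Functor.map_comp, hm, sqP.lift_fst]
  have hm2 : m ≫ hf.rep.snd aV = s := by
    apply (yon S).map_injective
    rw [Functor.map_comp, hm, sqP.lift_snd]
  have hmono : Mono m.left := by
    constructor
    intro Z l l' hll'
    apply hom_ext_left hR
    · have := congrArg (· ≫ (hf.rep.snd aV).left) hll'
      simp only [Category.assoc, ← Over.comp_left, hm2] at this
      exact this
    · have := congrArg (· ≫ (hf.rep.fst' aV).left) hll'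
      simp only [Category.assoc, ← Over.comp_left, hm1] at this
      simp only [Over.comp_left] at this
      have hι : Mono (openι U V₀).left := inferInstanceAs (Mono V₀.ι)
      rw [← Category.assoc, ← Category.assoc] at this
      exact (cancel_mono _).1 this
  exact exists_bound_Vd_of_mono (hf.rep.snd aV).left m.left (by rw [← Over.comp_left, hm2])

end Groth.Agent.Lib.Helper30.SchemLoc2
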