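import Mathlib
import Groth.Agent.Lib.Helper30.SchemLoc2
import Groth.Agent.Lib.Helper41.QCClosure
import Groth.Agent.Lib.Helper37.QsCodim

/-!
# Points without generizations lie in the schematic locus when the kernel pair is quasi-compact (helper30)
-/

set_option autoImplicit false
universe u
open CategoryTheory CategoryTheory.Limits AlgebraicGeometry Opposite TopologicalSpace

namespace Groth.Agent.Lib.Helper30.Codim0

open AlgSp Groth.Agent.Lib.Helper37.AlgSpPoints Groth.Agent.Lib.Helper37.AlgSpFibres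
  Groth.Agent.Lib.Helper30.DecentSober Groth.Agent.Lib.Helper30.InvAffine
  Groth.Agent.Lib.Helper30.ConstDeg Groth.Agent.Lib.Helper30.QuotRep
  Groth.Agent.Lib.Helper36.OpenSubspace Groth.Agent.Lib.Helper30.AffFin
  Groth.Agent.Lib.Helper30.DecentOpenScheme Groth.Agent.Lib.Helper30.SchemLoc2

variable {S : Scheme.{u}}

section

variable {F : Sp S} {V R : Over S} {a : (yon S).obj V ⟶ F} {s t : R ⟶ V}

open Groth.Agent.Lib.Helper30 in
/-- **Pigeonhole**: over a point of `Y` all of whose fibre in `Y ×_V R` lies in the sections of a datum, the degree is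
at most the number of sections. -/
theorem not_mem_Vd_succ_of_fibre_subset (ha : RepWith @Etale a)
    (hR : IsPullback ((yon S).map s) ((yon S).map t) a a) {ι : Type} [Fintype ι] (D : Datum s ι)
    (y' : ↥D.Y)
    (hy' : ∀ z : ↥(pullback D.π s.left), pullback.fst D.π s.left z = y' → ∃ i, z ∈ Set.range (D.σ i)) :
    D.π y' ∉ Vd s (Fintype.card ι + 1) := by
  classical
  rintro ⟨κ, hκ, D'', hcκ, w'', hw''⟩
  have := D.etale
  have := D''.etale
  have := etale_s ha hR
  have hoi : ∀ i, IsOpenImmersion (D.σ i) := fun i =>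
    EtaleSection.isOpenImmersion_of_section (pullback.fst D.π s.left) (D.σ i) (D.σ_fst i)
  obtain ⟨y''', hy1, hy2⟩ := Scheme.Pullback.exists_preimage_pullback (f := D.π) (g := D''.π) y' w''
    hw''.symm
  let g : κ → (pullback D.π D''.π ⟶ pullback D.π s.left) := fun j =>
    pullback.lift (pullback.fst D.π D''.π) (pullback.snd D.π D''.π ≫ D''.ρ j)
      (by rw [Category.assoc, D''.hρ, pullback.condition])
  have hg1 : ∀ j, g j ≫ pullback.fst D.π s.left = pullback.fst D.π D''.π := fun j =>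
    pullback.lift_fst _ _ _
  have hg2 : ∀ j, g j ≫ pullback.snd D.π s.left = pullback.snd D.π D''.π ≫ D''.ρ j := fun j =>
    pullback.lift_snd _ _ _
  have hex : ∀ j, ∃ i, g j y''' ∈ Set.range (D.σ i) := fun j => by
    apply hy'
    rw [← Scheme.Hom.comp_apply, hg1, hy1]
  choose i hi using hex
  have hlt : Fintype.card ι < Fintype.card κ := by omega
  obtain ⟨j, j', hjj', hij⟩ := Fintype.exists_ne_map_eq_of_card_lt i hlt
  let N : (pullback D.π D''.π).Opens := (g j ⁻¹ᵁ (D.σ (i j)).opensRange) ⊓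
    (g j' ⁻¹ᵁ (D.σ (i j)).opensRange)
  have hyN : y''' ∈ N := ⟨hi j, by rw [hij]; exact hi j'⟩
  have key : ∀ j₀ : κ, N ≤ g j₀ ⁻¹ᵁ (D.σ (i j)).opensRange →
      N.ι ≫ pullback.snd D.π D''.π ≫ D''.ρ j₀ = N.ι ≫ pullback.fst D.π D''.π ≫ D.ρ (i j) := by
    intro j₀ hle
    have hr : Set.range (N.ι ≫ g j₀) ⊆ Set.range (D.σ (i j)) := by
      rintro _ ⟨n, rfl⟩
      rw [Scheme.Hom.comp_apply]
      exact hle n.2
    let l := IsOpenImmersion.lift (D.σ (i j)) (N.ι ≫ g j₀) hr
    have hl : l ≫ D.σ (i j) = N.ι ≫ g j₀ := IsOpenImmersion.lift_fac _ _ _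
    have hl' : l = N.ι ≫ pullback.fst D.π D''.π := by
      calc l = l ≫ D.σ (i j) ≫ pullback.fst D.π s.left := by rw [D.σ_fst, Category.comp_id]
        _ = N.ι ≫ pullback.fst D.π D''.π := by
          rw [← Category.assoc, hl, Category.assoc, hg1]
    calc N.ι ≫ pullback.snd D.π D''.π ≫ D''.ρ j₀ = (N.ι ≫ g j₀) ≫ pullback.snd D.π s.left := by
          rw [Category.assoc, hg2]
      _ = l ≫ D.σ (i j) ≫ pullback.snd D.π s.left := by rw [← hl, Category.assoc]
      _ = N.ι ≫ pullback.fst D.π D''.π ≫ D.ρ (i j) := by rw [D.σ_snd, hl', Category.assoc]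
  have h1 := key j inf_le_left
  have h2 := key j' inf_le_right
  have h3 : (N.ι ≫ pullback.snd D.π D''.π) ≫ D''.ρ j = (N.ι ≫ pullback.snd D.π D''.π) ≫ D''.ρ j' := by
    rw [Category.assoc, Category.assoc, h1, h2]
  exact (D''.disj j j' hjj' _ _ h3).false ⟨y''', hyN⟩

open Groth.Agent.Lib.Helper37.EtaleFibres in
/-- A point without proper generizations, of degree exactly `d`, has a neighbourhood missing the locus of degree
`> d`, when `s` is quasi-compact and separated. -/
theorem exists_nbhd_not_mem_Vd_succ (ha : RepWith @Etale a)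
    (hR : IsPullback ((yon S).map s) ((yon S).map t) a a) [IsSeparated s.left] [QuasiCompact s.left]
    (v : ↥V.left) (hmin : ∀ v' : ↥V.left, v' ⤳ v → v' = v) (d : ℕ) (hv1 : v ∈ Vd s d)
    (hv2 : v ∉ Vd s (d + 1)) :
    ∃ G : Set ↥V.left, IsOpen G ∧ v ∈ G ∧ ∀ y ∈ G, y ∉ Vd s (d + 1) := by
  obtain ⟨ι, hι, D, hc, w, hw⟩ := hv1
  have := D.etale
  have := etale_s ha hR
  have hcl : ∀ i, IsClosed (Set.range (D.σ i)) := fun i => by
    have : IsClosedImmersion (D.σ i ≫ pullback.fst D.π s.left) := by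
      rw [D.σ_fst]
      infer_instance
    have := IsClosedImmersion.of_comp (D.σ i) (pullback.fst D.π s.left)
    exact (D.σ i).isClosedEmbedding.isClosed_range
  have hop : ∀ i, IsOpen (Set.range (D.σ i)) := fun i => by
    have := EtaleSection.isOpenImmersion_of_section (pullback.fst D.π s.left) (D.σ i) (D.σ_fst i)
    exact (D.σ i).isOpenEmbedding.isOpen_range
  have hE : IsClosed (⋃ i, Set.range (D.σ i)) := isClosed_iUnion_of_finite hcl
  have hEo : IsOpen (⋃ i, Set.range (D.σ i)) := isOpen_iUnion hop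
  let U' : (pullback D.π s.left).Opens := ⟨(⋃ i, Set.range (D.σ i))ᶜ, hE.isOpen_compl⟩
  have hU'cl : IsClosed (U' : Set ↥(pullback D.π s.left)) := hEo.isClosed_compl
  have hqcι : QuasiCompact U'.ι := by
    have hce : Topology.IsClosedEmbedding U'.ι := by
      refine ⟨U'.ι.isOpenEmbedding.isEmbedding, ?_⟩
      rw [Scheme.Opens.range_ι]
      exact hU'cl
    exact ⟨fun K _ hK => hce.isCompact_preimage hK⟩
  let g : U'.toScheme ⟶ D.Y := U'.ι ≫ pullback.fst D.π s.left
  have hqc : QuasiCompact g := inferInstance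
  have hwT : w ∉ closure (Set.range g) := by
    intro hcl'
    obtain ⟨z', hz'⟩ := Groth.Agent.Lib.Helper41.exists_specializes_of_mem_closure_range g w hcl'
    have h1 : D.π (g z') ⤳ v := hw ▸ hz'.map D.π.continuous
    have h2 : D.π (g z') = D.π w := by rw [hmin _ h1, hw]
    have h3 : g z' = w := eq_of_specializes_of_etale D.π hz' h2
    have h4 := mem_Vd_succ' ha hR D (U'.ι z') (fun i hi => z'.2 (Set.mem_iUnion.2 ⟨i, hi⟩))
    have h5 : pullback.fst D.π s.left (U'.ι z') = w := by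
      rw [← h3]
      rfl
    rw [h5, hw, hc] at h4
    exact hv2 h4
  refine ⟨D.π '' (closure (Set.range g))ᶜ, D.π.isOpenMap _ isClosed_closure.isOpen_compl,
    ⟨w, hwT, hw⟩, ?_⟩
  rintro _ ⟨y', hy', rfl⟩
  rw [← hc]
  refine not_mem_Vd_succ_of_fibre_subset ha hR D y' fun z hz => ?_
  by_contra hno
  push Not at hno
  have hzU : z ∈ U' := by
    rintro ⟨_, ⟨i, rfl⟩, hi⟩
    exact hno i hi
  apply hy'
  apply subset_closure
  refine ⟨⟨z, hzU⟩, ?_⟩
  rw [← hz]
  rfl

/-- A point of an affine étale chart with quasi-compact kernel pair which has no proper generizations has a scheme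
neighbourhood. -/
theorem exists_rep_nbhd_of_minimal [IsAffine V.left] (ha : RepWith @Etale a)
    (hR : IsPullback ((yon S).map s) ((yon S).map t) a a) [CompactSpace ↥R.left]
    (v : ↥V.left) (hmin : ∀ v' : ↥V.left, v' ⤳ v → v' = v) :
    ∃ W : Set (Points F), Points.ofPt a v ∈ W ∧ IsOpen W ∧ (openSub F W).obj.IsRepresentable := by
  have hsep := isSeparated_s hR
  have := etale_s ha hR
  have hqc : QuasiCompact s.left := inferInstance
  obtain ⟨N, hN⟩ := exists_bound_Vd_of_mono (s := s) s.left (𝟙 R.left) (Category.id_comp _)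
  obtain ⟨d, hd1, hd2⟩ : ∃ d, v ∈ Vd s d ∧ v ∉ Vd s (d + 1) := by
    by_contra hcon
    push Not at hcon
    have hall : ∀ d, v ∈ Vd s d := by
      intro d
      induction d with
      | zero =>
        rw [Vd_zero]
        trivial
      | succ d ih => exact hcon d ih
    have := hN v (N + 1) (hall (N + 1))
    omega
  obtain ⟨G, hG, hvG, hGd⟩ := exists_nbhd_not_mem_Vd_succ ha hR v hmin d hd1 hd2
  obtain ⟨W, hvW, -, hWo, hWrep⟩ := exists_rep_nbhd_of_chart ha hR v d hd1 G hG hvG hGd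
  exact ⟨W, hvW, hWo, hWrep⟩

/-- Points of codimension `0` of an algebraic space lie in the schematic locus, as soon as they lie on an affine étale
chart with quasi-compact kernel pair. -/
theorem mem_schematicLocus_of_hasAt_dim_zero (X : Space S)
    (hqc : ∀ (U : Over S) (a : (yon S).obj U ⟶ X.obj) (u : ↥U.left), RepWith @Etale a →
      ∃ U₀ : U.left.Opens, IsAffineOpen U₀ ∧ u ∈ U₀ ∧
        ∀ (R : Over S) (s t : R ⟶ openOver U U₀),
          IsPullback ((yon S).map s) ((yon S).map t) ((yon S).map (openι U U₀) ≫ a)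
            ((yon S).map (openι U U₀) ≫ a) → CompactSpace ↥R.left)
    (x : Points X.obj)
    (hx : HasAt (fun U u => ringKrullDim ↥(U.presheaf.stalk u) = 0) X.obj x) :
    x ∈ schematicLocus X.obj := by
  obtain ⟨U, a, u, ha, rfl, hdim⟩ := hx
  rw [Groth.Agent.Lib.Helper37.QsSober.ringKrullDim_stalk_eq_zero_iff] at hdim
  obtain ⟨U₀, hU₀, huU₀, hcomp⟩ := hqc U a u ha
  have ha₀ := repWith_etale_restrict a ha U₀
  have hrep : Representable ((yon S).map (openι U U₀) ≫ a) := ha₀.rep
  have hRc := hcomp _ _ _ (hrep.isPullback' _)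
  have hVaff : IsAffine (openOver U U₀).left := hU₀
  have hmin : ∀ v' : ↥(openOver U U₀).left, v' ⤳ (⟨u, huU₀⟩ : ↥U₀.toScheme) →
      v' = (⟨u, huU₀⟩ : ↥U₀.toScheme) := by
    intro v' hv'
    have h1 : U₀.ι v' ⤳ u := hv'.map U₀.ι.continuous
    exact U₀.ι.injective (hdim _ h1)
  obtain ⟨W, hW1, hW2, hW3⟩ := exists_rep_nbhd_of_minimal ha₀ (hrep.isPullback' _)
    (⟨u, huU₀⟩ : ↥U₀.toScheme) hmin
  rw [ofPt_restrict a U₀ ⟨u, huU₀⟩] at hW1
  exact ⟨W, ⟨hW2, hW3⟩, hW1⟩

end

end Groth.Agent.Lib.Helper30.Codim0
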