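import Mathlib
import Groth.Agent.Lib.Helper30.Codim0

/-!
# Codimension zero points and the schematic locus: transfer between charts, finite étale atlases (helper30)
-/

set_option autoImplicit false
universe u
open CategoryTheory CategoryTheory.Limits AlgebraicGeometry Opposite TopologicalSpace

namespace Groth.Agent.Lib.Helper30.Codim0

open AlgSp Groth.Agent.Lib.Helper37.AlgSpPoints Groth.Agent.Lib.Helper37.AlgSpFibres
  Groth.Agent.Lib.Helper30.DecentSober Groth.Agent.Lib.Helper30.InvAffine
  Groth.Agent.Lib.Helper30.ConstDeg Groth.Agent.Lib.Helper30.QuotRep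
  Groth.Agent.Lib.Helper36.OpenSubspace Groth.Agent.Lib.Helper30.AffFin
  Groth.Agent.Lib.Helper30.DecentOpenScheme Groth.Agent.Lib.Helper30.SchemLoc2
  Groth.Agent.Lib.Helper36.AlgSpCharts

variable {S : Scheme.{u}}

open Groth.Agent.Lib.Helper37.EtaleFibres in
/-- Having no proper generizations transfers between étale charts through the same point. -/
theorem minimal_of_chart {F : Sp S} {U U' : Over S} (a : (yon S).obj U ⟶ F)
    (a' : (yon S).obj U' ⟶ F) (ha : RepWith @Etale a) (ha' : RepWith @Etale a') (u : ↥U.left)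
    (u' : ↥U'.left) (he : Points.ofPt a u = Points.ofPt a' u')
    (hmin' : ∀ y : ↥U'.left, y ⤳ u' → y = u') : ∀ y : ↥U.left, y ⤳ u → y = u := by
  obtain ⟨W, p₁, p₂, sq⟩ := exists_isPullback_yon a a' ha'.rep
  have h1 : Etale p₁.left := prop_fst_of_isPullback sq ha'
  have h2 : Etale p₂.left := prop_snd_of_isPullback sq ha
  obtain ⟨w, hw1, hw2⟩ := (ofPt_eq_ofPt_iff sq u u').1 he
  intro y hy
  rw [← hw1] at hy
  obtain ⟨w', hw', rfl⟩ := Flat.generalizingMap p₁.left hy
  have h3 : p₂.left w' ⤳ u' := hw2 ▸ hw'.map p₂.left.continuous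
  have h4 : p₂.left w' = p₂.left w := by rw [hmin' _ h3, hw2]
  rw [eq_of_specializes_of_etale p₂.left hw' h4, hw1]

section

variable {F : Sp S} {V R : Over S} {a : (yon S).obj V ⟶ F} {s t : R ⟶ V}

theorem mem_schematicLocus_of_minimal (X : Space S) {V R : Over S} {a : (yon S).obj V ⟶ X.obj}
    {s t : R ⟶ V} [IsAffine V.left] (ha : RepWith @Etale a)
    (hR : IsPullback ((yon S).map s) ((yon S).map t) a a) [CompactSpace ↥R.left]
    (v : ↥V.left) (hmin : ∀ v' : ↥V.left, v' ⤳ v → v' = v) :
    Points.ofPt a v ∈ schematicLocus X.obj := by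
  obtain ⟨W, hW1, hW2, hW3⟩ := exists_rep_nbhd_of_minimal ha hR v hmin
  exact ⟨W, ⟨hW2, hW3⟩, hW1⟩

end

/-- The kernel pair of an affine open of a finite étale atlas from a quasi-separated scheme is quasi-compact. -/
theorem compactSpace_of_finite_atlas {F : Sp S} {U : Over S} (a : (yon S).obj U ⟶ F)
    (hf : RepWith @IsFinite a) [QuasiSeparatedSpace ↥U.left] (V₀ : U.left.Opens)
    (hV₀ : IsAffineOpen V₀) {R : Over S} (s t : R ⟶ openOver U V₀)
    (hR : IsPullback ((yon S).map s) ((yon S).map t) ((yon S).map (openι U V₀) ≫ a)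
      ((yon S).map (openι U V₀) ≫ a)) : CompactSpace ↥R.left := by
  set aV := (yon S).map (openι U V₀) ≫ a with haV
  have sqP := hf.rep.isPullback' aV
  have hfin : IsFinite (hf.rep.snd aV).left := hf.property_snd aV
  have hVaff : IsAffine (openOver U V₀).left := hV₀
  have hPaff : IsAffine (hf.rep.pullback aV).left := isAffine_of_isAffineHom (hf.rep.snd aV).left
  obtain ⟨m, hm⟩ := (yon S).map_surjective (sqP.lift ((yon S).map (t ≫ openι U V₀)) ((yon S).map s)
    (by rw [Functor.map_comp, Category.assoc, ← haV, hR.w]))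
  have hm1 : (yon S).map m ≫ (yon S).map (hf.rep.fst' aV) = (yon S).map t ≫ (yon S).map (openι U V₀) := by
    rw [hm, sqP.lift_fst, Functor.map_comp]
  have hm2 : (yon S).map m ≫ (yon S).map (hf.rep.snd aV) = (yon S).map s := by
    rw [hm, sqP.lift_snd]
  have hbig : IsPullback ((yon S).map m ≫ (yon S).map (hf.rep.snd aV)) ((yon S).map t) aV
      ((yon S).map (openι U V₀) ≫ a) := by
    rw [hm2]
    exact hR
  have sqL : IsPullback ((yon S).map m) ((yon S).map t) ((yon S).map (hf.rep.fst' aV))
      ((yon S).map (openι U V₀)) := IsPullback.of_right hbig hm1 sqP.flip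
  have sqS := isPullback_left_of_yon sqL
  have hqcι : QuasiCompact (openι U V₀).left := by
    have : CompactSpace ↥(openOver U V₀).left := inferInstance
    infer_instance
  have : CompactSpace ↥(pullback (hf.rep.fst' aV).left (openι U V₀).left) := inferInstance
  exact (Scheme.homeoOfIso sqS.isoPullback).symm.compactSpace

end Groth.Agent.Lib.Helper30.Codim0
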