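import Mathlib
import Groth.Agent.Lib.Helper30.DecentSober
import Groth.Prelude.Def_Flat

set_option autoImplicit false
universe u
open CategoryTheory CategoryTheory.Limits AlgebraicGeometry Opposite TopologicalSpace

namespace Groth.Agent.Lib.Helper30.DecentDim

open AlgSp Groth.Agent.Lib.Helper37.AlgSpPoints Groth.Agent.Lib.Helper37.AlgSpFibres

/-- A strict chain of specializations `ys n ⤳ ⋯ ⤳ ys 0`. -/
def IsSpecChain {Y : Type*} [TopologicalSpace Y] {n : ℕ} (ys : Fin (n + 1) → Y) : Prop :=
  ∀ i : Fin n, ys i.succ ⤳ ys i.castSucc ∧ ¬ ys i.castSucc ⤳ ys i.succ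

theorem le_topologicalKrullDim_of_chain {Y : Type*} [TopologicalSpace Y] {n : ℕ}
    (ys : Fin (n + 1) → Y) (h : IsSpecChain ys) : (n : WithBot ℕ∞) ≤ topologicalKrullDim Y := by
  let g : Fin (n + 1) → IrreducibleCloseds Y := fun i =>
    ⟨closure {ys i}, isIrreducible_singleton.closure, isClosed_closure⟩
  have hg : StrictMono g := by
    rw [Fin.strictMono_iff_lt_succ]
    intro i
    refine lt_of_le_of_ne ?_ ?_
    · change closure {ys i.castSucc} ⊆ closure {ys i.succ}
      exact (specializes_iff_closure_subset.1 (h i).1)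
    · intro heq
      have h2 : closure {ys i.succ} ⊆ closure {ys i.castSucc} := by
        have := congrArg (fun Z : IrreducibleCloseds Y => (Z : Set Y)) heq
        exact this.symm.subset
      exact (h i).2 (specializes_iff_closure_subset.2 h2)
  exact Order.LTSeries.length_le_krullDim (LTSeries.mk n g hg)

theorem topologicalKrullDim_le_of_chains {Y : Type*} [TopologicalSpace Y] [QuasiSober Y]
    (b : WithBot ℕ∞)
    (h : ∀ (n : ℕ) (ys : Fin (n + 1) → Y), IsSpecChain ys → (n : WithBot ℕ∞) ≤ b) :
    topologicalKrullDim Y ≤ b := by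
  unfold topologicalKrullDim Order.krullDim
  refine iSup_le fun p => ?_
  have hgen : ∀ i, ∃ y, IsGenericPoint y ((p i : IrreducibleCloseds Y) : Set Y) := fun i =>
    QuasiSober.sober (p i).isIrreducible' (p i).isClosed'
  choose ys hys using hgen
  refine h p.length ys fun i => ?_
  have hlt : p i.castSucc < p i.succ := p.strictMono (Fin.castSucc_lt_succ)
  have hsub : ((p i.castSucc : IrreducibleCloseds Y) : Set Y) ⊆ (p i.succ : IrreducibleCloseds Y) :=
    hlt.le
  constructor
  · rw [specializes_iff_mem_closure, (hys i.succ).def]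
    exact hsub ((hys i.castSucc).mem)
  · intro hs
    rw [specializes_iff_mem_closure, (hys i.castSucc).def] at hs
    have h2 : ((p i.succ : IrreducibleCloseds Y) : Set Y) ⊆ (p i.castSucc : IrreducibleCloseds Y) := by
      rw [← (hys i.succ).def]
      exact closure_minimal (Set.singleton_subset_iff.2 hs) (p i.castSucc).isClosed'
    exact absurd (le_antisymm hlt.le h2) hlt.ne


theorem IsSpecChain.subtype_val {Y : Type*} [TopologicalSpace Y] {W : Set Y} {n : ℕ}
    {ys : Fin (n + 1) → W} (h : IsSpecChain ys) : IsSpecChain (fun i => (ys i : Y)) := fun i =>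
  ⟨Topology.IsInducing.subtypeVal.specializes_iff.2 (h i).1,
    fun hs => (h i).2 (Topology.IsInducing.subtypeVal.specializes_iff.1 hs)⟩

theorem IsSpecChain.of_subtype_val {Y : Type*} [TopologicalSpace Y] {W : Set Y} {n : ℕ}
    {ys : Fin (n + 1) → W} (h : IsSpecChain (fun i => (ys i : Y))) : IsSpecChain ys := fun i =>
  ⟨Topology.IsInducing.subtypeVal.specializes_iff.1 (h i).1,
    fun hs => (h i).2 (Topology.IsInducing.subtypeVal.specializes_iff.2 hs)⟩

/-- In a chain, every member generalizes the first one. -/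
theorem IsSpecChain.specializes_zero {Y : Type*} [TopologicalSpace Y] {n : ℕ}
    {ys : Fin (n + 1) → Y} (h : IsSpecChain ys) (i : Fin (n + 1)) : ys i ⤳ ys 0 := by
  induction i using Fin.induction with
  | zero => exact specializes_rfl
  | succ i ih => exact (h i).1.trans ih

variable {S : Scheme.{u}}

section Chart

variable {F : Sp S} {U : Over S} (a : (yon S).obj U ⟶ F)

/-- Images of strict chains under an étale chart of a decent space are strict chains. -/
theorem IsSpecChain.map_ofPt (X : Space S) (hX : IsDecent X.obj) {U : Over S}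
    (a : (yon S).obj U ⟶ X.obj) (ha : RepWith @Etale a) {n : ℕ}
    {us : Fin (n + 1) → ↥U.left} (h : IsSpecChain us) :
    IsSpecChain (fun i => Points.ofPt a (us i)) := by
  have hT0 : T0Space (Points X.obj) := t0Space_points_of_isDecent X hX
  intro i
  refine ⟨(h i).1.map (Points.continuous_ofPt a), fun hs => (h i).2 ?_⟩
  have he : Points.ofPt a (us i.castSucc) = Points.ofPt a (us i.succ) :=
    (hs.antisymm ((h i).1.map (Points.continuous_ofPt a))).eq
  rw [eq_of_specializes_of_isDecent hX a ha _ _ he (h i).1]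

/-- Strict chains in `|X|` starting in the image of an étale chart lift. -/
theorem exists_chain_lift (X : Space S) (hX : IsDecent X.obj) {U : Over S}
    (a : (yon S).obj U ⟶ X.obj) (ha : RepWith @Etale a) :
    ∀ (n : ℕ) (ys : Fin (n + 1) → Points X.obj), IsSpecChain ys → ∀ u₀ : ↥U.left,
      Points.ofPt a u₀ = ys 0 → ∃ us : Fin (n + 1) → ↥U.left, us 0 = u₀ ∧
        (∀ i, Points.ofPt a (us i) = ys i) ∧ IsSpecChain us := by
  intro n
  induction n with
  | zero =>
    intro ys _ u₀ hu₀
    refine ⟨fun _ => u₀, rfl, fun i => ?_, fun i => i.elim0⟩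
    have : i = 0 := Fin.ext (by omega)
    rw [this]
    exact hu₀
  | succ n ih =>
    intro ys hys u₀ hu₀
    obtain ⟨p, hp, -, hq⟩ := hX (ys 1)
    have h01 : ys 1 ⤳ ys 0 := (hys 0).1
    obtain ⟨u₁, hu₁s, hu₁⟩ := exists_specializes_lift_of_qc_point (ys 0) (ys 1) h01 p hp hq a ha u₀ hu₀
    have htail : IsSpecChain (fun i : Fin (n + 1) => ys i.succ) := fun i => by
      have := hys i.succ
      rwa [← Fin.succ_castSucc] at this
    obtain ⟨us', hus'0, hus', hus'c⟩ := ih (fun i => ys i.succ) htail u₁ hu₁
    refine ⟨Fin.cons u₀ us', rfl, fun i => ?_, fun i => ?_⟩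
    · refine Fin.cases ?_ (fun j => ?_) i
      · exact hu₀
      · rw [Fin.cons_succ]
        exact hus' j
    · refine Fin.cases ?_ (fun j => ?_) i
      · refine ⟨?_, fun hs => (hys 0).2 ?_⟩
        · change (Fin.cons u₀ us' : Fin (n + 2) → ↥U.left) (Fin.succ 0) ⤳ u₀
          rw [Fin.cons_succ, hus'0]
          exact hu₁s
        · have hs' : u₀ ⤳ us' 0 := by
            have : (Fin.cons u₀ us' : Fin (n + 2) → ↥U.left) (Fin.succ 0) = us' 0 := Fin.cons_succ _ _ _
            rw [← this]
            exact hs
          have := hs'.map (Points.continuous_ofPt a)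
          rw [hu₀, hus' 0] at this
          exact this
      · have := hus'c j
        rw [← Fin.succ_castSucc, Fin.cons_succ, Fin.cons_succ]
        exact this

end Chart


open Groth.Agent.Lib.Helper37.QsSober in
/-- **S10345**. -/
theorem topologicalKrullDim_points_eq_dim (X : Space S) (hX : IsDecent X.obj) :
    topologicalKrullDim (Points X.obj) = AlgSp.dim X.obj := by
  have hqs : QuasiSober (Points X.obj) := DecentSober.quasiSober_of_isDecent X hX
  apply le_antisymm
  · apply topologicalKrullDim_le_of_chains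
    intro n ys hys
    obtain ⟨V, a, v, hV, ha, hv⟩ := exists_affine_chart X (ys 0)
    obtain ⟨us, -, -, husc⟩ := exists_chain_lift X hX a ha n ys hys v hv
    refine (le_topologicalKrullDim_of_chain us husc).trans ?_
    unfold AlgSp.dim
    exact le_iSup_of_le V (le_iSup_of_le a (le_iSup_of_le ha le_rfl))
  · unfold AlgSp.dim
    refine iSup_le fun U => iSup_le fun a => iSup_le fun ha => ?_
    apply topologicalKrullDim_le_of_chains
    intro n us hus
    exact le_topologicalKrullDim_of_chain _ (hus.map_ofPt X hX a ha)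

/-- **S10346**. -/
theorem localDim_eq_localDim_points (X : Space S) (hX : IsDecent X.obj) {U : Over S}
    (a : (yon S).obj U ⟶ X.obj) (ha : RepWith @Etale a) (u : ↥U.left) :
    FlatMor.localDim ↥U.left u = FlatMor.localDim (Points X.obj) (Points.ofPt a u) := by
  have hqs : QuasiSober (Points X.obj) := DecentSober.quasiSober_of_isDecent X hX
  unfold FlatMor.localDim
  apply le_antisymm
  · refine le_iInf fun W => ?_
    let U' : Opens ↥U.left := ⟨Points.ofPt a ⁻¹' W.1, W.1.2.preimage (Points.continuous_ofPt a)⟩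
    refine (iInf_le _ ⟨U', W.2⟩).trans ?_
    have : QuasiSober ↥(U' : Set ↥U.left) := U'.2.isOpenEmbedding_subtypeVal.quasiSober
    apply topologicalKrullDim_le_of_chains
    intro n us hus
    have h1 := (hus.subtype_val).map_ofPt X hX a ha
    let ws : Fin (n + 1) → ↥(W.1 : Set (Points X.obj)) := fun i => ⟨Points.ofPt a (us i), (us i).2⟩
    exact le_topologicalKrullDim_of_chain ws (IsSpecChain.of_subtype_val h1)
  · refine le_iInf fun U' => ?_
    let W : Opens (Points X.obj) := ⟨Points.ofPt a '' U'.1, isOpenMap_ofPt a ha _ U'.1.2⟩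
    refine (iInf_le _ ⟨W, ⟨u, U'.2, rfl⟩⟩).trans ?_
    have : QuasiSober ↥(W : Set (Points X.obj)) := W.2.isOpenEmbedding_subtypeVal.quasiSober
    apply topologicalKrullDim_le_of_chains
    intro n ys hys
    obtain ⟨u₀, hu₀U, hu₀⟩ := (ys 0).2
    obtain ⟨us, hus0, -, husc⟩ := exists_chain_lift X hX a ha n _ hys.subtype_val u₀ hu₀
    have hmem : ∀ i, us i ∈ (U'.1 : Set ↥U.left) := fun i => by
      have := husc.specializes_zero i
      rw [hus0] at this
      exact this.mem_open U'.1.2 hu₀U
    let us' : Fin (n + 1) → ↥(U'.1 : Set ↥U.left) := fun i => ⟨us i, hmem i⟩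
    exact le_topologicalKrullDim_of_chain us' (IsSpecChain.of_subtype_val husc)

end Groth.Agent.Lib.Helper30.DecentDim
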