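import Mathlib
import Groth.Agent.Lib.Helper30.DecentDim
import Groth.Agent.Lib.Helper37.QsCodim
import Groth.Agent.Lib.Helper37.DecentPerm

set_option autoImplicit false
universe u
open CategoryTheory CategoryTheory.Limits AlgebraicGeometry Opposite TopologicalSpace

namespace Groth.Agent.Lib.Helper30.DecentCodim

open AlgSp Groth.Agent.Lib.Helper37.AlgSpPoints Groth.Agent.Lib.Helper37.AlgSpFibres
open Groth.Agent.Lib.Helper37.QsSober Groth.Agent.Lib.Helper30.DecentDim

variable {S : Scheme.{u}}

/-- For a decent space: a chart point over a generic point of an irreducible component has zero-dimensional local ring. -/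
theorem dim_zero_of_generic (X : Space S) (hX : IsDecent X.obj) {V : Over S}
    (a : (yon S).obj V ⟶ X.obj) (ha : RepWith @Etale a) (v : ↥V.left)
    (h : ∃ Z ∈ irreducibleComponents (Points X.obj), IsGenericPoint (Points.ofPt a v) Z) :
    ringKrullDim ↥(V.left.presheaf.stalk v) = 0 := by
  obtain ⟨Z, hZ, hx⟩ := h
  have hT0 := t0Space_points_of_isDecent X hX
  rw [ringKrullDim_stalk_eq_zero_iff]
  intro v' hv'
  have h1 : Points.ofPt a v' ⤳ Points.ofPt a v := hv'.map (Points.continuous_ofPt a)
  have hsub : Z ⊆ closure {Points.ofPt a v'} := by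
    rw [← hx.def]
    exact closure_minimal (Set.singleton_subset_iff.2 (specializes_iff_mem_closure.1 h1)) isClosed_closure
  have hle : closure {Points.ofPt a v'} ⊆ Z := hZ.2 isIrreducible_singleton.closure hsub
  have h2 : Points.ofPt a v ⤳ Points.ofPt a v' := by
    rw [specializes_iff_mem_closure, hx.def]
    exact hle (subset_closure rfl)
  have heq : Points.ofPt a v = Points.ofPt a v' := (h2.antisymm h1).eq
  exact (eq_of_specializes_of_isDecent hX a ha v v' heq hv').symm

/-- Converse. -/
theorem generic_of_dim_zero (X : Space S) (hX : IsDecent X.obj) {U : Over S}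
    (a : (yon S).obj U ⟶ X.obj) (ha : RepWith @Etale a) (u : ↥U.left)
    (hdim : ringKrullDim ↥(U.left.presheaf.stalk u) = 0) :
    ∃ Z ∈ irreducibleComponents (Points X.obj), IsGenericPoint (Points.ofPt a u) Z := by
  have hsob := DecentSober.quasiSober_of_isDecent X hX
  rw [ringKrullDim_stalk_eq_zero_iff] at hdim
  refine ⟨closure {Points.ofPt a u}, ⟨isIrreducible_singleton.closure, ?_⟩, isGenericPoint_closure⟩
  intro Y hY hsub
  have hY' : IsIrreducible (closure Y) := hY.closure
  obtain ⟨ξ, hξ⟩ := hsob.sober hY' isClosed_closure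
  have hξx : ξ ⤳ Points.ofPt a u := by
    rw [specializes_iff_mem_closure, hξ.def]
    exact subset_closure (hsub (subset_closure rfl))
  obtain ⟨q, hq, -, hqc⟩ := hX ξ
  obtain ⟨u', hu's, hu'⟩ := exists_specializes_lift_of_qc_point _ ξ hξx q hq hqc a ha u rfl
  rw [hdim u' hu's] at hu'
  rw [hu', hξ.def]
  exact subset_closure

/-- **S10394**. -/
theorem generic_iff_hasAt_dim_zero (X : Space S) (hX : IsDecent X.obj) (x : Points X.obj) :
    (∃ T ∈ irreducibleComponents (Points X.obj), IsGenericPoint x T) ↔
      HasAt (fun U u => ringKrullDim ↥(U.presheaf.stalk u) = 0) X.obj x := by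
  constructor
  · intro h
    obtain ⟨V, a, v, hV, ha, rfl⟩ := exists_affine_chart X x
    exact ⟨V, a, v, ha, rfl, dim_zero_of_generic X hX a ha v h⟩
  · rintro ⟨U, a, u, ha, rfl, hdim⟩
    exact generic_of_dim_zero X hX a ha u hdim

/-- **S10395**. -/
theorem generic_iff_of_isEtaleMor {X Y : Space S} (hX : IsDecent X.obj) (f : Y ⟶ X)
    (hf : IsEtaleMor f.hom) (y : Points Y.obj) :
    (∃ T ∈ irreducibleComponents (Points Y.obj), IsGenericPoint y T) ↔
      (∃ T ∈ irreducibleComponents (Points X.obj), IsGenericPoint (Points.map f.hom y) T) := by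
  have hY : IsDecent Y.obj := Groth.Agent.Lib.Helper37.DecentPoint.isDecent_of_isEtaleMor f hf hX
  obtain ⟨V, b, v, hV, hb, rfl⟩ := exists_affine_chart Y y
  have hbf : RepWith @Etale (b ≫ f.hom) := hf b hb
  have hpt : Points.map f.hom (Points.ofPt b v) = Points.ofPt (b ≫ f.hom) v := rfl
  rw [hpt]
  constructor
  · intro h
    exact generic_of_dim_zero X hX (b ≫ f.hom) hbf v (dim_zero_of_generic Y hY b hb v h)
  · intro h
    exact generic_of_dim_zero Y hY b hb v (dim_zero_of_generic X hX (b ≫ f.hom) hbf v h)


section Coheight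

/-- The irreducible closed set `closure {y}`. -/
def ptClosure {Y : Type*} [TopologicalSpace Y] (y : Y) : IrreducibleCloseds Y :=
  ⟨closure {y}, isIrreducible_singleton.closure, isClosed_closure⟩

theorem IsSpecChain.strictMono_ptClosure {Y : Type*} [TopologicalSpace Y] {n : ℕ}
    {ys : Fin (n + 1) → Y} (h : IsSpecChain ys) : StrictMono (fun i => ptClosure (ys i)) := by
  rw [Fin.strictMono_iff_lt_succ]
  intro i
  refine lt_of_le_of_ne ?_ ?_
  · change closure {ys i.castSucc} ⊆ closure {ys i.succ}
    exact (specializes_iff_closure_subset.1 (h i).1)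
  · intro heq
    have h2 : closure {ys i.succ} ⊆ closure {ys i.castSucc} := by
      have := congrArg (fun Z : IrreducibleCloseds Y => (Z : Set Y)) heq
      exact this.symm.subset
    exact (h i).2 (specializes_iff_closure_subset.2 h2)

theorem exists_chain_of_ltSeries {Y : Type*} [TopologicalSpace Y] [QuasiSober Y]
    (p : LTSeries (IrreducibleCloseds Y)) :
    ∃ ys : Fin (p.length + 1) → Y, (∀ i, IsGenericPoint (ys i) ((p i : IrreducibleCloseds Y) : Set Y)) ∧
      IsSpecChain ys := by
  have hgen : ∀ i, ∃ y, IsGenericPoint y ((p i : IrreducibleCloseds Y) : Set Y) := fun i =>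
    QuasiSober.sober (p i).isIrreducible' (p i).isClosed'
  choose ys hys using hgen
  refine ⟨ys, hys, fun i => ?_⟩
  have hlt : p i.castSucc < p i.succ := p.strictMono (Fin.castSucc_lt_succ)
  have hsub : ((p i.castSucc : IrreducibleCloseds Y) : Set Y) ⊆ (p i.succ : IrreducibleCloseds Y) :=
    hlt.le
  constructor
  · rw [specializes_iff_mem_closure, (hys i.succ).def]
    exact hsub ((hys i.castSucc).mem)
  · intro hs
    rw [specializes_iff_mem_closure, (hys i.castSucc).def] at hs
    have h2 : ((p i.succ : IrreducibleCloseds Y) : Set Y) ⊆ (p i.castSucc : IrreducibleCloseds Y) := by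
      rw [← (hys i.succ).def]
      exact closure_minimal (Set.singleton_subset_iff.2 hs) (p i.castSucc).isClosed'
    exact absurd (le_antisymm hlt.le h2) hlt.ne

/-- **S10396**. -/
theorem coheight_eq_ringKrullDim_stalk (X : Space S) (hX : IsDecent X.obj)
    (T : IrreducibleCloseds (Points X.obj)) (ξ : Points X.obj)
    (hξ : IsGenericPoint ξ (T : Set (Points X.obj))) {U : Over S} (a : (yon S).obj U ⟶ X.obj)
    (ha : RepWith @Etale a) (u : ↥U.left) (hu : Points.ofPt a u = ξ) :
    (Order.coheight T : WithBot ℕ∞) = ringKrullDim ↥(U.left.presheaf.stalk u) := by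
  have hsob := DecentSober.quasiSober_of_isDecent X hX
  have hT0 := t0Space_points_of_isDecent X hX
  rw [ringKrullDim_stalk_eq_coheight]
  congr 1
  apply le_antisymm
  · apply Order.coheight_le
    intro p hp
    obtain ⟨ys, hys, hchain⟩ := exists_chain_of_ltSeries p
    have hys0 : ys 0 = ξ := by
      have h0 := hys 0
      have : p 0 = T := hp
      rw [this] at h0
      exact h0.eq hξ
    obtain ⟨us, hus0, -, husc⟩ := exists_chain_lift X hX a ha p.length ys hchain u (hu.trans hys0.symm)
    have hsm : StrictMono us := by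
      rw [Fin.strictMono_iff_lt_succ]
      exact fun i => husc i
    have := Order.length_le_coheight (x := u) (p := LTSeries.mk p.length us hsm) (le_of_eq hus0.symm)
    exact this
  · apply Order.coheight_le
    intro q hq
    have hchain : IsSpecChain (fun i => q i) := fun i => q.strictMono (Fin.castSucc_lt_succ)
    have hchain' : IsSpecChain (fun i => Points.ofPt a (q i)) := hchain.map_ofPt X hX a ha
    have hsm := IsSpecChain.strictMono_ptClosure hchain'
    have hhead : T = (LTSeries.mk q.length _ hsm).head := by
      apply IrreducibleCloseds.ext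
      change (T : Set _) = closure {Points.ofPt a (q 0)}
      have : q 0 = u := hq
      rw [this, hu, hξ.def]
    have := Order.length_le_coheight (x := T)
      (p := LTSeries.mk q.length _ hsm) (le_of_eq hhead)
    exact this

end Coheight

end Groth.Agent.Lib.Helper30.DecentCodim
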