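import Groth.Agent.Lib.Helper30.SchDense
import Groth.Agent.Lib.Helper30.AlgSpAtlas
import Groth.Agent.Lib.Helper23.AlgSpMor7
import Groth.Agent.Lib.Helper46.LocPChart
import Groth.Agent.Lib.Helper30.EtLocalInst
import Groth.Agent.Lib.Helper37.AlgSpPoints

/-!
# Scheme theoretically dense open subspaces of algebraic spaces (helper30)

* `isSchDense_of_isPullback_of_flat` : the inverse image of a quasi-compact schematically dense open subspace under a flat
  morphism from an algebraic space is schematically dense (sheaf-level form of S9973).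
* `exists_section_of_isSchDense` : a closed subspace through which a schematically dense open subspace factors contains an
  etale surjective chart.
* `eq_of_eq_on_isSchDense` : two morphisms to a sheaf separated over `B` which agree on a schematically dense open subspace
  are equal.
-/

set_option autoImplicit false
universe u
open CategoryTheory CategoryTheory.Limits AlgebraicGeometry Opposite

namespace Groth.Agent.Lib.Helper30.DenseEq

open AlgSp Groth.Agent.Lib.Helper30.SchDense Groth.Agent.Lib.Helper23.AlgSpMor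
  Groth.Agent.Lib.Helper30.AlgSpAtlas

variable {S : Scheme.{u}}

set_option backward.isDefEq.respectTransparency false in
/-- The inverse image of a quasi-compact schematically dense open subspace under a flat morphism is schematically
dense. -/
theorem isSchDense_of_isPullback_of_flat {X Y V V' : Sp S} (hX : IsAlgSpace X) (f : X ⟶ Y)
    (hf : LocP @Flat f) (j : V ⟶ Y) (hj : IsSchDense j) (hjq : IsQuasiCompactMor j)
    (fst : V' ⟶ V) (jX : V' ⟶ X) (sq : IsPullback fst jX j f) : IsSchDense jX := by
  obtain ⟨hjO, V₀, φ, W, fstG, hφE, hφS, sqG, hW⟩ := hj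
  have hjX : RepWith @IsOpenImmersion jX :=
    MorphismProperty.of_isPullback (P := RepWith @IsOpenImmersion) sq hjO
  have hjqc : RepWith @QuasiCompact j :=
    repWith_quasiCompact_of_isQuasiCompactMor j hjO.rep hjq
  have hWqc : QuasiCompact W.ι := hjqc.property _ _ _ sqG
  obtain ⟨A, a, haE, haS⟩ := hX.atlas
  have hrep := hφE.rep
  have sqW := hrep.isPullback' (a ≫ f)
  set p := hrep.fst' (a ≫ f) with hp
  set q := hrep.snd (a ≫ f) with hq
  have hqE : Etale q.left := hφE.property_snd (a ≫ f)
  have hqS : Surjective q.left := hφS.property _ _ _ (hrep.isPullback (a ≫ f))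
  have hψE : RepWith @Etale ((yon S).map q ≫ a) :=
    MorphismProperty.comp_mem _ _ _ ((repWith_yon_map_iff _ _).2 hqE) haE
  have hψS : RepWith @Surjective ((yon S).map q ≫ a) :=
    MorphismProperty.comp_mem _ _ _ ((repWith_yon_map_iff _ _).2 hqS) haS
  have hw : ((yon S).map q ≫ a) ≫ f = (yon S).map p ≫ φ := by
    rw [Category.assoc]; exact sqW.w.symm
  have hpflat : Flat p.left := hf _ _ p hψE hφE hw
  obtain ⟨fst', sq'⟩ := exists_isPullback_preimage sq W sqG ((yon S).map q ≫ a) p hw
  exact ⟨hjX, _, (yon S).map q ≫ a, p.left ⁻¹ᵁ W, fst', hψE, hψS, sq',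
    dense_preimage_of_flat p.left W hW⟩

set_option backward.isDefEq.respectTransparency false in
/-- A closed subspace through which a schematically dense open subspace factors contains an etale surjective chart. -/
theorem exists_section_of_isSchDense {X U E : Sp S} (j : U ⟶ X) (hj : IsSchDense j) (i : E ⟶ X)
    (hi : RepWith @IsClosedImmersion i) (j' : U ⟶ E) (hj' : j' ≫ i = j) :
    ∃ (W : Over S) (φ : (yon S).obj W ⟶ X) (s : (yon S).obj W ⟶ E),
      RepWith @Etale φ ∧ RepWith @Surjective φ ∧ s ≫ i = φ := by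
  obtain ⟨-, W, φ, W₀, fstG, hφE, hφS, sqG, hW₀⟩ := hj
  have sqE := hi.rep.isPullback φ
  set c := hi.rep.snd φ with hc
  have hcl : IsClosedImmersion c.left := hi.property_snd φ
  obtain ⟨ℓ, hℓ1, hℓ2⟩ := sqE.exists_lift (fstG ≫ j')
    ((yon S).map (Over.homMk W₀.ι rfl : Over.mk (W₀.ι ≫ W.hom) ⟶ W)) (by
      rw [Category.assoc, hj']; exact sqG.w)
  obtain ⟨ℓ₀, rfl⟩ := (yon S).map_surjective ℓ
  rw [← Functor.map_comp] at hℓ2
  have hℓ3 : ℓ₀.left ≫ c.left = W₀.ι := by
    have := congrArg (fun m => m.left) ((yon S).map_injective hℓ2)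
    simpa using this
  have hdom : IsSchemeTheoreticallyDominant W₀.ι := isSchemeTheoreticallyDominant_of_dense W₀ hW₀
  have hker : c.left.ker = ⊥ := by
    rw [← le_bot_iff, ← hdom.ker_eq_bot, ← hℓ3]
    exact Scheme.Hom.le_ker_comp _ _
  have hiso : IsIso c.left := by
    refine IsClosedImmersion.isIso_of_ker_eq c.left (𝟙 _) c.left (Category.comp_id _) ?_
    rw [hker, Scheme.Hom.ker_eq_bot_of_isIso]
  have hiso' : IsIso c := by
    have : IsIso ((Over.forget S).map c) := hiso
    exact isIso_of_reflects_iso c (Over.forget S)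
  refine ⟨W, φ, inv ((yon S).map c) ≫ hi.rep.fst φ, hφE, hφS, ?_⟩
  rw [Category.assoc, sqE.w, IsIso.inv_hom_id_assoc]

/-- Two morphisms into a sheaf separated over `B` which agree on a schematically dense open subspace are equal. -/
theorem eq_of_eq_on_isSchDense {X Y B U : Sp S} (q : Y ⟶ B) (hq : IsSeparatedMor q) (f g : X ⟶ Y)
    (hfg : f ≫ q = g ≫ q) (j : U ⟶ X) (hj : IsSchDense j) (heq : j ≫ f = j ≫ g) : f = g := by
  let fg : X ⟶ pullback q q := pullback.lift f g hfg
  let i' : pullback fg (pullback.diagonal q) ⟶ X := pullback.fst _ _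
  have hi' : RepWith @IsClosedImmersion i' :=
    MorphismProperty.pullback_fst (P := RepWith @IsClosedImmersion) _ _ hq
  have hfac : ∃ f'' : U ⟶ pullback fg (pullback.diagonal q), f'' ≫ i' = j := by
    refine ⟨pullback.lift j (j ≫ f) ?_, pullback.lift_fst _ _ _⟩
    apply pullback.hom_ext
    · rw [Category.assoc, Category.assoc, pullback.diagonal_fst, Category.comp_id]
      change j ≫ pullback.lift f g hfg ≫ pullback.fst q q = _
      rw [pullback.lift_fst]
    · rw [Category.assoc, Category.assoc, pullback.diagonal_snd, Category.comp_id]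
      change j ≫ pullback.lift f g hfg ≫ pullback.snd q q = _
      rw [pullback.lift_snd, heq]
  obtain ⟨j', hj'⟩ := hfac
  obtain ⟨W, φ, s, hφE, hφS, hs⟩ := exists_section_of_isSchDense j hj i' hi' j' hj'
  have h1 : i' ≫ f = i' ≫ g := by
    have hc : i' ≫ fg = pullback.snd fg (pullback.diagonal q) ≫ pullback.diagonal q :=
      pullback.condition
    have e1 := congrArg (fun φ => φ ≫ pullback.fst q q) hc
    have e2 := congrArg (fun φ => φ ≫ pullback.snd q q) hc
    simp only [Category.assoc, fg, pullback.lift_fst, pullback.lift_snd,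
      pullback.diagonal_fst, pullback.diagonal_snd, Category.comp_id] at e1 e2
    rw [e1, e2]
  have : Epi φ := epi_of_atlas φ hφE hφS
  rw [← cancel_epi φ, ← hs, Category.assoc, Category.assoc, h1]

end Groth.Agent.Lib.Helper30.DenseEq

namespace Groth.Agent.Lib.Helper30.DenseEq

open AlgSp Groth.Agent.Lib.Helper23.AlgSpMor Groth.Agent.Lib.Helper46
  Groth.Agent.Lib.Helper46.LocPChart Groth.Agent.Lib.Helper37.AlgSpPoints
  Groth.Agent.Lib.Helper5.SheafQuot

variable {S : Scheme.{u}}

set_option backward.isDefEq.respectTransparency false in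
/-- A surjective, flat, locally finitely presented morphism of algebraic spaces is an epimorphism of fppf sheaves. -/
theorem epi_of_surjective_flat_lfp {X Z : Sp S} (hX : IsAlgSpace X) (hZ : IsAlgSpace Z) (g : X ⟶ Z)
    (hgs : IsSurjectiveMor g) (hgf : LocP @Flat g) (hgp : LocP @LocallyOfFinitePresentation g) :
    Epi g := by
  refine epi_of_local_lift g (fun T ξ => ?_)
  have sq := IsPullback.of_hasPullback g ξ
  have hP : IsAlgSpace (pullback g ξ) :=
    isAlgSpace_of_isPullback hX (IsAlgSpace.yon_obj T) hZ.diag sq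
  obtain ⟨U, a, haE, haS⟩ := hP.atlas
  obtain ⟨c, hc⟩ := (yon S).map_surjective (a ≫ pullback.snd g ξ)
  have hcflat : Flat c.left :=
    locP_fibre etLocal_flat hX hZ g hgf ξ _ _ sq a haE c hc
  have hclfp : LocallyOfFinitePresentation c.left :=
    locP_fibre Groth.Agent.Lib.Helper30.EtLocalInst.etLocal_lfp hX hZ g hgp ξ _ _ sq a haE c hc
  have hcsurj : Surjective c.left := by
    refine ⟨fun t => ?_⟩
    obtain ⟨x, hx⟩ := hgs (Points.map ξ (Points.ofScheme T t))
    obtain ⟨p, hp1, hp2⟩ := points_exists_of_isPullback sq.flip (Points.ofScheme T t) x hx.symm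
    obtain ⟨w, rfl⟩ := ofPt_surjective a haS p
    refine ⟨w, ?_⟩
    have h1 : Points.ofScheme T (c.left w) = Points.ofScheme T t := by
      rw [← ofPt_yon_map, hc, ← Points.map_ofPt, hp1]
    have := congrArg (Points.toScheme T) h1
    simpa using this
  have hcov : (Sieve.overEquiv T).symm (Sieve.generate (Presieve.singleton c.left)) ∈ J S T := by
    refine GrothendieckTopology.overEquiv_symm_mem_over _ T _
      (Precoverage.generate_mem_toGrothendieck ?_)
    exact (Scheme.singleton_mem_precoverage_iff (P := @Flat ⊓ @LocallyOfFinitePresentation) c.left).2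
      ⟨hcsurj.1, hcflat, hclfp⟩
  refine ⟨_, hcov, fun Z' f' hf' => ?_⟩
  rw [Sieve.overEquiv_symm_iff] at hf'
  obtain ⟨Y, h, k, ⟨⟩, hk⟩ := hf'
  have hw : h ≫ U.hom = Z'.hom := by
    rw [← Over.w c, ← Category.assoc, hk, Over.w f']
  have hfe : f' = Over.homMk h hw ≫ c := by
    ext
    simpa using hk.symm
  refine ⟨(yon S).map (Over.homMk h hw) ≫ a ≫ pullback.fst g ξ, ?_⟩
  rw [Category.assoc, Category.assoc, pullback.condition, ← Category.assoc a, ← hc,
    ← Category.assoc, ← Functor.map_comp, ← hfe]

end Groth.Agent.Lib.Helper30.DenseEq
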