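import Mathlib
import Groth.Agent.Lib.Helper30.Codim0b
import Groth.Agent.Lib.Helper37.EtaleFibres

set_option autoImplicit false
universe u
open CategoryTheory CategoryTheory.Limits AlgebraicGeometry Opposite TopologicalSpace

namespace Groth.Agent.Lib.Helper30.DiscMono

open Groth.Agent.Lib.Helper37.EtaleFibres

/-- If `U ×_Y U ⟶ U` is étale and `Y` is discrete then `U` has no nontrivial specializations. -/
theorem eq_of_specializes_of_etale_fst {U Y : Scheme.{u}} (g : U ⟶ Y) [DiscreteTopology ↥Y]
    [Etale (pullback.fst g g)] {v' v : ↥U} (h : v' ⤳ v) : v' = v := by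
  have hy : g v' = g v := (h.map g.continuous).eq
  let c : Spec (U.residueField v) ⟶ U := U.fromSpecResidueField v
  let ι : Spec (Y.residueField (g v)) ⟶ Y := Y.fromSpecResidueField (g v)
  let cb : Spec (U.residueField v) ⟶ Spec (Y.residueField (g v)) := Spec.map (g.residueFieldMap v)
  have hc : cb ≫ ι = c ≫ g := Scheme.Hom.SpecMap_residueFieldMap_fromSpecResidueField g v
  -- étaleness of the fibre
  have h1 : Etale (pullback.fst (c ≫ g) g) := by
    rw [← pullbackRightPullbackFstIso_inv_fst g g c]
    infer_instance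
  have h2 : Etale (pullback.fst (cb ≫ ι) g) := by rw [hc]; exact h1
  have h3 : Etale (pullback.fst cb (pullback.fst ι g)) := by
    rw [← pullbackRightPullbackFstIso_hom_fst ι g cb]
    infer_instance
  have hflat : Flat cb := inferInstance
  have h4 : Flat (pullback.snd cb (pullback.fst ι g)) := inferInstance
  -- the embedding `U_y ⟶ U`
  have hemb := (pullback.snd ι g).isEmbedding
  have hrange : Set.range (pullback.snd ι g) = g ⁻¹' {g v} := by
    rw [Scheme.Pullback.range_snd, Scheme.range_fromSpecResidueField]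
  obtain ⟨v₁, hv₁⟩ : v ∈ Set.range (pullback.snd ι g) := by rw [hrange]; rfl
  obtain ⟨v₁', hv₁'⟩ : v' ∈ Set.range (pullback.snd ι g) := by rw [hrange]; exact hy
  have hs₁ : v₁' ⤳ v₁ := by
    rw [← hv₁, ← hv₁'] at h
    exact hemb.isInducing.specializes_iff.1 h
  -- a point of the fibre over `v₁`
  have hsub : Subsingleton ↥(Spec (Y.residueField (g v))) := inferInstance
  obtain ⟨pt⟩ : Nonempty ↥(Spec (U.residueField v)) := inferInstance
  obtain ⟨f, hf1, hf2⟩ := Scheme.Pullback.exists_preimage_pullback (f := cb)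
    (g := pullback.fst ι g) pt v₁ (Subsingleton.elim _ _)
  obtain ⟨f', hf's, hf'⟩ := Flat.generalizingMap (pullback.snd cb (pullback.fst ι g)) (hf2 ▸ hs₁)
  have hsubK : Subsingleton ↥(Spec (U.residueField v)) := inferInstance
  have := eq_of_specializes_of_etale (pullback.fst cb (pullback.fst ι g)) hf's (Subsingleton.elim _ _)
  rw [this, hf2] at hf'
  rw [← hv₁, ← hv₁', hf']

end Groth.Agent.Lib.Helper30.DiscMono
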