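import Groth.Prelude.Def_CInt
import Groth.Prelude.Def_BlowUp2
import Groth.Prelude.Def_CurvBase
import Groth.Prelude.Def_AlgSp3
import Mathlib.AlgebraicGeometry.IdealSheaf.Basic
import Mathlib.AlgebraicGeometry.AffineScheme
import Mathlib.AlgebraicGeometry.OpenImmersion
import Mathlib.AlgebraicGeometry.Restrict

/-!
# Effective Cartier ideal sheaves on schemes; open charts of sheaves (helper30)

* `EffCartier.compl_support_inter_eq_basicOpen`, `isLocPrincipal_of_isEffCartierIdeal`, `res_basicOpen_injective`,
  `isSchematicallyDense_of_isEffCartierIdeal` (complement of an effective Cartier divisor is schematically dense, in the sense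
  of `CInt.IsSchematicallyDense`).
* `OpenChart.exists_isPullback_opens_ι` : replace an open-immersion leg of a pullback square over a chart by `W.ι`.
-/

set_option autoImplicit false
universe u
open CategoryTheory CategoryTheory.Limits AlgebraicGeometry Opposite

namespace Groth.Agent.Lib.Helper30.EffCartier

/-- On an affine open `U` where the ideal sheaf is generated by `f`, the complement of the support is `D(f)`. -/
theorem compl_support_inter_eq_basicOpen {X : Scheme.{u}} (I : X.IdealSheafData) (U : X.affineOpens)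
    (f : Γ(X, U.1)) (hf : I.ideal U = Ideal.span {f}) :
    ((I.support : Set X))ᶜ ∩ (U.1 : Set X) = (X.basicOpen f : Set X) := by
  have h1 := I.coe_support_inter U
  rw [hf, Scheme.zeroLocus_span, Scheme.zeroLocus_singleton] at h1
  ext y
  constructor
  · rintro ⟨hy1, hy2⟩
    by_contra hy3
    exact hy1 (h1.ge ⟨hy3, hy2⟩).1
  · intro hy
    have hyU : y ∈ (U.1 : Set X) := X.basicOpen_le f hy
    exact ⟨fun hy' => (h1.le ⟨hy', hyU⟩).1 hy, hyU⟩

/-- An effective Cartier ideal sheaf is locally principal. -/
theorem isLocPrincipal_of_isEffCartierIdeal {X : Scheme.{u}} (I : X.IdealSheafData)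
    (hI : BlowUp.IsEffCartierIdeal I) : Curv2.IsLocPrincipal I := by
  intro x _
  obtain ⟨U, hxU, f, -, hf⟩ := hI x
  exact ⟨U, hxU, f, hf⟩

/-- Restriction to `D(f)` is injective on an affine open when `f` is a nonzerodivisor. -/
theorem res_basicOpen_injective {X : Scheme.{u}} {U : X.Opens} (hU : IsAffineOpen U) (f : Γ(X, U))
    (hf : f ∈ nonZeroDivisors Γ(X, U)) :
    Function.Injective (X.presheaf.map (homOfLE (X.basicOpen_le f)).op) := by
  have := hU.isLocalization_basicOpen f
  exact IsLocalization.injective (M := Submonoid.powers f) Γ(X, X.basicOpen f)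
    (Submonoid.powers_le.mpr hf)

/-- The complement of an effective Cartier divisor is scheme theoretically dense. -/
theorem isSchematicallyDense_of_isEffCartierIdeal {X : Scheme.{u}} (I : X.IdealSheafData)
    (hI : BlowUp.IsEffCartierIdeal I) (W : X.Opens) (hW : (W : Set X) = ((I.support : Set X))ᶜ) :
    CInt.IsSchematicallyDense W := by
  intro V' s t hst
  have key : ∀ x : V', ∃ N : X.Opens, ∃ hNV : N ≤ V', x.1 ∈ N ∧
      X.presheaf.map (homOfLE hNV).op s = X.presheaf.map (homOfLE hNV).op t := by
    intro x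
    obtain ⟨U, hxU, f, hfnz, hf⟩ := hI x.1
    obtain ⟨g, hgV, hxg⟩ := U.2.exists_basicOpen_le x hxU
    refine ⟨X.basicOpen g, hgV, hxg, ?_⟩
    have hN : IsAffineOpen (X.basicOpen g) := U.2.basicOpen g
    set f' : Γ(X, X.basicOpen g) := X.presheaf.map (homOfLE (X.basicOpen_le g)).op f with hf'
    have hf'nz : f' ∈ nonZeroDivisors Γ(X, X.basicOpen g) := by
      have := U.2.isLocalization_basicOpen g
      exact IsLocalization.map_nonZeroDivisors_le (Submonoid.powers g) Γ(X, X.basicOpen g)
        (Submonoid.mem_map_of_mem _ hfnz)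
    apply res_basicOpen_injective hN f' hf'nz
    have hle : X.basicOpen f' ≤ V' ⊓ W := by
      rw [hf', Scheme.basicOpen_res]
      intro y hy
      refine ⟨hgV hy.1, ?_⟩
      change y ∈ (W : Set X)
      rw [hW]
      have := (compl_support_inter_eq_basicOpen I U f hf).ge hy.2
      exact this.1
    have e : ∀ r : Γ(X, V'), X.presheaf.map (homOfLE (X.basicOpen_le f')).op
        (X.presheaf.map (homOfLE hgV).op r) =
        X.presheaf.map (homOfLE hle).op (X.presheaf.map (homOfLE (inf_le_left : V' ⊓ W ≤ V')).op r) := by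
      intro r
      rw [← ConcreteCategory.comp_apply, ← ConcreteCategory.comp_apply, ← Functor.map_comp,
        ← Functor.map_comp]
      rfl
    rw [e, e, hst]
  choose N hNV hxN hN using key
  refine TopCat.Sheaf.eq_of_locally_eq' X.sheaf N V' (fun x => homOfLE (hNV x)) ?_ s t hN
  intro y hy
  exact TopologicalSpace.Opens.mem_iSup.mpr ⟨⟨y, hy⟩, hxN ⟨y, hy⟩⟩

end Groth.Agent.Lib.Helper30.EffCartier

namespace Groth.Agent.Lib.Helper30.OpenChart

open AlgSp

variable {S : Scheme.{u}}

/-- A pullback square whose scheme-level leg is an open immersion with range the open `W` can be replaced by one whose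
leg is the inclusion `W.ι`. -/
theorem exists_isPullback_opens_ι {F G : Sp S} {j : G ⟶ F} {V XV : Over S} {φ : (yon S).obj V ⟶ F}
    {ιV : XV ⟶ V} {fstV : (yon S).obj XV ⟶ G} (sqV : IsPullback fstV ((yon S).map ιV) j φ)
    [IsOpenImmersion ιV.left] (W : V.left.Opens) (hW : Set.range ιV.left = (W : Set V.left)) :
    ∃ fst : (yon S).obj (Over.mk (W.ι ≫ V.hom)) ⟶ G,
      IsPullback fst ((yon S).map (Over.homMk W.ι rfl : Over.mk (W.ι ≫ V.hom) ⟶ V)) j φ := by
  have hr : Set.range W.ι = Set.range ιV.left := by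
    rw [hW]; exact Scheme.Opens.range_ι W
  let e0 : (W : Scheme.{u}) ≅ XV.left := IsOpenImmersion.isoOfRangeEq W.ι ιV.left hr
  have he0 : e0.hom ≫ ιV.left = W.ι := IsOpenImmersion.isoOfRangeEq_hom_fac _ _ _
  let e : Over.mk (W.ι ≫ V.hom) ≅ XV := Over.isoMk e0 (by
    change e0.hom ≫ XV.hom = W.ι ≫ V.hom
    rw [← Over.w ιV, ← Category.assoc, he0])
  have he : e.hom ≫ ιV = (Over.homMk W.ι rfl : Over.mk (W.ι ≫ V.hom) ⟶ V) := by
    ext
    exact he0
  refine ⟨(yon S).map e.hom ≫ fstV, ?_⟩
  refine IsPullback.of_iso sqV ((yon S).mapIso e).symm (Iso.refl _) (Iso.refl _) (Iso.refl _) ?_ ?_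
    (by simp) (by simp)
  · simp only [Iso.refl_hom, Category.comp_id, Iso.symm_hom, Functor.mapIso_inv]
    rw [← Category.assoc, ← Functor.map_comp, Iso.inv_hom_id, CategoryTheory.Functor.map_id, Category.id_comp]
  · simp only [Iso.refl_hom, Category.comp_id, Iso.symm_hom, Functor.mapIso_inv]
    rw [← Functor.map_comp, ← he, Iso.inv_hom_id_assoc]

end Groth.Agent.Lib.Helper30.OpenChart
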