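import Groth.Agent.Lib.Helper30.ElemNbhd
import Groth.Agent.Lib.Helper87.BranchEtaleHens
import Groth.Agent.Lib.Helper87.Unibranch2
import Groth.Agent.Lib.Helper87.CompStalk
import Groth.Agent.S9235
import Groth.Agent.S9237

/-!
# Branches at points of decent spaces via elementary étale neighbourhoods (helper30)
-/

set_option autoImplicit false
universe u
open CategoryTheory CategoryTheory.Limits AlgebraicGeometry Opposite

namespace Groth.Agent.Lib.Helper30.ElemBranch

open AlgSp Groth.Agent.Lib.Helper30.ElemNbhd Groth.Agent.Lib.Helper87.BranchEtaleHens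
  Groth.Agent.Lib.Helper87

variable {S : Scheme.{u}}

/-- The number of branches is the same at all elementary étale neighbourhoods of a point. -/
theorem numBranchesAt_eq_of_elem (X : Space S) {x : Points X.obj} {U U₀ : Over S}
    {a : (yon S).obj U ⟶ X.obj} {a₀ : (yon S).obj U₀ ⟶ X.obj} {u : ↥U.left} {u₀ : ↥U₀.left}
    (h : IsElemEtaleNbhd a u x) (h₀ : IsElemEtaleNbhd a₀ u₀ x) :
    Brnch.numBranchesAt U.left u = Brnch.numBranchesAt U₀.left u₀ := by
  obtain ⟨P, p1, p2, r, -, hp1, hp2, e1, b1, e2, b2⟩ := exists_common_refinement X h h₀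
  have h1 := numBranchesAt_eq_of_etaleNbhd p1.left r b1
  have h2 := numBranchesAt_eq_of_etaleNbhd p2.left r b2
  have e1' : p1.left.base r = u := e1
  have e2' : p2.left.base r = u₀ := e2
  rw [e1'] at h1
  rw [e2'] at h2
  exact h1.symm.trans h2

/-- The number of irreducible components through a point is at most the number of branches. -/
theorem encard_comps_le (U : Scheme.{u}) (u : ↥U) :
    {Z : Set ↥U | Z ∈ irreducibleComponents ↥U ∧ u ∈ Z}.encard ≤ Brnch.numBranchesAt U u := by
  have hb : Function.Bijective ((𝟙 U : U ⟶ U).residueFieldMap u) := by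
    rw [Scheme.residueFieldMap_id]
    exact Function.bijective_id
  exact encard_comps_le_numBranchesAt (𝟙 U) u hb

/-- If there are at least `n` branches, some elementary étale neighbourhood has at least `n`
irreducible components through its point. -/
theorem exists_elem_le {X : Sp S} {x : Points X} {U : Over S} {a : (yon S).obj U ⟶ X}
    {u : ↥U.left} (h : IsElemEtaleNbhd a u x) (n : ℕ)
    (hn : (n : ℕ∞) ≤ Brnch.numBranchesAt U.left u) :
    ∃ (U' : Over S) (a' : (yon S).obj U' ⟶ X) (u' : ↥U'.left), IsElemEtaleNbhd a' u' x ∧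
      (n : ℕ∞) ≤ {Z : Set ↥U'.left | Z ∈ irreducibleComponents ↥U'.left ∧ u' ∈ Z}.encard := by
  obtain ⟨U', g, u', hg, hle⟩ := exists_etaleNbhd_le U.left u n hn
  exact ⟨Over.mk (g ≫ U.hom), _, u', isElemEtaleNbhd_of_isEtaleNbhd h g u' hg, hle⟩

theorem encard_minimalPrimes_eq_numBranches (A R : Type u) [CommRing A] [IsLocalRing A]
    [CommRing R] [IsLocalRing R] [Algebra A R] [IsLocalHom (algebraMap A R)]
    [Hensel.IsHenselization A R] :
    (minimalPrimes R).encard = Brnch.numBranches A := by
  rw [← Groth.Agent.S9237.result A R]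
  rfl

theorem one_le_numBranches (A : Type u) [CommRing A] [IsLocalRing A] :
    1 ≤ Brnch.numBranches A := by
  have := Hens.isHenselization_Hh A
  rw [← encard_minimalPrimes_eq_numBranches A (Hens.Hh A)]
  rw [Set.one_le_encard_iff_nonempty]
  obtain ⟨p, hp, -⟩ := Ideal.exists_minimalPrimes_le (I := (⊥ : Ideal (Hens.Hh A)))
    (J := IsLocalRing.maximalIdeal _) bot_le
  exact ⟨p, hp⟩

theorem one_le_encard_minimalPrimes (A : Type u) [CommRing A] [Nontrivial A] :
    1 ≤ (minimalPrimes A).encard := by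
  rw [Set.one_le_encard_iff_nonempty]
  obtain ⟨m, hm⟩ := Ideal.exists_maximal A
  obtain ⟨p, hp, -⟩ := Ideal.exists_minimalPrimes_le (I := (⊥ : Ideal A))
    (J := m) bot_le
  exact ⟨p, hp⟩

theorem hasUniqueMinimalPrime_iff (A : Type u) [CommRing A] :
    CAlgX.HasUniqueMinimalPrime A ↔ (minimalPrimes A).encard = 1 := by
  unfold CAlgX.HasUniqueMinimalPrime
  rw [Set.encard_eq_one]
  constructor
  · rintro ⟨p, hp, hu⟩
    exact ⟨p, Set.eq_singleton_iff_unique_mem.mpr ⟨hp, hu⟩⟩
  · rintro ⟨p, hp⟩
    rw [Set.eq_singleton_iff_unique_mem] at hp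
    exact ⟨p, hp.1, hp.2⟩

/-- The number of branches at any elementary étale neighbourhood is the number of minimal primes
of the henselization of the local ring at a fixed one. -/
theorem numBranchesAt_eq_encard (X : Space S) {x : Points X.obj} {U U₀ : Over S}
    {a : (yon S).obj U ⟶ X.obj} {a₀ : (yon S).obj U₀ ⟶ X.obj} {u : ↥U.left} {u₀ : ↥U₀.left}
    (h : IsElemEtaleNbhd a u x) (h₀ : IsElemEtaleNbhd a₀ u₀ x)
    (R : Type u) [CommRing R] [IsLocalRing R] [Algebra ↥(U₀.left.presheaf.stalk u₀) R]
    [IsLocalHom (algebraMap ↥(U₀.left.presheaf.stalk u₀) R)]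
    [Hensel.IsHenselization ↥(U₀.left.presheaf.stalk u₀) R] :
    Brnch.numBranchesAt U.left u = (minimalPrimes R).encard := by
  rw [numBranchesAt_eq_of_elem X h h₀,
    encard_minimalPrimes_eq_numBranches ↥(U₀.left.presheaf.stalk u₀) R]
  rfl

end Groth.Agent.Lib.Helper30.ElemBranch
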