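import Groth.Agent.Lib.Helper30.PairDescent
import Groth.Agent.Lib.Helper30.AlgSpAtlas
import Groth.Agent.Lib.Helper37.AlgSpPoints
import Groth.Agent.Lib.Helper62.AlgSpMono
import Groth.Prelude.Def_AlgSpSub

/-!
# Elementary distinguished squares of algebraic spaces are pushouts (helper30)
-/

set_option autoImplicit false
universe u
open CategoryTheory CategoryTheory.Limits AlgebraicGeometry Opposite

namespace Groth.Agent.Lib.Helper30.ElemDistSq

open AlgSp Groth.Agent.Lib.Helper5.SheafQuot Groth.Agent.Lib.Helper5.QuotShDescend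
open Groth.Agent.Lib.Helper37.AlgSpPoints Groth.Agent.Lib.Helper5.OpenLocal

variable {S : Scheme.{u}}

/-- The point of `R` over a point of `T` in a pullback square with representable corners `R`, `T`. -/
theorem exists_point_of_isPullback {U W : Sp S} {T R : Over S} {j : U ⟶ W}
    {w : (yon S).obj T ⟶ W} {fst : (yon S).obj R ⟶ U} {snd : R ⟶ T}
    (h : IsPullback fst ((yon S).map snd) j w) (t : ↥T.left) (ξ : Points U)
    (e : Points.map j ξ = Points.ofPt w t) : ∃ r : ↥R.left, snd.left r = t := by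
  obtain ⟨p, -, hp2⟩ := points_exists_of_isPullback h ξ (Points.ofScheme T t)
    (by rw [e, Points.ofPt_eq_map_ofScheme])
  refine ⟨Points.toScheme R p, ?_⟩
  apply (Points.schemeEquiv T).injective
  change Points.ofScheme T _ = Points.ofScheme T t
  rw [← hp2, ← ofPt_yon_map, ← Points.ofScheme_toScheme R p, Points.toScheme_ofScheme,
    Points.ofPt_eq_map_ofScheme]

/-- A two-member fppf covering family generates a covering sieve. -/
theorem pair_mem_J {T Y₁ Y₂ : Over S} (f₁ : Y₁ ⟶ T) (f₂ : Y₂ ⟶ T)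
    [Flat f₁.left] [LocallyOfFinitePresentation f₁.left]
    [Flat f₂.left] [LocallyOfFinitePresentation f₂.left]
    (hc : ∀ t : ↥T.left, t ∈ Set.range f₁.left ∨ t ∈ Set.range f₂.left) :
    ∃ R₀ ∈ J S T, ∀ ⦃T' : Over S⦄ (φ : T' ⟶ T), R₀ φ →
      (∃ h : T' ⟶ Y₁, h ≫ f₁ = φ) ∨ (∃ h : T' ⟶ Y₂, h ≫ f₂ = φ) := by
  let Y : ULift.{u} Bool → Over S := fun b => match b with
    | ⟨true⟩ => Y₁
    | ⟨false⟩ => Y₂
  let f : ∀ b, Y b ⟶ T := fun b => match b with
    | ⟨true⟩ => f₁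
    | ⟨false⟩ => f₂
  refine ⟨Sieve.ofArrows Y f, ofArrows_mem_J_fppf Y f ?_ ?_ ?_, ?_⟩
  · rintro ⟨_ | _⟩ <;> (dsimp only [Y, f]; infer_instance)
  · rintro ⟨_ | _⟩ <;> (dsimp only [Y, f]; infer_instance)
  · intro t
    rcases hc t with h | h
    · exact ⟨⟨true⟩, h⟩
    · exact ⟨⟨false⟩, h⟩
  · rintro T' φ ⟨_, h, _, ⟨⟨_ | _⟩⟩, rfl⟩
    · exact Or.inr ⟨h, rfl⟩
    · exact Or.inl ⟨h, rfl⟩

/-- Joint local surjectivity of an open immersion and an étale chart covering all points. -/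
theorem exists_cover_lift {U W : Sp S} {A : Over S} (j : U ⟶ W) (hj : RepWith @IsOpenImmersion j)
    (a' : (yon S).obj A ⟶ W) (ha' : RepWith @Etale a')
    (hcov : ∀ x : Points W, x ∈ Set.range (Points.map j) ∨ x ∈ Set.range (Points.ofPt a'))
    (T : Over S) (w : (yon S).obj T ⟶ W) :
    ∃ R₀ ∈ J S T, ∀ ⦃T' : Over S⦄ (φ : T' ⟶ T), R₀ φ →
      (∃ u : (yon S).obj T' ⟶ U, u ≫ j = (yon S).map φ ≫ w) ∨
        (∃ x : (yon S).obj T' ⟶ (yon S).obj A, x ≫ a' = (yon S).map φ ≫ w) := by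
  have hOI : IsOpenImmersion (hj.rep.snd w).left := hj.property_snd w
  have hEt : Etale (ha'.rep.snd w).left := ha'.property_snd w
  have hc : ∀ t : ↥T.left, t ∈ Set.range (hj.rep.snd w).left ∨ t ∈ Set.range (ha'.rep.snd w).left := by
    intro t
    rcases hcov (Points.ofPt w t) with ⟨ξ, hξ⟩ | ⟨a₀, ha₀⟩
    · exact Or.inl (exists_point_of_isPullback (hj.rep.isPullback w) t ξ hξ)
    · right
      obtain ⟨r, -, hr⟩ := (ofPt_eq_ofPt_iff (ha'.rep.isPullback' w) a₀ t).1 ha₀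
      exact ⟨r, hr⟩
  obtain ⟨R₀, hR₀, hl⟩ := pair_mem_J (hj.rep.snd w) (ha'.rep.snd w) hc
  refine ⟨R₀, hR₀, fun T' φ hφ => ?_⟩
  rcases hl φ hφ with ⟨h, rfl⟩ | ⟨h, rfl⟩
  · exact Or.inl ⟨(yon S).map h ≫ hj.rep.fst w, by
      rw [Category.assoc, hj.rep.w, Functor.map_comp, Category.assoc]⟩
  · exact Or.inr ⟨(yon S).map h ≫ ha'.rep.fst w, by
      rw [Category.assoc, ha'.rep.w, Functor.map_comp, Category.assoc]⟩

/-- If the point of `F` defined by `t ∈ T` and `g : h_T ⟶ F` is the class of a field-valued point `q`, the two agree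
over a common field extension, which maps to `T` with image `t`. -/
theorem exists_common_ext {F : Sp S} {T : Over S} (g : (yon S).obj T ⟶ F) (t : ↥T.left)
    (q : FieldPt F) (h : Points.ofPt g t = Points.mk q) :
    ∃ (Ω : Type u) (_ : Field Ω) (w : Spec (CommRingCat.of Ω) ⟶ S) (m : Over.mk w ⟶ T)
      (b : Over.mk w ⟶ q.pt),
      m.left (IsLocalRing.closedPoint Ω) = t ∧ (yon S).map m ≫ g = (yon S).map b ≫ q.toHom := by
  obtain ⟨Ω, _, w, a, b, hab⟩ := Points.mk_eq_mk_iff.1 h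
  refine ⟨Ω, inferInstance, w, a ≫ Over.homMk (T.left.fromSpecResidueField t) rfl, b, ?_, ?_⟩
  · have h1 : (a ≫ (Over.homMk (T.left.fromSpecResidueField t) rfl :
        (FieldPt.ofPt g t).pt ⟶ T)).left = a.left ≫ T.left.fromSpecResidueField t := rfl
    rw [h1]
    exact (Scheme.Hom.comp_apply a.left (T.left.fromSpecResidueField t) _).trans
      (Scheme.fromSpecResidueField_apply _ _)
  · rw [Functor.map_comp, Category.assoc, ← FieldPt.toHom_ofPt]
    have := congrArg (secEquiv _ F).symm hab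
    rw [GrothendieckTopology.uliftYonedaEquiv_symm_map,
      GrothendieckTopology.uliftYonedaEquiv_symm_map] at this
    exact this

/-- Two maps to `V` lying over the same map to `T₀`, where `f⁻¹ T₀ ⟶ T₀` is a monomorphism, agree. -/
theorem eq_of_mono_fst {C : Type*} [Category C] {T₀ W V P' E : C} {i : T₀ ⟶ W} {f : V ⟶ W}
    {p₁ : P' ⟶ T₀} {p₂ : P' ⟶ V} (hpb : IsPullback p₁ p₂ i f) [Mono p₁] (n : E ⟶ T₀)
    (ν₁ ν₂ : E ⟶ V) (h₁ : ν₁ ≫ f = n ≫ i) (h₂ : ν₂ ≫ f = n ≫ i) : ν₁ = ν₂ := by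
  have e : hpb.lift n ν₁ h₁.symm = hpb.lift n ν₂ h₂.symm := by
    rw [← cancel_mono p₁, hpb.lift_fst, hpb.lift_fst]
  rw [← hpb.lift_snd n ν₁ h₁.symm, e, hpb.lift_snd]

/-- The kernel pair `R = A ×_W A` of an étale chart `A ⟶ V ⟶ W` is covered by the part over the open `U` and by
`A ×_V A`, when `V ⟶ W` is a monomorphism over a complement `T₀` of `U`. -/
theorem kernelPair_cover {U V W T₀ P' : Sp S} {A R R' RU : Over S} (j : U ⟶ W) (f : V ⟶ W)
    (α : (yon S).obj A ⟶ V) (i : T₀ ⟶ W) (p₁ : P' ⟶ T₀) (p₂ : P' ⟶ V) (hpb : IsPullback p₁ p₂ i f)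
    [Mono p₁]
    (hrange : ∀ x : Points W, x ∈ Set.range (Points.map j) ∨ x ∈ Set.range (Points.map i))
    {r₁ r₂ : R ⟶ A} (hR : IsPullback ((yon S).map r₁) ((yon S).map r₂) (α ≫ f) (α ≫ f))
    {δ₁ δ₂ : R' ⟶ A} (hR' : IsPullback ((yon S).map δ₁) ((yon S).map δ₂) α α)
    (δ : R' ⟶ R) (hδ₁ : δ ≫ r₁ = δ₁) (hδ₂ : δ ≫ r₂ = δ₂)
    {ι : RU ⟶ R} {uR : (yon S).obj RU ⟶ U}
    (hRU : IsPullback uR ((yon S).map ι) j ((yon S).map r₁ ≫ α ≫ f)) (r : ↥R.left) :
    r ∈ Set.range ι.left ∨ r ∈ Set.range δ.left := by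
  rcases hrange (Points.ofPt ((yon S).map r₁ ≫ α ≫ f) r) with ⟨ξ, hξ⟩ | ⟨τ, hτ⟩
  · exact Or.inl (exists_point_of_isPullback hRU r ξ hξ)
  · right
    induction τ using Points.ind with
    | h τ₀ =>
    obtain ⟨Ω, _, w, m, b₀, hm, hmb⟩ := exists_common_ext ((yon S).map r₁ ≫ α ≫ f) r (τ₀.map i)
      (hτ.symm.trans (Points.map_mk i τ₀))
    rw [FieldPt.toHom_map] at hmb
    let b₁ : Over.mk w ⟶ τ₀.pt := b₀
    have hmb' : (yon S).map m ≫ (yon S).map r₁ ≫ α ≫ f = (yon S).map b₁ ≫ τ₀.toHom ≫ i := hmb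
    have key : (yon S).map m ≫ (yon S).map r₁ ≫ α = (yon S).map m ≫ (yon S).map r₂ ≫ α := by
      refine eq_of_mono_fst hpb ((yon S).map b₁ ≫ τ₀.toHom) _ _ ?_ ?_
      · simp only [Category.assoc]
        exact hmb'
      · simp only [Category.assoc]
        rw [← hmb']
        congr 1
        exact hR.w.symm
    have key' : (yon S).map (m ≫ r₁) ≫ α = (yon S).map (m ≫ r₂) ≫ α := by
      rw [Functor.map_comp, Functor.map_comp, Category.assoc, Category.assoc]
      exact key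
    obtain ⟨m', hm'⟩ := (yon S).map_surjective (hR'.lift _ _ key')
    have e : m' ≫ δ = m := by
      apply (yon S).map_injective
      apply hR.hom_ext
      · rw [← Functor.map_comp, Category.assoc, hδ₁, Functor.map_comp, hm', hR'.lift_fst,
          Functor.map_comp]
      · rw [← Functor.map_comp, Category.assoc, hδ₂, Functor.map_comp, hm', hR'.lift_snd,
          Functor.map_comp]
    refine ⟨m'.left (IsLocalRing.closedPoint Ω), ?_⟩
    have e' : m'.left ≫ δ.left = m.left := by rw [← Over.comp_left, e]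
    exact ((Scheme.Hom.comp_apply m'.left δ.left _).symm.trans
      (congrArg (fun k : (Over.mk w).left ⟶ R.left => k (IsLocalRing.closedPoint Ω)) e')).trans hm

open Groth.Agent.Lib.Helper30.AlgSpAtlas in
/-- **An elementary distinguished square is a pushout of fppf sheaves.** -/
theorem existsUnique_desc {U V W P Z : Sp S} (hV : IsAlgSpace V) (j : U ⟶ W) (f : V ⟶ W)
    (hsq : IsElemDistSq j f) (p : P ⟶ U) (q : P ⟶ V) (hP : IsPullback p q j f)
    (a : U ⟶ Z) (b : V ⟶ Z) (hab : p ≫ a = q ≫ b) :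
    ∃! σ : W ⟶ Z, j ≫ σ = a ∧ f ≫ σ = b := by
  obtain ⟨hj, hf, T₀, P', i, p₁, p₂, hred, hpb, hiso⟩ := hsq
  obtain ⟨A, α, hαE, hαS⟩ := hV.atlas
  have ha' : RepWith @Etale (α ≫ f) := hf α hαE
  have : Mono j := Groth.Agent.Lib.Helper62.mono_of_repWith @IsOpenImmersion
    (fun f hf => by haveI := hf; infer_instance) j hj
  have : Epi α := epi_of_atlas α hαE hαS
  have hrange : ∀ x : Points W, x ∈ Set.range (Points.map j) ∨ x ∈ Set.range (Points.map i) := by
    intro x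
    by_cases hx : x ∈ Set.range (Points.map j)
    · exact Or.inl hx
    · right
      rw [hred.2.1]
      exact hx
  have hcov : ∀ x : Points W, x ∈ Set.range (Points.map j) ∨
      x ∈ Set.range (Points.ofPt (α ≫ f)) := by
    intro x
    rcases hrange x with hx | ⟨τ, rfl⟩
    · exact Or.inl hx
    · right
      obtain ⟨a₀, ha₀⟩ := ofPt_surjective α hαS (Points.map p₂ (Points.map (inv p₁) τ))
      refine ⟨a₀, ?_⟩
      rw [← Points.map_ofPt, ha₀, ← Points.map_comp, ← Points.map_comp, ← hpb.w,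
        IsIso.inv_hom_id_assoc]
  -- compatibility of `a` and `b` on `U ×_W V`
  have UV : ∀ {E : Sp S} (u : E ⟶ U) (ν : E ⟶ V), u ≫ j = ν ≫ f → u ≫ a = ν ≫ b := by
    intro E u ν e
    rw [← hP.lift_fst u ν e, Category.assoc, hab, ← Category.assoc, hP.lift_snd]
  have GG : ∀ (T : Over S) (x₁ x₂ : (yon S).obj T ⟶ (yon S).obj A),
      x₁ ≫ α ≫ f = x₂ ≫ α ≫ f → x₁ ≫ α ≫ b = x₂ ≫ α ≫ b := by
    intro T x₁ x₂ hx
    obtain ⟨R, r₁, r₂, hR, hr₁, hr₂⟩ := exists_kernelPair (α ≫ f) ha'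
    suffices h : (yon S).map r₁ ≫ α ≫ b = (yon S).map r₂ ≫ α ≫ b by
      rw [← hR.lift_fst x₁ x₂ hx, Category.assoc, h, ← Category.assoc, hR.lift_snd]
    have hR' := hαE.rep.isPullback' α
    obtain ⟨δ, hδ⟩ := (yon S).map_surjective (hR.lift _ _
      (show (yon S).map (hαE.rep.fst' α) ≫ α ≫ f = (yon S).map (hαE.rep.snd α) ≫ α ≫ f by
        rw [← Category.assoc, ← Category.assoc, hR'.w]))
    have hδ₁ : δ ≫ r₁ = hαE.rep.fst' α :=
      (yon S).map_injective (by rw [Functor.map_comp, hδ, hR.lift_fst])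
    have hδ₂ : δ ≫ r₂ = hαE.rep.snd α :=
      (yon S).map_injective (by rw [Functor.map_comp, hδ, hR.lift_snd])
    have hδ₂E : Etale (hαE.rep.snd α).left := hαE.property_snd α
    have hδE : Etale δ.left := by
      refine MorphismProperty.of_postcomp (W := @Etale) (W' := @Etale) δ.left r₂.left hr₂ ?_
      rw [← Over.comp_left, hδ₂]
      exact hδ₂E
    have hRU := hj.rep.isPullback ((yon S).map r₁ ≫ α ≫ f)
    have hιO : IsOpenImmersion (hj.rep.snd ((yon S).map r₁ ≫ α ≫ f)).left := hj.property_snd _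
    obtain ⟨R₀, hR₀, hl⟩ := pair_mem_J (hj.rep.snd ((yon S).map r₁ ≫ α ≫ f)) δ
      (kernelPair_cover j f α i p₁ p₂ hpb hrange hR hR' δ hδ₁ hδ₂ hRU)
    refine eq_of_locally_eq _ _ R₀ hR₀ ?_
    intro T' φ hφ
    rcases hl φ hφ with ⟨h, rfl⟩ | ⟨h, rfl⟩
    · rw [Functor.map_comp, Category.assoc, Category.assoc]
      congr 1
      have e₁ := UV (hj.rep.fst ((yon S).map r₁ ≫ α ≫ f))
        ((yon S).map (hj.rep.snd ((yon S).map r₁ ≫ α ≫ f)) ≫ (yon S).map r₁ ≫ α)
        (by rw [hRU.w]; simp only [Category.assoc])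
      have e₂ := UV (hj.rep.fst ((yon S).map r₁ ≫ α ≫ f))
        ((yon S).map (hj.rep.snd ((yon S).map r₁ ≫ α ≫ f)) ≫ (yon S).map r₂ ≫ α)
        (by rw [hRU.w]; simp only [Category.assoc]; congr 1; exact hR.w)
      simp only [Category.assoc] at e₁ e₂
      rw [← e₁, e₂]
    · rw [Functor.map_comp, Category.assoc, Category.assoc]
      congr 1
      rw [← Category.assoc, ← Functor.map_comp, hδ₁, ← Category.assoc ((yon S).map δ),
        ← Functor.map_comp, hδ₂, ← Category.assoc, hR'.w, Category.assoc]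
  have H : PairDescent.Hyp j (α ≫ f) a (α ≫ b) :=
    { ls := exists_cover_lift j hj (α ≫ f) ha' hcov
      uu := fun T u₁ u₂ h => by rw [(cancel_mono j).1 h]
      ug := fun T u x h => by
        have := UV u (x ≫ α) (by rw [h, Category.assoc])
        rw [this, Category.assoc]
      gg := fun T x₁ x₂ h => by
        have := GG T x₁ x₂ (by simpa only [Category.assoc] using h)
        simpa only [Category.assoc] using this }
  obtain ⟨σ, h1, h2⟩ := PairDescent.exists_desc H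
  have h2' : f ≫ σ = b := by
    rw [← cancel_epi α, ← Category.assoc]
    exact h2
  refine ⟨σ, ⟨h1, h2'⟩, ?_⟩
  rintro σ' ⟨h1', h2''⟩
  exact PairDescent.desc_unique H σ' σ (h1'.trans h1.symm)
    (by rw [Category.assoc, Category.assoc, h2'', h2'])

end Groth.Agent.Lib.Helper30.ElemDistSq
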