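import Mathlib
import Groth.Prelude.Def_Hens2
import Groth.Prelude.Def_AlgSpDec
import Groth.Agent.Lib.Helper37.AlgSpDecent
import Groth.Agent.Lib.Helper36.AlgSpChartDiag

/-!
# Elementary étale neighbourhoods of points of algebraic spaces (helper30)
-/

set_option autoImplicit false
universe u
open CategoryTheory CategoryTheory.Limits AlgebraicGeometry Opposite

namespace Groth.Agent.Lib.Helper30.ElemNbhd

open AlgSp Groth.Agent.Lib.Helper37.AlgSpPoints Groth.Agent.Lib.Helper37.AlgSpDecent
  Groth.Agent.Lib.Helper36.AlgSpCharts Groth.Agent.Lib.Helper36.AlgSpChartDiag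

/-- A morphism from the spectrum of a field which, composed with `f`, is the canonical point of `u` up
to an isomorphism of residue fields, has image a point over `u` with trivial residue field extension. -/
theorem residueFieldMap_bijective_of_factor {K : Type u} [Field K] {P U : Scheme.{u}}
    (ℓ : Spec (CommRingCat.of K) ⟶ P) (f : P ⟶ U) (u : ↥U) (ψ : U.residueField u ⟶ CommRingCat.of K)
    (hψ : Function.Bijective ψ.hom)
    (hℓ : ℓ ≫ f = Spec.map ψ ≫ U.fromSpecResidueField u) (cp : ↥(Spec (CommRingCat.of K))) :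
    f (ℓ cp) = u ∧ Function.Bijective (f.residueFieldMap (ℓ cp)).hom := by
  have hsub : Subsingleton ↥(Spec (CommRingCat.of K)) :=
    (inferInstance : Subsingleton (PrimeSpectrum K))
  have e : f (ℓ cp) = u := by
    have h0 : f (ℓ cp) = U.fromSpecResidueField u (Spec.map ψ cp) := by
      rw [← Scheme.Hom.comp_apply, ← Scheme.Hom.comp_apply, hℓ]
    exact h0.trans (Scheme.fromSpecResidueField_apply _ _)
  have hcp : cp = IsLocalRing.closedPoint K := Subsingleton.elim _ _
  subst hcp
  refine ⟨e, ?_⟩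
  set r := ℓ (IsLocalRing.closedPoint K) with hr
  have h1 : Spec.map (Scheme.descResidueField (Scheme.stalkClosedPointTo ℓ)) ≫
      P.fromSpecResidueField r = ℓ :=
    Scheme.descResidueField_stalkClosedPointTo_fromSpecResidueField K P ℓ
  have h2 : Spec.map (f.residueFieldMap r) ≫ U.fromSpecResidueField (f r) =
      P.fromSpecResidueField r ≫ f := Scheme.Hom.SpecMap_residueFieldMap_fromSpecResidueField f r
  have h3 : Spec.map (U.residueFieldCongr e).hom ≫ U.fromSpecResidueField (f r) =
      U.fromSpecResidueField u := Scheme.residueFieldCongr_fromSpecResidueField e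
  have h4 : Spec.map (f.residueFieldMap r ≫ Scheme.descResidueField (Scheme.stalkClosedPointTo ℓ)) ≫
      U.fromSpecResidueField (f r) =
      Spec.map ((U.residueFieldCongr e).hom ≫ ψ) ≫ U.fromSpecResidueField (f r) := by
    rw [Spec.map_comp, Category.assoc, h2, ← Category.assoc, h1, hℓ, Spec.map_comp, Category.assoc,
      h3]
  have h5 : f.residueFieldMap r ≫ Scheme.descResidueField (Scheme.stalkClosedPointTo ℓ) =
      (U.residueFieldCongr e).hom ≫ ψ :=
    Spec.map_injective ((cancel_mono (U.fromSpecResidueField (f r))).1 h4)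
  have hbij : Function.Bijective ((U.residueFieldCongr e).hom ≫ ψ).hom := by
    rw [CommRingCat.hom_comp]
    exact hψ.comp (ConcreteCategory.bijective_of_isIso (U.residueFieldCongr e).hom)
  rw [← h5, CommRingCat.hom_comp] at hbij
  have hδi : Function.Injective (Scheme.descResidueField (Scheme.stalkClosedPointTo ℓ)).hom :=
    RingHom.injective _
  have hδs : Function.Surjective (Scheme.descResidueField (Scheme.stalkClosedPointTo ℓ)).hom :=
    Function.Surjective.of_comp hbij.2
  have hδ : Function.Bijective (Scheme.descResidueField (Scheme.stalkClosedPointTo ℓ)).hom :=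
    ⟨hδi, hδs⟩
  exact (Function.Bijective.of_comp_iff' hδ _).1 hbij

variable {S : Scheme.{u}}

/-- Two elementary étale neighbourhoods of the same point of an algebraic space have a common étale
refinement through a point with trivial residue field extensions. -/
theorem exists_common_refinement (X : Space S) {x : Points X.obj} {U U₀ : Over S}
    {a : (yon S).obj U ⟶ X.obj} {a₀ : (yon S).obj U₀ ⟶ X.obj} {u : ↥U.left} {u₀ : ↥U₀.left}
    (h : IsElemEtaleNbhd a u x) (h₀ : IsElemEtaleNbhd a₀ u₀ x) :
    ∃ (P : Over S) (p1 : P ⟶ U) (p2 : P ⟶ U₀) (r : ↥P.left),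
      (yon S).map p1 ≫ a = (yon S).map p2 ≫ a₀ ∧ Etale p1.left ∧ Etale p2.left ∧
      p1.left r = u ∧ Function.Bijective (p1.left.residueFieldMap r).hom ∧
      p2.left r = u₀ ∧ Function.Bijective (p2.left.residueFieldMap r).hom := by
  obtain ⟨P, p1, p2, sq⟩ := exists_isPullback_yon a a₀ h₀.etale.rep
  have hp1 : Etale p1.left := prop_fst_of_isPullback sq h₀.etale
  have hp2 : Etale p2.left := prop_snd_of_isPullback sq h.etale
  have hmk : Points.mk (FieldPt.ofPt a₀ u₀) = Points.mk (FieldPt.ofPt a u) :=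
    h₀.ofPt_eq.trans h.ofPt_eq.symm
  have hrep₀ : Representable (FieldPt.ofPt a₀ u₀).toHom := X.property.representable_from_yon _
  have hrep : Representable (FieldPt.ofPt a u).toHom := X.property.representable_from_yon _
  have hm₀ := h₀.mono
  have hm := h.mono
  obtain ⟨c₀, hc₀⟩ := exists_factor_of_mono_fieldPt (FieldPt.ofPt a₀ u₀) (FieldPt.ofPt a u) hmk
    hm₀ hrep₀
  obtain ⟨c, hc⟩ := exists_factor_of_mono_fieldPt (FieldPt.ofPt a u) (FieldPt.ofPt a₀ u₀) hmk.symm
    hm hrep
  -- `c₀` and `c` are mutually inverse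
  have hcc : c₀ ≫ c = 𝟙 _ := by
    apply (yon S).map_injective
    rw [← cancel_mono (FieldPt.ofPt a u).toHom, Functor.map_comp, Category.assoc, hc, hc₀,
      CategoryTheory.Functor.map_id, Category.id_comp]
  have hcc' : c ≫ c₀ = 𝟙 _ := by
    apply (yon S).map_injective
    rw [← cancel_mono (FieldPt.ofPt a₀ u₀).toHom, Functor.map_comp, Category.assoc, hc₀, hc,
      CategoryTheory.Functor.map_id, Category.id_comp]
  let jO : (FieldPt.ofPt a u).pt ⟶ U := Over.homMk (U.left.fromSpecResidueField u) rfl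
  let jO₀ : (FieldPt.ofPt a₀ u₀).pt ⟶ U₀ := Over.homMk (U₀.left.fromSpecResidueField u₀) rfl
  have hP : (FieldPt.ofPt a u).toHom = (yon S).map jO ≫ a := FieldPt.toHom_ofPt a u
  have hP₀ : (FieldPt.ofPt a₀ u₀).toHom = (yon S).map jO₀ ≫ a₀ := FieldPt.toHom_ofPt a₀ u₀
  have hcond : (yon S).map jO ≫ a = (yon S).map (c₀ ≫ jO₀) ≫ a₀ := by
    rw [Functor.map_comp, Category.assoc, ← hP₀, hc₀, hP]
  obtain ⟨l', hl1, hl2⟩ := sq.exists_lift _ _ hcond
  obtain ⟨l, rfl⟩ := (yon S).map_surjective l'
  have hl1' : l ≫ p1 = jO := (yon S).map_injective (by rw [Functor.map_comp]; exact hl1)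
  have hl2' : l ≫ p2 = c₀ ≫ jO₀ := (yon S).map_injective (by rw [Functor.map_comp]; exact hl2)
  -- the point
  let cp : ↥(Spec (CommRingCat.of (FieldPt.ofPt a u).K)) :=
    IsLocalRing.closedPoint (FieldPt.ofPt a u).K
  -- first projection
  have hℓ1 : l.left ≫ p1.left = Spec.map (𝟙 (U.left.residueField u)) ≫
      U.left.fromSpecResidueField u := by
    rw [Spec.map_id, Category.id_comp, ← Over.comp_left, hl1']
    rfl
  obtain ⟨e1, b1⟩ := residueFieldMap_bijective_of_factor (K := (FieldPt.ofPt a u).K) l.left p1.left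
    u (𝟙 _) Function.bijective_id hℓ1 cp
  -- second projection
  obtain ⟨ψ, hψ⟩ := Spec.map_surjective c₀.left
  obtain ⟨ψ', hψ'⟩ := Spec.map_surjective c.left
  have hψψ : ψ ≫ ψ' = 𝟙 _ := by
    apply Spec.map_injective
    rw [Spec.map_comp, hψ, hψ', ← Over.comp_left, hcc', Spec.map_id]
    rfl
  have hψψ' : ψ' ≫ ψ = 𝟙 _ := by
    apply Spec.map_injective
    rw [Spec.map_comp, hψ, hψ', ← Over.comp_left, hcc, Spec.map_id]
    rfl
  have hψb : Function.Bijective ψ.hom := by
    refine ⟨RingHom.injective _, fun y => ⟨ψ'.hom y, ?_⟩⟩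
    have := congrArg (fun g => g.hom y) hψψ'
    simpa using this
  have hℓ2 : l.left ≫ p2.left = Spec.map ψ ≫ U₀.left.fromSpecResidueField u₀ := by
    rw [← Over.comp_left, hl2', hψ]
    rfl
  obtain ⟨e2, b2⟩ := residueFieldMap_bijective_of_factor (K := (FieldPt.ofPt a u).K) l.left p2.left
    u₀ ψ hψb hℓ2 cp
  exact ⟨P, p1, p2, l.left cp, sq.w, hp1, hp2, e1, b1, e2, b2⟩

set_option backward.isDefEq.respectTransparency.types false in
/-- A scheme-theoretic elementary étale neighbourhood of an elementary étale neighbourhood is an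
elementary étale neighbourhood. -/
theorem isElemEtaleNbhd_of_isEtaleNbhd {X : Sp S} {x : Points X} {U : Over S}
    {a : (yon S).obj U ⟶ X} {u : ↥U.left} (h : IsElemEtaleNbhd a u x) {U' : Scheme.{u}}
    (g : U' ⟶ U.left) (u' : ↥U') (hg : Hens2.IsEtaleNbhd g u' u) :
    IsElemEtaleNbhd (U := Over.mk (g ≫ U.hom))
      ((yon S).map (Over.homMk g rfl : Over.mk (g ≫ U.hom) ⟶ U) ≫ a) u' x := by
  obtain ⟨hge, rfl, hb⟩ := hg
  let γ : Over.mk (g ≫ U.hom) ⟶ U := Over.homMk g rfl
  have hγ : Etale γ.left := hge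
  refine ⟨repWith_yon_map_comp γ hγ a h.etale, ?_, ?_⟩
  · rw [ofPt_map_comp]
    exact h.ofPt_eq
  · have hiso : IsIso (g.residueFieldMap u') := (ConcreteCategory.isIso_iff_bijective _).2 hb
    have hiso' : IsIso (Spec.map (g.residueFieldMap u')) := inferInstance
    let ρ : (FieldPt.ofPt ((yon S).map γ ≫ a) u').pt ≅ (FieldPt.ofPt a (g u')).pt :=
      Over.isoMk (@asIso _ _ _ _ (Spec.map (g.residueFieldMap u')) hiso') (by
        show Spec.map (g.residueFieldMap u') ≫ U.left.fromSpecResidueField (g u') ≫ U.hom =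
          U'.fromSpecResidueField u' ≫ g ≫ U.hom
        rw [← Category.assoc, Scheme.Hom.SpecMap_residueFieldMap_fromSpecResidueField,
          Category.assoc])
    have hfac : (FieldPt.ofPt ((yon S).map γ ≫ a) u').toHom =
        (yon S).map ρ.hom ≫ (FieldPt.ofPt a (g u')).toHom := by
      rw [FieldPt.toHom_ofPt, FieldPt.toHom_ofPt, ← Category.assoc, ← Category.assoc,
        ← Functor.map_comp, ← Functor.map_comp]
      congr 2
      ext
      rw [Over.comp_left, Over.comp_left]
      simp only [ρ, γ, Over.isoMk_hom_left, asIso_hom, Over.homMk_left]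
      exact (Scheme.Hom.SpecMap_residueFieldMap_fromSpecResidueField g u').symm
    rw [hfac]
    have := h.mono
    exact mono_comp _ _

end Groth.Agent.Lib.Helper30.ElemNbhd
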