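import Groth.Prelude.Def_AlgSpOX3
import Groth.Agent.Lib.Helper4.EtPt

set_option autoImplicit false
universe u
open CategoryTheory CategoryTheory.Limits AlgebraicGeometry Topology TopologicalSpace
open AlgSp

/-! The category of étale neighbourhoods of a geometric point of an algebraic space is initially `u`-small. -/

namespace Groth.Agent.Lib.Helper30.EtNbhdSmall

open Groth.Agent.Lib

section Aux

set_option backward.isDefEq.respectTransparency false

variable {S : Scheme.{u}} {X : Sp S} {A : Over S} (a : (yon S).obj A ⟶ X) (haE : RepWith @Etale a)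

/-- The object of the small étale site of `X` given by a scheme étale over the atlas `A`. -/
noncomputable def ofEtale {T : Scheme.{u}} (f : T ⟶ A.left) (hf : Etale f) : EtOver X :=
  EtOver.mk (U := Over.mk (f ≫ A.hom))
    ((yon S).map (Over.homMk f rfl : Over.mk (f ≫ A.hom) ⟶ A) ≫ a)
    ((repWith_isMultiplicative (S := S) @Etale).comp_mem _ _ ((repWith_yon_map_iff _ _).2 hf) haE)

/-- A morphism over the atlas gives a morphism of the small étale site. -/
noncomputable def ofEtaleMap {T T' : Scheme.{u}} (f : T ⟶ A.left) (hf : Etale f) (f' : T' ⟶ A.left)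
    (hf' : Etale f') (g : T ⟶ T') (hg : g ≫ f' = f) : ofEtale a haE f hf ⟶ ofEtale a haE f' hf' :=
  EtOver.homMk (Over.homMk g (by
    change g ≫ f' ≫ A.hom = f ≫ A.hom
    rw [← Category.assoc, hg])) (by
    change (yon S).map _ ≫ (yon S).map _ ≫ a = (yon S).map _ ≫ a
    rw [← Category.assoc, ← Functor.map_comp]
    congr 2
    apply Over.OverMorphism.ext
    exact hg)

/-- A scheme mapping to an object `E'` over the atlas maps to `E'` in the small étale site. -/
noncomputable def toOfAtlas (E' : EtOver X) (ψ : E' ⟶ EtOver.mk a haE) {T : Scheme.{u}}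
    (j : T ⟶ E'.obj.left.left) (hj : Etale (j ≫ ψ.hom.left.left)) :
    ofEtale a haE (j ≫ ψ.hom.left.left) hj ⟶ E' :=
  EtOver.homMk (Over.homMk j (by
    change j ≫ E'.obj.left.hom = (j ≫ ψ.hom.left.left) ≫ A.hom
    rw [Category.assoc]
    congr 1
    exact (Over.w ψ.hom.left).symm)) (by
    change (yon S).map _ ≫ E'.obj.hom = (yon S).map _ ≫ a
    rw [← EtOver.w ψ, ← Category.assoc, ← Functor.map_comp]
    congr 2)

end Aux

set_option backward.isDefEq.respectTransparency false in
theorem initiallySmall_etNbhd {S : Scheme.{u}} (X : AlgSp.Space S) (p : AlgSp.FieldPt X.obj)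
    (hp : p.IsGeometric) : InitiallySmall.{u} (EtNbhd p) := by
  have hcof : IsCofiltered (EtNbhd p) := Helper4.EtPt.isCofiltered_etNbhd p X.property hp
  obtain ⟨A, a, haE, haS⟩ := X.property.atlas
  let EA : EtOver X.obj := EtOver.mk a haE
  -- a lift of `p` to the atlas
  obtain ⟨lA⟩ : Nonempty ((FieldPt.liftsTo p).obj EA) := by
    let V := haE.1.pullback p.toHom
    let snd : V ⟶ p.pt := haE.1.snd p.toHom
    let fst' : V ⟶ A := haE.1.fst' p.toHom
    have sq : IsPullback ((yon S).map fst') ((yon S).map snd) a p.toHom := haE.1.isPullback' p.toHom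
    have het : Etale snd.left := haE.2 p.toHom _ snd sq
    have hsurj : Surjective snd.left := haS.2 p.toHom _ snd sq
    obtain ⟨v, -⟩ := hsurj.surj (default : ↥(Spec (CommRingCat.of p.K)))
    obtain ⟨l, hl, -⟩ := Helper4.EtPt.exists_section_of_etale_surjective p hp snd het v
    refine ⟨⟨l ≫ fst', ?_⟩⟩
    change (yon S).map (l ≫ fst') ≫ a = p.toHom
    rw [Functor.map_comp, Category.assoc, sq.w, ← Category.assoc, ← Functor.map_comp, hl,
      CategoryTheory.Functor.map_id, Category.id_comp]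
  let EY : A.left.AffineEtale → EtOver X.obj := fun Y => ofEtale a haE Y.hom Y.prop
  let eqv := equivSmallModel.{u} A.left.AffineEtale
  let F : (Σ Y : SmallModel.{u} A.left.AffineEtale,
      (FieldPt.liftsTo p).obj (EY (eqv.inverse.obj Y))) → EtNbhd p :=
    fun x => ⟨EY (eqv.inverse.obj x.1), x.2⟩
  refine initiallySmall_of_small_weakly_initial_set (Set.range F) ?_
  rintro ⟨E, l⟩
  obtain ⟨l', hl'1, hl'2⟩ := Helper4.EtPt.exists_lift_prod p E EA l lA
  let E' := EtOver.prodObj E EA
  let ψ : E' ⟶ EA := EtOver.prodSnd E EA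
  let e' : ↥E'.obj.left.left := l'.1.left (default : ↥(Spec (CommRingCat.of p.K)))
  obtain ⟨W', hW', he'W', -⟩ := exists_isAffineOpen_mem_and_subset (x := e')
    (U := (⊤ : E'.obj.left.left.Opens)) trivial
  have hψ : Etale ψ.hom.left.left := EtOver.etale_left ψ
  let j : Spec Γ(E'.obj.left.left, W') ⟶ E'.obj.left.left := hW'.fromSpec
  have hj : Etale (j ≫ ψ.hom.left.left) := inferInstance
  let Y₀ : A.left.AffineEtale := Scheme.AffineEtale.mk (j ≫ ψ.hom.left.left)
  let Y : SmallModel.{u} A.left.AffineEtale := eqv.functor.obj Y₀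
  let Y₁ : A.left.AffineEtale := eqv.inverse.obj Y
  let θ : Y₁ ≅ Y₀ := (eqv.unitIso.app Y₀).symm
  let g : Scheme.Spec.obj Y₁.left ⟶ Scheme.Spec.obj Y₀.left := Scheme.Spec.map θ.hom.left
  have hg : g ≫ Y₀.hom = Y₁.hom := by
    have := θ.hom.w
    simpa [g] using this
  have hgiso : IsIso g := by
    have : IsIso θ.hom.left := by
      refine ⟨θ.inv.left, ?_, ?_⟩
      · have := congrArg (fun k => k.left) θ.hom_inv_id
        exact this
      · have := congrArg (fun k => k.left) θ.inv_hom_id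
        exact this
    exact Functor.map_isIso Scheme.Spec θ.hom.left
  let m : EY Y₁ ⟶ E' :=
    ofEtaleMap a haE Y₁.hom Y₁.prop Y₀.hom Y₀.prop g hg ≫ toOfAtlas a haE E' ψ j hj
  have hm : m.hom.left.left = g ≫ j := rfl
  -- a point of `Spec R₁` over `e'`
  obtain ⟨w, hw⟩ : e' ∈ Set.range j := by
    rw [hW'.range_fromSpec]
    exact he'W'
  obtain ⟨y, hy⟩ : ∃ y, g y = w := ⟨(inv g) w, by
    rw [← Scheme.Hom.comp_apply, IsIso.inv_hom_id]; rfl⟩
  have hy' : m.hom.left.left y = l'.1.left (default : ↥(Spec (CommRingCat.of p.K))) := by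
    rw [hm, Scheme.Hom.comp_apply]
    exact (congrArg j hy).trans hw
  obtain ⟨l'', hl''1, -⟩ := Helper4.EtPt.exists_lift_of_mem_range p hp m l' y hy'
  refine ⟨F ⟨Y, l''⟩, ⟨⟨Y, l''⟩, rfl⟩, ⟨⟨m ≫ EtOver.prodFst E EA, ?_⟩⟩⟩
  change (FieldPt.liftsTo p).map (m ≫ EtOver.prodFst E EA) l'' = l
  rw [CategoryTheory.Functor.map_comp_apply, hl''1, hl'1]

end Groth.Agent.Lib.Helper30.EtNbhdSmall
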