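import Mathlib

set_option autoImplicit false
universe u
open CategoryTheory CategoryTheory.Limits Polynomial TensorProduct

namespace Groth.Agent.Lib.Helper30.EtaleLiftRing

/-- **Lifting standard étale algebras along a surjection.**  For a surjective ring map `π : A → Ab` and a standard étale
`Ab`-algebra `C` there are an étale `A`-algebra `B` and a pushout square `A → Ab`, `A → B`, `Ab → C`, `B → C`. -/
theorem exists_etale_lift_ring {A Ab C : Type u} [CommRing A] [CommRing Ab] [CommRing C]
    (π : A →+* Ab) (hπ : Function.Surjective π) [Algebra Ab C] [Algebra.IsStandardEtale Ab C] :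
    ∃ (B : CommRingCat.{u}) (φ : CommRingCat.of A ⟶ B) (ψ : B ⟶ CommRingCat.of C),
      φ.hom.Etale ∧
        IsPushout (CommRingCat.ofHom π) φ (CommRingCat.ofHom (algebraMap Ab C)) ψ := by
  letI : Algebra A Ab := π.toAlgebra
  letI : Algebra A C := ((algebraMap Ab C).comp π).toAlgebra
  haveI : IsScalarTower A Ab C := IsScalarTower.of_algebraMap_eq (fun _ => rfl)
  obtain ⟨Pr⟩ := (inferInstance : Algebra.IsStandardEtale Ab C).nonempty_standardEtalePresentation
  obtain ⟨p₁b, p₂b, n, hcond⟩ := Pr.cond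
  have hsurj : Function.Surjective (Polynomial.map π) := Polynomial.map_surjective _ hπ
  have hlift : Pr.f ∈ lifts π := by
    rw [mem_lifts]
    exact hsurj _
  obtain ⟨F, hF, -, hFm⟩ := lifts_and_natDegree_eq_and_monic hlift Pr.monic_f
  obtain ⟨G₀, hG₀⟩ := hsurj Pr.g
  obtain ⟨p₁, hp₁⟩ := hsurj p₁b
  obtain ⟨p₂, hp₂⟩ := hsurj p₂b
  let G : A[X] := (derivative F * p₁ + F * p₂) * G₀
  let P : StandardEtalePair A := ⟨F, hFm, G, ⟨p₁ * G₀, p₂ * G₀, 1, by ring⟩⟩
  have hGmap : G.map (algebraMap A Ab) = Pr.g ^ (n + 1) := by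
    change ((derivative F * p₁ + F * p₂) * G₀).map π = Pr.g ^ (n + 1)
    rw [Polynomial.map_mul, Polynomial.map_add, Polynomial.map_mul, Polynomial.map_mul,
      ← derivative_map, hF, hG₀, hp₁, hp₂, hcond, pow_succ]
  have hFmap : F.map (algebraMap A Ab) = Pr.f := hF
  -- comparison of the two `HasMap` predicates on `Ab`-algebras
  have key : ∀ (S : Type u) [CommRing S] [Algebra Ab S] (x : S),
      (P.map (algebraMap A Ab)).HasMap x ↔ Pr.P.HasMap x := by
    intro S _ _ x
    have e1 : aeval x (P.map (algebraMap A Ab)).f = aeval x Pr.f := by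
      change aeval x (F.map (algebraMap A Ab)) = _
      rw [hFmap]
    have e2 : aeval x (P.map (algebraMap A Ab)).g = aeval x Pr.g ^ (n + 1) := by
      change aeval x (G.map (algebraMap A Ab)) = _
      rw [hGmap, map_pow]
    constructor
    · intro hx
      refine ⟨?_, ?_⟩
      · have h1 : aeval x (P.map (algebraMap A Ab)).f = 0 := hx.1
        rw [e1] at h1
        exact h1
      · have h2 : IsUnit (aeval x (P.map (algebraMap A Ab)).g) := hx.2
        rw [e2] at h2
        exact (isUnit_pow_succ_iff).1 h2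
    · intro hx
      refine ⟨?_, ?_⟩
      · change aeval x (P.map (algebraMap A Ab)).f = 0
        rw [e1]
        exact hx.1
      · change IsUnit (aeval x (P.map (algebraMap A Ab)).g)
        rw [e2]
        exact hx.2.pow _
  -- the tautological presentation of `P.Ring` and its base change
  let P₀ : StandardEtalePresentation A P.Ring :=
    ⟨P, P.X, P.hasMap_X, by simpa [StandardEtalePair.lift_X_left] using Function.bijective_id⟩
  let Q : StandardEtalePresentation Ab (Ab ⊗[A] P.Ring) := P₀.baseChange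
  have hQx : Q.x = 1 ⊗ₜ P.X := rfl
  have hQP : Q.P = P.map (algebraMap A Ab) := rfl
  -- the map `P.Ring → C`
  have hx₀ : P.HasMap Pr.x := by
    have h1 : (P.map (algebraMap A Ab)).HasMap Pr.x := (key C Pr.x).2 Pr.hasMap
    simpa [StandardEtalePair.HasMap] using h1
  let ψ : P.Ring →ₐ[A] C := P.lift Pr.x hx₀
  have hψX : ψ P.X = Pr.x := P.lift_X _ _
  -- the two mutually inverse maps
  let f : Ab ⊗[A] P.Ring →ₐ[Ab] C :=
    Algebra.TensorProduct.lift (Algebra.ofId Ab C) ψ (fun _ _ => .all _ _)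
  have hQx' : Pr.P.HasMap Q.x := (key _ Q.x).1 (hQP ▸ Q.hasMap)
  let g : C →ₐ[Ab] Ab ⊗[A] P.Ring :=
    (Pr.P.lift Q.x hQx').comp Pr.equivRing.toAlgHom
  have hfx : f Q.x = Pr.x := by
    rw [hQx]
    simp [f, hψX]
  have hgx : g Pr.x = Q.x := by
    simp [g, Pr.equivRing_x]
  let e : Ab ⊗[A] P.Ring ≃ₐ[Ab] C :=
    AlgEquiv.ofAlgHom f g (Pr.hom_ext (by simp [hgx, hfx])) (Q.hom_ext (by simp [hgx, hfx]))
  refine ⟨CommRingCat.of P.Ring, CommRingCat.ofHom (algebraMap A P.Ring),
    CommRingCat.ofHom ψ.toRingHom, ?_, ?_⟩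
  · change (algebraMap A P.Ring).Etale
    rw [RingHom.etale_algebraMap]
    infer_instance
  · refine (CommRingCat.isPushout_tensorProduct A Ab P.Ring).of_iso (Iso.refl _) (Iso.refl _)
      (Iso.refl _) e.toRingEquiv.toCommRingCatIso ?_ ?_ ?_ ?_
    · simp
    · simp
    · ext a
      simp [e, f]
    · ext b
      simp [e, f]

end Groth.Agent.Lib.Helper30.EtaleLiftRing
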