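import Mathlib.AlgebraicGeometry.Sites.Etale
import Mathlib.AlgebraicGeometry.Morphisms.Basic
import Mathlib.CategoryTheory.MorphismProperty.Local

set_option autoImplicit false
universe u
open CategoryTheory CategoryTheory.Limits AlgebraicGeometry MorphismProperty

namespace Groth.Agent.Lib.Helper30.EtaleLocalTarget

variable (P : MorphismProperty Scheme.{u}) [P.IsLocalAtTarget Scheme.etalePrecoverage]

set_option backward.isDefEq.respectTransparency false in
/-- A property that is étale local on the target is stable under étale base change. -/
theorem of_isPullback_etale {X Y U W : Scheme.{u}} {f : X ⟶ Y} {g : U ⟶ Y} [Etale g]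
    {fst : W ⟶ X} {snd : W ⟶ U} (h : IsPullback fst snd f g) (hf : P f) : P snd := by
  let 𝒰 : Scheme.Cover.{0, u} (Scheme.precoverage @Etale) Y := (Scheme.coverOfIsIso (𝟙 Y)).add g
  exact IsLocalAtTarget.of_isPullback (K := Scheme.etalePrecoverage) 𝒰 none h hf

set_option backward.isDefEq.respectTransparency false in
/-- A property that is étale local on the target descends along étale surjections. -/
theorem of_isPullback_etale_surjective {X Y U W : Scheme.{u}} {f : X ⟶ Y} {g : U ⟶ Y} [Etale g]
    [Surjective g] {fst : W ⟶ X} {snd : W ⟶ U} (h : IsPullback fst snd f g) (hs : P snd) : P f := by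
  refine IsLocalAtTarget.of_forall_pullbackSnd (K := Scheme.etalePrecoverage)
    (R := Presieve.singleton g) ?_ ?_
  · change Presieve.singleton g ∈ Scheme.precoverage @Etale Y
    rw [Scheme.singleton_mem_precoverage_iff]
    exact ⟨‹Surjective g›.surj, inferInstance⟩
  · rintro U' g' _ ⟨⟩
    rw [← P.cancel_left_of_respectsIso h.isoPullback.hom, h.isoPullback_hom_snd]
    exact hs

end Groth.Agent.Lib.Helper30.EtaleLocalTarget
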