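import Groth.Prelude.Def_RegImm
import Groth.Agent.S8652
import Groth.Agent.Lib.Helper30.EtaleLiftOpen

set_option autoImplicit false
universe u
open CategoryTheory CategoryTheory.Limits AlgebraicGeometry

namespace Groth.Agent.Lib.Helper30.EtaleRegImm

open Groth.Agent.Lib.Helper30.EtaleLiftOpen

/-- An étale morphism followed by a Koszul-regular immersion is Koszul (lci) at every point. -/
theorem isKoszulAt_comp_etale_regImm {U W V : Scheme.{u}} (e : U ⟶ W) [Etale e] (r : W ⟶ V)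
    (hr : RegImm.IsRegularImmersion .koszul r) (x : U) : Synt.IsKoszulAt (e ≫ r) x := by
  have : IsImmersion r := hr.1
  let V₀ : V.Opens := r.coborderRange
  let i₀ : W ⟶ V₀ := r.liftCoborder
  have hi₀ : IsClosedImmersion i₀ := inferInstance
  have hfac : i₀ ≫ V₀.ι = r := r.liftCoborder_ι
  have sq₀ : IsPullback (𝟙 W) i₀ r V₀.ι :=
    IsPullback.of_horiz_isIso_mono ⟨by rw [Category.id_comp, hfac]⟩
  have hi₀r : RegImm.IsRegularImmersion .koszul i₀ :=
    Groth.Agent.S8652.result r V₀.ι i₀ (𝟙 W) sq₀ hr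
  obtain ⟨V', h', hE, hA, m, hmo, hm, v, hv⟩ := exists_etale_lift i₀ e x
  let U' : U.Opens := m.opensRange
  let i' : (U' : Scheme.{u}) ⟶ V' := m.isoOpensRange.inv ≫ pullback.fst h' i₀
  let g' : (U' : Scheme.{u}) ⟶ W := m.isoOpensRange.inv ≫ pullback.snd h' i₀
  have sq : IsPullback g' i' i₀ h' :=
    IsPullback.of_iso (IsPullback.of_hasPullback h' i₀).flip m.isoOpensRange (Iso.refl _) (Iso.refl _)
      (Iso.refl _) (by simp [g']) (by simp [i']) (by simp) (by simp)
  have hi' : RegImm.IsRegularImmersion .koszul i' := Groth.Agent.S8652.result i₀ h' i' g' sq hi₀r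
  have hcomm : i' ≫ h' ≫ V₀.ι = U'.ι ≫ e ≫ r := by
    have h1 : m ≫ e ≫ r = pullback.fst h' i₀ ≫ h' ≫ V₀.ι := by
      rw [← Category.assoc, hm, ← hfac, ← Category.assoc, ← pullback.condition, Category.assoc]
    calc i' ≫ h' ≫ V₀.ι = m.isoOpensRange.inv ≫ (pullback.fst h' i₀ ≫ h' ≫ V₀.ι) :=
          Category.assoc _ _ _
      _ = m.isoOpensRange.inv ≫ (m ≫ e ≫ r) := by rw [h1]
      _ = (m.isoOpensRange.inv ≫ m) ≫ e ≫ r := (Category.assoc _ _ _).symm
      _ = U'.ι ≫ e ≫ r := by rw [m.isoOpensRange_inv_comp]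
  refine ⟨U', V', i', h' ≫ V₀.ι, ⟨v, hv⟩, ?_, hi', inferInstance, hcomm⟩
  have : LocallyOfFiniteType r := inferInstance
  infer_instance

end Groth.Agent.Lib.Helper30.EtaleRegImm
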