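import Groth.Prelude.Def_AlgSpOX2
import Groth.Agent.S10234

set_option autoImplicit false
universe v v₁ v₂ u₁ u₂ u
open CategoryTheory CategoryTheory.Limits AlgebraicGeometry Topology TopologicalSpace
open AlgSp

/-! Restriction along `postcomp f` for a representable etale `f`: it is left adjoint to `pushModEt`, and preserves finite limits. -/

namespace Groth.Agent.Lib.Helper30.EtaleRestrict

section General

variable {C : Type u₁} [Category.{v₁} C] {D : Type u₂} [Category.{v₂} D]
  {J : GrothendieckTopology C} {K : GrothendieckTopology D} {F : C ⥤ D}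
  {S : Sheaf J RingCat.{u}} {R : Sheaf K RingCat.{u}}
  [Functor.IsContinuous F J K]
  (φ : S ⟶ (F.sheafPushforwardContinuous RingCat.{u} J K).obj R)

set_option backward.isDefEq.respectTransparency false in
theorem preservesLimit_pushforward {I : Type} [SmallCategory I] [FinCategory I]
    (G : I ⥤ SheafOfModules.{v} R) : PreservesLimit G (SheafOfModules.pushforward.{v} φ) := by
  constructor
  intro c hc
  constructor
  apply isLimitOfReflects (SheafOfModules.forget S)
  apply PresheafOfModules.evaluationJointlyReflectsLimits
  intro X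
  have h1 : IsLimit ((SheafOfModules.evaluation R (F.op.obj X)).mapCone c) := isLimitOfPreserves _ hc
  have h2 := isLimitOfPreserves (ModuleCat.restrictScalars (φ.hom.app X).hom) h1
  exact h2

theorem preservesFiniteLimits_pushforward :
    PreservesFiniteLimits (SheafOfModules.pushforward.{v} φ) :=
  ⟨fun _ _ _ => ⟨fun {G} => preservesLimit_pushforward φ G⟩⟩

end General

section Adj

set_option backward.isDefEq.respectTransparency false

variable {S : Scheme.{u}} {X Y : Sp S} (f : X ⟶ Y) (hf : Representable f) (he : IsEtaleMor f)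

noncomputable def homEquiv (E : EtOver X) (V : EtOver Y) :
    ((EtOver.postcomp f he).obj E ⟶ V) ≃ (E ⟶ (EtOver.bc hf).obj V) where
  toFun g := EtOver.homMk (hf.lift E.obj.hom g.hom.left (EtOver.w g).symm) (hf.lift_fst _ _ _)
  invFun h := EtOver.homMk (h.hom.left ≫ hf.snd V.obj.hom) (by
    change (yon S).map (h.hom.left ≫ hf.snd V.obj.hom) ≫ V.obj.hom = E.obj.hom ≫ f
    rw [Functor.map_comp, Category.assoc, ← hf.w, ← Category.assoc]
    congr 1
    exact EtOver.w h)
  left_inv g := EtOver.hom_ext _ _ (hf.lift_snd _ _ _)
  right_inv h := EtOver.hom_ext _ _ (hf.hom_ext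
    ((hf.lift_fst _ _ _).trans (EtOver.w h).symm) (hf.lift_snd _ _ _))

noncomputable def core : Adjunction.CoreHomEquiv (EtOver.postcomp f he) (EtOver.bc hf) :=
    { homEquiv := homEquiv f hf he
      homEquiv_naturality_left_symm := fun {E' E V} g h => EtOver.hom_ext _ _ (by
        change (g ≫ h).hom.left ≫ hf.snd V.obj.hom = g.hom.left ≫ h.hom.left ≫ hf.snd V.obj.hom
        exact Category.assoc _ _ _)
      homEquiv_naturality_right := fun {E V V'} g h => EtOver.hom_ext _ _ (hf.hom_ext
        (by
          change (yon S).map (hf.lift E.obj.hom (g ≫ h).hom.left _) ≫ _ =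
            (yon S).map (hf.lift E.obj.hom g.hom.left _ ≫ (EtOver.bcMap hf h).hom.left) ≫ _
          rw [hf.lift_fst, Functor.map_comp, Category.assoc, EtOver.map_bcMap_fst, hf.lift_fst])
        (by
          change hf.lift E.obj.hom (g ≫ h).hom.left _ ≫ _ =
            (hf.lift E.obj.hom g.hom.left _ ≫ (EtOver.bcMap hf h).hom.left) ≫ _
          rw [hf.lift_snd, Category.assoc, EtOver.bcMap_snd, ← Category.assoc, hf.lift_snd]
          rfl)) }

noncomputable def adj : EtOver.postcomp f he ⊣ EtOver.bc hf :=
  Adjunction.mkOfHomEquiv (core f hf he)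

end Adj


section Main

set_option backward.isDefEq.respectTransparency false

variable {S : Scheme.{u}} {X Y : Sp S} (f : X ⟶ Y) (hf : Representable f) (he : IsEtaleMor f)

/-- `O_X ⟶ j_* O_Y` for `j = postcomp f`: the identity on sections. -/
noncomputable def phi :
    letI := Groth.Agent.S10234.continuous_postcomp f he
    OEtRing X ⟶ ((EtOver.postcomp f he).sheafPushforwardContinuous RingCat.{u + 1} (etTop X) (etTop Y)).obj
      (OEtRing Y) :=
  letI := Groth.Agent.S10234.continuous_postcomp f he
  ObjectProperty.homMk
    { app := fun E => 𝟙 _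
      naturality := fun E E' g => by
        rw [Category.comp_id, Category.id_comp]
        rfl }

theorem counit_left (V : EtOver Y) :
    ((adj f hf he).counit.app V).hom.left = hf.snd V.obj.hom := by
  have h : (adj f hf he).counit.app V = (homEquiv f hf he _ V).symm (𝟙 _) := by
    rw [← Adjunction.homEquiv_symm_id]
    rfl
  rw [h]
  exact Category.id_comp _

theorem unit_left_snd (E : EtOver X) :
    ((adj f hf he).unit.app E).hom.left ≫ hf.snd (E.obj.hom ≫ f) = 𝟙 _ := by
  have h : (adj f hf he).unit.app E = (homEquiv f hf he E _) (𝟙 _) := by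
    rw [← Adjunction.homEquiv_id]
    have h2 := Adjunction.mkOfHomEquiv_homEquiv (core f hf he)
    exact congrFun (congrArg DFunLike.coe (congrFun (congrFun h2 E) _)) _
  rw [h]
  exact hf.lift_snd _ _ _

theorem restriction_adj :
    letI := Groth.Agent.S10234.continuous_postcomp f he
    Nonempty (SheafOfModules.pushforward.{u + 1} (phi f he) ⊣ pushModEt hf) := by
  letI := Groth.Agent.S10234.continuous_postcomp f he
  refine ⟨SheafOfModules.pushforwardPushforwardAdj (adj f hf he) (phi f he) (bcRingHom hf) ?_ ?_⟩
  · ext V : 2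
    have hc := counit_left f hf he V.unop
    change (BigSite.ORing Scheme.etalePrecoverage S).obj.map ((adj f hf he).counit.app V.unop).hom.left.op =
      (BigSite.ORing Scheme.etalePrecoverage S).obj.map (hf.snd V.unop.obj.hom).op ≫ 𝟙 _
    rw [hc, Category.comp_id]
  · ext E : 2
    have hu := unit_left_snd f hf he E.unop
    change 𝟙 _ ≫ (BigSite.ORing Scheme.etalePrecoverage S).obj.map (hf.snd (E.unop.obj.hom ≫ f)).op ≫
      (BigSite.ORing Scheme.etalePrecoverage S).obj.map ((adj f hf he).unit.app E.unop).hom.left.op = 𝟙 _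
    rw [Category.id_comp, ← Functor.map_comp, ← op_comp, hu, op_id]
    exact (BigSite.ORing Scheme.etalePrecoverage S).obj.map_id _

end Main


end Groth.Agent.Lib.Helper30.EtaleRestrict
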