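import Groth.Agent.Lib.Helper30.EtaleRestrict

set_option autoImplicit false
universe u
open CategoryTheory CategoryTheory.Limits AlgebraicGeometry Topology TopologicalSpace
open AlgSp

/-! Restriction along a representable étale morphism preserves quasi-coherence. -/

namespace Groth.Agent.Lib.Helper30.EtaleRestrictQcoh

open Groth.Agent.Lib.Helper30.EtaleRestrict

section

set_option backward.isDefEq.respectTransparency false

variable {S : Scheme.{u}} {X Y : Sp S} (f : X ⟶ Y) (he : IsEtaleMor f)

theorem continuous_over_post (E : EtOver X) :
    Functor.IsContinuous (Over.post (X := E) (EtOver.postcomp f he))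
      ((etTop X).over E) ((etTop Y).over _) := by
  letI := Groth.Agent.S10234.continuous_postcomp f he
  have hcp : CoverPreserving (etTop X) (etTop Y) (EtOver.postcomp f he) :=
    CoverPreserving.of_isContinuous _ _ _
  have : Functor.PreservesOneHypercovers.{u + 1} (EtOver.postcomp f he) (etTop X) (etTop Y) :=
    Functor.PreservesOneHypercovers.of_coverPreserving hcp
  infer_instance

theorem isIso_phi : IsIso (phi f he) := by
  letI := Groth.Agent.S10234.continuous_postcomp f he
  have h1 : ∀ E, IsIso ((phi f he).hom.app E) := fun E => inferInstanceAs (IsIso (𝟙 _))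
  have h2 : IsIso (phi f he).hom := NatIso.isIso_of_isIso_app _
  have h3 : IsIso ((sheafToPresheaf (etTop X) RingCat.{u + 1}).map (phi f he)) := h2
  exact isIso_of_reflects_iso (phi f he) (sheafToPresheaf _ _)

variable (hf : Representable f)

include hf in
theorem qcoh_restrict (F : ModEt Y) [F.IsQuasicoherent] :
    letI := Groth.Agent.S10234.continuous_postcomp f he
    ((SheafOfModules.pushforward.{u + 1} (phi f he)).obj F).IsQuasicoherent := by
  letI := Groth.Agent.S10234.continuous_postcomp f he
  letI := Groth.Agent.S10234.cocontinuous_postcomp f he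
  have : (EtOver.postcomp f he).IsLeftAdjoint := (adj f hf he).isLeftAdjoint
  have : IsIso (phi f he) := isIso_phi f he
  have := continuous_over_post f he
  exact SheafOfModules.isQuasicoherent_pushforward_of_isLeftAdjoint (EtOver.postcomp f he) (phi f he)
    (Iso.refl _)

end


set_option backward.isDefEq.respectTransparency false in
/-- Pullback of modules along a representable étale morphism of sheaves preserves quasi-coherence. -/
theorem isQuasicoherent_pullModEt_of_etale {S : Scheme.{u}} {X Y : Sp S} (f : X ⟶ Y)
    (hrep : Representable f) (he : IsEtaleMor f)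
    [(SheafOfModules.pushforward.{u + 1} (bcRingHom hrep)).IsRightAdjoint]
    (F : ModEt Y) (hF : F.IsQuasicoherent) : ((pullModEt hrep).obj F).IsQuasicoherent := by
  letI := Groth.Agent.S10234.continuous_postcomp f he
  obtain ⟨a⟩ := restriction_adj f hrep he
  have e : pullModEt hrep ≅ SheafOfModules.pushforward.{u + 1} (phi f he) :=
    (pullPushAdjModEt hrep).leftAdjointUniq a
  have : F.IsQuasicoherent := hF
  have h := qcoh_restrict f he hrep F
  exact ObjectProperty.prop_of_iso (SheafOfModules.isQuasicoherent (OEtRing X)) (e.app F).symm h

end Groth.Agent.Lib.Helper30.EtaleRestrictQcoh
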