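import Groth.Agent.Lib.Helper30.EtaleRestrictQcoh

set_option autoImplicit false
universe u
open CategoryTheory CategoryTheory.Limits AlgebraicGeometry Topology TopologicalSpace
open AlgSp

/-! Slices of the small étale site along a representable étale morphism: `(X_et)/E ≌ (Y_et)/(E ⟶ X ⟶ Y)`, the induced
equivalence of module categories, and étale descent of quasi-coherence. -/

namespace Groth.Agent.Lib.Helper30.EtaleSlice

open Groth.Agent.Lib.Helper30.EtaleRestrict Groth.Agent.Lib.Helper30.EtaleRestrictQcoh

section

set_option backward.isDefEq.respectTransparency false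

variable {S : Scheme.{u}} {X Y : Sp S} (f : X ⟶ Y) (he : IsEtaleMor f)

instance faithful_postcomp : (EtOver.postcomp f he).Faithful where
  map_injective {E E'} g g' h := EtOver.hom_ext g g' (congrArg (fun k => k.hom.left) h)

instance full_over_post (E : EtOver X) : (Over.post (X := E) (EtOver.postcomp f he)).Full where
  map_surjective {a b} h := by
    have hw : h.left.hom.left ≫ b.hom.hom.left = a.hom.hom.left :=
      congrArg (fun k => k.hom.left) (Over.w h)
    have w' : (yon S).map h.left.hom.left ≫ b.left.obj.hom = a.left.obj.hom := by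
      rw [← EtOver.w b.hom, ← Category.assoc, ← Functor.map_comp, hw, EtOver.w a.hom]
    refine ⟨Over.homMk (EtOver.homMk h.left.hom.left w') (EtOver.hom_ext _ _ hw), ?_⟩
    apply Over.OverMorphism.ext
    exact EtOver.hom_ext _ _ rfl

instance essSurj_over_post (E : EtOver X) : (Over.post (X := E) (EtOver.postcomp f he)).EssSurj where
  mem_essImage d := by
    let c₀ : EtOver X := EtOver.mk ((yon S).map d.hom.hom.left ≫ E.obj.hom)
      ((repWith_isMultiplicative (S := S) @Etale).comp_mem _ _
        ((repWith_yon_map_iff _ _).2 (EtOver.etale_left d.hom)) E.property)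
    let c : Over E := Over.mk (EtOver.homMk d.hom.hom.left rfl : c₀ ⟶ E)
    have hd : d.left.obj.hom = ((yon S).map d.hom.hom.left ≫ E.obj.hom) ≫ f := by
      rw [Category.assoc]
      exact (EtOver.w d.hom).symm
    let i₁ : (EtOver.postcomp f he).obj c₀ ⟶ d.left := EtOver.homMk (𝟙 _) (by
      rw [CategoryTheory.Functor.map_id, Category.id_comp]
      exact hd)
    let i₂ : d.left ⟶ (EtOver.postcomp f he).obj c₀ := EtOver.homMk (𝟙 _) (by
      rw [CategoryTheory.Functor.map_id, Category.id_comp]
      exact hd.symm)
    have h12 : i₁ ≫ i₂ = 𝟙 _ := EtOver.hom_ext _ _ (Category.id_comp _)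
    have h21 : i₂ ≫ i₁ = 𝟙 _ := EtOver.hom_ext _ _ (Category.id_comp _)
    refine ⟨c, ⟨Over.isoMk ⟨i₁, i₂, h12, h21⟩ ?_⟩⟩
    exact EtOver.hom_ext _ _ (Category.id_comp _)

instance isEquivalence_over_post (E : EtOver X) :
    (Over.post (X := E) (EtOver.postcomp f he)).IsEquivalence where

variable (E : EtOver X)

/-- The slice equivalence `(X_et)/E ≌ (Y_et)/(E ⟶ X ⟶ Y)`. -/
noncomputable def eqv : Over E ≌ Over ((EtOver.postcomp f he).obj E) :=
  (Over.post (X := E) (EtOver.postcomp f he)).asEquivalence

instance continuous_eqv_functor :
    (eqv f he E).functor.IsContinuous ((etTop X).over E) ((etTop Y).over _) :=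
  continuous_over_post f he E

instance cocontinuous_eqv_functor :
    (eqv f he E).functor.IsCocontinuous ((etTop X).over E) ((etTop Y).over _) := by
  letI := Groth.Agent.S10234.cocontinuous_postcomp f he
  exact inferInstanceAs ((Over.post (X := E) (EtOver.postcomp f he)).IsCocontinuous _ _)

instance continuous_eqv_inverse :
    (eqv f he E).inverse.IsContinuous ((etTop Y).over _) ((etTop X).over E) :=
  (eqv f he E).toAdjunction.isContinuous_of_isCocontinuous _ _

/-- The ring comparison on slices. -/
noncomputable def phiE :
    letI := Groth.Agent.S10234.continuous_postcomp f he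
    (OEtRing X).over E ⟶ ((eqv f he E).functor.sheafPushforwardContinuous RingCat.{u + 1}
      ((etTop X).over E) ((etTop Y).over _)).obj ((OEtRing Y).over ((EtOver.postcomp f he).obj E)) :=
  letI := Groth.Agent.S10234.continuous_postcomp f he
  ((Over.forget E).sheafPushforwardContinuous RingCat.{u + 1} ((etTop X).over E) (etTop X)).map
    (phi f he)

instance isIso_phiE : IsIso (phiE f he E) := by
  letI := Groth.Agent.S10234.continuous_postcomp f he
  have : IsIso (phi f he) := isIso_phi f he
  exact Functor.map_isIso _ _

/-- The inverse ring comparison on slices. -/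
noncomputable def psiE :
    (OEtRing Y).over ((EtOver.postcomp f he).obj E) ⟶
      ((eqv f he E).inverse.sheafPushforwardContinuous RingCat.{u + 1}
        ((etTop Y).over _) ((etTop X).over E)).obj ((OEtRing X).over E) :=
  ((eqv f he E).toAdjunction.sheafPushforwardContinuous (E := RingCat.{u + 1})
      ((etTop X).over E) ((etTop Y).over _)).unit.app _ ≫
    ((eqv f he E).inverse.sheafPushforwardContinuous RingCat.{u + 1} _ _).map (inv (phiE f he E))

/-- The equivalence of module categories on the slices. -/
noncomputable def modEqv :
    SheafOfModules.{u + 1} ((OEtRing Y).over ((EtOver.postcomp f he).obj E)) ≌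
      SheafOfModules.{u + 1} ((OEtRing X).over E) :=
  SheafOfModules.pushforwardPushforwardEquivalence (eqv f he E) (phiE f he E) (psiE f he E)
    (by
      ext U : 2
      simp [psiE])
    (by
      ext U : 2
      have nat := (inv (phiE f he E)).hom.naturality ((eqv f he E).unit.app U.unop).op
      simp [psiE]
      simp at nat
      rw [← nat, IsIso.inv_hom_id_assoc, ← Functor.map_comp_assoc, ← op_comp, ← Over.comp_left,
        (eqv f he E).functor_unit_comp]
      simp)

/-- Transfer of a presentation of the restriction of `j^* M` to the slice over `E` to a presentation of `M` over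
the slice `E ⟶ X ⟶ Y`. -/
noncomputable def presentationTransfer (M : ModEt Y)
    (pres : letI := Groth.Agent.S10234.continuous_postcomp f he
      (((SheafOfModules.pushforward.{u + 1} (phi f he)).obj M).over E).Presentation) :
    (M.over ((EtOver.postcomp f he).obj E)).Presentation := by
  letI := Groth.Agent.S10234.continuous_postcomp f he
  let e := modEqv f he E
  let η₀ : e.functor.obj (SheafOfModules.unit _) ≅ SheafOfModules.unit _ := Iso.refl _
  let η : SheafOfModules.unit ((OEtRing Y).over ((EtOver.postcomp f he).obj E)) ≅
      e.inverse.obj (SheafOfModules.unit ((OEtRing X).over E)) :=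
    e.unitIso.app _ ≪≫ e.inverse.mapIso η₀
  let pres₀ : (e.functor.obj (M.over ((EtOver.postcomp f he).obj E))).Presentation := pres
  exact (pres₀.map e.inverse η).ofIsIso (e.unitIso.app (M.over ((EtOver.postcomp f he).obj E))).inv

variable (hrep : Representable f) (hs : RepWith @Surjective f)

include hrep hs in
/-- A family covering the top of `X_et` pushes to a family covering the top of `Y_et` when `f` is surjective. -/
theorem coversTop_postcomp {I : Type*} (Z : I → EtOver X) (hZ : (etTop X).CoversTop Z) :
    (etTop Y).CoversTop (fun i => (EtOver.postcomp f he).obj (Z i)) := by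
  letI := Groth.Agent.S10234.continuous_postcomp f he
  have hcp : CoverPreserving (etTop X) (etTop Y) (EtOver.postcomp f he) :=
    CoverPreserving.of_isContinuous _ _ _
  intro W
  let c : (EtOver.postcomp f he).obj ((EtOver.bc hrep).obj W) ⟶ W := (adj f hrep he).counit.app W
  have hc : c.hom.left = hrep.snd W.obj.hom := counit_left f hrep he W
  have hsurj : Surjective (hrep.snd W.obj.hom).left :=
    hs.2 W.obj.hom _ _ (hrep.isPullback W.obj.hom)
  have hcov : Sieve.ofArrows (fun _ : Unit => (EtOver.postcomp f he).obj ((EtOver.bc hrep).obj W))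
      (fun _ => c) ∈ etTop Y W := by
    apply ofArrows_mem_etTop
    intro x
    obtain ⟨y, hy⟩ := hsurj.surj x
    exact ⟨(), y, by rw [hc]; exact hy⟩
  refine (etTop Y).transitive hcov _ ?_
  intro V g hg
  rw [Sieve.mem_ofArrows_iff] at hg
  obtain ⟨_, h, rfl⟩ := hg
  rw [Sieve.pullback_comp]
  apply (etTop Y).pullback_stable
  refine (etTop Y).superset_covering ?_ (hcp.cover_preserve (hZ ((EtOver.bc hrep).obj W)))
  rintro V' _ ⟨Z', g, k, ⟨i, ⟨b⟩⟩, rfl⟩
  exact ⟨i, ⟨k ≫ (EtOver.postcomp f he).map b⟩⟩

include hrep hs in
/-- Quasi-coherence descends along a representable étale surjective morphism. -/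
theorem isQuasicoherent_of_restrict (M : ModEt Y)
    (h : letI := Groth.Agent.S10234.continuous_postcomp f he
      ((SheafOfModules.pushforward.{u + 1} (phi f he)).obj M).IsQuasicoherent) :
    M.IsQuasicoherent := by
  letI := Groth.Agent.S10234.continuous_postcomp f he
  obtain ⟨q⟩ := h.nonempty_quasicoherentData
  let q' : M.QuasicoherentData :=
    { I := q.I
      X := fun i => (EtOver.postcomp f he).obj (q.X i)
      coversTop := coversTop_postcomp f he hrep hs q.X q.coversTop
      presentation := fun i => presentationTransfer f he (q.X i) M (q.presentation i) }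
  exact q'.isQuasicoherent

end


set_option backward.isDefEq.respectTransparency false in
/-- If the pullback of a module along a representable étale surjective morphism is quasi-coherent, so is the module. -/
theorem isQuasicoherent_of_pullModEt {S : Scheme.{u}} {X Y : Sp S} (f : X ⟶ Y)
    (hrep : Representable f) (he : IsEtaleMor f) (hs : RepWith @Surjective f)
    [(SheafOfModules.pushforward.{u + 1} (bcRingHom hrep)).IsRightAdjoint]
    (F : ModEt Y) (hF : ((pullModEt hrep).obj F).IsQuasicoherent) : F.IsQuasicoherent := by
  letI := Groth.Agent.S10234.continuous_postcomp f he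
  obtain ⟨a⟩ := restriction_adj f hrep he
  have e : pullModEt hrep ≅ SheafOfModules.pushforward.{u + 1} (phi f he) :=
    (pullPushAdjModEt hrep).leftAdjointUniq a
  have h : ((SheafOfModules.pushforward.{u + 1} (phi f he)).obj F).IsQuasicoherent :=
    ObjectProperty.prop_of_iso (SheafOfModules.isQuasicoherent (OEtRing X)) (e.app F) hF
  exact isQuasicoherent_of_restrict f he hrep hs F h

end Groth.Agent.Lib.Helper30.EtaleSlice
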