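import Groth.Agent.Lib.Helper30.EtaleSourceFT
import Mathlib.RingTheory.Localization.Ideal
import Mathlib.RingTheory.Finiteness.Ideal

set_option autoImplicit false
open Polynomial

namespace Groth.Agent.Lib.Helper30.EtaleSourceFT

section
variable {P : Type*} [CommRing P]

/-- If `M ^ N` has all entries in the ideal `𝔞`, then the non-leading coefficients of the
characteristic polynomial of `M` lie in the radical of `𝔞`. -/
theorem charpoly_coeff_mem_radical {ι : Type*} [Fintype ι] [DecidableEq ι] (𝔞 : Ideal P)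
    (M : Matrix ι ι P) (N : ℕ) (h : ∀ i k, (M ^ N) i k ∈ 𝔞) (m : ℕ) (hm : m < Fintype.card ι) :
    M.charpoly.coeff m ∈ 𝔞.radical := by
  have hN : (M.map (Ideal.Quotient.mk 𝔞)) ^ N = 0 := by
    rw [← Matrix.map_pow]
    ext i k
    simp only [Matrix.map_apply, Matrix.zero_apply]
    exact Ideal.Quotient.eq_zero_iff_mem.2 (h i k)
  have hnil : IsNilpotent (M.map (Ideal.Quotient.mk 𝔞)) := ⟨N, hN⟩
  have h2 := Matrix.isNilpotent_charpoly_sub_pow_of_isNilpotent hnil
  rw [Matrix.charpoly_map, Polynomial.isNilpotent_iff] at h2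
  obtain ⟨r, hr⟩ := h2 m
  refine ⟨r, ?_⟩
  have h3 : ((M.charpoly.map (Ideal.Quotient.mk 𝔞) - X ^ Fintype.card ι).coeff m) =
      Ideal.Quotient.mk 𝔞 (M.charpoly.coeff m) := by
    rw [coeff_sub, coeff_map, coeff_X_pow, if_neg (ne_of_lt hm), sub_zero]
  rw [h3, ← map_pow, Ideal.Quotient.eq_zero_iff_mem] at hr
  exact hr

/-- The colon ideal `(I₀ : x)`. -/
def colonIdeal (I₀ : Ideal P) (x : P) : Ideal P where
  carrier := {r | r * x ∈ I₀}
  add_mem' := by
    intro a b ha hb
    simp only [Set.mem_ofPred_eq, add_mul] at *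
    exact I₀.add_mem ha hb
  zero_mem' := by simp
  smul_mem' := by
    intro c a ha
    simp only [Set.mem_ofPred_eq, smul_eq_mul, mul_assoc] at *
    exact I₀.mul_mem_left c ha

theorem mem_colonIdeal {I₀ : Ideal P} {x r : P} : r ∈ colonIdeal I₀ x ↔ r * x ∈ I₀ := Iff.rfl

/-- Entries of the left multiplication matrix of an element of `I₀ E` lie in `I₀`. -/
theorem leftMulMatrix_mem_of_mem_map {E : Type*} [CommRing E] [Algebra P E] {ι : Type*}
    [Fintype ι] [DecidableEq ι] (e : Module.Basis ι P E) (I₀ : Ideal P) {d : E}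
    (hd : d ∈ I₀.map (algebraMap P E)) (i k : ι) : Algebra.leftMulMatrix e d i k ∈ I₀ := by
  let 𝔟 : Ideal E :=
    { carrier := {d | ∀ i k, Algebra.leftMulMatrix e d i k ∈ I₀}
      add_mem' := by
        intro a b ha hb i k
        rw [map_add, Matrix.add_apply]
        exact I₀.add_mem (ha i k) (hb i k)
      zero_mem' := by
        intro i k
        rw [map_zero, Matrix.zero_apply]
        exact I₀.zero_mem
      smul_mem' := by
        intro c a ha i k
        rw [smul_eq_mul, map_mul, Matrix.mul_apply]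
        exact I₀.sum_mem fun l _ => I₀.mul_mem_left _ (ha l k) }
  have hle : I₀.map (algebraMap P E) ≤ 𝔟 := by
    rw [Ideal.map_le_iff_le_comap]
    intro y hy i k
    rw [AlgHom.commutes, Matrix.algebraMap_matrix_apply]
    split_ifs
    · exact hy
    · exact I₀.zero_mem
  exact hle hd i k

end

/-- **Abstract chart criterion for finite generation of an ideal.**  Let `I` be an ideal of `P` and
suppose given finitely many finite free `P`-algebras `E j` with elements `G j` such that
`I · E j [1 / G j]` is finitely generated for all `j` and such that the opens `D(G j)` jointly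
cover `V(I)`. Then `I` is finitely generated. -/
theorem fg_of_charts {P : Type*} [CommRing P] (I : Ideal P) {J : Type*} [Finite J]
    (E E' : J → Type*) [∀ j, CommRing (E j)] [∀ j, CommRing (E' j)] [∀ j, Algebra P (E j)]
    [∀ j, Algebra (E j) (E' j)] [∀ j, Algebra P (E' j)] [∀ j, IsScalarTower P (E j) (E' j)]
    (ι : J → Type*) [∀ j, Fintype (ι j)] [∀ j, DecidableEq (ι j)]
    (e : ∀ j, Module.Basis (ι j) P (E j)) (G : ∀ j, E j) [∀ j, IsLocalization.Away (G j) (E' j)]
    (hfg : ∀ j, (I.map (algebraMap P (E' j))).FG)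
    (hcov : ∀ q : Ideal P, q.IsPrime → I ≤ q → ∃ j, ∃ Q : Ideal (E j), Q.IsPrime ∧
      q ≤ Q.comap (algebraMap P (E j)) ∧ G j ∉ Q) :
    I.FG := by
  classical
  cases nonempty_fintype J
  -- Step 1: finite subsets of `I` generating the extended ideals
  have h1 : ∀ j, ∃ S : Finset P, (↑S : Set P) ⊆ I ∧
      I.map (algebraMap P (E' j)) = Ideal.span ((algebraMap P (E' j)) '' S) := by
    intro j
    have := hfg j
    change Submodule.FG _ at this
    rw [Ideal.map, Ideal.span, Submodule.fg_span_iff_fg_span_finset_subset] at this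
    obtain ⟨s', hs', hspan⟩ := this
    rw [Finset.subset_set_image_iff] at hs'
    obtain ⟨S, hS, rfl⟩ := hs'
    refine ⟨S, hS, ?_⟩
    rw [Ideal.map, Ideal.span, hspan, Finset.coe_image]
  choose S hSI hS using h1
  set I₀ : Ideal P := Ideal.span (↑(Finset.univ.biUnion S) : Set P) with hI₀
  have hI₀I : I₀ ≤ I := by
    rw [hI₀, Ideal.span_le]
    intro x hx
    simp only [Finset.coe_biUnion, Finset.coe_univ, Set.mem_univ, Set.iUnion_true,
      Set.mem_iUnion, Finset.mem_coe] at hx
    obtain ⟨j, hj⟩ := hx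
    exact hSI j hj
  have hI₀fg : I₀.FG := ⟨_, rfl⟩
  have hmap : ∀ j, I.map (algebraMap P (E' j)) ≤ I₀.map (algebraMap P (E' j)) := by
    intro j
    rw [hS j, Ideal.span_le]
    rintro _ ⟨y, hy, rfl⟩
    refine Ideal.mem_map_of_mem _ (Ideal.subset_span ?_)
    simp only [Finset.coe_biUnion, Finset.coe_univ, Set.mem_univ, Set.iUnion_true,
      Set.mem_iUnion, Finset.mem_coe]
    exact ⟨j, hy⟩
  -- Step 3: powers of `G j` push `x ∈ I` into `I₀ E j`
  have h3 : ∀ x ∈ I, ∀ j, ∃ N : ℕ, ∀ i k,
      (Algebra.leftMulMatrix (e j) (G j) ^ N) i k * x ∈ I₀ := by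
    intro x hx j
    have hx' : algebraMap P (E' j) x ∈ I₀.map (algebraMap P (E' j)) :=
      hmap j (Ideal.mem_map_of_mem _ hx)
    rw [IsScalarTower.algebraMap_eq P (E j) (E' j), ← Ideal.map_map,
      IsLocalization.mem_map_algebraMap_iff (Submonoid.powers (G j)) (E' j)] at hx'
    obtain ⟨⟨⟨a, ha⟩, ⟨_, n, rfl⟩⟩, hxa⟩ := hx'
    simp only [RingHom.comp_apply] at hxa
    rw [← map_mul, IsLocalization.eq_iff_exists (Submonoid.powers (G j))] at hxa
    obtain ⟨⟨_, n', rfl⟩, hxa⟩ := hxa
    have hmem : G j ^ (n' + n) * algebraMap P (E j) x ∈ I₀.map (algebraMap P (E j)) := by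
      have : G j ^ (n' + n) * algebraMap P (E j) x =
          G j ^ n' * (algebraMap P (E j) x * G j ^ n) := by
        rw [pow_add]; ring
      rw [this, hxa]
      exact Ideal.mul_mem_left _ _ ha
    refine ⟨n' + n, fun i k => ?_⟩
    have := leftMulMatrix_mem_of_mem_map (e j) I₀ hmem i k
    rw [map_mul, map_pow, AlgHom.commutes, Matrix.mul_apply] at this
    simp only [Matrix.algebraMap_matrix_apply, mul_ite, mul_zero, Finset.sum_ite_eq',
      Finset.mem_univ, if_true] at this
    exact this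
  -- Step 4: the charpoly coefficients
  let χ : ∀ j, P[X] := fun j => (Algebra.leftMulMatrix (e j) (G j)).charpoly
  let C : Finset P := Finset.univ.biUnion fun j =>
    (Finset.range (Fintype.card (ι j))).image fun m => (χ j).coeff m
  have hCrad : ∀ x ∈ I, Ideal.span (C : Set P) ≤ (colonIdeal I₀ x).radical := by
    intro x hx
    rw [Ideal.span_le]
    intro c hc
    simp only [C, Finset.coe_biUnion, Finset.coe_univ, Set.mem_univ, Set.iUnion_true,
      Finset.coe_image, Finset.coe_range, Set.mem_iUnion, Set.mem_image, Set.mem_Iio] at hc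
    obtain ⟨j, m, hm, rfl⟩ := hc
    obtain ⟨N, hN⟩ := h3 x hx j
    exact charpoly_coeff_mem_radical (colonIdeal I₀ x) _ N (fun i k => hN i k) m hm
  -- Step 5: `span C ⊔ I = ⊤`
  have hsup : Ideal.span (C : Set P) ⊔ I = ⊤ := by
    by_contra hne
    obtain ⟨q, hq, hle⟩ := Ideal.exists_le_maximal _ hne
    obtain ⟨j, Q, hQ, hqQ, hgQ⟩ := hcov q hq.isPrime (le_trans le_sup_right hle)
    refine hgQ (mem_of_charpoly_coeff_mem (e j) (G j) q Q hqQ fun m hm => ?_)
    refine hle (Ideal.mem_sup_left (Ideal.subset_span ?_))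
    simp only [C, Finset.coe_biUnion, Finset.coe_univ, Set.mem_univ, Set.iUnion_true,
      Finset.coe_image, Finset.coe_range, Set.mem_iUnion, Set.mem_image, Set.mem_Iio]
    exact ⟨j, m, hm, rfl⟩
  obtain ⟨c, hc, i, hi, hci⟩ : ∃ c ∈ Ideal.span (C : Set P), ∃ i ∈ I, c + i = 1 := by
    have : (1 : P) ∈ Ideal.span (C : Set P) ⊔ I := by rw [hsup]; trivial
    exact Submodule.mem_sup.1 this
  -- Step 6
  have hfin : I = I₀ ⊔ Ideal.span {i} := by
    refine le_antisymm (fun x hx => ?_) (sup_le hI₀I ((Ideal.span_singleton_le_iff_mem _).2 hi))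
    obtain ⟨R, hR⟩ := hCrad x hx hc
    rw [mem_colonIdeal] at hR
    -- `c ^ R ≡ 1 mod i`
    have hcR : c ^ R - 1 ∈ Ideal.span {i} := by
      rw [← Ideal.Quotient.eq_zero_iff_mem, map_sub, map_pow, map_one]
      have : Ideal.Quotient.mk (Ideal.span {i}) c = 1 := by
        rw [← map_one (Ideal.Quotient.mk (Ideal.span {i})), ← hci, map_add]
        have : Ideal.Quotient.mk (Ideal.span {i}) i = 0 :=
          Ideal.Quotient.eq_zero_iff_mem.2 (Ideal.mem_span_singleton_self i)
        rw [this, add_zero]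
      rw [this, one_pow, sub_self]
    have hx' : x = c ^ R * x - (c ^ R - 1) * x := by ring
    rw [hx']
    exact Ideal.sub_mem _ (Ideal.mem_sup_left hR)
      (Ideal.mem_sup_right (Ideal.mul_mem_right _ _ hcR))
  rw [hfin]
  exact Submodule.FG.sup (N₁ := I₀) (N₂ := Ideal.span {i}) hI₀fg ⟨{i}, by simp⟩

end Groth.Agent.Lib.Helper30.EtaleSourceFT
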