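import Groth.Agent.Lib.Helper30.EtaleSourceFP
import Mathlib.RingTheory.AdjoinRoot
import Mathlib.RingTheory.Localization.Away.Basic

set_option autoImplicit false
open Polynomial

namespace Groth.Agent.Lib.Helper30.EtaleSourceFT

section kernels
variable {P B : Type*} [CommRing P] [CommRing B]

theorem adjoinRoot_map_mk (π : P →+* B) (F : P[X]) (f : B[X]) (h : f ∣ F.map π) (p : P[X]) :
    AdjoinRoot.map π F f h (AdjoinRoot.mk F p) = AdjoinRoot.mk f (p.map π) := by
  rw [AdjoinRoot.map, AdjoinRoot.lift_mk, ← Polynomial.eval₂_map]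
  change Polynomial.eval₂ (algebraMap B (AdjoinRoot f)) (AdjoinRoot.root f) (p.map π) = _
  rw [← Polynomial.aeval_def, AdjoinRoot.aeval_eq]

theorem adjoinRoot_map_surjective (π : P →+* B) (hπ : Function.Surjective π) (F : P[X])
    (f : B[X]) (h : f ∣ F.map π) : Function.Surjective (AdjoinRoot.map π F f h) := by
  intro z
  obtain ⟨q, rfl⟩ := AdjoinRoot.mk_surjective z
  obtain ⟨p, rfl⟩ := Polynomial.map_surjective π hπ q
  exact ⟨AdjoinRoot.mk F p, adjoinRoot_map_mk π F f h p⟩

theorem ker_adjoinRoot_map_le (π : P →+* B) (hπ : Function.Surjective π) (F : P[X])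
    (f : B[X]) (hF : F.map π = f) :
    RingHom.ker (AdjoinRoot.map π F f (dvd_of_eq hF.symm)) ≤
      (RingHom.ker π).map (AdjoinRoot.of F) := by
  intro z hz
  obtain ⟨p, rfl⟩ := AdjoinRoot.mk_surjective z
  rw [RingHom.mem_ker, adjoinRoot_map_mk, AdjoinRoot.mk_eq_zero] at hz
  obtain ⟨h, hh⟩ := hz
  obtain ⟨H, rfl⟩ := Polynomial.map_surjective π hπ h
  have hker : p - F * H ∈ RingHom.ker (Polynomial.mapRingHom π) := by
    rw [RingHom.mem_ker, Polynomial.coe_mapRingHom, Polynomial.map_sub, Polynomial.map_mul, hF,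
      hh, sub_self]
  rw [Polynomial.ker_mapRingHom] at hker
  have h2 : AdjoinRoot.mk F p = AdjoinRoot.mk F (p - F * H) := by
    rw [map_sub, map_mul, AdjoinRoot.mk_self, zero_mul, sub_zero]
  rw [h2]
  have h3 : AdjoinRoot.of F = (AdjoinRoot.mk F).comp Polynomial.C := rfl
  rw [h3, ← Ideal.map_map]
  exact Ideal.mem_map_of_mem _ hker

/-- Kernel of the map induced on localizations away from an element by a surjective ring map. -/
theorem ker_away_map_le {R S : Type*} [CommRing R] [CommRing S] (φ : R →+* S) (r : R)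
    (R' S' : Type*) [CommRing R'] [CommRing S'] [Algebra R R'] [Algebra S S']
    [IsLocalization.Away r R'] [IsLocalization.Away (φ r) S'] :
    RingHom.ker (IsLocalization.Away.map R' S' φ r) ≤ (RingHom.ker φ).map (algebraMap R R') := by
  intro z hz
  obtain ⟨n, a, hza⟩ := IsLocalization.Away.surj r z
  rw [RingHom.mem_ker] at hz
  have h1 : IsLocalization.Away.map R' S' φ r (algebraMap R R' a) = 0 := by
    rw [← hza, map_mul, hz, zero_mul]
  rw [IsLocalization.Away.map, IsLocalization.map_eq,
    IsLocalization.map_eq_zero_iff (Submonoid.powers (φ r))] at h1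
  obtain ⟨⟨_, m, rfl⟩, hm⟩ := h1
  have h2 : r ^ m * a ∈ RingHom.ker φ := by
    rw [RingHom.mem_ker, map_mul, map_pow]; exact hm
  have h3 : z * algebraMap R R' (r ^ (m + n)) ∈ (RingHom.ker φ).map (algebraMap R R') := by
    have : z * algebraMap R R' (r ^ (m + n)) = algebraMap R R' (r ^ m * a) := by
      rw [pow_add, map_mul, map_mul, ← hza, map_pow, map_pow]; ring
    rw [this]
    exact Ideal.mem_map_of_mem _ h2
  have hunit : IsUnit (algebraMap R R' (r ^ (m + n))) := by
    rw [map_pow]
    exact (IsLocalization.Away.algebraMap_isUnit r).pow _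
  exact (Ideal.mul_unit_mem_iff_mem _ hunit).1 h3

end kernels

end Groth.Agent.Lib.Helper30.EtaleSourceFT
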