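import Mathlib.RingTheory.Flat.FaithfullyFlat.Basic
import Mathlib.RingTheory.Flat.FaithfullyFlat.Algebra
import Mathlib.RingTheory.RingHom.Flat
import Mathlib.RingTheory.RingHom.FaithfullyFlat

set_option autoImplicit false

namespace Groth.Agent.Lib.Helper30

open TensorProduct

universe u

theorem flat_of_flat_of_faithfullyFlat (A B C : Type u) [CommRing A] [CommRing B] [CommRing C]
    [Algebra A B] [Algebra B C] [Algebra A C] [IsScalarTower A B C]
    [Module.FaithfullyFlat B C] [Module.Flat A C] : Module.Flat A B := by
  rw [Module.Flat.iff_lTensor_preserves_injective_linearMap]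
  intro N P _ _ _ _ f hf
  let fB : B ⊗[A] N →ₗ[B] B ⊗[A] P :=
    TensorProduct.AlgebraTensorModule.map (LinearMap.id : B →ₗ[B] B) f
  have hfB : ⇑(f.lTensor B) = ⇑fB := by
    ext x
    induction x using TensorProduct.induction_on with
    | zero => simp
    | tmul b n => simp [fB]
    | add x y hx hy => simp [hx, hy]
  rw [hfB, ← Module.FaithfullyFlat.lTensor_injective_iff_injective B C fB]
  have hC : Function.Injective (f.lTensor C) :=
    Module.Flat.lTensor_preserves_injective_linearMap f hf
  let eN := TensorProduct.AlgebraTensorModule.cancelBaseChange A B B C N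
  let eP := TensorProduct.AlgebraTensorModule.cancelBaseChange A B B C P
  have hcomm : ∀ x, eP (fB.lTensor C x) = f.lTensor C (eN x) := by
    intro x
    induction x using TensorProduct.induction_on with
    | zero => simp
    | tmul c y =>
      induction y using TensorProduct.induction_on with
      | zero => simp
      | tmul b n => simp [eN, eP, fB]
      | add y z hy hz => simp only [tmul_add, map_add, hy, hz]
    | add x y hx hy => simp only [map_add, hx, hy]
  intro x y hxy
  apply eN.injective
  apply hC
  rw [← hcomm, ← hcomm, hxy]

theorem ringHom_flat_of_comp_of_faithfullyFlat {A B C : Type u} [CommRing A] [CommRing B]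
    [CommRing C] (f : A →+* B) (g : B →+* C) (hg : g.FaithfullyFlat) (h : (g.comp f).Flat) :
    f.Flat := by
  algebraize [f, g, g.comp f]
  exact flat_of_flat_of_faithfullyFlat A B C

end Groth.Agent.Lib.Helper30
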