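import Groth.Agent.Lib.Helper30.EtaleSourceLFT
import Groth.Agent.Lib.Helper30.FlatDescent
import Mathlib.AlgebraicGeometry.Morphisms.FormallyUnramified
import Mathlib.AlgebraicGeometry.Morphisms.Flat
import Mathlib.AlgebraicGeometry.Morphisms.QuasiFinite
import Mathlib.RingTheory.Etale.Kaehler
import Mathlib.RingTheory.Smooth.Flat

set_option autoImplicit false
universe u
open CategoryTheory CategoryTheory.Limits AlgebraicGeometry Opposite TopologicalSpace TensorProduct

namespace Groth.Agent.Lib.Helper30.EtaleSource

theorem ringDescends_formallyUnramified : RingDescends.{u} @RingHom.FormallyUnramified := by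
  intro A B C _ _ _ φ ψ hψ hsurj hQ
  let _ := φ.toAlgebra
  let _ := ψ.toAlgebra
  let _ := (ψ.comp φ).toAlgebra
  have : IsScalarTower A B C := IsScalarTower.of_algebraMap_eq' rfl
  have : Algebra.Etale B C := hψ
  have : Algebra.FormallyUnramified A C := hQ
  have : Module.FaithfullyFlat B C := Module.FaithfullyFlat.of_comap_surjective hsurj
  have : Subsingleton (C ⊗[B] Ω[B⁄A]) :=
    (KaehlerDifferential.tensorKaehlerEquivOfFormallyEtale A B C).injective.subsingleton
  have : Subsingleton Ω[B⁄A] := Module.FaithfullyFlat.lTensor_reflects_triviality B C _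
  exact ⟨this⟩

set_option backward.isDefEq.respectTransparency false in
/-- **Formally unramified descends along étale surjections of the source.** -/
theorem formallyUnramified_of_etale_surjective_comp {X' X Y : Scheme.{u}} (e : X' ⟶ X)
    (f : X ⟶ Y) [Etale e] [Surjective e] [FormallyUnramified (e ≫ f)] :
    FormallyUnramified f :=
  of_etale_surjective_comp (P := @FormallyUnramified)
    (specDescends_of_ringDescends ringDescends_formallyUnramified) e f inferInstance

theorem ringDescends_flat : RingDescends.{u} @RingHom.Flat := by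
  intro A B C _ _ _ φ ψ hψ hsurj hQ
  refine ringHom_flat_of_comp_of_faithfullyFlat φ ψ ?_ hQ
  rw [RingHom.FaithfullyFlat.iff_flat_and_comap_surjective]
  refine ⟨?_, hsurj⟩
  let _ := ψ.toAlgebra
  have : Algebra.Etale B C := hψ
  exact (inferInstance : Module.Flat B C)

set_option backward.isDefEq.respectTransparency false in
/-- **Flatness descends along étale surjections of the source.** -/
theorem flat_of_etale_surjective_comp {X' X Y : Scheme.{u}} (e : X' ⟶ X)
    (f : X ⟶ Y) [Etale e] [Surjective e] [Flat (e ≫ f)] : Flat f :=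
  of_etale_surjective_comp (P := @Flat)
    (specDescends_of_ringDescends ringDescends_flat) e f inferInstance

open Filter Topology in
theorem isDiscrete_of_preimage {X Y : Type*} [TopologicalSpace X] [TopologicalSpace Y] {e : X → Y}
    (he : IsOpenMap e) (hs : Function.Surjective e) {T : Set Y}
    (h : _root_.IsDiscrete (e ⁻¹' T)) : _root_.IsDiscrete T := by
  refine .of_nhdsWithin ?_
  intro y hy
  obtain ⟨x, rfl⟩ := hs y
  have := h.nhdsWithin x hy
  calc 𝓝[T] (e x) = 𝓝 (e x) ⊓ 𝓟 T := rfl
    _ ≤ Filter.map e (𝓝 x) ⊓ 𝓟 T := inf_le_inf_right _ (he.nhds_le x)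
    _ = Filter.map e (𝓝 x ⊓ Filter.comap e (𝓟 T)) := (Filter.push_pull _ _ _).symm
    _ = Filter.map e (𝓝[e ⁻¹' T] x) := by rw [Filter.comap_principal]; rfl
    _ = pure (e x) := by rw [this, Filter.map_pure]

set_option backward.isDefEq.respectTransparency false in
/-- **Locally quasi-finite (with locally of finite type) descends along étale surjections of the
source.** -/
theorem locallyQuasiFinite_of_etale_surjective_comp {X' X Y : Scheme.{u}} (e : X' ⟶ X)
    (f : X ⟶ Y) [Etale e] [Surjective e] [LocallyQuasiFinite (e ≫ f)]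
    [LocallyOfFiniteType (e ≫ f)] : LocallyQuasiFinite f ∧ LocallyOfFiniteType f := by
  have hft : LocallyOfFiniteType f := locallyOfFiniteType_of_etale_surjective_comp e f
  refine ⟨?_, hft⟩
  rw [locallyQuasiFinite_iff_isDiscrete_preimage_singleton]
  intro y
  have hd : _root_.IsDiscrete ((e ≫ f) ⁻¹' {y}) := (e ≫ f).isDiscrete_preimage_singleton y
  refine isDiscrete_of_preimage e.isOpenMap e.surjective ?_
  convert hd using 1
  ext x
  simp

end Groth.Agent.Lib.Helper30.EtaleSource
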