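import Groth.Agent.Lib.Helper30.ExtVanish
import Mathlib.CategoryTheory.Preadditive.Biproducts

/-!
# Vanishing of `Abelian.Ext`: isomorphisms, finite coproducts, covariant long exact sequence
-/

set_option autoImplicit false

namespace Groth.Agent.Lib.Helper30

universe w v u

open CategoryTheory Abelian Limits

variable {C : Type u} [Category.{v} C] [Abelian C] [HasExt.{w} C]

theorem ext_subsingleton_of_iso_right {X Y Y' : C} (e : Y ≅ Y') (n : ℕ)
    (h : Subsingleton (Ext.{w} X Y' n)) : Subsingleton (Ext.{w} X Y n) := by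
  refine subsingleton_of_forall_eq 0 (fun x => ?_)
  have h1 : x = (x.comp (Ext.mk₀ e.hom) (add_zero n)).comp (Ext.mk₀ e.inv) (add_zero n) := by
    rw [Ext.comp_assoc_of_second_deg_zero, Ext.mk₀_comp_mk₀, e.hom_inv_id, Ext.comp_mk₀_id]
  rw [h1, Subsingleton.elim (x.comp (Ext.mk₀ e.hom) (add_zero n)) 0, Ext.zero_comp]

theorem ext_subsingleton_of_iso_left {X X' Y : C} (e : X ≅ X') (n : ℕ)
    (h : Subsingleton (Ext.{w} X' Y n)) : Subsingleton (Ext.{w} X Y n) := by
  refine subsingleton_of_forall_eq 0 (fun x => ?_)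
  have h1 : x = (Ext.mk₀ e.hom).comp ((Ext.mk₀ e.inv).comp x (zero_add n)) (zero_add n) := by
    rw [← Ext.comp_assoc_of_second_deg_zero, Ext.mk₀_comp_mk₀, e.hom_inv_id, Ext.mk₀_id_comp]
  rw [h1, Subsingleton.elim ((Ext.mk₀ e.inv).comp x (zero_add n)) 0, Ext.comp_zero]

theorem ext_subsingleton_sigma_left {J : Type} [Fintype J] (X : J → C) [HasCoproduct X] (Y : C)
    (n : ℕ) (h : ∀ t, Subsingleton (Ext.{w} (X t) Y n)) : Subsingleton (Ext.{w} (∐ X) Y n) :=
  (Ext.biproductAddEquiv (biconeIsBilimitOfColimitCoconeOfIsColimit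
    (colimit.isColimit (Discrete.functor X))) Y n).toEquiv.subsingleton

theorem ext_subsingleton_sigma_right {J : Type} [Fintype J] (X : C) (Y : J → C) [HasCoproduct Y]
    (n : ℕ) (h : ∀ t, Subsingleton (Ext.{w} X (Y t) n)) : Subsingleton (Ext.{w} X (∐ Y) n) :=
  (Ext.addEquivBiproduct X (biconeIsBilimitOfColimitCoconeOfIsColimit
    (colimit.isColimit (Discrete.functor Y))) n).toEquiv.subsingleton

/-- Covariant long exact sequence: vanishing at the cokernel. -/
theorem ext_subsingleton_right_X₃ {S : ShortComplex C} (hS : S.ShortExact) (X : C) (n : ℕ)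
    (h₂ : Subsingleton (Ext.{w} X S.X₂ n)) (h₁ : Subsingleton (Ext.{w} X S.X₁ (n + 1))) :
    Subsingleton (Ext.{w} X S.X₃ n) := by
  refine subsingleton_of_forall_eq 0 (fun x₃ => ?_)
  obtain ⟨x₂, hx₂⟩ := Ext.covariant_sequence_exact₃ X hS x₃ rfl (Subsingleton.elim _ _)
  rw [← hx₂, Subsingleton.elim x₂ 0, Ext.zero_comp]

/-- Contravariant long exact sequence: vanishing at the cokernel in positive degree. -/
theorem ext_subsingleton_left_X₃ {S : ShortComplex C} (hS : S.ShortExact) (Y : C) (n : ℕ)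
    (h₁ : Subsingleton (Ext.{w} S.X₁ Y n)) (h₂ : Subsingleton (Ext.{w} S.X₂ Y (n + 1))) :
    Subsingleton (Ext.{w} S.X₃ Y (n + 1)) := by
  refine subsingleton_of_forall_eq 0 (fun x₃ => ?_)
  obtain ⟨x₁, hx₁⟩ := Ext.contravariant_sequence_exact₃ hS Y x₃ (Subsingleton.elim _ _)
    (n₀ := n) (by omega)
  rw [← hx₁, Subsingleton.elim x₁ 0, Ext.comp_zero]

/-- Contravariant long exact sequence in degree zero. -/
theorem ext_zero_subsingleton_left_X₃ {S : ShortComplex C} (hS : S.ShortExact) (Y : C)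
    (h₂ : Subsingleton (Ext.{w} S.X₂ Y 0)) : Subsingleton (Ext.{w} S.X₃ Y 0) := by
  have := hS.epi_g
  refine subsingleton_of_forall_eq 0 (fun x₃ => ?_)
  apply Ext.precomp_mk₀_injective_of_epi Y S.g
  exact Subsingleton.elim _ _

end Groth.Agent.Lib.Helper30
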