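import Mathlib.CategoryTheory.MorphismProperty.Limits
import Mathlib.CategoryTheory.Limits.Shapes.Pullback.IsPullback.Basic

/-!
# Fibre products of charts (helper30)

`prop_lift_of_isPullback` : for a property `Q` of morphisms stable under base change and composition, if `pX : A ⟶ X` and
`pY : B ⟶ Y` have `Q`, `P = X ×_H Y` and `W = A ×_H B`, then the induced map `W ⟶ P` has `Q`.
-/

set_option autoImplicit false
universe v u
open CategoryTheory CategoryTheory.Limits

namespace Groth.Agent.Lib.Helper30.FibreChart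

variable {C : Type u} [Category.{v} C] [HasPullbacks C]

/-- For a property `Q` of morphisms stable under base change and composition: if `pX : A ⟶ X` and `pY : B ⟶ Y` have `Q`,
`P = X ×_H Y` and `W = A ×_H B`, then the induced map `W ⟶ P` has `Q`. -/
theorem prop_lift_of_isPullback (Q : MorphismProperty C) [Q.IsStableUnderBaseChange]
    [Q.IsStableUnderComposition]
    {X Y H P A B W : C} {f : X ⟶ H} {g : Y ⟶ H} {fstP : P ⟶ X} {sndP : P ⟶ Y}
    (h : IsPullback fstP sndP f g) {pX : A ⟶ X} {pY : B ⟶ Y} (hpX : Q pX) (hpY : Q pY)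
    {wA : W ⟶ A} {wB : W ⟶ B} (hW : IsPullback wA wB (pX ≫ f) (pY ≫ g))
    (ψ : W ⟶ P) (h1 : ψ ≫ fstP = wA ≫ pX) (h2 : ψ ≫ sndP = wB ≫ pY) : Q ψ := by
  have hQ : IsPullback (pullback.fst f (pY ≫ g)) (pullback.snd f (pY ≫ g)) f (pY ≫ g) :=
    IsPullback.of_hasPullback _ _
  set qX := pullback.fst f (pY ≫ g) with hqX
  set qV := pullback.snd f (pY ≫ g) with hqV
  let r : pullback f (pY ≫ g) ⟶ P := h.lift qX (qV ≫ pY) (by rw [hQ.w, Category.assoc])
  have hr1 : r ≫ fstP = qX := h.lift_fst _ _ _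
  have hr2 : r ≫ sndP = qV ≫ pY := h.lift_snd _ _ _
  have R1 : IsPullback r qV sndP pY := by
    refine IsPullback.of_right ?_ hr2 h
    rw [hr1]
    exact hQ
  let w : W ⟶ pullback f (pY ≫ g) := hQ.lift (wA ≫ pX) wB (by rw [Category.assoc, hW.w])
  have hw1 : w ≫ qX = wA ≫ pX := hQ.lift_fst _ _ _
  have hw2 : w ≫ qV = wB := hQ.lift_snd _ _ _
  have R2 : IsPullback wA w pX qX := by
    refine IsPullback.of_bot ?_ hw1.symm hQ
    rw [hw2]
    exact hW
  have e : ψ = w ≫ r := by
    apply h.hom_ext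
    · rw [h1, Category.assoc, hr1, hw1]
    · rw [h2, Category.assoc, hr2, ← Category.assoc, hw2]
  rw [e]
  exact Q.comp_mem _ _ (Q.of_isPullback R2 hpX) (Q.of_isPullback R1.flip hpY)

end Groth.Agent.Lib.Helper30.FibreChart
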