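import Mathlib

set_option autoImplicit false
universe u
open CategoryTheory CategoryTheory.Limits AlgebraicGeometry

namespace Groth.Agent.Lib.Helper30.FiniteCoprod

/-- The map out of a finite coproduct of schemes induced by finite morphisms is finite. -/
theorem isFinite_desc_fin : ∀ (n : ℕ) (W : Fin n → Scheme.{u}) (Z : Scheme.{u}) (f : ∀ i, W i ⟶ Z)
    (_ : ∀ i, IsFinite (f i)) (c : Cofan W) (hc : IsColimit c), IsFinite (Cofan.IsColimit.desc hc f)
  | 0, W, Z, f, hf, c, hc => by
      have hinit : IsInitial c.pt := by
        refine IsInitial.ofUniqueHom (fun Y => Cofan.IsColimit.desc hc (fun i => i.elim0)) ?_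
        intro Y m
        apply Cofan.IsColimit.hom_ext hc
        intro i
        exact i.elim0
      have : IsEmpty c.pt := by
        have e : c.pt ≅ ⊥_ Scheme.{u} := hinit.uniqueUpToIso initialIsInitial
        exact Function.isEmpty e.hom.base
      infer_instance
  | n + 1, W, Z, f, hf, c, hc => by
      let c₁ : Cofan (fun i : Fin n => W i.succ) := Cofan.mk (∐ fun i : Fin n => W i.succ) (Sigma.ι _)
      have t₁ : IsColimit c₁ := coproductIsCoproduct _
      let c₂ : BinaryCofan (W 0) c₁.pt := BinaryCofan.mk coprod.inl coprod.inr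
      have t₂ : IsColimit c₂ := coprodIsCoprod _ _
      have t := extendCofanIsColimit W t₁ t₂
      let e : c.pt ≅ W 0 ⨿ (∐ fun i : Fin n => W i.succ) := hc.coconePointUniqueUpToIso t
      have IH : IsFinite (Cofan.IsColimit.desc t₁ fun i => f i.succ) :=
        isFinite_desc_fin n _ Z (fun i => f i.succ) (fun i => hf i.succ) c₁ t₁
      have := hf 0
      let r : W 0 ⨿ (∐ fun i : Fin n => W i.succ) ⟶ Z :=
        coprod.desc (f 0) (Cofan.IsColimit.desc t₁ fun i => f i.succ)
      have h2 : IsFinite r := inferInstanceAs
        (IsFinite (coprod.desc (f 0) (Cofan.IsColimit.desc t₁ fun i => f i.succ)))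
      have key : Cofan.IsColimit.desc hc f = e.hom ≫ r := by
        apply Cofan.IsColimit.hom_ext hc
        intro i
        have h3 : c.inj i ≫ e.hom = (extendCofan c₁ c₂).inj i :=
          hc.comp_coconePointUniqueUpToIso_hom t ⟨i⟩
        rw [Cofan.IsColimit.fac, ← Category.assoc, h3]
        refine Fin.cases ?_ (fun j => ?_) i
        · change f 0 = coprod.inl ≫ coprod.desc _ _
          rw [coprod.inl_desc]
        · change f j.succ = (c₁.inj j ≫ coprod.inr) ≫ coprod.desc _ _
          rw [Category.assoc, coprod.inr_desc, Cofan.IsColimit.fac]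
      rw [key]
      infer_instance

end Groth.Agent.Lib.Helper30.FiniteCoprod
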