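import Mathlib.Topology.Sober
import Mathlib.Topology.Inseparable
import Mathlib.Topology.Irreducible

set_option autoImplicit false

namespace Groth.Agent.Lib.Helper30

variable {α β : Type*} [TopologicalSpace α] [TopologicalSpace β]

theorem eq_of_specializes_of_mem_genericPoints [T0Space α] {x y : α}
    (hx : closure {x} ∈ irreducibleComponents α) (h : y ⤳ x) : y = x := by
  have hsub : closure {x} ⊆ closure {y} := h.closure_subset
  have hirr : IsIrreducible (closure ({y} : Set α)) := isIrreducible_singleton.closure
  have hle : closure {y} ⊆ closure {x} := hx.2 hirr hsub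
  have hxy : x ⤳ y := by
    rw [specializes_iff_mem_closure]
    exact hle (subset_closure (Set.mem_singleton y))
  exact (h.antisymm hxy).eq

theorem closure_singleton_mem_irreducibleComponents_of_maximal [QuasiSober α] {x : α}
    (hx : ∀ y : α, y ⤳ x → y = x) : closure {x} ∈ irreducibleComponents α := by
  refine ⟨isIrreducible_singleton.closure, ?_⟩
  intro S hS hxS
  have hS' : IsIrreducible (closure S) := hS.closure
  obtain ⟨y, hy⟩ := QuasiSober.sober hS' isClosed_closure
  have hxmem : x ∈ closure S := subset_closure (hxS (subset_closure (Set.mem_singleton x)))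
  have hyx : y ⤳ x := hy.specializes hxmem
  have := hx y hyx
  subst this
  intro z hz
  have : z ∈ closure S := subset_closure hz
  rw [← hy.def] at this
  exact this

theorem generalizingMap_image_mem_genericPoints [T0Space α] [QuasiSober β] {f : α → β}
    (hf : GeneralizingMap f) {x : α} (hx : closure {x} ∈ irreducibleComponents α) :
    closure {f x} ∈ irreducibleComponents β := by
  apply closure_singleton_mem_irreducibleComponents_of_maximal
  intro y hy
  obtain ⟨x', hx', rfl⟩ := hf hy
  rw [eq_of_specializes_of_mem_genericPoints hx hx']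

theorem closure_image_mem_irreducibleComponents [T0Space α] [QuasiSober α] [QuasiSober β]
    {f : α → β} (hc : Continuous f) (hf : GeneralizingMap f) {T : Set α}
    (hT : T ∈ irreducibleComponents α) : closure (f '' T) ∈ irreducibleComponents β := by
  obtain ⟨x, hx⟩ := QuasiSober.sober hT.1 (isClosed_of_mem_irreducibleComponents T hT)
  have h1 : IsGenericPoint (f x) (closure (f '' T)) := hx.image hc
  rw [← h1.def]
  apply generalizingMap_image_mem_genericPoints hf
  rw [hx.def]
  exact hT

theorem locallyFinite_irreducibleComponents_of_generalizingMap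
    [T0Space α] [QuasiSober α] [T0Space β] [QuasiSober β]
    {f : α → β} (hc : Continuous f) (hf : GeneralizingMap f)
    (hfin : ∀ y : β, (f ⁻¹' {y}).Finite) {U : Set β} (hU : IsOpen U)
    (hUfin : {Z ∈ irreducibleComponents β | (Z ∩ U).Nonempty}.Finite) :
    {T ∈ irreducibleComponents α | (T ∩ f ⁻¹' U).Nonempty}.Finite := by
  set F := {Z ∈ irreducibleComponents β | (Z ∩ U).Nonempty} with hF
  let G : Set β := (fun η : β => closure ({η} : Set β)) ⁻¹' F
  have hG : G.Finite := by
    apply Set.Finite.preimage _ hUfin
    intro a _ b _ hab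
    have ha : IsGenericPoint a (closure {a}) := isGenericPoint_closure
    have hb : IsGenericPoint b (closure {a}) := by
      simp only at hab
      rw [hab]; exact isGenericPoint_closure
    exact ha.eq hb
  have hH : (f ⁻¹' G).Finite := by
    have : f ⁻¹' G = ⋃ η ∈ G, f ⁻¹' {η} := by
      ext z; simp
    rw [this]
    exact hG.biUnion (fun η _ => hfin η)
  refine (hH.image (fun ξ : α => closure ({ξ} : Set α))).subset ?_
  rintro T ⟨hT, hTU⟩
  obtain ⟨x, hx⟩ := QuasiSober.sober hT.1 (isClosed_of_mem_irreducibleComponents T hT)
  refine ⟨x, ?_, hx.def⟩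
  have hxU : x ∈ f ⁻¹' U := (hx.mem_open_set_iff (hU.preimage hc)).mpr hTU
  show closure {f x} ∈ F
  refine ⟨?_, ⟨f x, subset_closure (Set.mem_singleton _), hxU⟩⟩
  apply generalizingMap_image_mem_genericPoints hf
  rw [hx.def]
  exact hT

end Groth.Agent.Lib.Helper30
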