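import Groth.Agent.Lib.Helper46.LargestOpen
import Groth.Agent.Lib.Helper5.GroupoidAlg
import Groth.Prelude.Def_AlgSpGpd

/-!
# The largest open over which the source map of a groupoid has a property is invariant (helper30)
-/

set_option autoImplicit false
universe u
open CategoryTheory CategoryTheory.Limits AlgebraicGeometry Opposite

namespace Groth.Agent.Lib.Helper30.GpdInv

open AlgSp Groth.Agent.Lib.Helper46.LargestOpen Groth.Agent.Lib.Helper36.OpenSubspace
open Groth.Agent.Lib.Helper5

variable {S : Scheme.{u}} {B : Sp S} (G : GroupoidSp B)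

theorem c_eq_comp : G.c = GroupoidAlg.comp G (pullback.fst G.s G.t) (pullback.snd G.s G.t)
    pullback.condition := by
  unfold GroupoidAlg.comp
  have : pullback.lift (pullback.fst G.s G.t) (pullback.snd G.s G.t) pullback.condition = 𝟙 _ := by
    apply pullback.hom_ext <;> simp
  rw [this, Category.id_comp]

theorem comp_c {T : Sp S} (m : T ⟶ pullback G.s G.t) :
    m ≫ G.c = GroupoidAlg.comp G (m ≫ pullback.fst G.s G.t) (m ≫ pullback.snd G.s G.t)
      (by rw [Category.assoc, Category.assoc, pullback.condition]) := by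
  rw [c_eq_comp, GroupoidAlg.precomp]

/-- The shear square: `(α, β) ↦ (α ∘ β, β)` identifies `R ×_{s,U,t} R` with `R ×_{s,U,s} R`. -/
theorem isPullback_shear : IsPullback G.c (pullback.snd G.s G.t) G.s G.s := by
  have w : G.c ≫ G.s = pullback.snd G.s G.t ≫ G.s := by
    rw [c_eq_comp, GroupoidAlg.comp_s]
  refine ⟨⟨w⟩, ⟨PullbackCone.IsLimit.mk w
    (fun c => pullback.lift
      (GroupoidAlg.comp G c.fst (c.snd ≫ G.i) (by rw [Category.assoc, G.i_t]; exact c.condition))
      c.snd (by rw [GroupoidAlg.comp_s, Category.assoc, G.i_s])) ?_ ?_ ?_⟩⟩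
  · intro c
    rw [comp_c]
    refine (GroupoidAlg.comp_congr G (pullback.lift_fst _ _ _) (pullback.lift_snd _ _ _) _).trans ?_
    exact GroupoidAlg.comp_inv_comp G c.fst c.snd c.condition
  · intro c
    exact pullback.lift_snd _ _ _
  · intro c m h1 h2
    apply pullback.hom_ext
    · rw [pullback.lift_fst]
      have e := comp_c G m
      rw [h1] at e
      have := GroupoidAlg.comp_comp_inv G (m ≫ pullback.fst G.s G.t) (m ≫ pullback.snd G.s G.t)
        (by rw [Category.assoc, Category.assoc, pullback.condition])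
      rw [← this]
      exact GroupoidAlg.comp_congr G e.symm (by rw [h2]) _
    · rw [pullback.lift_snd, h2]

variable {G}

/-- A monomorphism which is the largest open over which `f` has `P` (in the sense of the universal property for open
subspaces) has image `largest P f`. -/
theorem range_eq_largest {Q P : MorphismProperty (Sp S)} (hQ : CovClass Q)
    (hP : IsLocalOnBase (fun _ _ Y g => IsCover Q Y g) P) {X Y : Sp S} (hX : IsAlgSpace X)
    (hY : IsAlgSpace Y) (f : X ⟶ Y) {W : Sp S} (hWsp : IsAlgSpace W) (w : W ⟶ Y)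
    (hw : RepWith @IsOpenImmersion w)
    (hmax : ∀ (W' : Sp S) (w' : W' ⟶ Y), IsAlgSpace W' → RepWith @IsOpenImmersion w' →
      (P (pullback.snd f w') ↔ ∃ k : W' ⟶ W, k ≫ w = w')) :
    Set.range (Points.map w) = largest P f := by
  apply Set.Subset.antisymm
  · have hPw : P (pullback.snd f w) := (hmax W w hWsp hw).2 ⟨𝟙 W, Category.id_comp w⟩
    have hX' : IsAlgSpace (pullback f w) :=
      Groth.Agent.Lib.Helper23.AlgSpMor.isAlgSpace_of_isPullback hX hWsp hY.diag
        (IsPullback.of_hasPullback _ _)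
    exact range_subset_largest hQ hP hX hY hX' hWsp (hQ.ofOpenImm hWsp hY w hw)
      (IsPullback.of_hasPullback f w) hPw
  · have hV := isOpen_largest (P := P) f
    have hW' := isAlgSpace_openSub Y hY (largest P f) hV
    have hw' := repWith_isOpenImmersion_openSubι Y (largest P f) hV
    have hX' : IsAlgSpace (pullback f (openSubι Y (largest P f))) :=
      Groth.Agent.Lib.Helper23.AlgSpMor.isAlgSpace_of_isPullback hX hW' hY.diag
        (IsPullback.of_hasPullback _ _)
    have hP' : P (pullback.snd f (openSubι Y (largest P f))) :=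
      goodSp_largest hQ hP hX hY f _ _ _ _ _ hW' hX' hw' (range_map_openSubι Y _)
        (IsPullback.of_hasPullback _ _)
    obtain ⟨k, hk⟩ := (hmax _ _ hW' hw').1 hP'
    rw [← range_map_openSubι Y (largest P f), ← hk]
    rintro _ ⟨x, rfl⟩
    exact ⟨Points.map k x, (Points.map_comp k w x).symm⟩

/-- **The largest open over which `s` has `P` is `R`-invariant.** -/
theorem isInvariant_of_largest {Q P : MorphismProperty (Sp S)} (hQ : CovClass Q)
    (hP : IsLocalOnBase (fun _ _ Y g => IsCover Q Y g) P)
    (hU : IsAlgSpace G.U) (hR : IsAlgSpace G.R) (hs : Q G.s) (ht : Q G.t)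
    {W : Sp S} (hWsp : IsAlgSpace W) (w : W ⟶ G.U) (hw : RepWith @IsOpenImmersion w)
    (hmax : ∀ (W' : Sp S) (w' : W' ⟶ G.U), IsAlgSpace W' → RepWith @IsOpenImmersion w' →
      (P (pullback.snd G.s w') ↔ ∃ k : W' ⟶ W, k ≫ w = w')) :
    G.IsInvariant w := by
  have hV := range_eq_largest hQ hP hR hU G.s hWsp w hw hmax
  have hZ : IsAlgSpace (pullback G.s G.t) :=
    Groth.Agent.Lib.Helper23.AlgSpMor.isAlgSpace_of_isPullback hR hR hU.diag
      (IsPullback.of_hasPullback _ _)
  have e_t : largest P (pullback.snd G.s G.t) = Points.map G.t ⁻¹' largest P G.s :=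
    largest_baseChange hQ hP hR hU hZ hR ht (IsPullback.of_hasPullback G.s G.t) _
      (isOpen_largest _) (goodSp_largest hQ hP hZ hR _)
      (fun V' hV'o hV'g => subset_largest _ hV'o hV'g)
  have e_s : largest P (pullback.snd G.s G.t) = Points.map G.s ⁻¹' largest P G.s :=
    largest_baseChange hQ hP hR hU hZ hR hs (isPullback_shear G) _
      (isOpen_largest _) (goodSp_largest hQ hP hZ hR _)
      (fun V' hV'o hV'g => subset_largest _ hV'o hV'g)
  have key : ∀ ⦃T : Over S⦄ (a : (yon S).obj T ⟶ G.U),
      (∃ b : (yon S).obj T ⟶ W, b ≫ w = a) ↔ Set.range (Points.map a) ⊆ largest P G.s := by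
    intro T a
    rw [← hV]
    constructor
    · rintro ⟨b, rfl⟩ _ ⟨x, rfl⟩
      exact ⟨Points.map b x, (Points.map_comp b w x).symm⟩
    · intro h
      exact Groth.Agent.S10194.exists_factor w hw a h
  intro T r
  rw [key, key]
  have h1 : Set.range (Points.map (r ≫ G.t)) ⊆ largest P G.s ↔
      Set.range (Points.map r) ⊆ Points.map G.t ⁻¹' largest P G.s := by
    constructor
    · rintro h _ ⟨x, rfl⟩
      exact h ⟨x, Points.map_comp r G.t x⟩
    · rintro h _ ⟨x, rfl⟩
      rw [Points.map_comp]
      exact h ⟨x, rfl⟩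
  have h2 : Set.range (Points.map (r ≫ G.s)) ⊆ largest P G.s ↔
      Set.range (Points.map r) ⊆ Points.map G.s ⁻¹' largest P G.s := by
    constructor
    · rintro h _ ⟨x, rfl⟩
      exact h ⟨x, Points.map_comp r G.s x⟩
    · rintro h _ ⟨x, rfl⟩
      rw [Points.map_comp]
      exact h ⟨x, rfl⟩
  rw [h1, h2, ← e_t, ← e_s]

end Groth.Agent.Lib.Helper30.GpdInv
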