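import Groth.Agent.Lib.Helper30.GradedSub
import Mathlib.Algebra.Module.GradedModule
import Mathlib.Algebra.Module.Injective

set_option autoImplicit false

open DirectSum

namespace Groth.Agent.Lib.Helper30

universe u


theorem isInternal_range_of {ι : Type*} [DecidableEq ι] (β : ι → Type*) [∀ i, AddCommGroup (β i)] :
    DirectSum.IsInternal (fun g => (DirectSum.of β g).range) := by
  classical
  have key : ∀ (x : ⨁ g, ↥((DirectSum.of β g).range)) (k : ι),
      (DirectSum.coeAddMonoidHom (fun g => (DirectSum.of β g).range) x) k =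
        ((x k : ⨁ i, β i)) k := by
    intro x k
    induction x using DirectSum.induction_on with
    | zero => simp
    | of g y =>
      rw [DirectSum.coeAddMonoidHom_of]
      by_cases hgk : g = k
      · subst hgk
        rw [DirectSum.of_eq_same]
      · rw [DirectSum.of_eq_of_ne _ _ _ (Ne.symm hgk)]
        obtain ⟨y, b, rfl⟩ := y
        rw [ZeroMemClass.coe_zero]
        change (DirectSum.of β g b) k = (0 : ⨁ i, β i) k
        rw [DirectSum.of_eq_of_ne _ _ _ (Ne.symm hgk)]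
        rfl
    | add x y hx hy =>
      rw [map_add, DirectSum.add_apply, hx, hy, DirectSum.add_apply, AddSubgroup.coe_add,
        DirectSum.add_apply]
  constructor
  · rw [injective_iff_map_eq_zero]
    intro x hx
    ext k
    have h1 := key x k
    rw [hx] at h1
    obtain ⟨b, hb⟩ := (x k).2
    rw [← hb, DirectSum.of_eq_same] at h1
    rw [DirectSum.zero_apply, ZeroMemClass.coe_zero, ← hb]
    change (0 : β k) = b at h1
    rw [← h1, map_zero]
  · intro y
    induction y using DirectSum.induction_on with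
    | zero => exact ⟨0, map_zero _⟩
    | of g b =>
      exact ⟨DirectSum.of (fun g => ↥((DirectSum.of β g).range)) g ⟨DirectSum.of β g b, ⟨b, rfl⟩⟩,
        DirectSum.coeAddMonoidHom_of _ _ _⟩
    | add x y hx hy =>
      obtain ⟨x', rfl⟩ := hx
      obtain ⟨y', rfl⟩ := hy
      exact ⟨x' + y', map_add _ _ _⟩

section Cofree

variable {ι : Type} [AddCommGroup ι] [DecidableEq ι]
variable {R : Type u} [CommRing R] (𝒜 : ι → AddSubgroup R) [GradedRing 𝒜]
variable (N : Type u) [AddCommGroup N] [Module R N]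

/-- The cofree graded module on a module: copies of `N` indexed by the degrees. -/
def Cofree (_𝒜 : ι → AddSubgroup R) (N : Type u) [AddCommGroup N] : Type u := ⨁ _ : ι, N

noncomputable instance : AddCommGroup (Cofree 𝒜 N) :=
  inferInstanceAs (AddCommGroup (⨁ _ : ι, N))

/-- The external graded module structure on the constant family. -/
@[reducible] def cofreeGmodule : DirectSum.Gmodule (fun i => 𝒜 i) (fun _ : ι => N) where
  smul a n := (a : R) • n
  one_smul b := Sigma.ext (zero_add _) (heq_of_eq (one_smul R b.2))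
  mul_smul a a' b := Sigma.ext (add_assoc _ _ _) (heq_of_eq (mul_smul (a.2 : R) (a'.2 : R) b.2))
  smul_add a b c := smul_add (a : R) b c
  smul_zero a := smul_zero (a : R)
  add_smul a a' b := add_smul (a : R) (a' : R) b
  zero_smul b := zero_smul R b

noncomputable instance : Module R (Cofree 𝒜 N) :=
  letI := cofreeGmodule 𝒜 N
  Module.compHom (⨁ _ : ι, N) ((DirectSum.decomposeRingEquiv 𝒜 : R ≃+* ⨁ i, 𝒜 i) : R →+* ⨁ i, 𝒜 i)

/-- The inclusion of the copy of `N` in degree `g`. -/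
noncomputable def cofreeOf (g : ι) : N →+ Cofree 𝒜 N := DirectSum.of (fun _ : ι => N) g

theorem cofree_smul_of {h : ι} {a : R} (ha : a ∈ 𝒜 h) (g : ι) (n : N) :
    a • cofreeOf 𝒜 N g n = cofreeOf 𝒜 N (h + g) (a • n) := by
  let _ := cofreeGmodule 𝒜 N
  change (DirectSum.decompose 𝒜 a) • (DirectSum.of (fun _ : ι => N) g n) = _
  rw [DirectSum.decompose_of_mem 𝒜 ha, DirectSum.Gmodule.of_smul_of]
  rfl

theorem cofree_induction {motive : Cofree 𝒜 N → Prop} (zero : motive 0)
    (of : ∀ g n, motive (cofreeOf 𝒜 N g n))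
    (add : ∀ x y, motive x → motive y → motive (x + y)) (x : Cofree 𝒜 N) : motive x :=
  DirectSum.induction_on (β := fun _ : ι => N) x zero of add

theorem cofree_map_smul {P : Type*} [AddCommGroup P] [Module R P] (f : Cofree 𝒜 N →+ P)
    (hf : ∀ (h : ι) (a : R), a ∈ 𝒜 h → ∀ g n, f (a • cofreeOf 𝒜 N g n) = a • f (cofreeOf 𝒜 N g n))
    (r : R) (x : Cofree 𝒜 N) : f (r • x) = r • f x := by
  induction r using DirectSum.Decomposition.inductionOn 𝒜 with
  | zero => simp
  | @homogeneous h a =>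
    induction x using cofree_induction with
    | zero => simp
    | of g n => exact hf h a a.2 g n
    | add x y hx hy => rw [smul_add, map_add, hx, hy, map_add, smul_add]
  | add r s hr hs => rw [add_smul, map_add, hr, hs, add_smul]

/-- The pieces of the cofree graded module. -/
noncomputable def cofreeGr : ι → AddSubgroup (Cofree 𝒜 N) :=
  fun g => (cofreeOf 𝒜 N g).range

theorem cofreeOf_mem (g : ι) (n : N) : cofreeOf 𝒜 N g n ∈ cofreeGr 𝒜 N g := ⟨n, rfl⟩

noncomputable instance cofreeDecomposition : DirectSum.Decomposition (cofreeGr 𝒜 N) :=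
  (isInternal_range_of (fun _ : ι => N)).chooseDecomposition

instance cofreeGradedSMul : SetLike.GradedSMul 𝒜 (cofreeGr 𝒜 N) :=
  ⟨fun {i j a b} ha hb => by
    obtain ⟨n, rfl⟩ := hb
    change a • cofreeOf 𝒜 N j n ∈ cofreeGr 𝒜 N (i + j)
    rw [cofree_smul_of 𝒜 N ha]
    exact cofreeOf_mem 𝒜 N _ _⟩

/-- The cofree graded module, bundled. -/
noncomputable def gmodCofree : GrLC.GMod.{u} 𝒜 :=
  { carrier := Cofree 𝒜 N
    gr := cofreeGr 𝒜 N }

/-- The sum map. -/
noncomputable def cofreeSum : Cofree 𝒜 N →ₗ[R] N :=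
  { (DirectSum.toAddMonoid (β := fun _ : ι => N) fun _ => AddMonoidHom.id N) with
    map_smul' := by
      intro r x
      apply cofree_map_smul
      intro h a ha g n
      rw [cofree_smul_of 𝒜 N ha]
      erw [DirectSum.toAddMonoid_of, DirectSum.toAddMonoid_of]
      rfl }

theorem cofreeSum_of (g : ι) (n : N) : cofreeSum 𝒜 N (cofreeOf 𝒜 N g n) = n := by
  change (DirectSum.toAddMonoid (β := fun _ : ι => N) fun _ => AddMonoidHom.id N)
    (DirectSum.of (fun _ : ι => N) g n) = n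
  rw [DirectSum.toAddMonoid_of]
  rfl

end Cofree

section Lift

variable {ι : Type} [AddCommGroup ι] [DecidableEq ι]
variable {R : Type u} [CommRing R] (𝒜 : ι → AddSubgroup R) [GradedRing 𝒜]
variable (N : Type u) [AddCommGroup N] [Module R N]
variable {B : Type u} [AddCommGroup B] [Module R B] (𝓑 : ι → AddSubgroup B)
  [DirectSum.Decomposition 𝓑] [SetLike.GradedSMul 𝒜 𝓑]

omit [AddCommGroup ι] in
theorem linearMap_ext_of_homogeneous {P : Type*} [AddCommGroup P] [Module R P] (f g : B →ₗ[R] P)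
    (h : ∀ k b, b ∈ 𝓑 k → f b = g b) : f = g := by
  ext b
  induction b using DirectSum.Decomposition.inductionOn 𝓑 with
  | zero => simp
  | @homogeneous k b => exact h k b b.2
  | add b b' hb hb' => rw [map_add, map_add, hb, hb']

/-- The additive map underlying the lift. -/
noncomputable def cofreeLiftAdd (ψ : B →ₗ[R] N) : B →+ Cofree 𝒜 N :=
  (DirectSum.toAddMonoid fun g =>
    (cofreeOf 𝒜 N g).comp (ψ.toAddMonoidHom.comp (𝓑 g).subtype)).comp
      (DirectSum.decomposeAddEquiv 𝓑).toAddMonoidHom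

omit [SetLike.GradedSMul 𝒜 𝓑] in
theorem cofreeLiftAdd_of_mem (ψ : B →ₗ[R] N) {g : ι} {b : B} (hb : b ∈ 𝓑 g) :
    cofreeLiftAdd 𝒜 N 𝓑 ψ b = cofreeOf 𝒜 N g (ψ b) := by
  change (DirectSum.toAddMonoid fun g =>
    (cofreeOf 𝒜 N g).comp (ψ.toAddMonoidHom.comp (𝓑 g).subtype)) (DirectSum.decompose 𝓑 b) = _
  rw [DirectSum.decompose_of_mem 𝓑 hb, DirectSum.toAddMonoid_of]
  rfl

/-- The homogeneous map into the cofree graded module attached to a linear map. -/
noncomputable def cofreeLift (ψ : B →ₗ[R] N) : B →ₗ[R] Cofree 𝒜 N :=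
  { cofreeLiftAdd 𝒜 N 𝓑 ψ with
    map_smul' := by
      intro r b
      change cofreeLiftAdd 𝒜 N 𝓑 ψ (r • b) = r • cofreeLiftAdd 𝒜 N 𝓑 ψ b
      induction r using DirectSum.Decomposition.inductionOn 𝒜 with
      | zero => simp
      | @homogeneous h a =>
        induction b using DirectSum.Decomposition.inductionOn 𝓑 with
        | zero => simp
        | @homogeneous g b =>
          rw [cofreeLiftAdd_of_mem 𝒜 N 𝓑 ψ (smul_mem_piece 𝒜 𝓑 a.2 b.2),
            cofreeLiftAdd_of_mem 𝒜 N 𝓑 ψ b.2, cofree_smul_of 𝒜 N a.2, map_smul]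
        | add b b' hb hb' => rw [smul_add, map_add, hb, hb', map_add, smul_add]
      | add r s hr hs => rw [add_smul, map_add, hr, hs, add_smul] }

theorem cofreeLift_of_mem (ψ : B →ₗ[R] N) {g : ι} {b : B} (hb : b ∈ 𝓑 g) :
    cofreeLift 𝒜 N 𝓑 ψ b = cofreeOf 𝒜 N g (ψ b) :=
  cofreeLiftAdd_of_mem 𝒜 N 𝓑 ψ hb

theorem cofreeLift_isGrHom (ψ : B →ₗ[R] N) :
    GrLC.IsGrHom 𝓑 (cofreeGr 𝒜 N) (cofreeLift 𝒜 N 𝓑 ψ) := by
  intro g b hb
  rw [cofreeLift_of_mem 𝒜 N 𝓑 ψ hb]
  exact cofreeOf_mem 𝒜 N _ _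

theorem cofreeSum_comp_cofreeLift (ψ : B →ₗ[R] N) :
    cofreeSum 𝒜 N ∘ₗ cofreeLift 𝒜 N 𝓑 ψ = ψ := by
  apply linearMap_ext_of_homogeneous 𝓑
  intro k b hb
  rw [LinearMap.comp_apply, cofreeLift_of_mem 𝒜 N 𝓑 ψ hb, cofreeSum_of]

theorem cofreeLift_injective (ψ : B →ₗ[R] N) (hψ : Function.Injective ψ) :
    Function.Injective (cofreeLift 𝒜 N 𝓑 ψ) := by
  intro x y hxy
  apply hψ
  rw [← cofreeSum_comp_cofreeLift 𝒜 N 𝓑 ψ, LinearMap.comp_apply, LinearMap.comp_apply, hxy]

theorem eq_cofreeLift_of_isGrHom (G : B →ₗ[R] Cofree 𝒜 N)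
    (hG : GrLC.IsGrHom 𝓑 (cofreeGr 𝒜 N) G) :
    G = cofreeLift 𝒜 N 𝓑 (cofreeSum 𝒜 N ∘ₗ G) := by
  apply linearMap_ext_of_homogeneous 𝓑
  intro k b hb
  rw [cofreeLift_of_mem 𝒜 N 𝓑 _ hb, LinearMap.comp_apply]
  obtain ⟨n, hn⟩ := hG k b hb
  rw [← hn, cofreeSum_of]

end Lift

section Inj

variable {ι : Type} [AddCommGroup ι] [DecidableEq ι]
variable {R : Type u} [CommRing R] (𝒜 : ι → AddSubgroup R) [GradedRing 𝒜]
variable (N : Type u) [AddCommGroup N] [Module R N]

theorem isStarInj_cofree [Module.Injective R N] : GrLC.IsStarInj 𝒜 (cofreeGr 𝒜 N) := by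
  intro A B f hf hfinj g hg
  obtain ⟨ψ, hψ⟩ := Module.Injective.out f hfinj (cofreeSum 𝒜 N ∘ₗ g)
  refine ⟨cofreeLift 𝒜 N B.gr ψ, cofreeLift_isGrHom 𝒜 N B.gr ψ, ?_⟩
  rw [eq_cofreeLift_of_isGrHom 𝒜 N A.gr g hg]
  apply linearMap_ext_of_homogeneous A.gr
  intro k a ha
  rw [LinearMap.comp_apply, cofreeLift_of_mem 𝒜 N B.gr ψ (hf k a ha),
    cofreeLift_of_mem 𝒜 N A.gr _ ha, hψ]

end Inj

end Groth.Agent.Lib.Helper30
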