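import Groth.Agent.Lib.Helper30.GradedShift

set_option autoImplicit false

open DirectSum

namespace Groth.Agent.Lib.Helper30

universe u

section HomComp

variable {ι : Type} [AddCommGroup ι] [DecidableEq ι]
variable {R : Type u} [CommRing R] (𝒜 : ι → AddSubgroup R) [GradedRing 𝒜]
variable {K : Type u} [AddCommGroup K] [Module R K] (𝒦 : ι → AddSubgroup K)
  [DirectSum.Decomposition 𝒦] [SetLike.GradedSMul 𝒜 𝒦]
variable {I : Type u} [AddCommGroup I] [Module R I] (ℐ : ι → AddSubgroup I)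
  [DirectSum.Decomposition ℐ] [SetLike.GradedSMul 𝒜 ℐ]

/-- The projection onto the piece of degree `h`, as an additive endomorphism. -/
noncomputable def projAdd (h : ι) : I →+ I :=
  (ℐ h).subtype.comp ((DFinsupp.evalAddMonoidHom h).comp (DirectSum.decomposeAddEquiv ℐ).toAddMonoidHom)

omit [AddCommGroup ι] in
theorem projAdd_apply (h : ι) (x : I) : projAdd ℐ h x = (decompose ℐ x h : I) := rfl

/-- The additive map underlying the homogeneous component of degree `d` of a linear map. -/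
noncomputable def homCompAdd (φ : K →ₗ[R] I) (d : ι) : K →+ I :=
  (DirectSum.toAddMonoid fun g =>
    (projAdd ℐ (g + d)).comp (φ.toAddMonoidHom.comp (𝒦 g).subtype)).comp
      (DirectSum.decomposeAddEquiv 𝒦).toAddMonoidHom

theorem homCompAdd_of_mem (φ : K →ₗ[R] I) (d : ι) {g : ι} {k : K} (hk : k ∈ 𝒦 g) :
    homCompAdd 𝒦 ℐ φ d k = (decompose ℐ (φ k) (g + d) : I) := by
  change (DirectSum.toAddMonoid fun g =>
    (projAdd ℐ (g + d)).comp (φ.toAddMonoidHom.comp (𝒦 g).subtype)) (DirectSum.decompose 𝒦 k) = _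
  rw [DirectSum.decompose_of_mem 𝒦 hk, DirectSum.toAddMonoid_of]
  rfl

/-- The homogeneous component of degree `d` of a linear map between graded modules. -/
noncomputable def homComp (φ : K →ₗ[R] I) (d : ι) : K →ₗ[R] I :=
  { homCompAdd 𝒦 ℐ φ d with
    map_smul' := by
      intro r k
      change homCompAdd 𝒦 ℐ φ d (r • k) = r • homCompAdd 𝒦 ℐ φ d k
      induction r using DirectSum.Decomposition.inductionOn 𝒜 with
      | zero => simp
      | @homogeneous h a =>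
        induction k using DirectSum.Decomposition.inductionOn 𝒦 with
        | zero => simp
        | @homogeneous g k =>
          rw [homCompAdd_of_mem 𝒦 ℐ φ d (smul_mem_piece 𝒜 𝒦 a.2 k.2),
            homCompAdd_of_mem 𝒦 ℐ φ d k.2, map_smul, add_assoc,
            decompose_smul_of_mem 𝒜 ℐ a.2]
        | add k k' hk hk' => rw [smul_add, map_add, hk, hk', map_add, smul_add]
      | add r s hr hs => rw [add_smul, map_add, hr, hs, add_smul] }

theorem homComp_of_mem (φ : K →ₗ[R] I) (d : ι) {g : ι} {k : K} (hk : k ∈ 𝒦 g) :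
    homComp 𝒜 𝒦 ℐ φ d k = (decompose ℐ (φ k) (g + d) : I) :=
  homCompAdd_of_mem 𝒦 ℐ φ d hk

theorem homComp_isGrHomDeg (φ : K →ₗ[R] I) (d : ι) :
    GrLC.IsGrHomDeg 𝒦 ℐ (homComp 𝒜 𝒦 ℐ φ d) d := by
  intro g k hk
  rw [homComp_of_mem 𝒜 𝒦 ℐ φ d hk]
  exact (decompose ℐ (φ k) (g + d)).2

theorem sum_homComp_of_mem (φ : K →ₗ[R] I) {g : ι} {k : K} (hk : k ∈ 𝒦 g) (s : Finset ι)
    (hs : ∀ h, (decompose ℐ (φ k) h : I) ≠ 0 → h - g ∈ s) :
    ∑ d ∈ s, homComp 𝒜 𝒦 ℐ φ d k = φ k := by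
  classical
  have h1 : ∑ d ∈ s, homComp 𝒜 𝒦 ℐ φ d k = ∑ d ∈ s, (decompose ℐ (φ k) (g + d) : I) :=
    Finset.sum_congr rfl (fun d _ => homComp_of_mem 𝒜 𝒦 ℐ φ d hk)
  rw [h1]
  have h2 : ∑ d ∈ s, (decompose ℐ (φ k) (g + d) : I) =
      ∑ h ∈ s.image (fun d => g + d), (decompose ℐ (φ k) h : I) := by
    rw [Finset.sum_image]
    intro a _ b _ hab
    exact add_left_cancel hab
  rw [h2]
  conv_rhs => rw [← sum_support_decompose ℐ (φ k)]
  symm
  apply Finset.sum_subset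
  · intro h hh
    rw [DFinsupp.mem_support_iff] at hh
    have hh' : (decompose ℐ (φ k) h : I) ≠ 0 := fun h0 => hh (Subtype.ext h0)
    rw [Finset.mem_image]
    exact ⟨h - g, hs h hh', by abel⟩
  · intro h _ hh
    rw [DFinsupp.notMem_support_iff] at hh
    rw [hh]
    rfl

omit [AddCommGroup ι] in
theorem exists_finset_homogeneous_span_eq_top [Module.Finite R K] :
    ∃ T : Finset K, (∀ t ∈ T, ∃ g, t ∈ 𝒦 g) ∧ Submodule.span R (T : Set K) = ⊤ := by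
  classical
  obtain ⟨S, hS⟩ := (Module.Finite.fg_top : (⊤ : Submodule R K).FG)
  refine ⟨S.biUnion (fun x => (DFinsupp.support (decompose 𝒦 x)).image
    (fun g => (decompose 𝒦 x g : K))), ?_, ?_⟩
  · intro t ht
    rw [Finset.mem_biUnion] at ht
    obtain ⟨x, _, hx⟩ := ht
    rw [Finset.mem_image] at hx
    obtain ⟨g, _, rfl⟩ := hx
    exact ⟨g, (decompose 𝒦 x g).2⟩
  · rw [eq_top_iff, ← hS, Submodule.span_le]
    intro x hx
    rw [SetLike.mem_coe, ← sum_support_decompose 𝒦 x]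
    apply Submodule.sum_mem
    intro g hg
    apply Submodule.subset_span
    rw [Finset.mem_coe, Finset.mem_biUnion]
    exact ⟨x, hx, Finset.mem_image.mpr ⟨g, hg, rfl⟩⟩

theorem exists_finset_sum_homComp_eq [Module.Finite R K] (φ : K →ₗ[R] I) :
    ∃ s : Finset ι, ∑ d ∈ s, homComp 𝒜 𝒦 ℐ φ d = φ := by
  classical
  obtain ⟨T, hT, hspan⟩ := exists_finset_homogeneous_span_eq_top (R := R) 𝒦
  choose! deg hdeg using hT
  refine ⟨T.biUnion (fun t => (DFinsupp.support (decompose ℐ (φ t))).image (fun h => h - deg t)),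
    ?_⟩
  apply LinearMap.ext_on hspan
  intro t ht
  rw [LinearMap.sum_apply]
  apply sum_homComp_of_mem 𝒜 𝒦 ℐ φ (hdeg t ht)
  intro h hh
  rw [Finset.mem_biUnion]
  refine ⟨t, ht, Finset.mem_image.mpr ⟨h, ?_, rfl⟩⟩
  rw [DFinsupp.mem_support_iff]
  intro h0
  apply hh
  rw [h0]
  rfl

end HomComp

section Extension

variable {ι : Type} [AddCommGroup ι] [DecidableEq ι]
variable {R : Type u} [CommRing R] (𝒜 : ι → AddSubgroup R) [GradedRing 𝒜]
variable {F : Type u} [AddCommGroup F] [Module R F] (𝓕 : ι → AddSubgroup F)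
  [DirectSum.Decomposition 𝓕] [SetLike.GradedSMul 𝒜 𝓕]
variable {I : Type u} [AddCommGroup I] [Module R I] (ℐ : ι → AddSubgroup I)
  [DirectSum.Decomposition ℐ] [SetLike.GradedSMul 𝒜 ℐ]

theorem exists_extension_of_isGrHomDeg (hI : GrLC.IsStarInj 𝒜 ℐ) (K₀ : Submodule R F)
    (hK₀ : K₀.IsHomogeneous 𝓕) (d : ι) (ψ : (gmodSub 𝒜 𝓕 K₀ hK₀).carrier →ₗ[R] I)
    (hψ : GrLC.IsGrHomDeg (gmodSub 𝒜 𝓕 K₀ hK₀).gr ℐ ψ d) :
    ∃ Ψ : F →ₗ[R] I, ∀ k : ↥K₀, Ψ (k : F) = ψ k := by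
  have hσ : ∀ h g : ι, (Equiv.subRight d) (h + g) = h + (Equiv.subRight d) g := by
    intro h g
    change h + g - d = h + (g - d)
    abel
  let A := gmodReindex 𝒜 (gmodSub 𝒜 𝓕 K₀ hK₀).gr (Equiv.subRight d) hσ
  let B := gmodReindex 𝒜 𝓕 (Equiv.subRight d) hσ
  let f : A.carrier →ₗ[R] B.carrier := K₀.subtype
  have hf : GrLC.IsGrHom A.gr B.gr f := fun g x hx => hx
  have hfinj : Function.Injective f := Subtype.val_injective
  have hψ' : GrLC.IsGrHom A.gr ℐ ψ := by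
    intro g x hx
    have h1 := hψ (g - d) x hx
    rw [sub_add_cancel] at h1
    exact h1
  obtain ⟨Ψ, -, hΨ⟩ := hI A B f hf hfinj ψ hψ'
  exact ⟨Ψ, fun k => LinearMap.congr_fun hΨ k⟩

theorem exists_extension_of_finite (hI : GrLC.IsStarInj 𝒜 ℐ) (K₀ : Submodule R F)
    (hK₀ : K₀.IsHomogeneous 𝓕) [hfin : Module.Finite R ↥K₀] (φ : ↥K₀ →ₗ[R] I) :
    ∃ Φ : F →ₗ[R] I, ∀ k : ↥K₀, Φ (k : F) = φ k := by
  classical
  have hfin' : Module.Finite R (gmodSub 𝒜 𝓕 K₀ hK₀).carrier := hfin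
  let φ' : (gmodSub 𝒜 𝓕 K₀ hK₀).carrier →ₗ[R] I := φ
  obtain ⟨s, hs⟩ := exists_finset_sum_homComp_eq 𝒜 (gmodSub 𝒜 𝓕 K₀ hK₀).gr ℐ φ'
  have hex := fun d => exists_extension_of_isGrHomDeg 𝒜 𝓕 ℐ hI K₀ hK₀ d
    (homComp 𝒜 (gmodSub 𝒜 𝓕 K₀ hK₀).gr ℐ φ' d)
    (homComp_isGrHomDeg 𝒜 (gmodSub 𝒜 𝓕 K₀ hK₀).gr ℐ φ' d)
  choose Ψ hΨ using hex
  refine ⟨∑ d ∈ s, Ψ d, fun k => ?_⟩
  rw [LinearMap.sum_apply]
  have h1 : ∑ d ∈ s, Ψ d (k : F) = ∑ d ∈ s, homComp 𝒜 (gmodSub 𝒜 𝓕 K₀ hK₀).gr ℐ φ' d k :=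
    Finset.sum_congr rfl (fun d _ => hΨ d k)
  rw [h1, ← LinearMap.sum_apply, hs]
  rfl

end Extension

end Groth.Agent.Lib.Helper30
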