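import Groth.Agent.Lib.Helper30.GradedBasic

set_option autoImplicit false

open DirectSum

namespace Groth.Agent.Lib.Helper30

universe u

section

variable {ι : Type} [DecidableEq ι]
variable {R : Type u} [CommRing R]
variable {X : Type u} [AddCommGroup X] [Module R X] (𝒳 : ι → AddSubgroup X)
  [DirectSum.Decomposition 𝒳]

theorem isInternal_quotient_pieces (Z B : Submodule R X) (hZ : Z.IsHomogeneous 𝒳)
    (hB : B.IsHomogeneous 𝒳) (A : ι → AddSubgroup (↥Z ⧸ B.comap Z.subtype))
    (hA : ∀ g x, x ∈ A g ↔ ∃ z : ↥Z, (z : X) ∈ 𝒳 g ∧ (B.comap Z.subtype).mkQ z = x) :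
    DirectSum.IsInternal A := by
  classical
  constructor
  · rw [injective_iff_map_eq_zero]
    intro x hx
    have hrep : ∀ g, ∃ z : ↥Z, (z : X) ∈ 𝒳 g ∧ (B.comap Z.subtype).mkQ z = (x g : _) :=
      fun g => (hA g _).mp (x g).2
    choose ζ hζ1 hζ2 using hrep
    have hsum : DirectSum.coeAddMonoidHom A x =
        (B.comap Z.subtype).mkQ (∑ g ∈ DFinsupp.support x, ζ g) := by
      rw [DirectSum.coeAddMonoidHom_eq_dfinsuppSum, DFinsupp.sum, map_sum]
      exact Finset.sum_congr rfl (fun g _ => (hζ2 g).symm)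
    rw [hsum, Submodule.mkQ_apply, Submodule.Quotient.mk_eq_zero, Submodule.mem_comap] at hx
    have hs : (Z.subtype (∑ g ∈ DFinsupp.support x, ζ g) : X) =
        ∑ g ∈ DFinsupp.support x, (ζ g : X) := by
      rw [map_sum]
      rfl
    rw [hs] at hx
    ext h
    by_cases hh : h ∈ DFinsupp.support x
    · have hcomp := hB h hx
      have hdec : (decompose 𝒳 (∑ g ∈ DFinsupp.support x, (ζ g : X)) h : X) = (ζ h : X) := by
        rw [decompose_sum, DFinsupp.finsetSum_apply, AddSubmonoidClass.coe_finsetSum]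
        rw [Finset.sum_eq_single h]
        · exact decompose_of_mem_same 𝒳 (hζ1 h)
        · intro g _ hgh
          exact decompose_of_mem_ne 𝒳 (hζ1 g) hgh
        · intro hh'
          exact absurd hh hh'
      rw [hdec] at hcomp
      have : (B.comap Z.subtype).mkQ (ζ h) = 0 := by
        rw [Submodule.mkQ_apply, Submodule.Quotient.mk_eq_zero, Submodule.mem_comap]
        exact hcomp
      rw [hζ2 h] at this
      simpa using this
    · rw [DFinsupp.notMem_support_iff] at hh
      rw [hh]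
      rfl
  · intro y
    obtain ⟨z, rfl⟩ := (B.comap Z.subtype).mkQ_surjective y
    let zc : ι → ↥Z := fun g => ⟨(decompose 𝒳 (z : X) g : X), hZ g z.2⟩
    have hzc : ∀ g, (B.comap Z.subtype).mkQ (zc g) ∈ A g :=
      fun g => (hA g _).mpr ⟨zc g, (decompose 𝒳 (z : X) g).2, rfl⟩
    refine ⟨∑ g ∈ DFinsupp.support (decompose 𝒳 (z : X)),
      DirectSum.of (fun g => A g) g ⟨_, hzc g⟩, ?_⟩
    rw [map_sum]
    simp only [DirectSum.coeAddMonoidHom_of]
    rw [← map_sum]
    congr 1
    apply Subtype.ext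
    rw [AddSubmonoidClass.coe_finsetSum]
    exact sum_support_decompose 𝒳 (z : X)

end

end Groth.Agent.Lib.Helper30
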