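import Groth.Agent.Lib.Helper9.HenselSplit
import Groth.Agent.Lib.Helper87.BranchEtaleHens
import Groth.Prelude.Def_Hensel

set_option autoImplicit false
universe u
open IsLocalRing

namespace Groth.Agent.Lib.Helper30.HensLift

open Groth.Agent.Lib.Helper9 Groth.Agent.Lib.Helper87.BranchEtaleHens

section Ring

variable {R₀ B₀ : Type u} [CommRing R₀] [CommRing B₀] [Algebra R₀ B₀] [Algebra.Etale R₀ B₀]
  (p : Ideal R₀) [p.IsPrime] (q : Ideal B₀) [q.IsPrime]
  {A B : Type u} [CommRing A] [CommRing B] [IsLocalRing A] [IsLocalRing B]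
  [Algebra R₀ A] [Algebra B₀ B] [IsLocalization.AtPrime A p] [IsLocalization.AtPrime B q]
  (φ : A →+* B) [IsLocalHom φ]
  (hφ : φ.comp (algebraMap R₀ A) = (algebraMap B₀ B).comp (algebraMap R₀ B₀))
  (hb : Function.Bijective (ResidueField.map φ))
  (T : Type u) [CommRing T] [HenselianLocalRing T] (f : A →+* T) [IsLocalHom f]

include p q hφ hb in
theorem exists_lift : ∃ k : B →+* T, IsLocalHom k ∧ k.comp φ = f := by
  let _ : Algebra R₀ T := (f.comp (algebraMap R₀ A)).toAlgebra
  let e : ResidueField A ≃+* ResidueField B := RingEquiv.ofBijective _ hb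
  let ρ : B →+* ResidueField T :=
    (ResidueField.map f).comp ((e.symm : ResidueField B →+* ResidueField A).comp (residue B))
  have hρ : ∀ a : A, ρ (φ a) = residue T (f a) := by
    intro a
    show ResidueField.map f (e.symm (residue B (φ a))) = _
    have : residue B (φ a) = e (residue A a) := by
      show _ = ResidueField.map φ (residue A a)
      rw [ResidueField.map_residue]
    rw [this, e.symm_apply_apply, ResidueField.map_residue]
  have hρu : ∀ b : B, ρ b ≠ 0 ↔ IsUnit b := by
    intro b
    show ResidueField.map f (e.symm (residue B b)) ≠ 0 ↔ _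
    rw [map_ne_zero, map_ne_zero, ne_eq, residue_eq_zero_iff, mem_maximalIdeal, mem_nonunits_iff,
      not_not]
  let ψ₀ : B₀ →ₐ[R₀] ResidueField T :=
    { ρ.comp (algebraMap B₀ B) with
      commutes' := fun r => by
        show ρ (algebraMap B₀ B (algebraMap R₀ B₀ r)) = _
        have h1 : algebraMap B₀ B (algebraMap R₀ B₀ r) = φ (algebraMap R₀ A r) :=
          (congrArg (fun g => g r) hφ).symm
        rw [h1, hρ]
        rfl }
  obtain ⟨k₀, hk₀⟩ := exists_lift_of_etale_of_algebra ψ₀
  have hk₀' : ∀ b, residue T (k₀ b) = ρ (algebraMap B₀ B b) := hk₀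
  have hu : ∀ y : q.primeCompl, IsUnit (k₀.toRingHom y) := by
    intro y
    apply isUnit_of_map_unit (residue T)
    rw [isUnit_iff_ne_zero]
    show residue T (k₀ y) ≠ 0
    rw [hk₀', hρu]
    exact IsLocalization.map_units B y
  let k : B →+* T := IsLocalization.lift (M := q.primeCompl) (g := k₀.toRingHom) hu
  have hk : ∀ b, k (algebraMap B₀ B b) = k₀ b := fun b => IsLocalization.lift_eq hu b
  have hres : (residue T).comp k = ρ := by
    apply IsLocalization.ringHom_ext q.primeCompl
    ext b
    show residue T (k (algebraMap B₀ B b)) = ρ (algebraMap B₀ B b)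
    rw [hk, hk₀']
  refine ⟨k, ⟨fun b hbu => ?_⟩, ?_⟩
  · rw [← hρu, ← hres]
    show residue T (k b) ≠ 0
    rw [ne_eq, residue_eq_zero_iff, mem_maximalIdeal, mem_nonunits_iff, not_not]
    exact hbu
  · apply IsLocalization.ringHom_ext p.primeCompl
    ext r
    show k (φ (algebraMap R₀ A r)) = f (algebraMap R₀ A r)
    have h1 : φ (algebraMap R₀ A r) = algebraMap B₀ B (algebraMap R₀ B₀ r) :=
      congrArg (fun g => g r) hφ
    rw [h1, hk, k₀.commutes]
    rfl

include p q hφ hb in
theorem lift_unique (k k' : B →+* T) [IsLocalHom k] [IsLocalHom k'] (h1 : k.comp φ = f)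
    (h2 : k'.comp φ = f) : k = k' := by
  let _ : Algebra R₀ T := (f.comp (algebraMap R₀ A)).toAlgebra
  have hcomm : ∀ (κ : B →+* T), κ.comp φ = f → ∀ r, κ (algebraMap B₀ B (algebraMap R₀ B₀ r)) =
      algebraMap R₀ T r := by
    intro κ hκ r
    have h1 : algebraMap B₀ B (algebraMap R₀ B₀ r) = φ (algebraMap R₀ A r) :=
      (congrArg (fun g => g r) hφ).symm
    rw [h1]
    exact congrArg (fun g => g (algebraMap R₀ A r)) hκ
  let k₀ : B₀ →ₐ[R₀] T := { k.comp (algebraMap B₀ B) with commutes' := hcomm k h1 }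
  let k₀' : B₀ →ₐ[R₀] T := { k'.comp (algebraMap B₀ B) with commutes' := hcomm k' h2 }
  have hsurj := (residueField_map_bijective_iff φ).1 hb
  have hkey : k₀ = k₀' := by
    apply algHom_ext_of_residue_eq
    intro b₀
    show residue T (k (algebraMap B₀ B b₀)) = residue T (k' (algebraMap B₀ B b₀))
    obtain ⟨a, ha⟩ := hsurj (algebraMap B₀ B b₀)
    have e1 : ∀ (κ : B →+* T) [IsLocalHom κ], κ.comp φ = f →
        residue T (κ (algebraMap B₀ B b₀)) = residue T (f a) := by
      intro κ _ hκ
      have h3 : κ (φ a - algebraMap B₀ B b₀) ∈ maximalIdeal T := by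
        rw [mem_maximalIdeal, mem_nonunits_iff]
        intro hu
        exact ha (isUnit_of_map_unit κ _ hu)
      rw [← residue_eq_zero_iff, map_sub, map_sub, sub_eq_zero] at h3
      rw [← h3]
      exact congrArg (residue T) (congrArg (fun g => g a) hκ)
    rw [e1 k h1, e1 k' h2]
  apply IsLocalization.ringHom_ext q.primeCompl
  ext b
  exact congrArg (fun g => g b) hkey

include p q hφ in
theorem isLocalHom_of_comp_eq (κ : B →+* T) (h : κ.comp φ = f) : IsLocalHom κ := by
  have hA : (maximalIdeal A).comap (algebraMap R₀ A) = p :=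
    IsLocalization.AtPrime.comap_maximalIdeal A p
  have hB : (maximalIdeal B).comap (algebraMap B₀ B) = q :=
    IsLocalization.AtPrime.comap_maximalIdeal B q
  have hφm : (maximalIdeal B).comap φ = maximalIdeal A :=
    ((IsLocalRing.local_hom_TFAE φ).out 0 4 rfl rfl).mp ‹_›
  have hfm : (maximalIdeal T).comap f = maximalIdeal A :=
    ((IsLocalRing.local_hom_TFAE f).out 0 4 rfl rfl).mp ‹_›
  set n : Ideal B := (maximalIdeal T).comap κ with hn
  haveI : n.IsPrime := Ideal.comap_isPrime _ _
  set n₀ : Ideal B₀ := n.comap (algebraMap B₀ B) with hn₀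
  haveI : n₀.IsPrime := Ideal.comap_isPrime _ _
  have hle : n ≤ maximalIdeal B := IsLocalRing.le_maximalIdeal (Ideal.IsPrime.ne_top inferInstance)
  have hle₀ : n₀ ≤ q := by
    rw [← hB]
    exact Ideal.comap_mono hle
  have hu1 : n₀.under R₀ = p := by
    show (n.comap (algebraMap B₀ B)).comap (algebraMap R₀ B₀) = p
    rw [Ideal.comap_comap, ← hφ, hn, Ideal.comap_comap, ← RingHom.comp_assoc, h,
      ← Ideal.comap_comap, hfm, hA]
  have hu2 : q.under R₀ = p := by
    show q.comap (algebraMap R₀ B₀) = p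
    rw [← hB, Ideal.comap_comap, ← hφ, ← Ideal.comap_comap, hφm, hA]
  have heq : n₀ = q := Algebra.QuasiFinite.eq_of_le_of_under_eq (R := R₀) n₀ q hle₀
    (hu1.trans hu2.symm)
  have hnm : n = maximalIdeal B := by
    rw [← IsLocalization.map_comap q.primeCompl B n]
    show Ideal.map (algebraMap B₀ B) n₀ = _
    rw [heq, IsLocalization.AtPrime.map_eq_maximalIdeal]
  refine ⟨fun b hb => ?_⟩
  by_contra hnu
  have : b ∈ n := by
    rw [hnm]
    exact hnu
  exact (this : κ b ∈ maximalIdeal T) hb


include p q hφ hb in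
/-- A henselization of an étale-local extension with trivial residue field extension is a
henselization of the base local ring. -/
theorem isHenselization_comp (R : Type u) [CommRing R] [IsLocalRing R] [Algebra B R]
    [IsLocalHom (algebraMap B R)] [Hensel.IsHenselization B R] :
    letI : Algebra A R := ((algebraMap B R).comp φ).toAlgebra
    ∃ (_ : IsLocalHom (algebraMap A R)), Hensel.IsHenselization A R := by
  letI : Algebra A R := ((algebraMap B R).comp φ).toAlgebra
  have hloc : IsLocalHom (algebraMap A R) := by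
    show IsLocalHom ((algebraMap B R).comp φ)
    exact RingHom.isLocalHom_comp _ _
  have hS : Hensel.IsHenselization B R := inferInstance
  refine ⟨hloc, hS.henselian, ?_⟩
  intro T _ _ f hf
  haveI := hf
  obtain ⟨k, hkl, hk⟩ := exists_lift p q φ hφ hb T f
  obtain ⟨h, hh, hhu⟩ := hS.universal T k hkl
  refine ⟨h, ?_, ?_⟩
  · show h.comp ((algebraMap B R).comp φ) = f
    rw [← RingHom.comp_assoc, hh, hk]
  · intro h' hh'
    have hh'' : (h'.comp (algebraMap B R)).comp φ = f := by
      rw [RingHom.comp_assoc]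
      exact hh'
    haveI : IsLocalHom (h'.comp (algebraMap B R)) :=
      isLocalHom_of_comp_eq p q φ hφ T f _ hh''
    have : h'.comp (algebraMap B R) = k :=
      lift_unique p q φ hφ hb T f _ k hh'' hk
    exact hhu h' this

end Ring

section Scheme

open CategoryTheory AlgebraicGeometry

/-- A henselization of the local ring of an étale neighbourhood with trivial residue field
extension is a henselization of the local ring downstairs. -/
theorem isHenselization_stalk_of_etale {U' U : Scheme.{u}} (g : U' ⟶ U) [Etale g] (u' : ↥U')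
    (hb : Function.Bijective (g.residueFieldMap u').hom)
    (R : Type u) [CommRing R] [IsLocalRing R] [Algebra ↥(U'.presheaf.stalk u') R]
    [IsLocalHom (algebraMap ↥(U'.presheaf.stalk u') R)]
    [Hensel.IsHenselization ↥(U'.presheaf.stalk u') R] :
    letI : Algebra ↥(U.presheaf.stalk (g.base u')) R :=
      ((algebraMap ↥(U'.presheaf.stalk u') R).comp (g.stalkMap u').hom).toAlgebra
    ∃ (_ : IsLocalHom (algebraMap ↥(U.presheaf.stalk (g.base u')) R)),
      Hensel.IsHenselization ↥(U.presheaf.stalk (g.base u')) R := by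
  obtain ⟨W, hW, hguW, -⟩ :=
    exists_isAffineOpen_mem_and_subset (x := g.base u') (U := ⊤) (by simp)
  obtain ⟨V, hV, huV, hVW⟩ :=
    exists_isAffineOpen_mem_and_subset (x := u') (U := g ⁻¹ᵁ W) hguW
  have het : (g.appLE W V hVW).hom.Etale := g.etale_appLE hW hV hVW
  algebraize [(g.appLE W V hVW).hom]
  haveI : Algebra.Etale Γ(U, W) Γ(U', V) := het
  set q : Ideal Γ(U', V) := (hV.primeIdealOf ⟨u', huV⟩).asIdeal with hq
  set p : Ideal Γ(U, W) := (hW.primeIdealOf ⟨g.base u', hVW huV⟩).asIdeal with hp
  letI algA : Algebra Γ(U, W) ↥(U.presheaf.stalk (g.base u')) :=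
    TopCat.Presheaf.algebra_section_stalk U.presheaf (⟨g.base u', hVW huV⟩ : W)
  letI algB : Algebra Γ(U', V) ↥(U'.presheaf.stalk u') :=
    TopCat.Presheaf.algebra_section_stalk U'.presheaf (⟨u', huV⟩ : V)
  haveI locA : IsLocalization.AtPrime ↥(U.presheaf.stalk (g.base u')) p :=
    hW.isLocalization_stalk ⟨g.base u', hVW huV⟩
  haveI locB : IsLocalization.AtPrime ↥(U'.presheaf.stalk u') q :=
    hV.isLocalization_stalk ⟨u', huV⟩
  have hφ : (g.stalkMap u').hom.comp (algebraMap Γ(U, W) ↥(U.presheaf.stalk (g.base u'))) =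
      (algebraMap Γ(U', V) ↥(U'.presheaf.stalk u')).comp (algebraMap Γ(U, W) Γ(U', V)) := by
    have key : U.presheaf.germ W (g.base u') (hVW huV) ≫ g.stalkMap u' =
        g.appLE W V hVW ≫ U'.presheaf.germ V u' huV := by
      have h0 := Scheme.Hom.germ_stalkMap g W u' (hVW huV)
      change _ = (g.app W ≫ U'.presheaf.map (homOfLE hVW).op) ≫ U'.presheaf.germ V u' huV
      rw [Category.assoc]
      have h1 := TopCat.Presheaf.germ_res U'.presheaf (homOfLE hVW) u' huV
      exact h0.trans (congrArg (fun t => g.app W ≫ t) h1.symm)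
    ext y
    exact congrArg (fun h => h.hom y) key
  exact isHenselization_comp p q (g.stalkMap u').hom hφ hb R

end Scheme

end Groth.Agent.Lib.Helper30.HensLift
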