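import Mathlib.AlgebraicGeometry.Morphisms.SchemeTheoreticallyDominant
import Mathlib.AlgebraicGeometry.IdealSheaf.Functorial
import Mathlib.AlgebraicGeometry.Morphisms.Flat
import Mathlib.AlgebraicGeometry.Morphisms.Etale

set_option autoImplicit false
universe u
open CategoryTheory CategoryTheory.Limits AlgebraicGeometry Opposite

namespace Groth.Agent.Lib.Helper30.IdealDescent

/-- The stalk maps of a flat morphism are injective. -/
theorem stalkMap_injective_of_flat {X Y : Scheme.{u}} (f : X ⟶ Y) [Flat f] (x : X) :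
    Function.Injective (f.stalkMap x) := by
  algebraize [(f.stalkMap x).hom]
  have : Module.FaithfullyFlat (Y.presheaf.stalk (f x)) (X.presheaf.stalk x) :=
    @Module.FaithfullyFlat.of_flat_of_isLocalHom _ _ _ _ _ _ _
      (Flat.stalkMap f x) (f.toLRSHom.prop x)
  exact ‹RingHom.FaithfullyFlat _›.injective

/-- A jointly surjective flat family is jointly scheme theoretically dominant. -/
theorem le_ker_of_flat_cover {Y W : Scheme.{u}} (h : Y ⟶ W) (I : W.IdealSheafData) {ι : Type*}
    {Yi : ι → Scheme.{u}} (c : ∀ i, Yi i ⟶ Y) [∀ i, Flat (c i)]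
    (hsurj : ∀ y : Y, ∃ i, y ∈ Set.range (c i))
    (hI : ∀ i, I ≤ (c i ≫ h).ker) : I ≤ h.ker := by
  rw [Scheme.Hom.ker, Scheme.IdealSheafData.le_ofIdeals_iff]
  intro U s hs
  rw [RingHom.mem_ker]
  refine TopCat.Presheaf.section_ext Y.sheaf _ _ _ (fun y hy => ?_)
  obtain ⟨i, y', rfl⟩ := hsurj y
  apply stalkMap_injective_of_flat (c i) y'
  change (c i).stalkMap y' (Y.presheaf.germ (h ⁻¹ᵁ U.1) ((c i) y') hy ((h.app U.1).hom s)) =
    (c i).stalkMap y' (Y.presheaf.germ (h ⁻¹ᵁ U.1) ((c i) y') hy 0)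
  rw [Scheme.Hom.germ_stalkMap_apply, map_zero, map_zero]
  have h0 : ((c i ≫ h).app U).hom s = 0 := by
    have := (Scheme.Hom.ideal_ker_le (c i ≫ h) U) (hI i U hs)
    exact this
  have h1 : (c i).app (h ⁻¹ᵁ U) ((h.app U).hom s) = ((c i ≫ h).app U).hom s := by
    rw [Scheme.Hom.comp_app]; rfl
  rw [h1, h0]
  exact map_zero _


/-- A flat surjective morphism is scheme theoretically dominant (no quasi-compactness needed). -/
theorem ker_comp_of_flat_of_surjective {Y' Y W : Scheme.{u}} (c : Y' ⟶ Y) [Flat c] [Surjective c]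
    (h : Y ⟶ W) : (c ≫ h).ker = h.ker := by
  refine le_antisymm ?_ (Scheme.Hom.le_ker_comp c h)
  refine le_ker_of_flat_cover h (c ≫ h).ker (ι := Unit) (Yi := fun _ => Y') (fun _ => c)
    (fun y => ⟨(), c.surjective y⟩) (fun _ => le_rfl)

/-- The canonical morphism to the scheme theoretic image has trivial kernel. -/
theorem ker_toImage {X Y : Scheme.{u}} (f : X ⟶ Y) : f.toImage.ker = ⊥ := by
  set K := f.toImage.ker with hK
  have h1 : K.map f.imageι = f.ker := by
    apply le_antisymm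
    · have h2 : f.toImage.toImage ≫ (K.subschemeι ≫ f.imageι) = f := by
        rw [← Category.assoc, Scheme.Hom.toImage_imageι, Scheme.Hom.toImage_imageι]
      calc K.map f.imageι = (K.subschemeι ≫ f.imageι).ker := rfl
        _ ≤ (f.toImage.toImage ≫ (K.subschemeι ≫ f.imageι)).ker := Scheme.Hom.le_ker_comp _ _
        _ = f.ker := by rw [h2]
    · calc f.ker = f.imageι.ker := (Scheme.IdealSheafData.ker_subschemeι _).symm
        _ = (⊥ : Scheme.IdealSheafData _).map f.imageι := (Scheme.IdealSheafData.map_bot _).symm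
        _ ≤ K.map f.imageι := Scheme.IdealSheafData.map_mono _ bot_le
  have h3 : (K.subschemeι ≫ f.imageι).ker = f.imageι.ker := by
    rw [Scheme.IdealSheafData.ker_subschemeι]; exact h1
  have hiso : IsIso K.subschemeι :=
    IsClosedImmersion.isIso_of_ker_eq (K.subschemeι ≫ f.imageι) f.imageι K.subschemeι rfl h3
  rw [← Scheme.IdealSheafData.ker_subschemeι K, Scheme.Hom.ker_eq_bot_of_isIso]


/-- **Flat descent of ideal sheaves, quasi-compact case**: if the two pullbacks of `J''` to `T'' ×_T T''` agree, then `J''`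
is the pullback of its push-forward. -/
theorem comap_map_eq_of_cocycle {T'' T : Scheme.{u}} (ρ : T'' ⟶ T) [Flat ρ] [QuasiCompact ρ]
    (J'' : T''.IdealSheafData)
    (hc : J''.comap (pullback.fst ρ ρ) = J''.comap (pullback.snd ρ ρ)) :
    (J''.map ρ).comap ρ = J'' := by
  refine le_antisymm (Scheme.IdealSheafData.comap_map_le _ _) ?_
  let g : J''.subscheme ⟶ T := J''.subschemeι ≫ ρ
  change J'' ≤ (pullback.fst ρ g.imageι).ker
  -- the two fibre products
  have hgi : g.toImage ≫ g.imageι = g := g.toImage_imageι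
  let m : pullback ρ g ⟶ pullback ρ g.imageι :=
    pullback.lift (pullback.fst ρ g) (pullback.snd ρ g ≫ g.toImage) (by
      rw [Category.assoc, hgi]; exact pullback.condition)
  have hm1 : m ≫ pullback.fst ρ g.imageι = pullback.fst ρ g := pullback.lift_fst _ _ _
  have hm2 : m ≫ pullback.snd ρ g.imageι = pullback.snd ρ g ≫ g.toImage := pullback.lift_snd _ _ _
  have sqL : IsPullback m (pullback.snd ρ g) (pullback.snd ρ g.imageι) g.toImage := by
    refine IsPullback.of_right ?_ hm2 (IsPullback.of_hasPullback ρ g.imageι)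
    rw [hm1, hgi]
    exact IsPullback.of_hasPullback ρ g
  have hdom : IsSchemeTheoreticallyDominant g.toImage := ⟨ker_toImage g⟩
  have hmdom : IsSchemeTheoreticallyDominant m :=
    IsSchemeTheoreticallyDominant.of_isPullback sqL.flip
  have hker : (pullback.fst ρ g).ker = (pullback.fst ρ g.imageι).ker := by
    rw [← hm1, Scheme.Hom.ker_comp, hmdom.ker_eq_bot, Scheme.IdealSheafData.map_bot]
  rw [← hker]
  -- the cocycle argument
  let k : pullback ρ g ⟶ pullback ρ ρ :=
    pullback.lift (pullback.fst ρ g) (pullback.snd ρ g ≫ J''.subschemeι) (by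
      rw [Category.assoc]; exact pullback.condition)
  have hk1 : k ≫ pullback.fst ρ ρ = pullback.fst ρ g := pullback.lift_fst _ _ _
  have hk2 : k ≫ pullback.snd ρ ρ = pullback.snd ρ g ≫ J''.subschemeι := pullback.lift_snd _ _ _
  have h1 : J'' ≤ (k ≫ pullback.snd ρ ρ).ker := by
    rw [hk2]
    calc J'' = J''.subschemeι.ker := (Scheme.IdealSheafData.ker_subschemeι _).symm
      _ ≤ (pullback.snd ρ g ≫ J''.subschemeι).ker := Scheme.Hom.le_ker_comp _ _
  rw [Scheme.Hom.ker_comp, Scheme.IdealSheafData.le_map_iff_comap_le, ← hc,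
    ← Scheme.IdealSheafData.le_map_iff_comap_le, ← Scheme.Hom.ker_comp, hk1] at h1
  exact h1


/-- Characterisation of the descended ideal sheaf (quasi-compact flat surjective case): a morphism `h : Y ⟶ T` factors
through the descended closed subscheme iff its base change factors through the given one. -/
theorem le_ker_iff_of_cocycle {T'' T : Scheme.{u}} (ρ : T'' ⟶ T) [Flat ρ] [QuasiCompact ρ] [Surjective ρ]
    (J'' : T''.IdealSheafData)
    (hc : J''.comap (pullback.fst ρ ρ) = J''.comap (pullback.snd ρ ρ))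
    {Y P : Scheme.{u}} (h : Y ⟶ T) (fst : P ⟶ Y) (snd : P ⟶ T'') (sq : IsPullback fst snd h ρ) :
    J''.map ρ ≤ h.ker ↔ J'' ≤ snd.ker := by
  have hfl : Flat fst := MorphismProperty.of_isPullback (P := @Flat) sq.flip inferInstance
  have hsu : Surjective fst := MorphismProperty.of_isPullback (P := @Surjective) sq.flip inferInstance
  have key : J'' ≤ snd.ker ↔ J''.map ρ ≤ (fst ≫ h).ker := by
    conv_lhs => rw [← comap_map_eq_of_cocycle ρ J'' hc]
    rw [← Scheme.IdealSheafData.le_map_iff_comap_le, ← Scheme.Hom.ker_comp, sq.w]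
  rw [key, ker_comp_of_flat_of_surjective fst h]

/-- Transfer of the cocycle condition along a refinement `σ : T'' ⟶ T'` of the covering. -/
theorem cocycle_comap {T'' T' T : Scheme.{u}} (π : T' ⟶ T) (σ : T'' ⟶ T') (J' : T'.IdealSheafData)
    (hc : J'.comap (pullback.fst π π) = J'.comap (pullback.snd π π)) :
    (J'.comap σ).comap (pullback.fst (σ ≫ π) (σ ≫ π)) =
      (J'.comap σ).comap (pullback.snd (σ ≫ π) (σ ≫ π)) := by
  let τ : pullback (σ ≫ π) (σ ≫ π) ⟶ pullback π π :=
    pullback.lift (pullback.fst _ _ ≫ σ) (pullback.snd _ _ ≫ σ) (by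
      rw [Category.assoc, Category.assoc]; exact pullback.condition)
  have h1 : τ ≫ pullback.fst π π = pullback.fst _ _ ≫ σ := pullback.lift_fst _ _ _
  have h2 : τ ≫ pullback.snd π π = pullback.snd _ _ ≫ σ := pullback.lift_snd _ _ _
  rw [← Scheme.IdealSheafData.comap_comp, ← Scheme.IdealSheafData.comap_comp, ← h1, ← h2,
    Scheme.IdealSheafData.comap_comp, Scheme.IdealSheafData.comap_comp, hc]

/-- Passing from a refinement back to the original covering. -/
theorem le_ker_of_refinement {T'' T' T : Scheme.{u}} (π : T' ⟶ T) (σ : T'' ⟶ T')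
    [Flat (σ ≫ π)] [Surjective (σ ≫ π)] (J' : T'.IdealSheafData)
    (hc : J'.comap (pullback.fst π π) = J'.comap (pullback.snd π π))
    {Y P' P'' : Scheme.{u}} (h : Y ⟶ T) (fst' : P' ⟶ Y) (snd' : P' ⟶ T')
    (sq' : IsPullback fst' snd' h π) (fst'' : P'' ⟶ Y) (snd'' : P'' ⟶ T'')
    (sq'' : IsPullback fst'' snd'' h (σ ≫ π)) (hle : J'.comap σ ≤ snd''.ker) :
    J' ≤ snd'.ker := by
  have hfl : Flat fst'' := MorphismProperty.of_isPullback (P := @Flat) sq''.flip inferInstance
  have hsu : Surjective fst'' :=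
    MorphismProperty.of_isPullback (P := @Surjective) sq''.flip inferInstance
  -- `M = P' ×_Y P''`
  let m₁ := pullback.fst fst' fst''
  let m₂ := pullback.snd fst' fst''
  have hm : m₁ ≫ fst' = m₂ ≫ fst'' := pullback.condition
  have hfl₁ : Flat m₁ := inferInstance
  have hsu₁ : Surjective m₁ := inferInstance
  rw [← ker_comp_of_flat_of_surjective m₁ snd']
  let k : pullback fst' fst'' ⟶ pullback π π :=
    pullback.lift (m₁ ≫ snd') (m₂ ≫ snd'' ≫ σ) (by
      rw [Category.assoc, ← sq'.w, ← Category.assoc, hm, Category.assoc, Category.assoc,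
        Category.assoc, sq''.w])
  have hk1 : k ≫ pullback.fst π π = m₁ ≫ snd' := pullback.lift_fst _ _ _
  have hk2 : k ≫ pullback.snd π π = m₂ ≫ snd'' ≫ σ := pullback.lift_snd _ _ _
  have h1 : J' ≤ (k ≫ pullback.snd π π).ker := by
    rw [hk2]
    have h2 : J' ≤ (snd'' ≫ σ).ker := by
      rw [Scheme.Hom.ker_comp, Scheme.IdealSheafData.le_map_iff_comap_le]; exact hle
    exact h2.trans (Scheme.Hom.le_ker_comp _ _)
  rw [Scheme.Hom.ker_comp, Scheme.IdealSheafData.le_map_iff_comap_le, ← hc,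
    ← Scheme.IdealSheafData.le_map_iff_comap_le, ← Scheme.Hom.ker_comp, hk1] at h1
  exact h1


/-- A flat, open, surjective morphism onto a quasi-compact scheme admits an affine refinement which is still flat and
surjective. -/
theorem exists_affine_refinement {T' T : Scheme.{u}} [CompactSpace T] (π : T' ⟶ T) [Flat π]
    [Surjective π] (hopen : IsOpenMap π) :
    ∃ (T'' : Scheme.{u}) (σ : T'' ⟶ T'), IsAffine T'' ∧ Flat (σ ≫ π) ∧ Surjective (σ ≫ π) := by
  choose t' ht' using fun t : T => π.surjective t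
  choose W hW htW _ using fun t : T =>
    exists_isAffineOpen_mem_and_subset (U := (⊤ : T'.Opens)) (x := t' t) trivial
  obtain ⟨s, hs⟩ := isCompact_univ.elim_finite_subcover (fun t : T => π '' (W t : Set T'))
    (fun t => hopen _ (W t).isOpen) (fun t _ => Set.mem_iUnion.2 ⟨t, t' t, htW t, ht' t⟩)
  have haff : ∀ t : s, IsAffine ((W t.1 : T'.Opens) : Scheme.{u}) := fun t => hW t.1
  let σ : (∐ fun t : s => ((W t.1 : T'.Opens) : Scheme.{u})) ⟶ T' :=
    Sigma.desc (fun t : s => (W t.1).ι)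
  refine ⟨_, σ, inferInstance, inferInstance, ⟨fun t => ?_⟩⟩
  obtain ⟨_, ⟨t₀, rfl⟩, ht₀⟩ := hs (Set.mem_univ t)
  obtain ⟨_, ⟨ht₀s, rfl⟩, w, hw, rfl⟩ := ht₀
  refine ⟨(Sigma.ι (fun t : s => ((W t.1 : T'.Opens) : Scheme.{u})) ⟨t₀, ht₀s⟩)
    (⟨w, hw⟩ : ↥((W t₀ : T'.Opens) : Scheme.{u})), ?_⟩
  have h1 : Sigma.ι (fun t : s => ((W t.1 : T'.Opens) : Scheme.{u})) ⟨t₀, ht₀s⟩ ≫ σ = (W t₀).ι :=
    Sigma.ι_desc _ _
  let x₀ : ↥((W t₀ : T'.Opens) : Scheme.{u}) := ⟨w, hw⟩
  have h2 : σ ((Sigma.ι (fun t : s => ((W t.1 : T'.Opens) : Scheme.{u})) ⟨t₀, ht₀s⟩) x₀) =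
      (W t₀).ι x₀ := by
    rw [← Scheme.Hom.comp_apply, h1]
  rw [Scheme.Hom.comp_apply, h2]
  rfl


/-- **Descent of closed subschemes along a flat, open, surjective morphism onto an affine scheme**: an ideal sheaf `J'` on
`T'` whose two pullbacks to `T' ×_T T'` agree comes from an ideal sheaf `J` on `T`, characterised by: `h : Y ⟶ T` factors
through `V(J)` iff the base change `Y ×_T T' ⟶ T'` factors through `V(J')`. -/
theorem exists_descent_of_isAffine {T' T : Scheme.{u}} [IsAffine T] (π : T' ⟶ T) [Flat π]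
    [Surjective π] (hopen : IsOpenMap π) (J' : T'.IdealSheafData)
    (hc : J'.comap (pullback.fst π π) = J'.comap (pullback.snd π π)) :
    ∃ J : T.IdealSheafData, ∀ {Y P : Scheme.{u}} (h : Y ⟶ T) (fst : P ⟶ Y) (snd : P ⟶ T'),
      IsPullback fst snd h π → (J ≤ h.ker ↔ J' ≤ snd.ker) := by
  obtain ⟨T'', σ, haff, hfl, hsu⟩ := exists_affine_refinement π hopen
  have hqc : QuasiCompact (σ ≫ π) := inferInstance
  have hc'' := cocycle_comap π σ J' hc
  refine ⟨(J'.comap σ).map (σ ≫ π), fun {Y P} h fst snd sq => ?_⟩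
  have sq'' := IsPullback.of_hasPullback h (σ ≫ π)
  rw [le_ker_iff_of_cocycle (σ ≫ π) (J'.comap σ) hc'' h _ _ sq'']
  constructor
  · intro hle
    exact le_ker_of_refinement π σ J' hc h fst snd sq _ _ sq'' hle
  · intro hle
    let n : pullback h (σ ≫ π) ⟶ P := sq.lift (pullback.fst h (σ ≫ π)) (pullback.snd h (σ ≫ π) ≫ σ) (by
      rw [Category.assoc]; exact pullback.condition)
    have hn : n ≫ snd = pullback.snd h (σ ≫ π) ≫ σ := sq.lift_snd _ _ _
    rw [← Scheme.IdealSheafData.le_map_iff_comap_le, ← Scheme.Hom.ker_comp, ← hn]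
    exact hle.trans (Scheme.Hom.le_ker_comp _ _)

/-- **Flat base change of the kernel of a quasi-compact morphism.** -/
theorem ker_comap_of_flat {X Y Y' P : Scheme.{u}} (f : X ⟶ Y) [QuasiCompact f] (s : Y' ⟶ Y) [Flat s]
    (fst : P ⟶ Y') (snd : P ⟶ X) (sq : IsPullback fst snd s f) : f.ker.comap s = fst.ker := by
  change (pullback.fst s f.imageι).ker = fst.ker
  have hfi : f.toImage ≫ f.imageι = f := f.toImage_imageι
  let m : P ⟶ pullback s f.imageι :=
    pullback.lift fst (snd ≫ f.toImage) (by rw [Category.assoc, hfi]; exact sq.w)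
  have hm1 : m ≫ pullback.fst s f.imageι = fst := pullback.lift_fst _ _ _
  have hm2 : m ≫ pullback.snd s f.imageι = snd ≫ f.toImage := pullback.lift_snd _ _ _
  have sqL : IsPullback m snd (pullback.snd s f.imageι) f.toImage := by
    refine IsPullback.of_right ?_ hm2 (IsPullback.of_hasPullback s f.imageι)
    rw [hm1, hfi]
    exact sq
  have hdom : IsSchemeTheoreticallyDominant f.toImage := ⟨ker_toImage f⟩
  have hmdom : IsSchemeTheoreticallyDominant m :=
    IsSchemeTheoreticallyDominant.of_isPullback sqL.flip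
  rw [← hm1, Scheme.Hom.ker_comp, hmdom.ker_eq_bot, Scheme.IdealSheafData.map_bot]

end Groth.Agent.Lib.Helper30.IdealDescent
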