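import Groth.Agent.Lib.Helper30.ClosedChart
import Groth.Prelude.Def_AlgSpModX

/-!
# Values of the ideal sheaf of a closed subspace on affine charts (helper30)

* `idealOfRep_ideal_eq` : on an affine object `E` of the small étale site, if the inverse image of `D` in `E` is `V(J)` then
  `(idealOfRep hi).ideal E = J.ideal ⊤`.
* `idealOfRep_ideal_chart` : for a chart `(V, φ, J)` and an affine open `W ⊆ V`, the value on `W ⟶ V ⟶ F`.
* `chart_ideal_eq_mul` : if the ideal sheaf of `D` is the product of those of `D₁`, `D₂`, the same holds in every chart.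
-/

set_option autoImplicit false
set_option backward.isDefEq.respectTransparency false
universe u
open CategoryTheory CategoryTheory.Limits AlgebraicGeometry Opposite

namespace Groth.Agent.Lib.Helper30.IdealEtChart

open AlgSp Groth.Agent.Lib.Helper30.SubTransfer

variable {S : Scheme.{u}}

theorem idealOfRep_ideal_eq {F D : Sp S} {i : D ⟶ F} (hi : Representable i) (E : EtOver F)
    (hE : IsAffine E.obj.left.left) (J : E.obj.left.left.IdealSheafData)
    {fst : (yon S).obj (Over.mk (J.subschemeι ≫ E.obj.left.hom)) ⟶ D}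
    (sq : IsPullback fst ((yon S).map (Over.homMk J.subschemeι rfl :
      Over.mk (J.subschemeι ≫ E.obj.left.hom) ⟶ E.obj.left)) i E.obj.hom) :
    (idealOfRep hi).ideal E hE = J.ideal ⟨⊤, isAffineOpen_top _⟩ := by
  have sq0 := hi.isPullback E.obj.hom
  let e := sq0.isoIsPullback _ _ sq
  have he : e.hom ≫ (yon S).map (Over.homMk J.subschemeι rfl :
      Over.mk (J.subschemeι ≫ E.obj.left.hom) ⟶ E.obj.left) = (yon S).map (hi.snd E.obj.hom) :=
    sq0.isoIsPullback_hom_snd _ _ sq
  obtain ⟨e0, he0⟩ := (yon S).map_surjective e.hom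
  have : IsIso ((yon S).map e0) := by rw [he0]; infer_instance
  have hiso : IsIso e0 := isIso_of_fully_faithful (yon S) e0
  rw [← he0, ← Functor.map_comp] at he
  have he' := (yon S).map_injective he
  have h1 : e0.left ≫ J.subschemeι = (hi.snd E.obj.hom).left := congrArg CommaMorphism.left he'
  have : IsIso e0.left := (Over.forget S).map_isIso e0
  change RingHom.ker (hi.snd E.obj.hom).left.appTop.hom = _
  rw [← h1, Scheme.Hom.comp_appTop, CommRingCat.hom_comp, RingHom.ker_comp_of_injective]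
  · exact J.ker_subschemeι_app ⟨⊤, isAffineOpen_top _⟩
  · have h2 : IsIso e0.left.appTop := by
      change IsIso (e0.left.app ⊤)
      infer_instance
    exact ((ConcreteCategory.isIso_iff_bijective e0.left.appTop).mp h2).1

/-- The étale chart `W ⟶ V ⟶ F` given by an open `W` of a chart `V`. -/
theorem repWith_etale_opens_ι_comp {F : Sp S} {V : Over S} (φ : (yon S).obj V ⟶ F) (hφE : RepWith @Etale φ)
    (W : V.left.Opens) :
    RepWith @Etale ((yon S).map (Over.homMk W.ι rfl : Over.mk (W.ι ≫ V.hom) ⟶ V) ≫ φ) := by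
  have hιE : Etale (Over.homMk W.ι rfl : Over.mk (W.ι ≫ V.hom) ⟶ V).left := by
    change Etale W.ι; infer_instance
  exact MorphismProperty.comp_mem _ _ _ ((repWith_yon_map_iff _ _).2 hιE) hφE

theorem idealOfRep_ideal_chart {F D : Sp S} {i : D ⟶ F} (hi : Representable i) {V : Over S}
    (φ : (yon S).obj V ⟶ F) (hφE : RepWith @Etale φ) (J : V.left.IdealSheafData)
    {fst : (yon S).obj (Over.mk (J.subschemeι ≫ V.hom)) ⟶ D}
    (sq : IsPullback fst ((yon S).map (Over.homMk J.subschemeι rfl :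
      Over.mk (J.subschemeι ≫ V.hom) ⟶ V)) i φ) (W : V.left.affineOpens) :
    (idealOfRep hi).ideal (EtOver.mk _ (repWith_etale_opens_ι_comp φ hφE W.1)) W.2 =
      (J.ideal W).map W.1.topIso.inv.hom := by
  have hWaff : IsAffine W.1.toScheme := W.2
  obtain ⟨fst', sq'⟩ := exists_isPullback_comap (IsPullback.of_id_fst (f := i)) J sq
    ((yon S).map (Over.homMk W.1.ι rfl : Over.mk (W.1.ι ≫ V.hom) ⟶ V) ≫ φ)
    (Over.homMk W.1.ι rfl : Over.mk (W.1.ι ≫ V.hom) ⟶ V) (Category.comp_id _)
  rw [idealOfRep_ideal_eq hi (EtOver.mk _ (repWith_etale_opens_ι_comp φ hφE W.1)) W.2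
    (J.comap W.1.ι) sq']
  exact Groth.Agent.Lib.Helper82.ideal_comap_top_eq_map_topIso_inv J W.1 W.2

/-- If the ideal sheaf of `D` is the product of the ideal sheaves of `D₁` and `D₂` (as families on the small étale site), then in
every étale chart the ideal sheaf of the inverse image of `D` is the product of those of `D₁` and `D₂`. -/
theorem chart_ideal_eq_mul {F D D₁ D₂ : Sp S} {i : D ⟶ F} {i₁ : D₁ ⟶ F} {i₂ : D₂ ⟶ F}
    (hi : Representable i) (hi₁ : Representable i₁) (hi₂ : Representable i₂)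
    (h : idealOfRep hi = idealOfRep hi₁ * idealOfRep hi₂) {V : Over S}
    (φ : (yon S).obj V ⟶ F) (hφE : RepWith @Etale φ) (K J₁ J₂ : V.left.IdealSheafData)
    {fstK : (yon S).obj (Over.mk (K.subschemeι ≫ V.hom)) ⟶ D}
    (sqK : IsPullback fstK ((yon S).map (Over.homMk K.subschemeι rfl :
      Over.mk (K.subschemeι ≫ V.hom) ⟶ V)) i φ)
    {fst₁ : (yon S).obj (Over.mk (J₁.subschemeι ≫ V.hom)) ⟶ D₁}
    (sq₁ : IsPullback fst₁ ((yon S).map (Over.homMk J₁.subschemeι rfl :
      Over.mk (J₁.subschemeι ≫ V.hom) ⟶ V)) i₁ φ)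
    {fst₂ : (yon S).obj (Over.mk (J₂.subschemeι ≫ V.hom)) ⟶ D₂}
    (sq₂ : IsPullback fst₂ ((yon S).map (Over.homMk J₂.subschemeι rfl :
      Over.mk (J₂.subschemeι ≫ V.hom) ⟶ V)) i₂ φ) :
    K = J₁ * J₂ := by
  apply Scheme.IdealSheafData.ext
  funext W
  have hK := idealOfRep_ideal_chart hi φ hφE K sqK W
  have h1 := idealOfRep_ideal_chart hi₁ φ hφE J₁ sq₁ W
  have h2 := idealOfRep_ideal_chart hi₂ φ hφE J₂ sq₂ W
  rw [h] at hK
  change (idealOfRep hi₁).ideal _ _ * (idealOfRep hi₂).ideal _ _ = _ at hK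
  rw [h1, h2, ← Ideal.map_mul] at hK
  have hbij : Function.Bijective W.1.topIso.inv.hom :=
    (ConcreteCategory.isIso_iff_bijective W.1.topIso.inv).mp inferInstance
  have := congrArg (Ideal.comap W.1.topIso.inv.hom) hK
  rw [Ideal.comap_map_of_bijective _ hbij, Ideal.comap_map_of_bijective _ hbij] at this
  exact this.symm

end Groth.Agent.Lib.Helper30.IdealEtChart
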