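import Groth.Agent.Lib.Helper30.IdealEtSheaf
import Groth.Agent.Lib.Helper30.ClosedDescent

set_option autoImplicit false
set_option backward.isDefEq.respectTransparency false
universe u
open CategoryTheory CategoryTheory.Limits AlgebraicGeometry Opposite

namespace Groth.Agent.Lib.Helper30.IdealEtClosed

open AlgSp Groth.Agent.Lib.Helper30.IdealEtChart Groth.Agent.Lib.Helper30.IdealEtSheaf
  Groth.Agent.Lib.Helper30.ClosedDescent Groth.Agent.Lib.Helper30.IdealDescent
  Groth.Agent.Lib.Helper30.AlgSpAtlas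

variable {S : Scheme.{u}} {X : Sp S}

/-- The inverse image of the closed subspace defined by the chart ideal sheaf of a quasi-coherent family, in an arbitrary
étale chart, is cut out by the chart ideal sheaf of that chart. -/
theorem pred_chartIdeal_iff (I : IdealEt X) (hI : I.IsQCoh) {A : Over S} (φ : (yon S).obj A ⟶ X)
    (hφE : RepWith @Etale φ) (hφS : RepWith @Surjective φ) {B : Over S} (β : (yon S).obj B ⟶ X)
    (hβ : RepWith @Etale β) {T₀ : Over S} (y : T₀ ⟶ B) :
    Pred φ (chartIdeal I hI φ hφE) ((yon S).map y ≫ β) ↔ chartIdeal I hI β hβ ≤ y.left.ker := by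
  have hrep := hφE.rep
  have sqT := hrep.isPullback' β
  set p := hrep.fst' β with hp
  set q := hrep.snd β with hq
  have hqE : Etale q.left := hφE.property_snd β
  have hqS : Surjective q.left := hφS.property _ _ _ (hrep.isPullback β)
  have hβ' : RepWith @Etale ((yon S).map q ≫ β) :=
    MorphismProperty.comp_mem _ _ _ ((repWith_yon_map_iff _ _).2 hqE) hβ
  have h1 : (chartIdeal I hI φ hφE).comap p.left = chartIdeal I hI _ hβ' :=
    chartIdeal_comap I hI φ hφE _ hβ' p sqT.w
  have h2 : (chartIdeal I hI β hβ).comap q.left = chartIdeal I hI _ hβ' :=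
    chartIdeal_comap I hI β hβ _ hβ' q rfl
  rw [pred_iff φ _ β p q sqT y, Scheme.Hom.ker_comp, Scheme.IdealSheafData.le_map_iff_comap_le, h1,
    ← h2, ← Scheme.IdealSheafData.le_map_iff_comap_le, ← Scheme.Hom.ker_comp, ← pullback.condition,
    ker_comp_of_flat_of_surjective]

/-- **Every quasi-coherent sheaf of ideals on the small étale site of an algebraic space is the ideal sheaf of a closed
subspace.** -/
theorem exists_isCutOutBy (hX : IsAlgSpace X) (I : IdealEt X) (hI : I.IsQCoh) :
    ∃ (Z : Sp S) (i : Z ⟶ X), IsAlgSpace Z ∧ IsCutOutBy I i := by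
  obtain ⟨A, φ, hφE, hφS⟩ := hX.atlas
  obtain ⟨R, s, t, hpb, hsE, htE⟩ := exists_kernelPair φ hφE
  have hψE : RepWith @Etale ((yon S).map s ≫ φ) := repWith_etale_map_comp φ hφE s hsE
  have hcs : (chartIdeal I hI φ hφE).comap s.left = chartIdeal I hI _ hψE :=
    chartIdeal_comap I hI φ hφE _ hψE s rfl
  have hct : (chartIdeal I hI φ hφE).comap t.left = chartIdeal I hI _ hψE :=
    chartIdeal_comap I hI φ hφE _ hψE t hpb.w.symm
  have hIA : (chartIdeal I hI φ hφE).comap s.left = (chartIdeal I hI φ hφE).comap t.left :=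
    hcs.trans hct.symm
  have hi := repWith_isClosedImmersion_closedSubι hpb hIA hφE hφS
  have hZ := isAlgSpace_closedSub hpb hIA hX hφE hφS
  refine ⟨_, closedSubι φ (chartIdeal I hI φ hφE), hZ, hi, ?_⟩
  apply IdealEt.ext
  funext E hE
  obtain ⟨top, sq⟩ := isPullback_of_pred_iff φ (chartIdeal I hI φ hφE) E.obj.hom
    (chartIdeal I hI E.obj.hom E.property)
    (fun y => pred_chartIdeal_iff I hI φ hφE hφS E.obj.hom E.property y)
  rw [idealOfRep_ideal_eq hi.1 E hE _ sq]
  exact chartIdeal_ideal_top I hI E.obj.hom E.property hE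

end Groth.Agent.Lib.Helper30.IdealEtClosed
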