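import Groth.Agent.Lib.Helper30.IdealEtFactor
import Groth.Agent.Lib.Helper30.EtLocalInst
import Groth.Agent.Lib.Helper46.LocPChart
import Mathlib.AlgebraicGeometry.Morphisms.FinitePresentation

/-!
# Closed immersions of algebraic spaces of finite presentation and finite generation of the ideal (helper30)
-/

set_option autoImplicit false
set_option backward.isDefEq.respectTransparency false
universe u
open CategoryTheory CategoryTheory.Limits AlgebraicGeometry Opposite

namespace Groth.Agent.Lib.Helper30.IdealEtChart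

open AlgSp Groth.Agent.Lib.Helper30.SubTransfer Groth.Agent.Lib.Helper30.ClosedChart

variable {S : Scheme.{u}}

/-- The value of the kernel family of a representable morphism on an affine open of a chart, as the kernel of the restricted
projection. -/
theorem idealOfRep_ideal_eq_ker_morphismRestrict {F F' : Sp S} {h : F' ⟶ F} (hh : Representable h)
    {V : Over S} (φ : (yon S).obj V ⟶ F) (hφE : RepWith @Etale φ) {T' : Over S} (g : T' ⟶ V)
    {fst : (yon S).obj T' ⟶ F'} (sq : IsPullback fst ((yon S).map g) h φ) (V₀ : V.left.affineOpens) :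
    (idealOfRep hh).ideal (EtOver.mk _ (repWith_etale_opens_ι_comp φ hφE V₀.1)) V₀.2 =
      RingHom.ker (g.left ∣_ V₀.1).appTop.hom := by
  let ι₀ : Over.mk (V₀.1.ι ≫ V.hom) ⟶ V := Over.homMk V₀.1.ι rfl
  let P : Over S := Over.mk ((g.left ⁻¹ᵁ V₀.1).ι ≫ T'.hom)
  let ιP : P ⟶ T' := Over.homMk (g.left ⁻¹ᵁ V₀.1).ι rfl
  let π : P ⟶ Over.mk (V₀.1.ι ≫ V.hom) := Over.homMk (g.left ∣_ V₀.1) (by
    change (g.left ∣_ V₀.1) ≫ V₀.1.ι ≫ V.hom = (g.left ⁻¹ᵁ V₀.1).ι ≫ T'.hom
    rw [← Category.assoc, morphismRestrict_ι, Category.assoc, Over.w g])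
  have sqO : IsPullback ιP π g ι₀ := by
    refine IsPullback.of_map (Over.forget S) ?_ (isPullback_morphismRestrict g.left V₀.1).flip
    ext
    exact (morphismRestrict_ι g.left V₀.1).symm
  have sqP : IsPullback ((yon S).map ιP ≫ fst) ((yon S).map π) h ((yon S).map ι₀ ≫ φ) :=
    (sqO.map (yon S)).paste_horiz sq
  exact idealOfRep_ideal_eq_ker hh (EtOver.mk _ (repWith_etale_opens_ι_comp φ hφE V₀.1)) V₀.2 π sqP

/-- A closed immersion of schemes is locally of finite presentation if the kernels of the restrictions to the affine opens of the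
target are finitely generated. -/
theorem locallyOfFinitePresentation_of_forall_ker_fg {Z V : Scheme.{u}} (ι : Z ⟶ V) [IsClosedImmersion ι]
    (h : ∀ V₀ : V.affineOpens, (RingHom.ker (ι ∣_ V₀.1).appTop.hom).FG) :
    LocallyOfFinitePresentation ι := by
  rw [IsZariskiLocalAtTarget.iff_of_iSup_eq_top (P := @LocallyOfFinitePresentation)
    (fun V₀ : V.affineOpens => V₀.1) (by
      rw [← top_le_iff]
      intro x _
      obtain ⟨U, hU, hxU, -⟩ := exists_isAffineOpen_mem_and_subset (U := (⊤ : V.Opens)) (x := x) trivial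
      exact TopologicalSpace.Opens.mem_iSup.mpr ⟨⟨U, hU⟩, hxU⟩)]
  intro V₀
  have hV₀ : IsAffine V₀.1.toScheme := V₀.2
  have hcl : IsClosedImmersion (ι ∣_ V₀.1) := IsZariskiLocalAtTarget.restrict ‹_› _
  obtain ⟨haff, hsurj⟩ := IsClosedImmersion.isAffine_surjective_of_isAffine (ι ∣_ V₀.1)
  rw [HasRingHomProperty.iff_of_isAffine (P := @LocallyOfFinitePresentation)]
  exact RingHom.FinitePresentation.of_surjective _ hsurj (h V₀)

/-- For a closed immersion of affine schemes locally of finite presentation the kernel on global sections is finitely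
generated. -/
theorem ker_appTop_fg_of_locallyOfFinitePresentation {Z U : Scheme.{u}} [IsAffine U] (π : Z ⟶ U)
    [IsClosedImmersion π] [LocallyOfFinitePresentation π] : (RingHom.ker π.appTop.hom).FG := by
  obtain ⟨haff, hsurj⟩ := IsClosedImmersion.isAffine_surjective_of_isAffine π
  have hfp : π.appTop.hom.FinitePresentation :=
    (HasRingHomProperty.iff_of_isAffine (P := @LocallyOfFinitePresentation)).mp ‹_›
  algebraize [π.appTop.hom]
  have := Algebra.FinitePresentation.ker_fG_of_surjective (Algebra.ofId Γ(U, ⊤) Γ(Z, ⊤)) hsurj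
  exact this

end Groth.Agent.Lib.Helper30.IdealEtChart
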