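import Groth.Agent.Lib.Helper30.IdealEtChart
import Groth.Agent.Lib.Helper30.AlgSpAtlas
import Groth.Agent.Lib.Helper62.AlgSpMono

/-!
# Factoring through a closed subspace cut out by an ideal sheaf (helper30)

* `idealOfRep_ideal_eq_ker`, `idealOfRep_le_of_factors`, `exists_factor_of_le`.
-/

set_option autoImplicit false
set_option backward.isDefEq.respectTransparency false
universe u
open CategoryTheory CategoryTheory.Limits AlgebraicGeometry Opposite

namespace Groth.Agent.Lib.Helper30.IdealEtChart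

open AlgSp Groth.Agent.Lib.Helper30.SubTransfer Groth.Agent.Lib.Helper30.ClosedChart
open Groth.Agent.Lib.Helper30.AlgSpAtlas

variable {S : Scheme.{u}}

/-- The kernel ideal of a representable morphism on an affine object can be computed with any pullback square. -/
theorem idealOfRep_ideal_eq_ker {F F' : Sp S} {h : F' ⟶ F} (hh : Representable h) (E : EtOver F)
    (hE : IsAffine E.obj.left.left) {P : Over S} (π : P ⟶ E.obj.left) {fst : (yon S).obj P ⟶ F'}
    (sq : IsPullback fst ((yon S).map π) h E.obj.hom) :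
    (idealOfRep hh).ideal E hE = RingHom.ker π.left.appTop.hom := by
  have sq0 := hh.isPullback E.obj.hom
  let e := sq0.isoIsPullback _ _ sq
  have he : e.hom ≫ (yon S).map π = (yon S).map (hh.snd E.obj.hom) :=
    sq0.isoIsPullback_hom_snd _ _ sq
  obtain ⟨e0, he0⟩ := (yon S).map_surjective e.hom
  have : IsIso ((yon S).map e0) := by rw [he0]; infer_instance
  have hiso : IsIso e0 := isIso_of_fully_faithful (yon S) e0
  rw [← he0, ← Functor.map_comp] at he
  have he' := (yon S).map_injective he
  have h1 : e0.left ≫ π.left = (hh.snd E.obj.hom).left := congrArg CommaMorphism.left he'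
  have : IsIso e0.left := (Over.forget S).map_isIso e0
  change RingHom.ker (hh.snd E.obj.hom).left.appTop.hom = _
  rw [← h1, Scheme.Hom.comp_appTop, CommRingCat.hom_comp, RingHom.ker_comp_of_injective]
  have h2 : IsIso e0.left.appTop := by
    change IsIso (e0.left.app ⊤)
    infer_instance
  exact ((ConcreteCategory.isIso_iff_bijective e0.left.appTop).mp h2).1

/-- If `h` factors through the closed subspace, the ideal of the closed subspace is contained in the kernel family of `h`. -/
theorem idealOfRep_le_of_factors {F Z F' : Sp S} {i : Z ⟶ F} (hi : Representable i) {h : F' ⟶ F}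
    (hh : Representable h) (k : F' ⟶ Z) (hk : k ≫ i = h) : idealOfRep hi ≤ idealOfRep hh := by
  intro E hE a ha
  have sqT := hh.isPullback E.obj.hom
  have sqZ := hi.isPullback E.obj.hom
  have hw : (hh.fst E.obj.hom ≫ k) ≫ i = (yon S).map (hh.snd E.obj.hom) ≫ E.obj.hom := by
    rw [Category.assoc, hk, sqT.w]
  obtain ⟨m, hm⟩ := (yon S).map_surjective (sqZ.lift _ _ hw)
  have hm2 : (yon S).map m ≫ (yon S).map (hi.snd E.obj.hom) = (yon S).map (hh.snd E.obj.hom) := by
    rw [hm]; exact sqZ.lift_snd _ _ _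
  rw [← Functor.map_comp] at hm2
  have hm3 := (yon S).map_injective hm2
  have h1 : m.left ≫ (hi.snd E.obj.hom).left = (hh.snd E.obj.hom).left :=
    congrArg CommaMorphism.left hm3
  change a ∈ RingHom.ker (hh.snd E.obj.hom).left.appTop.hom
  have ha' : (hi.snd E.obj.hom).left.appTop.hom a = 0 := ha
  rw [RingHom.mem_ker, ← h1, Scheme.Hom.comp_appTop, CommRingCat.hom_comp, RingHom.comp_apply, ha',
    map_zero]

/-- If the ideal of the closed subspace is contained in the kernel family of `h : h_T ⟶ F`, then `h` factors through the closed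
subspace. -/
theorem exists_factor_of_le {F Z : Sp S} {i : Z ⟶ F} (hi : RepWith @IsClosedImmersion i)
    {V : Over S} (φ : (yon S).obj V ⟶ F) (hφE : RepWith @Etale φ) (hφS : RepWith @Surjective φ)
    {T : Over S} (h : (yon S).obj T ⟶ F) (hh : Representable h)
    (hle : idealOfRep hi.1 ≤ idealOfRep hh) : ∃ k : (yon S).obj T ⟶ Z, k ≫ i = h := by
  have hmono : Mono i := Groth.Agent.Lib.Helper62.mono_of_repWith @IsClosedImmersion
    (fun f hf => by have : IsClosedImmersion f := hf; infer_instance) i hi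
  -- the chart of `T`
  have sqT := hh.isPullback' φ
  set t := hh.fst' φ with ht
  set g := hh.snd φ with hg
  have htE : Etale t.left := hφE.property h _ _ sqT.flip
  have htS : Surjective t.left := hφS.property h _ _ sqT.flip
  have hepi : Epi ((yon S).map t) :=
    epi_of_atlas _ ((repWith_yon_map_iff _ _).2 htE) ((repWith_yon_map_iff _ _).2 htS)
  -- the closed subscheme of `V`
  have sqZ := hi.rep.isPullback φ
  set ι := hi.rep.snd φ with hι
  have hιc : IsClosedImmersion ι.left := hi.property φ _ _ sqZ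
  obtain ⟨fstJ, sqJ⟩ := exists_isPullback_subschemeι sqZ
  -- the key inclusion of kernels
  have hker : ι.left.ker ≤ g.left.ker := by
    refine Scheme.IdealSheafData.le_ofIdeals_iff.mpr fun V₀ a ha => ?_
    have hV₀aff : IsAffine V₀.1.toScheme := V₀.2
    let ι₀ : Over.mk (V₀.1.ι ≫ V.hom) ⟶ V := Over.homMk V₀.1.ι rfl
    let E₀ : EtOver F := EtOver.mk ((yon S).map ι₀ ≫ φ) (repWith_etale_opens_ι_comp φ hφE V₀.1)
    have h1 := idealOfRep_ideal_chart hi.1 φ hφE ι.left.ker sqJ V₀
    have h2 : V₀.1.topIso.inv.hom a ∈ (idealOfRep hi.1).ideal E₀ V₀.2 := by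
      rw [h1]; exact Ideal.mem_map_of_mem _ ha
    have h3 := hle E₀ V₀.2 h2
    -- the open subscheme `g⁻¹ V₀` of the chart of `T`
    let P : Over S := Over.mk ((g.left ⁻¹ᵁ V₀.1).ι ≫ (hh.pullback φ).hom)
    let ιP : P ⟶ hh.pullback φ := Over.homMk (g.left ⁻¹ᵁ V₀.1).ι rfl
    let π : P ⟶ Over.mk (V₀.1.ι ≫ V.hom) := Over.homMk (g.left ∣_ V₀.1) (by
      change (g.left ∣_ V₀.1) ≫ V₀.1.ι ≫ V.hom = (g.left ⁻¹ᵁ V₀.1).ι ≫ (hh.pullback φ).hom
      rw [← Category.assoc, morphismRestrict_ι, Category.assoc, Over.w g])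
    have sqO : IsPullback ιP π g ι₀ := by
      refine IsPullback.of_map (Over.forget S) ?_ (isPullback_morphismRestrict g.left V₀.1).flip
      ext
      exact (morphismRestrict_ι g.left V₀.1).symm
    have sqP : IsPullback ((yon S).map ιP ≫ (yon S).map t) ((yon S).map π) h
        ((yon S).map ι₀ ≫ φ) := (sqO.map (yon S)).paste_horiz sqT
    rw [idealOfRep_ideal_eq_ker hh E₀ V₀.2 π sqP, RingHom.mem_ker] at h3
    change (g.left ∣_ V₀.1).appTop.hom (V₀.1.topIso.inv.hom a) = 0 at h3
    rw [RingHom.mem_ker]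
    have h4 : (g.left ∣_ V₀.1).appTop = V₀.1.topIso.hom ≫ g.left.appLE V₀.1 (g.left ⁻¹ᵁ V₀.1) le_rfl ≫
        (g.left ⁻¹ᵁ V₀.1).topIso.inv := by
      rw [← Scheme.Hom.resLE_eq_morphismRestrict]
      exact Scheme.Hom.resLE_app_top g.left le_rfl
    rw [h4] at h3
    simp only [CommRingCat.hom_comp, RingHom.comp_apply] at h3
    rw [← CommRingCat.comp_apply V₀.1.topIso.inv V₀.1.topIso.hom, Iso.inv_hom_id,
      CommRingCat.id_apply] at h3
    have hinj : Function.Injective (g.left ⁻¹ᵁ V₀.1).topIso.inv.hom :=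
      ((ConcreteCategory.isIso_iff_bijective (g.left ⁻¹ᵁ V₀.1).topIso.inv).mp inferInstance).1
    have h5 := hinj (h3.trans (map_zero _).symm)
    rw [Scheme.Hom.app_eq_appLE]
    exact h5
  -- lift and descend
  let m₀ := IsClosedImmersion.lift ι.left g.left hker
  have hm₀ : m₀ ≫ ι.left = g.left := IsClosedImmersion.lift_fac _ _ _
  let m : hh.pullback φ ⟶ hi.rep.pullback φ := Over.homMk m₀ (by
    rw [← Over.w ι, ← Category.assoc, hm₀, Over.w g])
  have hm : m ≫ ι = g := by ext; exact hm₀
  have hk' : ((yon S).map m ≫ hi.rep.fst φ) ≫ i = (yon S).map t ≫ h := by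
    rw [Category.assoc, sqZ.w, ← Category.assoc, ← Functor.map_comp, hm]
    exact sqT.w.symm
  have hkp := IsPullback.of_hasPullback ((yon S).map t) ((yon S).map t)
  have hk'' : (yon S).map m ≫ hi.rep.fst φ ≫ i = (yon S).map t ≫ h := by
    rw [← Category.assoc]; exact hk'
  obtain ⟨k, hk⟩ := exists_desc_of_epi ((yon S).map t) hkp ((yon S).map m ≫ hi.rep.fst φ) (by
    apply (cancel_mono i).mp
    simp only [Category.assoc]
    rw [hk'', ← Category.assoc, ← Category.assoc, pullback.condition])
  refine ⟨k, ?_⟩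
  rw [← cancel_epi ((yon S).map t), ← Category.assoc, hk, hk']

end Groth.Agent.Lib.Helper30.IdealEtChart
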