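import Groth.Agent.Lib.Helper30.IdealEtClosed
import Groth.Agent.Lib.Helper30.IdealEtFactor
import Groth.Agent.Lib.Helper23.AlgSpMor7
import Groth.Agent.Lib.Helper82.EffCartier

set_option autoImplicit false
set_option backward.isDefEq.respectTransparency false
universe u
open CategoryTheory CategoryTheory.Limits AlgebraicGeometry Opposite

namespace Groth.Agent.Lib.Helper30.IdealEtImage

open AlgSp Groth.Agent.Lib.Helper30.IdealEtChart Groth.Agent.Lib.Helper30.IdealEtSheaf
  Groth.Agent.Lib.Helper30.ClosedDescent Groth.Agent.Lib.Helper30.IdealDescent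
  Groth.Agent.Lib.Helper30.AlgSpAtlas

variable {S : Scheme.{u}}

/-- The kernel family of a quasi-compact representable morphism is quasi-coherent. -/
theorem isQCoh_idealOfRep_of_quasiCompact {X Y : Sp S} {f : X ⟶ Y} (hf : Representable f)
    (hqc : RepWith @QuasiCompact f) : (idealOfRep hf).IsQCoh := by
  intro E E' g hE hE'
  have sq := EtOver.isPullback_bcMap_left hf g
  have h1 : QuasiCompact (hf.snd E.obj.hom).left := hqc.property _ _ _ (hf.isPullback E.obj.hom)
  have h2 : QuasiCompact (hf.snd E'.obj.hom).left := hqc.property _ _ _ (hf.isPullback E'.obj.hom)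
  have h3 : Etale g.hom.left.left := EtOver.etale_left g
  have h4 : Flat g.hom.left.left := inferInstance
  have hk := ker_comap_of_flat (hf.snd E.obj.hom).left g.hom.left.left (hf.snd E'.obj.hom).left _ sq.flip
  have e1 : (idealOfRep hf).ideal E' hE' =
      (hf.snd E'.obj.hom).left.ker.ideal ⟨⊤, isAffineOpen_top _⟩ := by
    rw [Scheme.Hom.ker_apply]; rfl
  have e2 : (idealOfRep hf).ideal E hE =
      (hf.snd E.obj.hom).left.ker.ideal ⟨⊤, isAffineOpen_top _⟩ := by
    rw [Scheme.Hom.ker_apply]; rfl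
  rw [e1, e2, ← hk, Groth.Agent.Lib.Helper82.ideal_comap_of_le g.hom.left.left _ ⊤ (isAffineOpen_top _) ⊤
    (isAffineOpen_top _) le_top]
  have e3 : g.hom.left.left.appLE ⊤ ⊤ le_top = g.hom.left.left.appTop :=
    (Scheme.Hom.app_eq_appLE (f := g.hom.left.left) (U := ⊤)).symm
  rw [e3]

/-- A representable morphism from an algebraic space factors through a closed subspace as soon as the ideal of the closed
subspace is contained in its kernel family. -/
theorem exists_factor_of_le_of_isAlgSpace {F Z F' : Sp S} {i : Z ⟶ F} (hi : RepWith @IsClosedImmersion i)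
    (hF : IsAlgSpace F) (hF' : IsAlgSpace F') (h : F' ⟶ F) (hh : Representable h)
    (hle : idealOfRep hi.1 ≤ idealOfRep hh) : ∃ k : F' ⟶ Z, k ≫ i = h := by
  have hmono : Mono i := Groth.Agent.Lib.Helper62.mono_of_repWith @IsClosedImmersion
    (fun f hf => by have : IsClosedImmersion f := hf; infer_instance) i hi
  obtain ⟨V, φ, hφE, hφS⟩ := hF.atlas
  obtain ⟨W, ψ, hψE, hψS⟩ := hF'.atlas
  have hψh : Representable (ψ ≫ h) := MorphismProperty.comp_mem _ _ _ hψE.rep hh
  have hle' : idealOfRep hi.1 ≤ idealOfRep hψh := fun E hE =>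
    (hle E hE).trans (idealOfRep_le_of_factors hh hψh ψ rfl E hE)
  obtain ⟨k₀, hk₀⟩ := exists_factor_of_le hi φ hφE hφS (ψ ≫ h) hψh hle'
  have hepi : Epi ψ := epi_of_atlas ψ hψE hψS
  have hkp := IsPullback.of_hasPullback ψ ψ
  obtain ⟨k, hk⟩ := exists_desc_of_epi ψ hkp k₀ (by
    apply (cancel_mono i).mp
    simp only [Category.assoc]
    rw [hk₀, ← Category.assoc, ← Category.assoc, pullback.condition])
  refine ⟨k, ?_⟩
  rw [← cancel_epi ψ, ← Category.assoc, hk, hk₀]

/-- For a quasi-compact representable morphism of algebraic spaces, the scheme theoretic image is the closed subspace cut out by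
the kernel family. -/
theorem isSchImage_iff_isCutOutBy {X Y Z : Sp S} (hX : IsAlgSpace X) (hY : IsAlgSpace Y) (hZ : IsAlgSpace Z)
    (f : X ⟶ Y) (hf : Representable f) (hqc : RepWith @QuasiCompact f) (i : Z ⟶ Y) :
    IsSchImage f i ↔ IsCutOutBy (idealOfRep hf) i := by
  have hQ := isQCoh_idealOfRep_of_quasiCompact hf hqc
  constructor
  · rintro ⟨hi, ⟨f', hf'⟩, hmin⟩
    refine ⟨hi, ?_⟩
    have hle1 : idealOfRep hi.1 ≤ idealOfRep hf := idealOfRep_le_of_factors hi.1 hf f' hf'
    obtain ⟨Z₀, i₀, hZ₀, hi₀, h₀⟩ := Groth.Agent.Lib.Helper30.IdealEtClosed.exists_isCutOutBy hY (idealOfRep hf) hQ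
    have hfac : ∃ f'' : X ⟶ Z₀, f'' ≫ i₀ = f :=
      exists_factor_of_le_of_isAlgSpace hi₀ hY hX f hf (by rw [h₀]; exact fun E hE => le_rfl)
    obtain ⟨k, hk⟩ := hmin i₀ hZ₀ hi₀ hfac
    have hle2 : idealOfRep hi₀.1 ≤ idealOfRep hi.1 := idealOfRep_le_of_factors hi₀.1 hi.1 k hk
    rw [h₀] at hle2
    apply IdealEt.ext
    funext E hE
    exact le_antisymm (hle1 E hE) (hle2 E hE)
  · rintro ⟨hi, h₀⟩
    refine ⟨hi, ?_, ?_⟩
    · exact exists_factor_of_le_of_isAlgSpace hi hY hX f hf (by rw [h₀]; exact fun E hE => le_rfl)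
    · intro Z' i' hZ' hi' ⟨f'', hf''⟩
      have hle : idealOfRep hi'.1 ≤ idealOfRep hi.1 := by
        rw [h₀]; exact idealOfRep_le_of_factors hi'.1 hf f'' hf''
      exact exists_factor_of_le_of_isAlgSpace hi' hY hZ i hi.1 hle

end Groth.Agent.Lib.Helper30.IdealEtImage
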