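import Groth.Agent.Lib.Helper30.IdealEtChart
import Groth.Agent.Lib.Helper82.EffCartier

set_option autoImplicit false
set_option backward.isDefEq.respectTransparency false
universe u
open CategoryTheory CategoryTheory.Limits AlgebraicGeometry Opposite

namespace Groth.Agent.Lib.Helper30.IdealEtSheaf

open AlgSp Groth.Agent.Lib.Helper30.IdealEtChart

variable {S : Scheme.{u}} {X : Sp S}

/-- The étale object given by an open `W` of an étale chart `β : h_B ⟶ X`. -/
noncomputable abbrev openObj {B : Over S} (β : (yon S).obj B ⟶ X) (hβ : RepWith @Etale β)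
    (W : B.left.Opens) : EtOver X :=
  EtOver.mk ((yon S).map (Over.homMk W.ι rfl : Over.mk (W.ι ≫ B.hom) ⟶ B) ≫ β)
    (repWith_etale_opens_ι_comp β hβ W)

/-- A quasi-coherent family is determined along every morphism of affine objects. -/
theorem ideal_eq_map (I : IdealEt X) (hI : I.IsQCoh) {E E' : EtOver X} (g : E' ⟶ E)
    (hE : IsAffine E.obj.left.left) (hE' : IsAffine E'.obj.left.left) :
    I.ideal E' hE' = (I.ideal E hE).map g.hom.left.left.appTop.hom :=
  le_antisymm (hI g hE hE') (I.map_le g hE hE')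

/-- The morphism of étale objects induced by a morphism of charts restricted to opens. -/
noncomputable def openObjHom {B B' : Over S} (β : (yon S).obj B ⟶ X) (hβ : RepWith @Etale β)
    (β' : (yon S).obj B' ⟶ X) (hβ' : RepWith @Etale β') (m : B' ⟶ B) (hm : (yon S).map m ≫ β = β')
    (U : B.left.Opens) (Q : B'.left.Opens) (e : Q ≤ m.left ⁻¹ᵁ U) :
    openObj β' hβ' Q ⟶ openObj β hβ U :=
  EtOver.homMk (Over.homMk (m.left.resLE U Q e) (by
    change m.left.resLE U Q e ≫ U.ι ≫ B.hom = Q.ι ≫ B'.hom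
    rw [← Category.assoc, Scheme.Hom.resLE_comp_ι, Category.assoc, Over.w m])) (by
    change (yon S).map _ ≫ (yon S).map _ ≫ β = (yon S).map _ ≫ β'
    have h1 : (Over.homMk (m.left.resLE U Q e) (by
        change m.left.resLE U Q e ≫ U.ι ≫ B.hom = Q.ι ≫ B'.hom
        rw [← Category.assoc, Scheme.Hom.resLE_comp_ι, Category.assoc, Over.w m]) :
          Over.mk (Q.ι ≫ B'.hom) ⟶ Over.mk (U.ι ≫ B.hom)) ≫
        (Over.homMk U.ι rfl : Over.mk (U.ι ≫ B.hom) ⟶ B) =
        (Over.homMk Q.ι rfl : Over.mk (Q.ι ≫ B'.hom) ⟶ B') ≫ m := by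
      ext
      exact Scheme.Hom.resLE_comp_ι _ _
    rw [← Category.assoc, ← Functor.map_comp, h1, Functor.map_comp, Category.assoc, hm])

theorem openObjHom_left {B B' : Over S} (β : (yon S).obj B ⟶ X) (hβ : RepWith @Etale β)
    (β' : (yon S).obj B' ⟶ X) (hβ' : RepWith @Etale β') (m : B' ⟶ B) (hm : (yon S).map m ≫ β = β')
    (U : B.left.Opens) (Q : B'.left.Opens) (e : Q ≤ m.left ⁻¹ᵁ U) :
    (openObjHom β hβ β' hβ' m hm U Q e).hom.left.left = m.left.resLE U Q e := rfl

/-- Key comparison: for affine opens `Q ⊆ m⁻¹ U`, the value on `Q` is generated by the value on `U`. -/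
theorem ideal_openObj_map (I : IdealEt X) (hI : I.IsQCoh) {B B' : Over S} (β : (yon S).obj B ⟶ X)
    (hβ : RepWith @Etale β) (β' : (yon S).obj B' ⟶ X) (hβ' : RepWith @Etale β') (m : B' ⟶ B)
    (hm : (yon S).map m ≫ β = β') (U : B.left.affineOpens) (Q : B'.left.affineOpens)
    (e : Q.1 ≤ m.left ⁻¹ᵁ U.1) :
    (I.ideal (openObj β' hβ' Q.1) Q.2).map Q.1.topIso.hom.hom =
      ((I.ideal (openObj β hβ U.1) U.2).map U.1.topIso.hom.hom).map (m.left.appLE U.1 Q.1 e).hom := by
  rw [ideal_eq_map I hI (openObjHom β hβ β' hβ' m hm U.1 Q.1 e) U.2 Q.2, openObjHom_left,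
    Ideal.map_map, Ideal.map_map, ← CommRingCat.hom_comp, ← CommRingCat.hom_comp]
  congr 2
  rw [Scheme.Hom.appTop, Scheme.Hom.resLE_app_top]
  simp only [Category.assoc, Iso.inv_hom_id, Category.comp_id]


theorem id_appLE {Y : Scheme.{u}} (U V : Y.Opens) (e : V ≤ (𝟙 Y) ⁻¹ᵁ U) :
    (𝟙 Y : Y ⟶ Y).appLE U V e = Y.presheaf.map (homOfLE (show V ≤ U from e)).op := by
  rw [Scheme.Hom.appLE, Scheme.Hom.id_app]
  simp

/-- The ideal sheaf on an étale chart defined by a quasi-coherent family of ideals on the small étale site. -/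
noncomputable def chartIdeal (I : IdealEt X) (hI : I.IsQCoh) {B : Over S} (β : (yon S).obj B ⟶ X)
    (hβ : RepWith @Etale β) : B.left.IdealSheafData where
  ideal W := (I.ideal (openObj β hβ W.1) W.2).map W.1.topIso.hom.hom
  map_ideal_basicOpen W f := by
    have e : (B.left.affineBasicOpen f).1 ≤ (𝟙 B : B ⟶ B).left ⁻¹ᵁ W.1 := B.left.basicOpen_le f
    have h := ideal_openObj_map I hI β hβ β hβ (𝟙 B)
      (by rw [CategoryTheory.Functor.map_id, Category.id_comp]) W (B.left.affineBasicOpen f) e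
    rw [h]
    congr 2

theorem chartIdeal_ideal (I : IdealEt X) (hI : I.IsQCoh) {B : Over S} (β : (yon S).obj B ⟶ X)
    (hβ : RepWith @Etale β) (W : B.left.affineOpens) :
    (chartIdeal I hI β hβ).ideal W = (I.ideal (openObj β hβ W.1) W.2).map W.1.topIso.hom.hom := rfl

/-- **Compatibility of the chart ideal sheaves with morphisms of charts.** -/
theorem chartIdeal_comap (I : IdealEt X) (hI : I.IsQCoh) {B B' : Over S} (β : (yon S).obj B ⟶ X)
    (hβ : RepWith @Etale β) (β' : (yon S).obj B' ⟶ X) (hβ' : RepWith @Etale β') (m : B' ⟶ B)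
    (hm : (yon S).map m ≫ β = β') :
    (chartIdeal I hI β hβ).comap m.left = chartIdeal I hI β' hβ' := by
  -- affine opens of `B'` mapping into an affine open of `B`
  let ι := {QU : B'.left.affineOpens × B.left.affineOpens // QU.1.1 ≤ m.left ⁻¹ᵁ QU.2.1}
  refine Scheme.IdealSheafData.ext_of_iSup_eq_top (ι := ι) (fun QU => QU.1.1) ?_ ?_
  · rw [eq_top_iff]
    intro x _
    obtain ⟨U, hU, hxU, -⟩ := exists_isAffineOpen_mem_and_subset (U := (⊤ : B.left.Opens))
      (x := m.left x) trivial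
    obtain ⟨Q, hQ, hxQ, hQU⟩ := exists_isAffineOpen_mem_and_subset (U := m.left ⁻¹ᵁ U) (x := x) hxU
    simp only [TopologicalSpace.Opens.mem_iSup]
    exact ⟨⟨(⟨Q, hQ⟩, ⟨U, hU⟩), hQU⟩, hxQ⟩
  · rintro ⟨⟨Q, U⟩, e⟩
    change ((chartIdeal I hI β hβ).comap m.left).ideal Q = (chartIdeal I hI β' hβ').ideal Q
    rw [Groth.Agent.Lib.Helper82.ideal_comap_of_le m.left _ Q.1 Q.2 U.1 U.2 e, chartIdeal_ideal,
      chartIdeal_ideal]
    exact (ideal_openObj_map I hI β hβ β' hβ' m hm U Q e).symm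


theorem ι_appTop_topIso_hom {Y : Scheme.{u}} :
    (⊤ : Y.Opens).ι.appTop ≫ (⊤ : Y.Opens).topIso.hom = 𝟙 _ := by
  rw [Scheme.Hom.appTop, Scheme.Opens.ι_app, Scheme.Opens.topIso_hom, ← Functor.map_comp]
  exact Y.presheaf.map_id _

/-- On an affine chart the chart ideal sheaf has the given ideal as global sections. -/
theorem chartIdeal_ideal_top (I : IdealEt X) (hI : I.IsQCoh) {B : Over S} (β : (yon S).obj B ⟶ X)
    (hβ : RepWith @Etale β) (hB : IsAffine B.left) :
    (chartIdeal I hI β hβ).ideal ⟨⊤, isAffineOpen_top _⟩ = I.ideal (EtOver.mk β hβ) hB := by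
  let g : openObj β hβ ⊤ ⟶ EtOver.mk β hβ :=
    EtOver.homMk (Over.homMk (⊤ : B.left.Opens).ι rfl : Over.mk ((⊤ : B.left.Opens).ι ≫ B.hom) ⟶ B) rfl
  have hg : g.hom.left.left = (⊤ : B.left.Opens).ι := rfl
  rw [chartIdeal_ideal, ideal_eq_map I hI g hB (isAffineOpen_top B.left), hg, Ideal.map_map,
    ← CommRingCat.hom_comp, ι_appTop_topIso_hom]
  exact Ideal.map_id _

end Groth.Agent.Lib.Helper30.IdealEtSheaf
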