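import Mathlib
import Groth.Prelude.Def_Smoothing

/-!
# Integral closure commutes with ind-smooth base change (helper30)

* `exists_fp_factor_of_map_eq_zero`: an element of `P₀ ⊗[R] B` (`P₀` finitely presented over `R`)
  that dies in `S ⊗[R] B` along `φ₀ : P₀ → S` already dies in `P ⊗[R] B` for some finitely presented
  `P` with `P₀ → P → S` (descent of a relation to a finitely presented stage).
* `exists_smooth_factor_of_map_eq_zero`: same with `P` smooth when `S` is ind-smooth.
* `toIntegralClosure_injective_of_indSmooth`, `toIntegralClosure_surjective_of_indSmooth`,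
  `toIntegralClosure_bijective_of_indSmooth`.
-/

set_option autoImplicit false
universe u
open TensorProduct

namespace Groth.Agent.Lib.Helper30.IndSmooth


open Algebra.TensorProduct in
/-- an element of `J.map includeLeft` already lies in `(span T).map includeLeft` for a finite `T ⊆ J` -/
theorem exists_finset_of_mem_map_includeLeft {R Q B : Type u} [CommRing R] [CommRing Q] [CommRing B]
    [Algebra R Q] [Algebra R B] (J : Ideal Q) (y : Q ⊗[R] B)
    (hy : y ∈ J.map (includeLeft : Q →ₐ[R] Q ⊗[R] B)) :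
    ∃ T : Finset Q, (T : Set Q) ⊆ J ∧
      y ∈ (Ideal.span (T : Set Q)).map (includeLeft : Q →ₐ[R] Q ⊗[R] B) := by
  classical
  rw [Ideal.map] at hy
  induction hy using Submodule.span_induction with
  | mem x hx =>
    obtain ⟨j, hj, rfl⟩ := hx
    refine ⟨{j}, by simpa using hj, ?_⟩
    apply Ideal.mem_map_of_mem
    apply Ideal.subset_span
    simp
  | zero => exact ⟨∅, by simp, Ideal.zero_mem _⟩
  | add x y _ _ hx hy =>
    obtain ⟨T₁, h₁, hx⟩ := hx
    obtain ⟨T₂, h₂, hy⟩ := hy
    refine ⟨T₁ ∪ T₂, ?_, ?_⟩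
    · rw [Finset.coe_union]; exact Set.union_subset h₁ h₂
    · apply Ideal.add_mem
      · exact Ideal.map_mono (Ideal.span_mono (by simp)) hx
      · exact Ideal.map_mono (Ideal.span_mono (by simp)) hy
  | smul a x _ hx =>
    obtain ⟨T, h, hx⟩ := hx
    exact ⟨T, h, Ideal.mul_mem_left _ a hx⟩




open Algebra.TensorProduct in
theorem map_map_apply {R A C E B D F : Type u} [CommRing R] [CommRing A] [CommRing C] [CommRing E]
    [CommRing B] [CommRing D] [CommRing F] [Algebra R A] [Algebra R C] [Algebra R E] [Algebra R B]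
    [Algebra R D] [Algebra R F]
    (f₂ : C →ₐ[R] E) (f₁ : A →ₐ[R] C) (g₂ : D →ₐ[R] F) (g₁ : B →ₐ[R] D) (x : A ⊗[R] B) :
    map f₂ g₂ (map f₁ g₁ x) = map (f₂.comp f₁) (g₂.comp g₁) x := by
  rw [Algebra.TensorProduct.map_comp]; rfl

open Algebra.TensorProduct MvPolynomial in
/-- Descent of a vanishing relation in `S ⊗ B` to a finitely presented stage. -/
theorem exists_fp_factor_of_map_eq_zero (R S B P₀ : Type u) [CommRing R] [CommRing S] [CommRing B]
    [CommRing P₀] [Algebra R S] [Algebra R B] [Algebra R P₀] [Algebra.FinitePresentation R P₀]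
    (φ₀ : P₀ →ₐ[R] S) (x : P₀ ⊗[R] B) (hx : map φ₀ (AlgHom.id R B) x = 0) :
    ∃ (P : Type u) (_ : CommRing P) (_ : Algebra R P), Algebra.FinitePresentation R P ∧
      ∃ (ψ : P₀ →ₐ[R] P) (φ : P →ₐ[R] S), φ.comp ψ = φ₀ ∧ map ψ (AlgHom.id R B) x = 0 := by
  classical
  let Q := MvPolynomial S P₀
  let π : Q →ₐ[R] S := aevalTower φ₀ id
  have hπ : Function.Surjective π := fun s => ⟨X s, MvPolynomial.aevalTower_X _ _ _⟩
  let ι₀ : P₀ →ₐ[R] Q := IsScalarTower.toAlgHom R P₀ Q
  have hπι : π.comp ι₀ = φ₀ := by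
    ext p
    change aevalTower φ₀ id (algebraMap P₀ (MvPolynomial S P₀) p) = φ₀ p
    rw [MvPolynomial.algebraMap_eq, MvPolynomial.aevalTower_C]
  let x' : Q ⊗[R] B := map ι₀ (AlgHom.id R B) x
  have hx' : map π (AlgHom.id R B) x' = 0 := by
    rw [map_map_apply, hπι]; exact hx
  have hmem : x' ∈ (RingHom.ker π).map (includeLeft : Q →ₐ[R] Q ⊗[R] B) := by
    rw [← Algebra.TensorProduct.rTensor_ker π hπ]
    exact hx'
  obtain ⟨T, hTJ, hxT⟩ := exists_finset_of_mem_map_includeLeft (RingHom.ker π) x' hmem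
  let V : Finset S := T.biUnion MvPolynomial.vars
  let QV := MvPolynomial {s // s ∈ V} P₀
  let ρ : Q →ₐ[P₀] QV := aeval (fun s => if h : s ∈ V then X ⟨s, h⟩ else 0)
  let ιV : QV →ₐ[P₀] Q := rename Subtype.val
  have hρι : ∀ q : QV, ρ (ιV q) = q := by
    intro q
    change aeval (fun s => if h : s ∈ V then (X ⟨s, h⟩ : QV) else 0) (rename Subtype.val q) = q
    rw [aeval_rename]
    have : ((fun s => if h : s ∈ V then (X ⟨s, h⟩ : QV) else 0) ∘ Subtype.val) = X := by
      funext v
      simp [v.2]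
    rw [this, aeval_X_left, AlgHom.id_apply]
  have hιρ : ∀ t ∈ T, ιV (ρ t) = t := by
    intro t ht
    obtain ⟨t', rfl⟩ := exists_rename_eq_of_vars_subset_range t (Subtype.val : {s // s ∈ V} → S)
      Subtype.val_injective (by
        intro s hs
        rw [Subtype.range_coe_subtype]
        exact Finset.mem_biUnion.mpr ⟨t, ht, hs⟩)
    change ιV (ρ (ιV t')) = ιV t'
    rw [hρι]
  let πV : QV →ₐ[R] S := aevalTower φ₀ (fun v => v.1)
  have hπV : ∀ q : QV, πV q = π (ιV q) := by
    intro q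
    change aevalTower φ₀ (fun v : {s // s ∈ V} => v.1) q = aevalTower φ₀ id (rename Subtype.val q)
    induction q using MvPolynomial.induction_on with
    | C a => rw [rename_C, aevalTower_C, aevalTower_C]
    | add p q hp hq => rw [map_add, map_add, map_add, hp, hq]
    | mul_X p i hp =>
      rw [map_mul, map_mul, map_mul, hp, rename_X, aevalTower_X, aevalTower_X]
      rfl
  let I : Ideal QV := Ideal.span ((T.image ρ : Finset QV) : Set QV)
  have hIfg : I.FG := ⟨T.image ρ, rfl⟩
  have hfpQV : Algebra.FinitePresentation R QV :=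
    Algebra.FinitePresentation.trans R P₀ QV
  have hfpP : Algebra.FinitePresentation R (QV ⧸ I) := Algebra.FinitePresentation.quotient hIfg
  have hker : ∀ a ∈ I, πV a = 0 := by
    intro a ha
    have : I ≤ RingHom.ker πV := by
      rw [Ideal.span_le]
      intro b hb
      simp only [Finset.coe_image, Set.mem_image, Finset.mem_coe] at hb
      obtain ⟨t, ht, rfl⟩ := hb
      rw [SetLike.mem_coe, RingHom.mem_ker, hπV, hιρ t ht]
      exact hTJ ht
    exact this ha
  let φ : (QV ⧸ I) →ₐ[R] S := Ideal.Quotient.liftₐ I πV hker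
  let g : Q →ₐ[R] (QV ⧸ I) := (Ideal.Quotient.mkₐ R I).comp (ρ.restrictScalars R)
  let ψ : P₀ →ₐ[R] (QV ⧸ I) := (Ideal.Quotient.mkₐ R I).comp (IsScalarTower.toAlgHom R P₀ QV)
  have hgι : g.comp ι₀ = ψ := by
    ext p
    simp [g, ψ, ι₀, ρ]
  refine ⟨QV ⧸ I, inferInstance, inferInstance, hfpP, ψ, φ, ?_, ?_⟩
  · have h1 : φ.comp (Ideal.Quotient.mkₐ R I) = πV := Ideal.Quotient.liftₐ_comp I πV hker
    have h2 : φ.comp ψ = πV.comp (IsScalarTower.toAlgHom R P₀ QV) := by
      rw [← h1]; rfl
    rw [h2]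
    ext p
    change aevalTower φ₀ (fun v : {s // s ∈ V} => v.1) (algebraMap P₀ QV p) = φ₀ p
    rw [MvPolynomial.algebraMap_eq, aevalTower_C]
  · have h1 : map ψ (AlgHom.id R B) x = map g (AlgHom.id R B) x' := by
      rw [map_map_apply, hgι]; rfl
    rw [h1]
    have hle : (Ideal.span (T : Set Q)).map (includeLeft : Q →ₐ[R] Q ⊗[R] B) ≤
        RingHom.ker (map g (AlgHom.id R B)) := by
      rw [Ideal.map_le_iff_le_comap, Ideal.span_le]
      intro t ht
      rw [SetLike.mem_coe, Ideal.mem_comap, RingHom.mem_ker]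
      have : g t = 0 := by
        simp only [g, AlgHom.comp_apply, Ideal.Quotient.mkₐ_eq_mk]
        rw [Ideal.Quotient.eq_zero_iff_mem]
        apply Ideal.subset_span
        simp only [Finset.coe_image, Set.mem_image, Finset.mem_coe]
        exact ⟨t, ht, rfl⟩
      rw [includeLeft_apply, Algebra.TensorProduct.map_tmul, this, zero_tmul]
    exact hle hxT




open Algebra.TensorProduct in
/-- Same as `exists_fp_factor_of_map_eq_zero`, but landing in a smooth algebra. -/
theorem exists_smooth_factor_of_map_eq_zero (R S B P₀ : Type u) [CommRing R] [CommRing S]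
    [CommRing B] [CommRing P₀] [Algebra R S] [Algebra R B] [Algebra R P₀]
    [Algebra.FinitePresentation R P₀] (hS : Smoothing.IndSmooth R S)
    (φ₀ : P₀ →ₐ[R] S) (x : P₀ ⊗[R] B) (hx : map φ₀ (AlgHom.id R B) x = 0) :
    ∃ (C : Type u) (_ : CommRing C) (_ : Algebra R C), Algebra.Smooth R C ∧
      ∃ (ψ : P₀ →ₐ[R] C) (φ : C →ₐ[R] S), φ.comp ψ = φ₀ ∧ map ψ (AlgHom.id R B) x = 0 := by
  obtain ⟨P, _, _, hfp, ψ, φ, hφψ, hψx⟩ := exists_fp_factor_of_map_eq_zero R S B P₀ φ₀ x hx
  obtain ⟨C, _, _, hsm, g, h, hhg⟩ := hS P hfp φ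
  refine ⟨C, inferInstance, inferInstance, hsm, g.comp ψ, h, ?_, ?_⟩
  · rw [← AlgHom.comp_assoc, hhg, hφψ]
  · have : map (g.comp ψ) (AlgHom.id R B) x = map g (AlgHom.id R B) (map ψ (AlgHom.id R B) x) := by
      rw [map_map_apply]; rfl
    rw [this, hψx, map_zero]

open Algebra.TensorProduct in
/-- The underlying element of `toIntegralClosure`. -/
theorem toIntegralClosure_coe (R S B : Type u) [CommRing R] [CommRing S] [CommRing B]
    [Algebra R S] [Algebra R B] (t : S ⊗[R] integralClosure R B) :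
    ((TensorProduct.toIntegralClosure R S B t : integralClosure S (S ⊗[R] B)) : S ⊗[R] B) =
      map (AlgHom.id R S) (integralClosure R B).val t := by
  induction t with
  | zero => simp
  | add x y hx hy => rw [map_add, map_add]; simp only [Subalgebra.coe_add, hx, hy]
  | tmul s a => rfl

open Algebra.TensorProduct in
theorem toIntegralClosure_injective_of_indSmooth (R S B : Type u) [CommRing R] [CommRing S]
    [CommRing B] [Algebra R S] [Algebra R B] (hS : Smoothing.IndSmooth R S) :
    Function.Injective (TensorProduct.toIntegralClosure R S B) := by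
  rw [injective_iff_map_eq_zero]
  intro t ht
  have ht' : map (AlgHom.id R S) (integralClosure R B).val t = 0 := by
    rw [← toIntegralClosure_coe, ht]; rfl
  obtain ⟨m, s, a, rfl⟩ := TensorProduct.exists_sum_tmul_eq t
  let P₀ := MvPolynomial (Fin m) R
  let φ₀ : P₀ →ₐ[R] S := MvPolynomial.aeval s
  let t₀ : P₀ ⊗[R] integralClosure R B := ∑ j, (MvPolynomial.X j : P₀) ⊗ₜ a j
  let x : P₀ ⊗[R] B := map (AlgHom.id R P₀) (integralClosure R B).val t₀
  have ht₀ : map φ₀ (AlgHom.id R (integralClosure R B)) t₀ = ∑ j, s j ⊗ₜ a j := by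
    simp only [t₀, φ₀, map_sum, Algebra.TensorProduct.map_tmul, AlgHom.id_apply]
    exact Finset.sum_congr rfl (fun j _ => by rw [MvPolynomial.aeval_X])
  have hx : map φ₀ (AlgHom.id R B) x = 0 := by
    rw [map_map_apply, ← ht', ← ht₀, map_map_apply]
    rfl
  obtain ⟨C, _, _, hsm, ψ, φ, hφψ, hψx⟩ := exists_smooth_factor_of_map_eq_zero R S B P₀ hS φ₀ x hx
  let tC : C ⊗[R] integralClosure R B := map ψ (AlgHom.id R _) t₀
  have htC : map (AlgHom.id R C) (integralClosure R B).val tC = 0 := by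
    rw [map_map_apply]
    rw [map_map_apply] at hψx
    exact hψx
  have hflat : Module.Flat R C := inferInstance
  have hinj : Function.Injective (map (AlgHom.id R C) (integralClosure R B).val) := by
    have := Module.Flat.lTensor_preserves_injective_linearMap (M := C)
      (integralClosure R B).val.toLinearMap Subtype.val_injective
    exact this
  have htC0 : tC = 0 := hinj (by rw [htC, map_zero])
  rw [← ht₀, ← hφψ]
  have : map (φ.comp ψ) (AlgHom.id R (integralClosure R B)) t₀ =
      map φ (AlgHom.id R _) tC := by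
    rw [map_map_apply]; rfl
  rw [this, htC0, map_zero]





open Algebra.TensorProduct in
/-- base change of an evaluation along `map f id` -/
theorem map_eval₂ {R P P' B : Type u} [CommRing R] [CommRing P] [CommRing P'] [CommRing B]
    [Algebra R P] [Algebra R P'] [Algebra R B] (f : P →ₐ[R] P') (q : Polynomial P) (y : P ⊗[R] B) :
    map f (AlgHom.id R B) (Polynomial.eval₂ (algebraMap P (P ⊗[R] B)) y q) =
      Polynomial.eval₂ (algebraMap P' (P' ⊗[R] B)) (map f (AlgHom.id R B) y)
        (q.map (f : P →+* P')) := by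
  have h := Polynomial.hom_eval₂ q (algebraMap P (P ⊗[R] B))
    ((map f (AlgHom.id R B) : P ⊗[R] B →ₐ[R] P' ⊗[R] B) : P ⊗[R] B →+* P' ⊗[R] B) y
  rw [Polynomial.eval₂_map]
  have hc : (algebraMap P' (P' ⊗[R] B)).comp (f : P →+* P') =
      ((map f (AlgHom.id R B) : P ⊗[R] B →ₐ[R] P' ⊗[R] B) : P ⊗[R] B →+* P' ⊗[R] B).comp
        (algebraMap P (P ⊗[R] B)) := by
    ext a
    simp [Algebra.TensorProduct.algebraMap_apply]
  rw [hc]
  exact h

open Algebra.TensorProduct in
theorem toIntegralClosure_surjective_of_indSmooth (R S B : Type u) [CommRing R] [CommRing S]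
    [CommRing B] [Algebra R S] [Algebra R B] (hS : Smoothing.IndSmooth R S) :
    Function.Surjective (TensorProduct.toIntegralClosure R S B) := by
  classical
  rintro ⟨z, hz⟩
  obtain ⟨p, hp, hpz⟩ := hz
  obtain ⟨m, s, b, rfl⟩ := TensorProduct.exists_sum_tmul_eq z
  let ι := Fin m ⊕ {c // c ∈ p.coeffs}
  let P₀ := MvPolynomial ι R
  let φ₀ : P₀ →ₐ[R] S := MvPolynomial.aeval (Sum.elim s (fun c => c.1))
  have hlift : p ∈ Polynomial.lifts (φ₀ : P₀ →+* S) := by
    rw [Polynomial.lifts_iff_coeff_lifts]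
    intro k
    by_cases hk : p.coeff k = 0
    · exact ⟨0, by rw [map_zero, hk]⟩
    · refine ⟨MvPolynomial.X (Sum.inr ⟨p.coeff k, Polynomial.coeff_mem_coeffs hk⟩), ?_⟩
      change MvPolynomial.aeval _ (MvPolynomial.X _) = _
      rw [MvPolynomial.aeval_X]
      rfl
  obtain ⟨p₀, hp₀map, -, hp₀⟩ := Polynomial.lifts_and_natDegree_eq_and_monic hlift hp
  let z₀ : P₀ ⊗[R] B := ∑ j, (MvPolynomial.X (Sum.inl j) : P₀) ⊗ₜ b j
  have hz₀ : map φ₀ (AlgHom.id R B) z₀ = ∑ j, s j ⊗ₜ b j := by
    simp only [z₀, map_sum, Algebra.TensorProduct.map_tmul, AlgHom.id_apply]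
    refine Finset.sum_congr rfl (fun j _ => ?_)
    change MvPolynomial.aeval _ (MvPolynomial.X _) ⊗ₜ[R] b j = _
    rw [MvPolynomial.aeval_X]
    rfl
  let w : P₀ ⊗[R] B := Polynomial.eval₂ (algebraMap P₀ (P₀ ⊗[R] B)) z₀ p₀
  have hw : map φ₀ (AlgHom.id R B) w = 0 := by
    rw [map_eval₂, hz₀, hp₀map]
    exact hpz
  obtain ⟨C, _, _, hsm, ψ, φ, hφψ, hψw⟩ := exists_smooth_factor_of_map_eq_zero R S B P₀ hS φ₀ w hw
  let zC : C ⊗[R] B := map ψ (AlgHom.id R B) z₀
  have hzC : IsIntegral C zC := by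
    refine ⟨p₀.map (ψ : P₀ →+* C), hp₀.map _, ?_⟩
    rw [← map_eval₂]
    exact hψw
  obtain ⟨tC, htC⟩ := (TensorProduct.toIntegralClosure_bijective_of_smooth
    (R := R) (S := C) (B := B)).2 ⟨zC, hzC⟩
  have htC' : map (AlgHom.id R C) (integralClosure R B).val tC = zC := by
    rw [← toIntegralClosure_coe, htC]
  refine ⟨map φ (AlgHom.id R _) tC, Subtype.ext ?_⟩
  rw [toIntegralClosure_coe, map_map_apply]
  have h1 : map ((AlgHom.id R S).comp φ) ((integralClosure R B).val.comp (AlgHom.id R _)) tC =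
      map φ (AlgHom.id R B) (map (AlgHom.id R C) (integralClosure R B).val tC) := by
    rw [map_map_apply]; rfl
  rw [h1, htC', map_map_apply, hφψ]
  exact hz₀


theorem toIntegralClosure_bijective_of_indSmooth (R S B : Type u) [CommRing R] [CommRing S]
    [CommRing B] [Algebra R S] [Algebra R B] (hS : Smoothing.IndSmooth R S) :
    Function.Bijective (TensorProduct.toIntegralClosure R S B) :=
  ⟨toIntegralClosure_injective_of_indSmooth R S B hS,
    toIntegralClosure_surjective_of_indSmooth R S B hS⟩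

end Groth.Agent.Lib.Helper30.IndSmooth
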