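import Mathlib
import Groth.Agent.Lib.Helper30.Codim0b
import Groth.Agent.Lib.Helper37.DecentPoint3

/-!
# Decent spaces with finitely many irreducible components (helper30, S10397)
-/

set_option autoImplicit false
universe u
open CategoryTheory CategoryTheory.Limits AlgebraicGeometry Opposite TopologicalSpace

namespace Groth.Agent.Lib.Helper30.IrrFin

open AlgSp Groth.Agent.Lib.Helper37.AlgSpPoints Groth.Agent.Lib.Helper37.AlgSpFibres
  Groth.Agent.Lib.Helper30.DecentSober Groth.Agent.Lib.Helper30.InvAffine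
  Groth.Agent.Lib.Helper30.ConstDeg Groth.Agent.Lib.Helper30.QuotRep
  Groth.Agent.Lib.Helper36.OpenSubspace Groth.Agent.Lib.Helper30.AffFin
  Groth.Agent.Lib.Helper30.DecentOpenScheme Groth.Agent.Lib.Helper30.SchemLoc2
  Groth.Agent.Lib.Helper36.AlgSpCharts

variable {S : Scheme.{u}}

section

variable {F : Sp S} {V R : Over S} {a : (yon S).obj V ⟶ F} {s t : R ⟶ V}

/-- A bound on the degree at `y` bounds the fibre of `s` over `y`. -/
theorem finite_fibre_of_bound (ha : RepWith @Etale a)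
    (hR : IsPullback ((yon S).map s) ((yon S).map t) a a) [IsSeparated s.left]
    (y : ↥V.left) (N : ℕ) (hN : ∀ d, y ∈ Vd s d → d ≤ N) : (s.left ⁻¹' {y}).Finite := by
  by_contra hinf
  have hall : ∀ d, y ∈ Vd s d := by
    intro d
    induction d with
    | zero => rw [Vd_zero]; trivial
    | succ d ih =>
      obtain ⟨ι, hι, D, hc, w, hw⟩ := ih
      have hfin : (Set.range (fun i => D.ρ i w)).Finite := Set.finite_range _
      obtain ⟨r, hr, hrn⟩ := (Set.Infinite.sdiff hinf hfin).nonempty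
      obtain ⟨z, hz1, hz2⟩ := Scheme.Pullback.exists_preimage_pullback (f := D.π) (g := s.left) w r
        (hw.trans hr.symm)
      have h1 := mem_Vd_succ' ha hR D z (fun i => by
        rintro ⟨w'', hw''⟩
        have e1 : w'' = w := by
          have := congrArg (pullback.fst D.π s.left) hw''
          rw [← Scheme.Hom.comp_apply, D.σ_fst, hz1] at this
          exact this
        have e2 : D.ρ i w'' = r := by
          have := congrArg (pullback.snd D.π s.left) hw''
          rw [← Scheme.Hom.comp_apply, D.σ_snd, hz2] at this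
          exact this
        exact hrn ⟨i, by rw [← e2, e1]⟩)
      rw [hz1, hw, hc] at h1
      exact h1
  have := hN (N + 1) (hall (N + 1))
  omega

end

/-- Data (3) of S10397: a dense open subscheme with a finite set `G` of points, quasi-compact in `X`, such that
every point of the subscheme has a generization in `G`. -/
structure GenData (X : Space S) where
  X' : Over S
  j : (yon S).obj X' ⟶ X.obj
  hj : RepWith @IsOpenImmersion j
  hdense : Dense (Set.range (Points.ofPt j))
  G : Set ↥X'.left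
  hG : G.Finite
  hgen : ∀ x' : ↥X'.left, ∃ ξ ∈ G, ξ ⤳ x'
  hqc : ∀ ξ ∈ G, RepWith @QuasiCompact (FieldPt.ofPt j ξ).toHom

section

variable {X : Space S} (D : GenData X) {V R : Over S} {a : (yon S).obj V ⟶ X.obj} {s t : R ⟶ V}

open Groth.Agent.Lib.Helper37.DecentPoint

/-- The points of a chart lying over `G`. -/
def GenData.E (D : GenData X) (a : (yon S).obj V ⟶ X.obj) : Set ↥V.left :=
  {η | ∃ ξ ∈ D.G, Points.ofPt a η = Points.ofPt D.j ξ}

theorem GenData.finite_E [IsAffine V.left] (ha : RepWith @Etale a)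
    (hR : IsPullback ((yon S).map s) ((yon S).map t) a a) : (D.E a).Finite := by
  have : D.E a = ⋃ ξ ∈ D.G, Points.ofPt a ⁻¹' {Points.ofPt D.j ξ} := by
    ext η
    simp only [GenData.E, Set.mem_iUnion, Set.mem_preimage, Set.mem_singleton_iff,
      exists_prop]
    rfl
  rw [this]
  refine D.hG.biUnion fun ξ hξ => ?_
  exact (finite_fibres_of_qc_fieldPt X (Points.ofPt D.j ξ) (FieldPt.ofPt D.j ξ) rfl (D.hqc ξ hξ)
    V a inferInstance ha R t s hR).1

/-- Every point of an étale chart has a generization lying over `G`. -/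
theorem GenData.exists_gen [IsAffine V.left] (ha : RepWith @Etale a)
    (hR : IsPullback ((yon S).map s) ((yon S).map t) a a) (u : ↥V.left) :
    ∃ η ∈ D.E a, η ⤳ u := by
  have hfin := D.finite_E ha hR
  -- the case of points over the dense open
  have key : ∀ u : ↥V.left, Points.ofPt a u ∈ Set.range (Points.ofPt D.j) → ∃ η ∈ D.E a, η ⤳ u := by
    rintro u ⟨x', hx'⟩
    obtain ⟨ξ, hξG, hξ⟩ := D.hgen x'
    obtain ⟨W, p₁, p₂, sq⟩ := exists_isPullback_yon a D.j D.hj.rep
    have h2 : Etale p₂.left := prop_snd_of_isPullback sq ha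
    obtain ⟨w, hw1, hw2⟩ := (ofPt_eq_ofPt_iff sq u x').1 hx'.symm
    rw [← hw2] at hξ
    obtain ⟨w', hw', hw'ξ⟩ := Flat.generalizingMap p₂.left hξ
    refine ⟨p₁.left w', ⟨ξ, hξG, (ofPt_eq_ofPt_iff sq _ _).2 ⟨w', rfl, hw'ξ⟩⟩, ?_⟩
    rw [← hw1]
    exact hw'.map p₁.left.continuous
  -- density
  let C : Set ↥V.left := ⋃ η ∈ D.E a, closure {η}
  have hC : IsClosed C := hfin.isClosed_biUnion fun η _ => isClosed_closure
  have hd : Dense (Points.ofPt a ⁻¹' Set.range (Points.ofPt D.j)) :=
    D.hdense.preimage (isOpenMap_ofPt a ha)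
  have hsub : Points.ofPt a ⁻¹' Set.range (Points.ofPt D.j) ⊆ C := by
    intro u hu
    obtain ⟨η, hη, hηu⟩ := key u hu
    exact Set.mem_biUnion hη (specializes_iff_mem_closure.1 hηu)
  have hCu : C = Set.univ := by
    rw [← hC.closure_eq]
    exact Set.eq_univ_of_univ_subset (hd.closure_eq ▸ closure_mono hsub)
  have hu : u ∈ C := hCu ▸ Set.mem_univ u
  simp only [C, Set.mem_iUnion, exists_prop] at hu
  obtain ⟨η, hη, hηu⟩ := hu
  exact ⟨η, hη, specializes_iff_mem_closure.2 hηu⟩

include D in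
/-- The degrees of the kernel pair of an affine étale chart are uniformly bounded. -/
theorem GenData.exists_bound [IsAffine V.left] (ha : RepWith @Etale a)
    (hR : IsPullback ((yon S).map s) ((yon S).map t) a a) :
    ∃ N : ℕ, ∀ (u : ↥V.left) (d : ℕ), u ∈ Vd s d → d ≤ N := by
  have hb : ∀ ξ : ↥D.X'.left, ∃ N : ℕ, ξ ∈ D.G → ∀ y : ↥V.left,
      Points.ofPt a y = Points.ofPt D.j ξ → ∀ d, y ∈ Vd s d → d ≤ N := by
    intro ξ
    by_cases hξ : ξ ∈ D.G
    · obtain ⟨p, hp, hm, hq⟩ := exists_mono_qc_of_qc X (FieldPt.ofPt D.j ξ) (D.hqc ξ hξ)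
      obtain ⟨N, hN⟩ := exists_bound_Vd ha hR p hm hq
      exact ⟨N, fun _ y hy => hN y (hy.trans hp.symm)⟩
    · exact ⟨0, fun h => absurd h hξ⟩
  choose N hN using hb
  obtain ⟨M, hM⟩ := (D.hG.image N).bddAbove
  refine ⟨M, fun u d hud => ?_⟩
  obtain ⟨η, ⟨ξ, hξG, hηξ⟩, hηu⟩ := D.exists_gen ha hR u
  have h1 : η ∈ Vd s d := hηu.mem_open (isOpen_Vd s d) hud
  exact (hN ξ hξG η hηξ d h1).trans (hM ⟨ξ, hξG, rfl⟩)

/-- (3) ⇒ decent. -/
theorem GenData.isDecent (D : GenData X) : IsDecent X.obj := by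
  intro x
  apply exists_mono_qc_of_finite_fibres X x
  intro U φ hU hφ R s t hR'
  have hR := hR'.flip
  have hseps : IsSeparated s.left := isSeparated_s hR
  have hsept : IsSeparated t.left := isSeparated_s hR'
  obtain ⟨M, hM⟩ := D.exists_bound hφ hR
  obtain ⟨M', hM'⟩ := D.exists_bound hφ hR'
  have hfs : ∀ y, (s.left ⁻¹' {y}).Finite := fun y => finite_fibre_of_bound hφ hR y M (hM y)
  have hft : ∀ y, (t.left ⁻¹' {y}).Finite := fun y => finite_fibre_of_bound hφ hR' y M' (hM' y)
  have h1 : (Points.ofPt φ ⁻¹' {x}).Finite := by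
    by_cases hne : (Points.ofPt φ ⁻¹' {x}).Nonempty
    · obtain ⟨u, hu⟩ := hne
      refine ((hfs u).image t.left).subset ?_
      intro u' hu'
      obtain ⟨r, hr1, hr2⟩ := (ofPt_eq_ofPt_iff hR u u').1 (hu.trans hu'.symm)
      exact ⟨r, hr1, hr2⟩
    · rw [Set.not_nonempty_iff_eq_empty] at hne
      rw [hne]
      exact Set.finite_empty
  refine ⟨h1, ?_⟩
  have : Points.ofPt ((yon S).map t ≫ φ) ⁻¹' {x} =
      ⋃ u ∈ Points.ofPt φ ⁻¹' {x}, t.left ⁻¹' {u} := by
    ext r
    simp only [Set.mem_preimage, Set.mem_singleton_iff, ofPt_map_comp, Set.mem_iUnion, exists_prop,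
      exists_eq_right']
  rw [this]
  exact h1.biUnion fun u _ => hft u

/-- (3) ⇒ finitely many irreducible components. -/
theorem GenData.finite_irreducibleComponents (D : GenData X) :
    (irreducibleComponents (Points X.obj)).Finite := by
  classical
  let T : ↥D.X'.left → Set (Points X.obj) := fun ξ => closure {Points.ofPt D.j ξ}
  let C : Set (Points X.obj) := ⋃ ξ ∈ D.G, T ξ
  have hC : IsClosed C := D.hG.isClosed_biUnion fun _ _ => isClosed_closure
  have hsub : Set.range (Points.ofPt D.j) ⊆ C := by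
    rintro _ ⟨x', rfl⟩
    obtain ⟨ξ, hξ, hs⟩ := D.hgen x'
    exact Set.mem_biUnion hξ
      (specializes_iff_mem_closure.1 (hs.map (Points.continuous_ofPt D.j)))
  have hCu : C = Set.univ := by
    rw [← hC.closure_eq]
    exact Set.eq_univ_of_univ_subset (D.hdense.closure_eq ▸ closure_mono hsub)
  refine (D.hG.image T).subset ?_
  intro Z hZ
  have hirr : IsIrreducible Z := hZ.1
  obtain ⟨z, hz, hZz⟩ := isIrreducible_iff_sUnion_isClosed.1 hirr (D.hG.toFinset.image T)
    (by
      intro z hz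
      simp only [Finset.mem_image, Set.Finite.mem_toFinset] at hz
      obtain ⟨ξ, -, rfl⟩ := hz
      exact isClosed_closure)
    (by
      intro x _
      have hx : x ∈ C := hCu ▸ Set.mem_univ x
      simp only [C, Set.mem_iUnion, exists_prop] at hx
      obtain ⟨ξ, hξ, hxξ⟩ := hx
      refine Set.mem_sUnion.2 ⟨T ξ, ?_, hxξ⟩
      simp only [Finset.coe_image, Set.Finite.coe_toFinset]
      exact ⟨ξ, hξ, rfl⟩)
  simp only [Finset.mem_image, Set.Finite.mem_toFinset] at hz
  obtain ⟨ξ, hξ, rfl⟩ := hz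
  refine ⟨ξ, hξ, ?_⟩
  exact Set.Subset.antisymm (hZ.2 isIrreducible_singleton.closure hZz) hZz

end

end Groth.Agent.Lib.Helper30.IrrFin
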