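import Mathlib.AlgebraicGeometry.Morphisms.FinitePresentation
import Mathlib.AlgebraicGeometry.Morphisms.Etale
import Mathlib.AlgebraicGeometry.Morphisms.UniversallyOpen
import Groth.Agent.Lib.Helper30.CompactOpenSurj

/-!
# Locally constructible sets: preimages under morphisms of schemes and étale descent
-/

set_option autoImplicit false
universe u
open CategoryTheory AlgebraicGeometry TopologicalSpace Topology
open scoped Set.Notation

namespace Groth.Agent.Lib.Helper30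

/-- The preimage of a locally constructible set under a morphism of schemes is locally
constructible. -/
theorem isLocallyConstructible_preimage {X Y : Scheme.{u}} (f : X ⟶ Y) {s : Set Y}
    (hs : IsLocallyConstructible s) : IsLocallyConstructible (f ⁻¹' s) := by
  intro x
  obtain ⟨U, hxU, hU, hUs⟩ := hs (f x)
  refine ⟨f ⁻¹' U, f.continuous.continuousAt.preimage_mem_nhds hxU, hU.preimage f.continuous, ?_⟩
  have key := (f ∣_ (⟨U, hU⟩ : Y.Opens)).isConstructible_preimage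
    (s := (Subtype.val : ↥(⟨U, hU⟩ : Y.Opens) → Y) ⁻¹' s) hUs
  have hEq : ((f ∣_ (⟨U, hU⟩ : Y.Opens)) ⁻¹' ((Subtype.val : ↥(⟨U, hU⟩ : Y.Opens) → Y) ⁻¹' s)) =
      (fun y : (f ⁻¹ᵁ (⟨U, hU⟩ : Y.Opens)).toScheme => f y.1 ∈ s) := by
    ext y
    show ((f ∣_ (⟨U, hU⟩ : Y.Opens)) y).1 ∈ s ↔ f y.1 ∈ s
    rw [morphismRestrict_base_coe]
  rw [hEq] at key
  exact key

/-- Étale descent of local constructibility. -/
theorem isLocallyConstructible_of_preimage {W V : Scheme.{u}} (f : W ⟶ V) [Etale f]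
    (hf : Function.Surjective f) {T : Set V} (h : IsLocallyConstructible (f ⁻¹' T)) :
    IsLocallyConstructible T := by
  refine .of_isOpenCover (U := fun V₀ : V.affineOpens => (V₀ : V.Opens))
    (iSup_affineOpens_eq_top V) fun V₀ => ?_
  have : IsAffine (V₀ : V.Opens).toScheme := V₀.2
  have hsurj : Function.Surjective (f ∣_ (V₀ : V.Opens)) := by
    rintro ⟨v, hv⟩
    obtain ⟨w, rfl⟩ := hf v
    exact ⟨⟨w, hv⟩, Subtype.ext (morphismRestrict_base_coe f _ _)⟩
  obtain ⟨K, hKc, hKs⟩ := exists_compact_open_surj (f ∣_ (V₀ : V.Opens))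
    (f ∣_ (V₀ : V.Opens)).isOpenMap hsurj
  have hKcs : CompactSpace ↥K := isCompact_iff_compactSpace.mp hKc
  have hqc : QuasiCompact (K.ι ≫ (f ∣_ (V₀ : V.Opens))) :=
    @quasiCompact_of_compactSpace _ _ _ hKcs inferInstance
  have key := (K.ι ≫ (f ∣_ (V₀ : V.Opens))).isLocallyConstructible_image
    (h.preimage_of_isOpenEmbedding (K.ι ≫ (f ⁻¹ᵁ (V₀ : V.Opens)).ι).isOpenEmbedding)
  have hEq : (K.ι ≫ (f ∣_ (V₀ : V.Opens))) '' ((K.ι ≫ (f ⁻¹ᵁ (V₀ : V.Opens)).ι) ⁻¹' (f ⁻¹' T)) =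
      (fun v : (V₀ : V.Opens).toScheme => v.1 ∈ T) := by
    ext v
    show _ ↔ v.1 ∈ T
    simp only [Set.mem_image, Set.mem_preimage]
    constructor
    · rintro ⟨y, hy, rfl⟩
      have : ((K.ι ≫ (f ∣_ (V₀ : V.Opens))) y).1 = f ((K.ι ≫ (f ⁻¹ᵁ (V₀ : V.Opens)).ι) y) :=
        morphismRestrict_base_coe f _ _
      rw [this]
      exact hy
    · intro hv
      obtain ⟨y, hy, rfl⟩ := hKs v
      refine ⟨(⟨y, hy⟩ : K.toScheme), ?_, rfl⟩
      have : f ((K.ι ≫ (f ⁻¹ᵁ (V₀ : V.Opens)).ι) (⟨y, hy⟩ : K.toScheme)) =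
          ((f ∣_ (V₀ : V.Opens)) y).1 :=
        (morphismRestrict_base_coe f _ y).symm
      rw [this]
      exact hv
  rw [hEq] at key
  exact key

end Groth.Agent.Lib.Helper30
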