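import Mathlib
import Groth.Agent.Lib.Helper30.IrrFin
import Groth.Agent.S10397
import Groth.Agent.Lib.Helper23.AlgSpNoeth
import Groth.Agent.Lib.Helper36.AlgSpChartDiag
import Groth.Agent.S10184

/-!
# Locally Noetherian decent spaces are quasi-separated (helper30, S10354)
-/

set_option autoImplicit false
universe u
open CategoryTheory CategoryTheory.Limits AlgebraicGeometry Opposite TopologicalSpace

namespace Groth.Agent.Lib.Helper30.LocNoethQs

open AlgSp Groth.Agent.Lib.Helper37.AlgSpPoints Groth.Agent.Lib.Helper37.AlgSpFibres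
  Groth.Agent.Lib.Helper30.DecentSober Groth.Agent.Lib.Helper30.InvAffine
  Groth.Agent.Lib.Helper30.ConstDeg Groth.Agent.Lib.Helper30.QuotRep
  Groth.Agent.Lib.Helper36.OpenSubspace Groth.Agent.Lib.Helper30.AffFin
  Groth.Agent.Lib.Helper30.DecentOpenScheme Groth.Agent.Lib.Helper30.SchemLoc2
  Groth.Agent.Lib.Helper36.AlgSpCharts Groth.Agent.Lib.Helper30.IrrFin

variable {S : Scheme.{u}}

section

variable {F : Sp S} {V R : Over S} {a : (yon S).obj V ⟶ F} {s t : R ⟶ V}

/-- With bounded degrees over a Noetherian chart, the kernel pair is quasi-compact. -/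
theorem compactSpace_kernelPair (ha : RepWith @Etale a)
    (hR : IsPullback ((yon S).map s) ((yon S).map t) a a) [IsSeparated s.left]
    [NoetherianSpace ↥V.left] (N : ℕ) (hN : ∀ (u : ↥V.left) (d : ℕ), u ∈ Vd s d → d ≤ N) :
    CompactSpace ↥R.left := by
  classical
  have hdat : ∀ u : ↥V.left, ∃ (ι : Type) (_ : Fintype ι) (D : Datum s ι) (w : ↥D.Y),
      D.π w = u ∧ IsAffine D.Y ∧ u ∉ Vd s (Fintype.card ι + 1) := by
    intro u
    obtain ⟨d, hd1, hd2⟩ : ∃ d, u ∈ Vd s d ∧ u ∉ Vd s (d + 1) := by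
      by_contra hcon
      push Not at hcon
      have hall : ∀ d, u ∈ Vd s d := by
        intro d
        induction d with
        | zero => rw [Vd_zero]; trivial
        | succ d ih => exact hcon d ih
      have := hN u (N + 1) (hall (N + 1))
      omega
    obtain ⟨ι, hι, D, hc, w, hw⟩ := hd1
    obtain ⟨_, ⟨Y', hY', rfl⟩, hwY', -⟩ :=
      D.Y.isBasis_affineOpens.exists_subset_of_mem_open (Set.mem_univ w) isOpen_univ
    refine ⟨ι, hι, D.restrict Y', (⟨w, hwY'⟩ : ↥(Scheme.Opens.toScheme Y')), ?_, hY', hc ▸ hd2⟩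
    exact (Datum.restrict_π_apply D Y' _).trans hw
  choose ι hι D w hw hY hdeg using hdat
  have hcov : ∀ (u : ↥V.left) (r : ↥R.left), s.left r ∈ Set.range (D u).π →
      s.left r ∉ Vd s (Fintype.card (ι u) + 1) → ∃ i, r ∈ Set.range ((D u).ρ i) := by
    rintro u r ⟨w', hw'⟩ hr
    obtain ⟨z, hz1, hz2⟩ := Scheme.Pullback.exists_preimage_pullback (f := (D u).π)
      (g := s.left) w' r hw'
    by_contra hcon
    push Not at hcon
    apply hr
    have h1 := mem_Vd_succ' ha hR (D u) z (fun i => by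
      rintro ⟨w'', hw''⟩
      have e2 : (D u).ρ i w'' = r := by
        have := congrArg (pullback.snd (D u).π s.left) hw''
        rw [← Scheme.Hom.comp_apply, (D u).σ_snd, hz2] at this
        exact this
      exact hcon i ⟨w'', e2⟩)
    rwa [hz1, hw'] at h1
  -- the strata
  have hcard : ∀ u, Fintype.card (ι u) ≤ N := fun u =>
    hN u _ ⟨ι u, hι u, D u, rfl, w u, hw u⟩
  have hfin : ∀ d : ℕ, ∃ F : Finset ↥V.left, (∀ u ∈ F, Fintype.card (ι u) = d) ∧
      {u | Fintype.card (ι u) = d} ⊆ ⋃ u ∈ F, Set.range (D u).π := by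
    intro d
    have hc : IsCompact {u : ↥V.left | Fintype.card (ι u) = d} := NoetherianSpace.isCompact _
    obtain ⟨F, hF1, hF2⟩ := hc.elim_nhds_subcover (fun u => Set.range (D u).π) (fun u _ => by
      have := (D u).etale
      exact (D u).π.isOpenMap.isOpen_range.mem_nhds ⟨w u, hw u⟩)
    exact ⟨F, hF1, hF2⟩
  choose Fd hFd1 hFd2 using hfin
  have hK : IsCompact (⋃ d ∈ Finset.range (N + 1), ⋃ u ∈ Fd d, ⋃ i : ι u,
      Set.range ((D u).ρ i)) := by
    refine (Finset.range (N + 1)).isCompact_biUnion fun d _ => (Fd d).isCompact_biUnion fun u _ => ?_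
    have : CompactSpace ↥(D u).Y := by have := hY u; infer_instance
    exact isCompact_iUnion fun i => isCompact_range ((D u).ρ i).continuous
  refine ⟨?_⟩
  convert hK
  symm
  rw [Set.eq_univ_iff_forall]
  intro r
  have hd : Fintype.card (ι (s.left r)) ∈ Finset.range (N + 1) :=
    Finset.mem_range.2 (Nat.lt_succ_of_le (hcard _))
  have hmem := hFd2 (Fintype.card (ι (s.left r))) (show s.left r ∈ {u | _} from rfl)
  simp only [Set.mem_iUnion, exists_prop] at hmem
  obtain ⟨u, huF, hu⟩ := hmem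
  have hcu : Fintype.card (ι u) = Fintype.card (ι (s.left r)) := hFd1 _ u huF
  obtain ⟨i, hi⟩ := hcov u r hu (hcu ▸ hdeg (s.left r))
  simp only [Set.mem_iUnion, exists_prop]
  exact ⟨_, hd, u, huF, i, hi⟩

end

open Groth.Agent.S10397 in
/-- Uniform bound of the degrees over a quasi-compact Noetherian chart of a decent space. -/
theorem exists_bound_of_decent (X : Space S) (hX : IsDecent X.obj) {V R : Over S}
    {a : (yon S).obj V ⟶ X.obj} {s t : R ⟶ V} (ha : RepWith @Etale a)
    (hR : IsPullback ((yon S).map s) ((yon S).map t) a a) [CompactSpace ↥V.left]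
    [NoetherianSpace ↥V.left] : ∃ N : ℕ, ∀ (u : ↥V.left) (d : ℕ), u ∈ Vd s d → d ≤ N := by
  have hG := finite_generic (Y := V.left) NoetherianSpace.finite_irreducibleComponents
  have hb : ∀ ξ : ↥V.left, ∃ N : ℕ, ∀ d, ξ ∈ Vd s d → d ≤ N := by
    intro ξ
    obtain ⟨p, hp, hm, hq⟩ := hX (Points.ofPt a ξ)
    obtain ⟨N, hN⟩ := exists_bound_Vd ha hR p hm hq
    exact ⟨N, hN ξ hp.symm⟩
  choose N hN using hb
  obtain ⟨M, hM⟩ := (hG.image N).bddAbove
  refine ⟨M, fun u d hud => ?_⟩
  obtain ⟨ξ, hξG, hξu⟩ := exists_generic_specializes u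
  exact (hN ξ d (hξu.mem_open (isOpen_Vd s d) hud)).trans (hM ⟨ξ, hξG, rfl⟩)

/-- Fibre products over `X` of quasi-compact schemes mapping to a chart with quasi-compact kernel pair are
quasi-compact. -/
theorem compactSpace_pullback_of_kernelPair {X : Sp S} {W R K1 K2 Q : Over S}
    (c : (yon S).obj W ⟶ X) (s t : R ⟶ W)
    (hR : IsPullback ((yon S).map t) ((yon S).map s) c c)
    [CompactSpace ↥R.left] [QuasiSeparatedSpace ↥W.left] (β1 : K1 ⟶ W) (β2 : K2 ⟶ W)
    [CompactSpace ↥K1.left] [CompactSpace ↥K2.left] (q1 : Q ⟶ K1) (q2 : Q ⟶ K2)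
    (hQ : IsPullback ((yon S).map q1) ((yon S).map q2) ((yon S).map β1 ≫ c) ((yon S).map β2 ≫ c)) :
    CompactSpace ↥Q.left := by
  have hM1 := IsPullback.of_hasPullback β1 t
  have hM2 := IsPullback.of_hasPullback (pullback.snd β1 t ≫ s) β2
  have hM1' : IsPullback ((yon S).map (pullback.fst β1 t))
      ((yon S).map (pullback.snd β1 t) ≫ (yon S).map s)
      ((yon S).map β1 ≫ c) c :=
    (hM1.map (yon S)).paste_vert hR
  have hM2' : IsPullback
      ((yon S).map (pullback.fst (pullback.snd β1 t ≫ s) β2) ≫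
        (yon S).map (pullback.fst β1 t))
      ((yon S).map (pullback.snd (pullback.snd β1 t ≫ s) β2))
      ((yon S).map β1 ≫ c) ((yon S).map β2 ≫ c) := by
    have h1 := hM2.map (yon S)
    rw [Functor.map_comp] at h1
    exact h1.paste_horiz hM1'
  have ht : QuasiCompact t.left := inferInstance
  have hqc1 : QuasiCompact (pullback.fst β1 t).left :=
    MorphismProperty.of_isPullback (P := @QuasiCompact) (hM1.map (Over.forget S)).flip ht
  have hM1c : CompactSpace ↥(pullback β1 t).left :=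
    QuasiCompact.compactSpace_of_compactSpace (pullback.fst β1 t).left
  have hβ2 : QuasiCompact β2.left := inferInstance
  have hqc2 : QuasiCompact (pullback.fst (pullback.snd β1 t ≫ s) β2).left :=
    MorphismProperty.of_isPullback (P := @QuasiCompact) (hM2.map (Over.forget S)).flip hβ2
  have hM2c : CompactSpace ↥(pullback (pullback.snd β1 t ≫ s) β2).left :=
    QuasiCompact.compactSpace_of_compactSpace (pullback.fst (pullback.snd β1 t ≫ s) β2).left
  let e := (yon S).preimageIso (hQ.isoIsPullback _ _ hM2')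
  exact @Homeomorph.compactSpace _ _ _ _ hM2c (Scheme.homeoOfIso ((Over.forget S).mapIso e)).symm

set_option backward.isDefEq.respectTransparency.types false in
theorem etale_coprod_desc {X Y Z : Scheme.{u}} (f : X ⟶ Z) (g : Y ⟶ Z) [Etale f] [Etale g] :
    Etale (coprod.desc f g) := by
  have : IsZariskiLocalAtSource @Etale := inferInstance
  rw [IsZariskiLocalAtSource.iff_of_openCover (P := @Etale) (coprodOpenCover.{u, u} X Y)]
  rintro (i | i)
  · show Etale (coprod.inl ≫ coprod.desc f g)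
    rw [coprod.inl_desc]; infer_instance
  · show Etale (coprod.inr ≫ coprod.desc f g)
    rw [coprod.inr_desc]; infer_instance

/-- Kernel pairs of affine étale charts of a locally Noetherian decent space are quasi-compact. -/
theorem compactSpace_kernelPair_of_affine (X : Space S) (hN : IsLocNoethSp X.obj)
    (hX : IsDecent X.obj) {W R : Over S} [IsAffine W.left] {c : (yon S).obj W ⟶ X.obj}
    (hc : RepWith @Etale c) {s t : R ⟶ W}
    (hR : IsPullback ((yon S).map s) ((yon S).map t) c c) : CompactSpace ↥R.left := by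
  have h1 : IsLocallyNoetherian W.left :=
    Groth.Agent.Lib.Helper23.AlgSpMor.isLocallyNoetherian_of_etale_chart hN c hc
  have h2 : IsNoetherian W.left := { }
  have h3 : NoetherianSpace ↥W.left := inferInstance
  have h4 : IsSeparated s.left := isSeparated_s hR
  obtain ⟨N, hN'⟩ := exists_bound_of_decent X hX hc hR
  exact compactSpace_kernelPair hc hR N hN'

set_option backward.isDefEq.respectTransparency.types false in
open Groth.Agent.Lib.Helper36.AlgSpChartDiag in
/-- Fibre products over `X` of two quasi-compact schemes mapping into affine opens of an étale chart. -/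
theorem compactSpace_pullback_of_two_affine (X : Space S) (hN : IsLocNoethSp X.obj)
    (hX : IsDecent X.obj) {U : Over S} (p : (yon S).obj U ⟶ X.obj) (hp : RepWith @Etale p)
    (O1 O2 : U.left.Opens) (hO1 : IsAffineOpen O1) (hO2 : IsAffineOpen O2)
    {K1 K2 Q : Over S} [CompactSpace ↥K1.left] [CompactSpace ↥K2.left]
    (β1 : K1 ⟶ U) (β2 : K2 ⟶ U) (h1 : Set.range β1.left ⊆ O1) (h2 : Set.range β2.left ⊆ O2)
    (q1 : Q ⟶ K1) (q2 : Q ⟶ K2)
    (hQ : IsPullback ((yon S).map q1) ((yon S).map q2) ((yon S).map β1 ≫ p)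
      ((yon S).map β2 ≫ p)) : CompactSpace ↥Q.left := by
  have : IsAffine O1.toScheme := hO1
  have : IsAffine O2.toScheme := hO2
  let π0 : (O1.toScheme ⨿ O2.toScheme : Scheme.{u}) ⟶ U.left := coprod.desc O1.ι O2.ι
  have hπ0 : Etale π0 := etale_coprod_desc _ _
  let W : Over S := Over.mk (π0 ≫ U.hom)
  let π : W ⟶ U := Over.homMk π0 rfl
  have : IsAffine W.left := (inferInstance : IsAffine (O1.toScheme ⨿ O2.toScheme : Scheme.{u}))
  let c : (yon S).obj W ⟶ X.obj := (yon S).map π ≫ p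
  have hc : RepWith @Etale c := repWith_yon_map_comp π hπ0 p hp
  obtain ⟨R, s, t, hR⟩ := exists_isPullback_yon c c hc.rep
  have : CompactSpace ↥R.left := compactSpace_kernelPair_of_affine X hN hX hc hR
  let l1 : K1.left ⟶ O1.toScheme := IsOpenImmersion.lift O1.ι β1.left (by
    rw [Scheme.Opens.range_ι]; exact h1)
  have hl1 : l1 ≫ O1.ι = β1.left := IsOpenImmersion.lift_fac _ _ _
  let l2 : K2.left ⟶ O2.toScheme := IsOpenImmersion.lift O2.ι β2.left (by
    rw [Scheme.Opens.range_ι]; exact h2)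
  have hl2 : l2 ≫ O2.ι = β2.left := IsOpenImmersion.lift_fac _ _ _
  let γ1 : K1 ⟶ W := Over.homMk (l1 ≫ coprod.inl) (by
    show (l1 ≫ coprod.inl) ≫ π0 ≫ U.hom = K1.hom
    rw [Category.assoc, ← Category.assoc coprod.inl, coprod.inl_desc, ← Category.assoc, hl1,
      Over.w])
  let γ2 : K2 ⟶ W := Over.homMk (l2 ≫ coprod.inr) (by
    show (l2 ≫ coprod.inr) ≫ π0 ≫ U.hom = K2.hom
    rw [Category.assoc, ← Category.assoc coprod.inr, coprod.inr_desc, ← Category.assoc, hl2,
      Over.w])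
  have hγ1 : γ1 ≫ π = β1 := by
    ext
    show (l1 ≫ coprod.inl) ≫ π0 = β1.left
    rw [Category.assoc, coprod.inl_desc, hl1]
  have hγ2 : γ2 ≫ π = β2 := by
    ext
    show (l2 ≫ coprod.inr) ≫ π0 = β2.left
    rw [Category.assoc, coprod.inr_desc, hl2]
  have e1 : (yon S).map γ1 ≫ c = (yon S).map β1 ≫ p := by
    rw [← hγ1, Functor.map_comp, Category.assoc]
  have e2 : (yon S).map γ2 ≫ c = (yon S).map β2 ≫ p := by
    rw [← hγ2, Functor.map_comp, Category.assoc]
  refine compactSpace_pullback_of_kernelPair c t s hR γ1 γ2 q1 q2 ?_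
  rw [e1, e2]
  exact hQ

/-- A local chart of `a : h_T ⟶ X` relative to the atlas `p`. -/
structure LocalChart {X : Sp S} {U T : Over S} (p : (yon S).obj U ⟶ X)
    (a : (yon S).obj T ⟶ X) where
  K : Over S
  α : K ⟶ T
  β : K ⟶ U
  hab : (yon S).map α ≫ a = (yon S).map β ≫ p
  O : U.left.Opens
  hO : IsAffineOpen O
  hβ : Set.range β.left ⊆ O
  hK : CompactSpace ↥K.left
  hα : IsOpen (Set.range α.left)

theorem exists_localChart {X : Sp S} {U T : Over S} (p : (yon S).obj U ⟶ X)
    (hp : RepWith @Etale p) (hs : RepWith @Surjective p) (a : (yon S).obj T ⟶ X) (t : ↥T.left) :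
    ∃ L : LocalChart p a, t ∈ Set.range L.α.left := by
  have sq := hp.rep.isPullback' a
  have hαe : Etale (hp.rep.snd a).left := hp.property_snd a
  have hαs : Surjective (hp.rep.snd a).left := hs.property a _ _ (hp.rep.isPullback a)
  obtain ⟨z, hz⟩ := hαs.surj t
  obtain ⟨_, ⟨O, hO, rfl⟩, huO, -⟩ := U.left.isBasis_affineOpens.exists_subset_of_mem_open
    (Set.mem_univ ((hp.rep.fst' a).left z)) isOpen_univ
  obtain ⟨_, ⟨A, hA, rfl⟩, hzA, hAO⟩ :=
    (hp.rep.pullback a).left.isBasis_affineOpens.exists_subset_of_mem_open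
      (show z ∈ ((hp.rep.fst' a).left ⁻¹ᵁ O : Set _) from huO) ((hp.rep.fst' a).left ⁻¹ᵁ O).isOpen
  let K : Over S := Over.mk (Scheme.Opens.ι A ≫ (hp.rep.pullback a).hom)
  let κ : K ⟶ hp.rep.pullback a := Over.homMk (Scheme.Opens.ι A) rfl
  refine ⟨⟨K, κ ≫ hp.rep.snd a, κ ≫ hp.rep.fst' a, ?_, O, hO, ?_,
    isCompact_iff_compactSpace.mp hA.isCompact, ?_⟩, ⟨(⟨z, hzA⟩ : ↥(Scheme.Opens.toScheme A)), hz⟩⟩
  · simp only [Functor.map_comp, Category.assoc, sq.w]
  · rintro _ ⟨y, rfl⟩
    exact hAO y.2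
  · have : Etale (κ ≫ hp.rep.snd a).left := by
      show Etale (Scheme.Opens.ι A ≫ (hp.rep.snd a).left)
      infer_instance
    exact (κ ≫ hp.rep.snd a).left.isOpenMap.isOpen_range

theorem exists_compact_of_localCharts (X : Space S) (hN : IsLocNoethSp X.obj)
    (hX : IsDecent X.obj) {U T1 T2 P : Over S} (p : (yon S).obj U ⟶ X.obj) (hp : RepWith @Etale p)
    (a : (yon S).obj T1 ⟶ X.obj) (b : (yon S).obj T2 ⟶ X.obj) (fst : P ⟶ T1) (snd : P ⟶ T2)
    (hP : IsPullback ((yon S).map fst) ((yon S).map snd) a b)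
    (L1 : LocalChart p a) (L2 : LocalChart p b) :
    ∃ C : Set ↥P.left, IsCompact C ∧
      fst.left ⁻¹' Set.range L1.α.left ∩ snd.left ⁻¹' Set.range L2.α.left ⊆ C := by
  have := L1.hK
  have := L2.hK
  have hQ1 := IsPullback.of_hasPullback fst L1.α
  have hQ2 := IsPullback.of_hasPullback (pullback.fst fst L1.α ≫ snd) L2.α
  have hQ1' : IsPullback ((yon S).map (pullback.snd fst L1.α))
      ((yon S).map (pullback.fst fst L1.α) ≫ (yon S).map snd)
      ((yon S).map L1.α ≫ a) b :=
    (hQ1.map (yon S)).flip.paste_vert hP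
  have hQ2' : IsPullback
      ((yon S).map (pullback.fst (pullback.fst fst L1.α ≫ snd) L2.α) ≫
        (yon S).map (pullback.snd fst L1.α))
      ((yon S).map (pullback.snd (pullback.fst fst L1.α ≫ snd) L2.α))
      ((yon S).map L1.α ≫ a) ((yon S).map L2.α ≫ b) := by
    have h1 := hQ2.map (yon S)
    rw [Functor.map_comp] at h1
    exact h1.paste_horiz hQ1'
  rw [L1.hab, L2.hab, ← Functor.map_comp] at hQ2'
  have hc : CompactSpace ↥(pullback (pullback.fst fst L1.α ≫ snd) L2.α).left :=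
    compactSpace_pullback_of_two_affine X hN hX p hp L1.O L2.O L1.hO L2.hO L1.β L2.β L1.hβ L2.hβ
      _ _ hQ2'
  refine ⟨Set.range ((pullback.fst (pullback.fst fst L1.α ≫ snd) L2.α).left ≫
    (pullback.fst fst L1.α).left), isCompact_range (Scheme.Hom.continuous _), ?_⟩
  rintro x ⟨⟨y1, hy1⟩, ⟨y2, hy2⟩⟩
  obtain ⟨q1, hq1a⟩ : ∃ q1 : ↥(pullback fst L1.α).left, (pullback.fst fst L1.α).left q1 = x := by
    obtain ⟨q, h, -⟩ := AlgebraicGeometry.Scheme.exists_preimage_of_isPullback
      (hQ1.map (Over.forget S)) x y1 hy1.symm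
    exact ⟨q, h⟩
  obtain ⟨q2, hq2a⟩ : ∃ q2 : ↥(pullback (pullback.fst fst L1.α ≫ snd) L2.α).left,
      (pullback.fst (pullback.fst fst L1.α ≫ snd) L2.α).left q2 = q1 := by
    obtain ⟨q, h, -⟩ := AlgebraicGeometry.Scheme.exists_preimage_of_isPullback
      (hQ2.map (Over.forget S)) q1 y2 (by
        show snd.left ((pullback.fst fst L1.α).left q1) = _
        rw [hq1a]
        exact hy2.symm)
    exact ⟨q, h⟩
  refine ⟨q2, ?_⟩
  rw [Scheme.Hom.comp_apply, hq2a, hq1a]

/-- A locally Noetherian decent algebraic space is quasi-separated. -/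
theorem isQuasiSeparatedSp_of_isLocNoethSp_of_isDecent (X : Space S) (hN : IsLocNoethSp X.obj)
    (hX : IsDecent X.obj) : IsQuasiSeparatedSp X.obj := by
  obtain ⟨U, p, hp, hs, -⟩ := id hN
  apply Groth.Agent.S10184.result X
  intro T1 T2 P a b fst snd hT1 hT2 hP
  have := hT1
  have := hT2
  choose L1 hL1 using exists_localChart p hp hs a
  choose L2 hL2 using exists_localChart p hp hs b
  obtain ⟨F1, hF1⟩ := isCompact_univ.elim_finite_subcover (fun t => Set.range (L1 t).α.left)
    (fun t => (L1 t).hα) (fun t _ => Set.mem_iUnion.2 ⟨t, hL1 t⟩)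
  obtain ⟨F2, hF2⟩ := isCompact_univ.elim_finite_subcover (fun t => Set.range (L2 t).α.left)
    (fun t => (L2 t).hα) (fun t _ => Set.mem_iUnion.2 ⟨t, hL2 t⟩)
  choose C hC1 hC2 using fun t1 t2 =>
    exists_compact_of_localCharts X hN hX p hp a b fst snd hP (L1 t1) (L2 t2)
  have hK : IsCompact (⋃ t1 ∈ F1, ⋃ t2 ∈ F2, C t1 t2) :=
    F1.isCompact_biUnion fun t1 _ => F2.isCompact_biUnion fun t2 _ => hC1 t1 t2
  refine ⟨?_⟩
  convert hK
  symm
  rw [Set.eq_univ_iff_forall]
  intro x
  have h1 := hF1 (Set.mem_univ (fst.left x))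
  have h2 := hF2 (Set.mem_univ (snd.left x))
  simp only [Set.mem_iUnion, exists_prop] at h1 h2
  obtain ⟨t1, ht1F, ht1⟩ := h1
  obtain ⟨t2, ht2F, ht2⟩ := h2
  simp only [Set.mem_iUnion, exists_prop]
  exact ⟨t1, ht1F, t2, ht2F, hC2 t1 t2 ⟨ht1, ht2⟩⟩

end Groth.Agent.Lib.Helper30.LocNoethQs
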