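import Groth.Agent.Lib.Helper30.HPEtLocal
import Groth.Agent.Lib.Helper46.LocPChart
import Groth.Agent.Lib.Helper37.AlgSpPoints

/-!
# Pointwise chart criterion for `AlgSp.LocP`

For `Q` étale local on the source-and-target and Zariski local on the source, a morphism `f` of
algebraic spaces has `Q` chart-wise as soon as every point of `|X|` lies in the image of the source
chart of *some* chart diagram whose top arrow has `Q`.
-/

set_option autoImplicit false
universe u
open CategoryTheory CategoryTheory.Limits AlgebraicGeometry Opposite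

namespace Groth.Agent.Lib.Helper30.LocPPointwise

open AlgSp Groth.Agent.Lib.Helper36.AlgSpCharts Groth.Agent.Lib.Helper46
open Groth.Agent.Lib.Helper37.AlgSpPoints

variable {Q : MorphismProperty Scheme.{u}}

set_option backward.isDefEq.respectTransparency false in
/-- Family form of `EtLocal.of_cover`. -/
theorem of_family (hQ : EtLocal Q) [IsZariskiLocalAtSource Q] {U V : Scheme.{u}} (q : U ⟶ V)
    (H : ∀ x : U, ∃ (E : Scheme.{u}) (e : E ⟶ U), Etale e ∧ Q (e ≫ q) ∧ x ∈ Set.range e) :
    Q q := by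
  choose E e he heq hx using H
  let χ : (∐ E) ⟶ U := Sigma.desc e
  have hχ : Etale χ := IsZariskiLocalAtSource.sigmaDesc (P := @Etale) he
  have hχs : Surjective χ := by
    refine ⟨fun x => ?_⟩
    obtain ⟨u, hu⟩ := hx x
    refine ⟨Sigma.ι E x u, ?_⟩
    rw [← Scheme.Hom.comp_apply, Sigma.ι_desc]
    exact hu
  have hχq : Q (χ ≫ q) := by
    have : χ ≫ q = Sigma.desc fun x => e x ≫ q := by
      apply Sigma.hom_ext
      intro x
      simp [χ]
    rw [this]
    exact IsZariskiLocalAtSource.sigmaDesc (P := Q) heq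
  exact hQ.of_cover χ q hχ hχs hχq

variable {S : Scheme.{u}}

/-- **Pointwise chart criterion.** -/
theorem locP_of_pointwise_charts (hQ : EtLocal Q) [IsZariskiLocalAtSource Q] {X Y : Sp S}
    (f : X ⟶ Y)
    (H : ∀ x : Points X, ∃ (U V : Over S) (a : (yon S).obj U ⟶ X) (b : (yon S).obj V ⟶ Y)
      (h : U ⟶ V) (u : ↥U.left), RepWith @Etale a ∧ RepWith @Etale b ∧
        a ≫ f = (yon S).map h ≫ b ∧ Points.ofPt a u = x ∧ Q h.left) : LocP Q f := by
  intro U' V' a' b' h' ha' hb' comm'
  refine of_family hQ h'.left fun u' => ?_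
  obtain ⟨U, V, a, b, h, u, ha, hb, comm, hux, hh⟩ := H (Points.ofPt a' u')
  obtain ⟨E, p1, p2, sqU⟩ := exists_isPullback_yon a' a ha.rep
  have hp1 : Etale p1.left := prop_fst_of_isPullback sqU ha
  have hp2 : Etale p2.left := prop_snd_of_isPullback sqU ha'
  obtain ⟨V'', r1, r2, sqV⟩ := exists_isPullback_yon b' b hb.rep
  have hr1 : Etale r1.left := prop_fst_of_isPullback sqV hb
  have hr2 : Etale r2.left := prop_snd_of_isPullback sqV hb'
  obtain ⟨k', hk1, hk2⟩ := sqV.exists_lift ((yon S).map (p1 ≫ h')) ((yon S).map (p2 ≫ h)) (by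
    rw [Functor.map_comp, Category.assoc, ← comm', ← Category.assoc, sqU.w, Category.assoc, comm,
      Functor.map_comp, Category.assoc])
  obtain ⟨k, rfl⟩ := (yon S).map_surjective k'
  have e1 : k ≫ r1 = p1 ≫ h' := (yon S).map_injective (by simpa using hk1)
  have e2 : k ≫ r2 = p2 ≫ h := (yon S).map_injective (by simpa using hk2)
  have q2 : Q (k.left ≫ r2.left) := by
    rw [← Over.comp_left, e2, Over.comp_left]
    exact hQ.precomp _ _ hp2 hh
  have hk : Q k.left := hQ.cancel _ _ hr2 q2
  have q1 : Q (p1.left ≫ h'.left) := by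
    rw [← Over.comp_left, ← e1, Over.comp_left]
    exact hQ.postcomp _ _ hr1 hk
  obtain ⟨r, hr1', -⟩ := (ofPt_eq_ofPt_iff sqU u' u).1 hux.symm
  exact ⟨E.left, p1.left, hp1, q1, r, hr1'⟩

end Groth.Agent.Lib.Helper30.LocPPointwise
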