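import Mathlib.Topology.Sober
import Mathlib.Topology.NoetherianSpace
import Mathlib.Topology.Inseparable

set_option autoImplicit false

namespace Groth.Agent.Lib.Helper30

open TopologicalSpace

variable {α : Type*} [TopologicalSpace α]

theorem exists_open_subset_closure_of_noetherian_nhd [QuasiSober α]
    (y ζ : α) (hζ : ∀ y' : α, y' ⤳ y → ζ ⤳ y')
    (U₀ : Set α) (hU₀ : IsOpen U₀) (hyU₀ : y ∈ U₀) [NoetherianSpace ↥U₀] :
    ∃ V : Set α, IsOpen V ∧ y ∈ V ∧ V ⊆ U₀ ∧ V ⊆ closure {ζ} := by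
  have hfin : (irreducibleComponents ↥U₀).Finite := NoetherianSpace.finite_irreducibleComponents
  let y₀ : ↥U₀ := ⟨y, hyU₀⟩
  let Bad : Set (Set ↥U₀) := {Z ∈ irreducibleComponents ↥U₀ | y₀ ∉ Z}
  have hBadfin : Bad.Finite := hfin.subset (fun Z hZ => hZ.1)
  let B : Set ↥U₀ := ⋃₀ Bad
  have hBclosed : IsClosed B := by
    show IsClosed (⋃₀ Bad)
    rw [Set.sUnion_eq_biUnion]
    exact hBadfin.isClosed_biUnion (fun Z hZ => isClosed_of_mem_irreducibleComponents Z hZ.1)
  have hyB : y₀ ∉ B := by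
    rintro ⟨Z, hZ, hyZ⟩
    exact hZ.2 hyZ
  refine ⟨Subtype.val '' Bᶜ, hU₀.isOpenMap_subtype_val _ hBclosed.isOpen_compl,
    ⟨y₀, hyB, rfl⟩, ?_, ?_⟩
  · rintro _ ⟨v, -, rfl⟩
    exact v.2
  · rintro _ ⟨v, hvB, rfl⟩
    have hqs : QuasiSober ↥U₀ := hU₀.isOpenEmbedding_subtypeVal.quasiSober
    let Z := irreducibleComponent v
    have hZ : Z ∈ irreducibleComponents ↥U₀ := irreducibleComponent_mem_irreducibleComponents v
    have hvZ : v ∈ Z := mem_irreducibleComponent
    have hyZ : y₀ ∈ Z := by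
      by_contra hyZ
      exact hvB ⟨Z, ⟨hZ, hyZ⟩, hvZ⟩
    obtain ⟨z, hz⟩ := QuasiSober.sober hZ.1 (isClosed_of_mem_irreducibleComponents Z hZ)
    have h1 : z ⤳ y₀ := hz.specializes hyZ
    have h2 : z ⤳ v := hz.specializes hvZ
    have h1' : (z : α) ⤳ y := h1.map continuous_subtype_val
    have h2' : (z : α) ⤳ (v : α) := h2.map continuous_subtype_val
    have h3 : ζ ⤳ (v : α) := (hζ z h1').trans h2'
    exact specializes_iff_mem_closure.mp h3

theorem isIrreducible_of_subset_closure_singleton {V : Set α} {ζ : α} (hζV : ζ ∈ V)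
    (hV : V ⊆ closure {ζ}) : IsIrreducible V := by
  have h1 : closure V = closure {ζ} := by
    apply subset_antisymm
    · exact closure_minimal hV isClosed_closure
    · exact closure_mono (Set.singleton_subset_iff.mpr hζV)
  rw [← isIrreducible_iff_closure, h1]
  exact isIrreducible_singleton.closure

end Groth.Agent.Lib.Helper30
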