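import Mathlib

set_option autoImplicit false
universe w v₁ u₁
open CategoryTheory CategoryTheory.Limits Opposite

namespace Groth.Agent.Lib.Helper30.PairGlue

variable {C : Type u₁} [Category.{v₁} C] {J : GrothendieckTopology C}

/-- The pair `π₁, π₂` generates a covering sieve. -/
def PairCovers (J : GrothendieckTopology C) {W Y₁ Y₂ : C} (π₁ : Y₁ ⟶ W) (π₂ : Y₂ ⟶ W) : Prop :=
  ∃ R₀ ∈ J W, ∀ ⦃Z : C⦄ (φ : Z ⟶ W), R₀ φ → (∃ h : Z ⟶ Y₁, h ≫ π₁ = φ) ∨ (∃ h : Z ⟶ Y₂, h ≫ π₂ = φ)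

variable {P : Cᵒᵖ ⥤ Type w} {W Y₁ Y₂ : C} {π₁ : Y₁ ⟶ W} {π₂ : Y₂ ⟶ W}

theorem ext_pair (hP : Presieve.IsSheaf J P) (hcov : PairCovers J π₁ π₂) (t t' : P.obj (op W))
    (h₁ : P.map π₁.op t = P.map π₁.op t') (h₂ : P.map π₂.op t = P.map π₂.op t') : t = t' := by
  obtain ⟨R₀, hR₀, hl⟩ := hcov
  refine (hP _ hR₀).isSeparatedFor.ext ?_
  intro Z φ hφ
  rcases hl φ hφ with ⟨h, rfl⟩ | ⟨h, rfl⟩
  · rw [op_comp, Functor.map_comp_apply, Functor.map_comp_apply, h₁]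
  · rw [op_comp, Functor.map_comp_apply, Functor.map_comp_apply, h₂]

section Glue

variable (π₁ π₂) (x₁ : P.obj (op Y₁)) (x₂ : P.obj (op Y₂))

/-- `z` is the value of the glued section along `φ`. -/
def Val {Z : C} (φ : Z ⟶ W) (z : P.obj (op Z)) : Prop :=
  (∃ h : Z ⟶ Y₁, h ≫ π₁ = φ ∧ P.map h.op x₁ = z) ∨ (∃ h : Z ⟶ Y₂, h ≫ π₂ = φ ∧ P.map h.op x₂ = z)

variable {π₁ π₂ x₁ x₂}

theorem Val.res {Z Z' : C} {φ : Z ⟶ W} {z : P.obj (op Z)} (h : Val π₁ π₂ x₁ x₂ φ z) (ψ : Z' ⟶ Z) :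
    Val π₁ π₂ x₁ x₂ (ψ ≫ φ) (P.map ψ.op z) := by
  rcases h with ⟨h, rfl, rfl⟩ | ⟨h, rfl, rfl⟩
  · exact Or.inl ⟨ψ ≫ h, Category.assoc _ _ _, by rw [op_comp, Functor.map_comp_apply]⟩
  · exact Or.inr ⟨ψ ≫ h, Category.assoc _ _ _, by rw [op_comp, Functor.map_comp_apply]⟩

variable
  (h11 : ∀ ⦃Z : C⦄ (g g' : Z ⟶ Y₁), g ≫ π₁ = g' ≫ π₁ → P.map g.op x₁ = P.map g'.op x₁)
  (h12 : ∀ ⦃Z : C⦄ (g : Z ⟶ Y₁) (g' : Z ⟶ Y₂), g ≫ π₁ = g' ≫ π₂ → P.map g.op x₁ = P.map g'.op x₂)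
  (h22 : ∀ ⦃Z : C⦄ (g g' : Z ⟶ Y₂), g ≫ π₂ = g' ≫ π₂ → P.map g.op x₂ = P.map g'.op x₂)

include h11 h12 h22 in
theorem Val.unique {Z : C} {φ : Z ⟶ W} {z z' : P.obj (op Z)} (h : Val π₁ π₂ x₁ x₂ φ z)
    (h' : Val π₁ π₂ x₁ x₂ φ z') : z = z' := by
  rcases h with ⟨h, e, rfl⟩ | ⟨h, e, rfl⟩ <;> rcases h' with ⟨h', e', rfl⟩ | ⟨h', e', rfl⟩
  · exact h11 _ _ (e.trans e'.symm)
  · exact h12 _ _ (e.trans e'.symm)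
  · exact (h12 _ _ (e'.trans e.symm)).symm
  · exact h22 _ _ (e.trans e'.symm)

include h11 h12 h22 in
/-- Gluing two sections along a covering pair. -/
theorem glue_pair (hP : Presieve.IsSheaf J P) (hcov : PairCovers J π₁ π₂) :
    ∃ t : P.obj (op W), P.map π₁.op t = x₁ ∧ P.map π₂.op t = x₂ := by
  obtain ⟨R₀, hR₀, hl⟩ := hcov
  let S₀ : Sieve W :=
    { arrows := fun Z φ => ∃ z, Val π₁ π₂ x₁ x₂ φ z
      downward_closed := by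
        rintro Y Y' φ ⟨z, hz⟩ ψ
        exact ⟨_, hz.res ψ⟩ }
  have hS₀ : S₀ ∈ J W := by
    refine J.superset_covering ?_ hR₀
    intro Z φ hφ
    rcases hl φ hφ with ⟨h, rfl⟩ | ⟨h, rfl⟩
    · exact ⟨_, Or.inl ⟨h, rfl, rfl⟩⟩
    · exact ⟨_, Or.inr ⟨h, rfl, rfl⟩⟩
  have h1 : Presieve.IsSheafFor P S₀.arrows := hP _ hS₀
  let fam : Presieve.FamilyOfElements P S₀.arrows := fun Z φ hφ => Classical.choose hφ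
  have hfam : ∀ ⦃Z : C⦄ (φ : Z ⟶ W) (hφ : S₀.arrows φ), Val π₁ π₂ x₁ x₂ φ (fam φ hφ) :=
    fun Z φ hφ => Classical.choose_spec hφ
  have hcompat : fam.Compatible := by
    intro Z₁ Z₂ Z g₁ g₂ f₁ f₂ hf₁ hf₂ hcomm
    have e₁ := (hfam f₁ hf₁).res g₁
    have e₂ := (hfam f₂ hf₂).res g₂
    rw [hcomm] at e₁
    exact e₁.unique h11 h12 h22 e₂
  refine ⟨h1.amalgamate fam hcompat, ?_, ?_⟩
  · have hφ : S₀.arrows π₁ := ⟨x₁, Or.inl ⟨𝟙 _, Category.id_comp _, by simp⟩⟩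
    rw [h1.valid_glue hcompat π₁ hφ]
    exact (hfam π₁ hφ).unique h11 h12 h22 (Or.inl ⟨𝟙 _, Category.id_comp _, by simp⟩)
  · have hφ : S₀.arrows π₂ := ⟨x₂, Or.inr ⟨𝟙 _, Category.id_comp _, by simp⟩⟩
    rw [h1.valid_glue hcompat π₂ hφ]
    exact (hfam π₂ hφ).unique h11 h12 h22 (Or.inr ⟨𝟙 _, Category.id_comp _, by simp⟩)

end Glue

end Groth.Agent.Lib.Helper30.PairGlue
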