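import Mathlib
import Groth.Agent.Lib.Helper30.PairGlue

set_option autoImplicit false
set_option backward.isDefEq.respectTransparency false
universe w v₁ u₁
open CategoryTheory CategoryTheory.Limits Opposite

namespace Groth.Agent.Lib.Helper30.MVAbs

open Groth.Agent.Lib.Helper30.PairGlue

variable {C : Type u₁} [Category.{v₁} C] [HasBinaryProducts C]

/-- Abstract Mayer–Vietoris data on a site with binary products: `U` is subterminal, `Q = U × V`, every object is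
covered by objects mapping to `U` or `V`, and two maps to `V` agree locally away from `U`. -/
structure MVData (J : GrothendieckTopology C) {U V Q : C} (p₁ : Q ⟶ U) (p₂ : Q ⟶ V) : Prop where
  lim : Nonempty (IsLimit (BinaryFan.mk p₁ p₂))
  sub : ∀ ⦃T : C⦄ (a b : T ⟶ U), a = b
  cov : ∀ W : C, ∃ R₀ ∈ J W, ∀ ⦃Z : C⦄ (φ : Z ⟶ W), R₀ φ → Nonempty (Z ⟶ U) ∨ Nonempty (Z ⟶ V)
  diag : ∀ ⦃Z : C⦄ (v₁ v₂ : Z ⟶ V), ∃ R₁ ∈ J Z, ∀ ⦃Z' : C⦄ (ψ : Z' ⟶ Z), R₁ ψ →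
    ψ ≫ v₁ = ψ ≫ v₂ ∨ Nonempty (Z' ⟶ U)

variable {J : GrothendieckTopology C} {U V Q : C} {p₁ : Q ⟶ U} {p₂ : Q ⟶ V}

namespace MVData

variable (h : MVData J p₁ p₂)

/-- The map to `Q` with given components. -/
noncomputable def q {T : C} (a : T ⟶ U) (b : T ⟶ V) : T ⟶ Q :=
  (Classical.choice h.lim).lift (BinaryFan.mk a b)

@[reassoc (attr := simp)]
theorem q_p₂ {T : C} (a : T ⟶ U) (b : T ⟶ V) : h.q a b ≫ p₂ = b :=
  (Classical.choice h.lim).fac (BinaryFan.mk a b) ⟨WalkingPair.right⟩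

include h in
theorem Q_ext {T : C} {f g : T ⟶ Q} (e : f ≫ p₂ = g ≫ p₂) : f = g :=
  BinaryFan.IsLimit.hom_ext (Classical.choice h.lim) (h.sub _ _) e

include h in
theorem UW_ext {T W : C} {f g : T ⟶ U ⨯ W} (e : f ≫ prod.snd = g ≫ prod.snd) : f = g :=
  Limits.prod.hom_ext (h.sub _ _) e

include h in
theorem QW_ext {T W : C} {f g : T ⟶ Q ⨯ W} (e₁ : f ≫ prod.fst ≫ p₂ = g ≫ prod.fst ≫ p₂)
    (e₂ : f ≫ prod.snd = g ≫ prod.snd) : f = g :=
  Limits.prod.hom_ext (h.Q_ext (by simpa using e₁)) e₂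

include h in
theorem pairCovers (W : C) : PairCovers J (prod.snd : U ⨯ W ⟶ W) (prod.snd : V ⨯ W ⟶ W) := by
  obtain ⟨R₀, hR₀, hl⟩ := h.cov W
  refine ⟨R₀, hR₀, fun Z φ hφ => ?_⟩
  rcases hl φ hφ with ⟨⟨u⟩⟩ | ⟨⟨v⟩⟩
  · exact Or.inl ⟨prod.lift u φ, by simp⟩
  · exact Or.inr ⟨prod.lift v φ, by simp⟩

include h in
theorem pairCovers_diag {Z : C} (v : Z ⟶ V) :
    PairCovers J (prod.lift v (𝟙 Z) : Z ⟶ V ⨯ Z) (prod.snd : U ⨯ (V ⨯ Z) ⟶ V ⨯ Z) := by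
  obtain ⟨R₁, hR₁, hl⟩ := h.diag (prod.fst : V ⨯ Z ⟶ V) (prod.snd ≫ v)
  refine ⟨R₁, hR₁, fun Z' ψ hψ => ?_⟩
  rcases hl ψ hψ with e | ⟨⟨u⟩⟩
  · refine Or.inl ⟨ψ ≫ prod.snd, ?_⟩
    apply Limits.prod.hom_ext
    · simp only [Category.assoc, prod.lift_fst]
      exact e.symm
    · simp
  · exact Or.inr ⟨prod.lift u ψ, by simp⟩

end MVData

section Ab

variable (P : Cᵒᵖ ⥤ AddCommGrpCat.{w})

theorem mapc {A B D : C} (f : A ⟶ B) (g : B ⟶ D) (x : P.obj (op D)) :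
    P.map (f ≫ g).op x = P.map f.op (P.map g.op x) := by
  rw [op_comp, P.map_comp]
  rfl

theorem map_congr {A B : C} {f g : A ⟶ B} (e : f = g) (x : P.obj (op B)) :
    P.map f.op x = P.map g.op x := by rw [e]

variable {P} (hP : Presieve.IsSheaf J (P ⋙ forget AddCommGrpCat.{w})) (h : MVData J p₁ p₂)

include hP h in
/-- Joint injectivity of the two restrictions. -/
theorem inj (W : C) (x : P.obj (op W)) (hU : P.map (prod.snd : U ⨯ W ⟶ W).op x = 0)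
    (hV : P.map (prod.snd : V ⨯ W ⟶ W).op x = 0) : x = 0 := by
  refine ext_pair (P := P ⋙ forget _) hP (h.pairCovers W) x 0 ?_ ?_
  · change P.map _ x = P.map _ 0
    rw [map_zero]; exact hU
  · change P.map _ x = P.map _ 0
    rw [map_zero]; exact hV

include hP h in
/-- Gluing sections over `U × W` and `V × W` agreeing over `Q × W`. -/
theorem glue (W : C) (a : P.obj (op (U ⨯ W))) (b : P.obj (op (V ⨯ W)))
    (e : P.map (prod.map p₁ (𝟙 W)).op a = P.map (prod.map p₂ (𝟙 W)).op b) :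
    ∃ x : P.obj (op W), P.map (prod.snd : U ⨯ W ⟶ W).op x = a ∧
      P.map (prod.snd : V ⨯ W ⟶ W).op x = b := by
  have key : ∀ ⦃Z : C⦄ (u : Z ⟶ U) (g : Z ⟶ V ⨯ W),
      P.map g.op b = P.map (prod.lift u (g ≫ prod.snd)).op a := by
    intro Z u g
    have e1 : prod.lift (h.q u (g ≫ prod.fst)) (g ≫ prod.snd) ≫ prod.map p₂ (𝟙 W) = g := by
      apply Limits.prod.hom_ext <;> simp
    have e2 : prod.lift (h.q u (g ≫ prod.fst)) (g ≫ prod.snd) ≫ prod.map p₁ (𝟙 W) =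
        prod.lift u (g ≫ prod.snd) := h.UW_ext (by simp)
    rw [← map_congr P e1, ← map_congr P e2, mapc, mapc, e]
  refine glue_pair (P := P ⋙ forget _) (x₁ := a) (x₂ := b) ?_ ?_ ?_ hP
    (h.pairCovers W)
  · intro Z g g' e'
    rw [h.UW_ext e']
  · intro Z g g' e'
    change P.map g.op a = P.map g'.op b
    rw [key (g ≫ prod.fst) g', ← e']
    exact map_congr P (h.UW_ext (by simp)) a
  · intro Z g g' e'
    change P.map g.op b = P.map g'.op b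
    obtain ⟨R₁, hR₁, hl⟩ := h.diag (g ≫ prod.fst) (g' ≫ prod.fst)
    refine (hP _ hR₁).isSeparatedFor.ext ?_
    intro Z' ψ hψ
    change P.map ψ.op (P.map g.op b) = P.map ψ.op (P.map g'.op b)
    rw [← mapc, ← mapc]
    rcases hl ψ hψ with e'' | ⟨⟨u⟩⟩
    · refine map_congr P ?_ b
      apply Limits.prod.hom_ext
      · simpa using e''
      · simp only [Category.assoc, e']
    · rw [key u (ψ ≫ g), key u (ψ ≫ g')]
      refine map_congr P (h.UW_ext ?_) a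
      simp only [prod.lift_snd, Category.assoc, e']

include hP h in
/-- Local surjectivity of the difference map. -/
theorem lsurj (W : C) (t : P.obj (op (Q ⨯ W))) :
    ∃ R₀ ∈ J W, ∀ ⦃Z : C⦄ (φ : Z ⟶ W), R₀ φ →
      ∃ (a : P.obj (op (U ⨯ Z))) (b : P.obj (op (V ⨯ Z))),
        P.map (prod.map p₁ (𝟙 Z)).op a - P.map (prod.map p₂ (𝟙 Z)).op b =
          P.map (prod.map (𝟙 Q) φ).op t := by
  obtain ⟨R₀, hR₀, hl⟩ := h.cov W
  refine ⟨R₀, hR₀, fun Z φ hφ => ?_⟩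
  rcases hl φ hφ with ⟨⟨u⟩⟩ | ⟨⟨v⟩⟩
  · refine ⟨0, - P.map (prod.lift (h.q (prod.snd ≫ u) prod.fst) (prod.snd ≫ φ) :
      V ⨯ Z ⟶ Q ⨯ W).op t, ?_⟩
    rw [map_zero, map_neg, zero_sub, neg_neg, ← mapc]
    refine map_congr P (h.QW_ext ?_ ?_) t
    · simp
    · simp
  · let γ : U ⨯ Z ⟶ Q ⨯ W := prod.lift (h.q prod.fst (prod.snd ≫ v)) (prod.snd ≫ φ)
    let α : U ⨯ (V ⨯ Z) ⟶ Q ⨯ W :=
      prod.lift (h.q prod.fst (prod.snd ≫ prod.snd ≫ v)) (prod.snd ≫ prod.snd ≫ φ)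
    let β : U ⨯ (V ⨯ Z) ⟶ Q ⨯ W :=
      prod.lift (h.q prod.fst (prod.snd ≫ prod.fst)) (prod.snd ≫ prod.snd ≫ φ)
    have h11 : ∀ ⦃Z' : C⦄ (g g' : Z' ⟶ Z), g ≫ prod.lift v (𝟙 Z) = g' ≫ prod.lift v (𝟙 Z) →
        (P ⋙ forget _).map g.op (0 : P.obj (op Z)) = (P ⋙ forget _).map g'.op (0 : P.obj (op Z)) := by
      intro Z' g g' _
      change P.map g.op 0 = P.map g'.op 0
      rw [map_zero, map_zero]
    have h12 : ∀ ⦃Z' : C⦄ (g : Z' ⟶ Z) (g' : Z' ⟶ U ⨯ (V ⨯ Z)),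
        g ≫ prod.lift v (𝟙 Z) = g' ≫ prod.snd →
        (P ⋙ forget _).map g.op (0 : P.obj (op Z)) =
          (P ⋙ forget _).map g'.op (P.map α.op t - P.map β.op t : P.obj (op (U ⨯ (V ⨯ Z)))) := by
      intro Z' g g' e'
      change P.map g.op 0 = P.map g'.op (P.map α.op t - P.map β.op t)
      rw [map_zero, map_sub, ← mapc, ← mapc]
      have e4 : g' ≫ α = g' ≫ β := by
        refine h.QW_ext ?_ (by simp [α, β])
        have e5 : g' ≫ prod.snd ≫ prod.fst = g ≫ v := by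
          rw [← Category.assoc, ← e']; simp
        have e6 : g' ≫ prod.snd ≫ prod.snd = g := by
          rw [← Category.assoc, ← e']; simp
        have e7 : g' ≫ prod.snd ≫ prod.snd ≫ v = g ≫ v := by
          rw [← Category.assoc, ← Category.assoc, Category.assoc g', e6]
        simp only [α, β, Category.assoc, prod.lift_fst_assoc, MVData.q_p₂]
        rw [e7, e5]
      rw [map_congr P e4 t, sub_self]
    have h22 : ∀ ⦃Z' : C⦄ (g g' : Z' ⟶ U ⨯ (V ⨯ Z)), g ≫ prod.snd = g' ≫ prod.snd →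
        (P ⋙ forget _).map g.op (P.map α.op t - P.map β.op t : P.obj (op (U ⨯ (V ⨯ Z)))) =
          (P ⋙ forget _).map g'.op (P.map α.op t - P.map β.op t : P.obj (op (U ⨯ (V ⨯ Z)))) := by
      intro Z' g g' e'
      rw [h.UW_ext e']
    obtain ⟨b, -, hb2⟩ := glue_pair (P := P ⋙ forget _) h11 h12 h22 hP (h.pairCovers_diag v)
    have hb2' : P.map (prod.snd : U ⨯ (V ⨯ Z) ⟶ V ⨯ Z).op b = P.map α.op t - P.map β.op t := hb2
    refine ⟨P.map γ.op t, b, ?_⟩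
    let σ : Q ⨯ Z ⟶ U ⨯ (V ⨯ Z) := prod.lift (prod.fst ≫ p₁) (prod.map p₂ (𝟙 Z))
    have e1 : prod.map p₂ (𝟙 Z) = σ ≫ prod.snd := by simp [σ]
    have e2 : σ ≫ α = prod.map p₁ (𝟙 Z) ≫ γ := h.QW_ext (by simp [σ, α, γ]) (by simp [σ, α, γ])
    have e3 : σ ≫ β = prod.map (𝟙 Q) φ := h.QW_ext (by simp [σ, β]) (by simp [σ, β])
    rw [map_congr P e1 b, mapc, hb2', map_sub, ← mapc, ← mapc, ← mapc, map_congr P e2 t,
      map_congr P e3 t]
    abel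

end Ab

end Groth.Agent.Lib.Helper30.MVAbs
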