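import Groth.Agent.Lib.Helper30.ElemDistSq
import Groth.Agent.Lib.Helper30.MVAbs
import Groth.Agent.Lib.Helper30.EtaleSection
import Groth.Prelude.Def_AlgSpEt

/-!
# Elementary distinguished squares give Mayer–Vietoris data on the small étale site (helper30)
-/

set_option autoImplicit false
set_option backward.isDefEq.respectTransparency false
universe u
open CategoryTheory CategoryTheory.Limits AlgebraicGeometry Opposite

namespace Groth.Agent.Lib.Helper30.MVEt

open AlgSp Groth.Agent.Lib.Helper30.ElemDistSq Groth.Agent.Lib.Helper30.MVAbs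
open Groth.Agent.Lib.Helper30.PairGlue Groth.Agent.Lib.Helper37.AlgSpPoints

variable {S : Scheme.{u}} {X : Sp S}

/-- A jointly surjective pair of morphisms of the small étale site is a covering pair. -/
theorem pairCovers_of_surj {W Y₁ Y₂ : EtOver X} (g₁ : Y₁ ⟶ W) (g₂ : Y₂ ⟶ W)
    (hc : ∀ w : ↥W.obj.left.left, w ∈ Set.range g₁.hom.left.left ∨ w ∈ Set.range g₂.hom.left.left) :
    PairCovers (etTop X) g₁ g₂ := by
  let Y : Bool → EtOver X := fun b => match b with
    | true => Y₁
    | false => Y₂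
  let g : ∀ b, Y b ⟶ W := fun b => match b with
    | true => g₁
    | false => g₂
  refine ⟨Sieve.ofArrows Y g, ofArrows_mem_etTop Y g ?_, ?_⟩
  · intro w
    rcases hc w with h | h
    · exact ⟨true, h⟩
    · exact ⟨false, h⟩
  · rintro Z φ ⟨_, h, _, ⟨⟨_ | _⟩⟩, rfl⟩
    · exact Or.inr ⟨h, rfl⟩
    · exact Or.inl ⟨h, rfl⟩

/-- In an elementary distinguished square, every point lies in the open part or lifts to the étale part. -/
theorem points_cover {U V : EtOver X} (hsq : IsElemDistSq U.obj.hom V.obj.hom) (x : Points X) :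
    x ∈ Set.range (Points.map U.obj.hom) ∨ x ∈ Set.range (Points.ofPt V.obj.hom) := by
  obtain ⟨hj, hf, T₀, P', i, p₁, p₂, hred, hpb, hiso⟩ := hsq
  by_cases hx : x ∈ Set.range (Points.map U.obj.hom)
  · exact Or.inl hx
  · right
    have hx' : x ∈ Set.range (Points.map i) := by
      rw [hred.2.1]
      exact hx
    obtain ⟨τ, rfl⟩ := hx'
    refine ⟨Points.toScheme V.obj.left (Points.map p₂ (Points.map (inv p₁) τ)), ?_⟩
    rw [Points.ofPt_eq_map_ofScheme, Points.ofScheme_toScheme, ← Points.map_comp, ← Points.map_comp,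
      ← hpb.w, IsIso.inv_hom_id_assoc]

/-- The open part of an elementary distinguished square is subterminal in the small étale site. -/
theorem hom_subsingleton {U : EtOver X} (hj : RepWith @IsOpenImmersion U.obj.hom) ⦃T : EtOver X⦄
    (a b : T ⟶ U) : a = b := by
  have : Mono U.obj.hom := Groth.Agent.Lib.Helper62.mono_of_repWith @IsOpenImmersion
    (fun f hf => by haveI := hf; infer_instance) _ hj
  exact EtOver.hom_ext _ _ ((yon S).map_injective
    ((cancel_mono U.obj.hom).1 ((EtOver.w a).trans (EtOver.w b).symm)))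

/-- Every object of the small étale site is covered by objects mapping to `U` or to `V`. -/
theorem cov {U V : EtOver X} (hsq : IsElemDistSq U.obj.hom V.obj.hom) (W : EtOver X) :
    ∃ R₀ ∈ etTop X W, ∀ ⦃Z : EtOver X⦄ (φ : Z ⟶ W), R₀ φ → Nonempty (Z ⟶ U) ∨ Nonempty (Z ⟶ V) := by
  obtain ⟨R₀, hR₀, hl⟩ := pairCovers_of_surj (EtOver.prodFst W U) (EtOver.prodFst W V) (by
    intro w
    rcases points_cover hsq (Points.ofPt W.obj.hom w) with ⟨ξ, hξ⟩ | ⟨v₀, hv₀⟩
    · exact Or.inl (exists_point_of_isPullback (U.property.1.isPullback W.obj.hom) w ξ hξ)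
    · right
      obtain ⟨r, -, hr⟩ := (ofPt_eq_ofPt_iff (V.property.1.isPullback' W.obj.hom) v₀ w).1 hv₀
      exact ⟨r, hr⟩)
  refine ⟨R₀, hR₀, fun Z φ hφ => ?_⟩
  rcases hl φ hφ with ⟨h, -⟩ | ⟨h, -⟩
  · exact Or.inl ⟨h ≫ EtOver.prodSnd W U⟩
  · exact Or.inr ⟨h ≫ EtOver.prodSnd W V⟩

/-- Two maps to the étale part agree locally, away from the open part. -/
theorem diag {U V : EtOver X} (hsq : IsElemDistSq U.obj.hom V.obj.hom) ⦃Z : EtOver X⦄ (v₁ v₂ : Z ⟶ V) :
    ∃ R₁ ∈ etTop X Z, ∀ ⦃Z' : EtOver X⦄ (ψ : Z' ⟶ Z), R₁ ψ →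
      ψ ≫ v₁ = ψ ≫ v₂ ∨ Nonempty (Z' ⟶ U) := by
  obtain ⟨hj, hf, T₀, P', i, p₁, p₂, hred, hpb, hiso⟩ := hsq
  let δ : V ⟶ EtOver.prodObj V V := (EtOver.prodIsLimit V V).lift (BinaryFan.mk (𝟙 V) (𝟙 V))
  have hδ₁ : δ ≫ EtOver.prodFst V V = 𝟙 V :=
    (EtOver.prodIsLimit V V).fac (BinaryFan.mk (𝟙 V) (𝟙 V)) ⟨WalkingPair.left⟩
  have hδ₂ : δ ≫ EtOver.prodSnd V V = 𝟙 V :=
    (EtOver.prodIsLimit V V).fac (BinaryFan.mk (𝟙 V) (𝟙 V)) ⟨WalkingPair.right⟩
  let m : Z ⟶ EtOver.prodObj V V := (EtOver.prodIsLimit V V).lift (BinaryFan.mk v₁ v₂)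
  have hm₁ : m ≫ EtOver.prodFst V V = v₁ :=
    (EtOver.prodIsLimit V V).fac (BinaryFan.mk v₁ v₂) ⟨WalkingPair.left⟩
  have hm₂ : m ≫ EtOver.prodSnd V V = v₂ :=
    (EtOver.prodIsLimit V V).fac (BinaryFan.mk v₁ v₂) ⟨WalkingPair.right⟩
  obtain ⟨R₁, hR₁, hl⟩ := pairCovers_of_surj (EtOver.pullbackSnd δ m) (EtOver.prodFst Z U) (by
    intro z
    by_cases hz : Points.ofPt Z.obj.hom z ∈ Set.range (Points.map U.obj.hom)
    · obtain ⟨ξ, hξ⟩ := hz
      exact Or.inr (exists_point_of_isPullback (U.property.1.isPullback Z.obj.hom) z ξ hξ)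
    · left
      have hrange : ∀ x : Points X, x ∈ Set.range (Points.map U.obj.hom) ∨
          x ∈ Set.range (Points.map i) := by
        intro x
        by_cases hx : x ∈ Set.range (Points.map U.obj.hom)
        · exact Or.inl hx
        · right
          rw [hred.2.1]
          exact hx
      have hR : IsPullback ((yon S).map (EtOver.prodFst V V).hom.left)
          ((yon S).map (EtOver.prodSnd V V).hom.left)
          (𝟙 ((yon S).obj V.obj.left) ≫ V.obj.hom) (𝟙 ((yon S).obj V.obj.left) ≫ V.obj.hom) := by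
        rw [Category.id_comp]
        exact (V.property.1.isPullback' V.obj.hom).flip
      have hR' : IsPullback ((yon S).map (𝟙 V.obj.left)) ((yon S).map (𝟙 V.obj.left))
          (𝟙 ((yon S).obj V.obj.left)) (𝟙 ((yon S).obj V.obj.left)) := by
        rw [(yon S).map_id]
        exact IsPullback.of_id_fst
      have hRU := U.property.1.isPullback
        ((yon S).map (EtOver.prodFst V V).hom.left ≫ 𝟙 ((yon S).obj V.obj.left) ≫ V.obj.hom)
      have : Mono p₁ := inferInstance
      rcases kernelPair_cover U.obj.hom V.obj.hom (𝟙 _) i p₁ p₂ hpb hrange hR hR' δ.hom.left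
          (congrArg (fun k => k.hom.left) hδ₁) (congrArg (fun k => k.hom.left) hδ₂) hRU
          (m.hom.left.left z) with ⟨r', hr'⟩ | ⟨v₀, hv₀⟩
      · exfalso
        apply hz
        refine ⟨Points.ofPt (U.property.1.fst _) r', ?_⟩
        have e1 : Points.map U.obj.hom (Points.ofPt (U.property.1.fst _) r') =
            Points.ofPt ((yon S).map (EtOver.prodFst V V).hom.left ≫
              𝟙 ((yon S).obj V.obj.left) ≫ V.obj.hom) (m.hom.left.left z) := by
          rw [Points.map_ofPt, hRU.w, ofPt_map_comp, hr']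
        have e2 : Points.ofPt Z.obj.hom z =
            Points.ofPt ((EtOver.prodObj V V).obj.hom) (m.hom.left.left z) := by
          rw [← EtOver.w m, ofPt_map_comp]
        rw [e1, e2, Category.id_comp]
        rfl
      · have sq := (IsPullback.of_hasPullback δ.hom.left m.hom.left).map (Over.forget S)
        obtain ⟨p, -, hp⟩ := Scheme.exists_preimage_of_isPullback sq v₀ z hv₀
        exact ⟨p, hp⟩)
  refine ⟨R₁, hR₁, fun Z' ψ hψ => ?_⟩
  rcases hl ψ hψ with ⟨h, rfl⟩ | ⟨h, -⟩
  · left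
    have e := EtOver.pullback_condition δ m
    rw [← hm₁, ← hm₂]
    simp only [Category.assoc]
    rw [← Category.assoc (EtOver.pullbackSnd δ m), ← Category.assoc (EtOver.pullbackSnd δ m), ← e,
      Category.assoc, Category.assoc, hδ₁, hδ₂]
  · exact Or.inr ⟨h ≫ EtOver.prodSnd Z U⟩

/-- **An elementary distinguished square of schemes étale over `X` gives Mayer–Vietoris data on the small étale
site.** -/
theorem mvData {U V : EtOver X} (hsq : IsElemDistSq U.obj.hom V.obj.hom) :
    MVData (etTop X) (EtOver.prodFst U V) (EtOver.prodSnd U V) where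
  lim := ⟨EtOver.prodIsLimit U V⟩
  sub := hom_subsingleton hsq.1
  cov := cov hsq
  diag := diag hsq

end Groth.Agent.Lib.Helper30.MVEt
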