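import Mathlib

/-!
# Sheaves of modules on a large site (objects in `Type (u+1)`, morphisms in `Type u`) valued one universe up form a
Grothendieck abelian category (helper30, generalising helper53's `ModGroth`)
-/

set_option autoImplicit false
universe u
open CategoryTheory Limits

namespace Groth.Agent.Lib.Helper30.ModGrothL
variable {C : Type (u + 1)} [Category.{u} C] (J : GrothendieckTopology C) (R : Sheaf J RingCat.{u + 1})

instance presheafOfModules_hasExactColimitsOfShape (K : Type (u + 1)) [SmallCategory K] [IsFiltered K] :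
    HasExactColimitsOfShape K (PresheafOfModules.{u + 1} R.obj) := by
  have : (PresheafOfModules.toPresheaf.{u + 1} R.obj).ReflectsIsomorphisms := inferInstance
  have : ReflectsFiniteLimits (PresheafOfModules.toPresheaf.{u + 1} R.obj) :=
    ⟨fun _ _ _ => inferInstance⟩
  exact HasExactColimitsOfShape.domain_of_functor K (PresheafOfModules.toPresheaf.{u + 1} R.obj)

instance sheafOfModules_hasExactColimitsOfShape (K : Type (u + 1)) [SmallCategory K] [IsFiltered K] :
    HasExactColimitsOfShape K (SheafOfModules.{u + 1} R) := by
  have : (SheafOfModules.forget.{u + 1} R).Full := inferInstance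
  exact (PresheafOfModules.sheafificationAdjunction (𝟙 R.obj)).hasExactColimitsOfShape K

set_option backward.defeqAttrib.useBackward true in
set_option backward.isDefEq.respectTransparency false in
omit J in
lemma freeHomEquiv_symm_app (R₀ : Cᵒᵖ ⥤ RingCat.{u + 1}) (M : PresheafOfModules.{u + 1} R₀) (X : C)
    (m : M.obj (Opposite.op X)) :
    (PresheafOfModules.freeHomEquiv.symm (uliftYonedaEquiv.{u + 1}.symm
      (show (M.presheaf ⋙ forget _).obj (Opposite.op X) from m))).app (Opposite.op X)
      (ModuleCat.freeMk (ULift.up (𝟙 X))) = m := by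
  simp [PresheafOfModules.freeHomEquiv, uliftYonedaEquiv]

omit J in
/-- Free presheaves of modules on (lifted) representables separate morphisms of presheaves of modules. -/
lemma presheaf_sep (R₀ : Cᵒᵖ ⥤ RingCat.{u + 1}) {M N : PresheafOfModules.{u + 1} R₀} (f₁ f₂ : M ⟶ N)
    (h : ∀ (X : C) (g : (PresheafOfModules.free R₀).obj (uliftYoneda.{u + 1}.obj X) ⟶ M),
      g ≫ f₁ = g ≫ f₂) : f₁ = f₂ := by
  ext ⟨X⟩ m
  have e := h X (PresheafOfModules.freeHomEquiv.symm (uliftYonedaEquiv.{u + 1}.symm
      (show (M.presheaf ⋙ forget _).obj (Opposite.op X) from m)))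
  have e' := congrArg (fun φ => φ.app (Opposite.op X) (ModuleCat.freeMk (ULift.up (𝟙 X)))) e
  have hg := freeHomEquiv_symm_app R₀ M X m
  change f₁.app (Opposite.op X) ((PresheafOfModules.freeHomEquiv.symm _).app (Opposite.op X) _) =
    f₂.app (Opposite.op X) ((PresheafOfModules.freeHomEquiv.symm _).app (Opposite.op X) _) at e'
  rw [hg] at e'
  exact e'

/-- The sheafified free module on the representable presheaf of `X`. -/
noncomputable abbrev gen (X : C) : SheafOfModules.{u + 1} R :=
  (PresheafOfModules.sheafification (𝟙 R.obj)).obj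
    ((PresheafOfModules.free R.obj).obj (uliftYoneda.{u + 1}.obj X))

lemma isSeparating_gen : ObjectProperty.IsSeparating (.ofObj (gen J R)) := by
  intro M N f₁ f₂ h
  let adj := PresheafOfModules.sheafificationAdjunction (𝟙 R.obj)
  apply (SheafOfModules.forget.{u + 1} R ⋙
    PresheafOfModules.restrictScalars (𝟙 R.obj)).map_injective
  apply presheaf_sep R.obj
  intro X g
  have := h (gen J R X) ⟨X⟩ ((adj.homEquiv _ _).symm g)
  have h2 := congrArg (adj.homEquiv _ _) this
  rw [Adjunction.homEquiv_naturality_right, Adjunction.homEquiv_naturality_right,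
    Equiv.apply_symm_apply] at h2
  exact h2

instance sheafOfModules_hasSeparator : HasSeparator (SheafOfModules.{u + 1} R) :=
  ⟨⟨_, (isSeparating_gen J R).isSeparator_coproduct⟩⟩

theorem isGrothendieckAbelian : IsGrothendieckAbelian.{u + 1} (SheafOfModules.{u + 1} R) where
  ab5OfSize := ⟨fun K _ _ => inferInstance⟩

theorem enoughInjectives : EnoughInjectives (SheafOfModules.{u + 1} R) := by
  haveI := isGrothendieckAbelian J R
  infer_instance

end Groth.Agent.Lib.Helper30.ModGrothL
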