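import Mathlib

set_option autoImplicit false
universe w v₁ u₁
open CategoryTheory CategoryTheory.Limits Opposite

namespace Groth.Agent.Lib.Helper30.ModSectExact

variable {C : Type u₁} [Category.{v₁} C] {J : GrothendieckTopology C} {R : Sheaf J RingCat.{w}}
  [HasSheafify J AddCommGrpCat.{w}] [J.WEqualsLocallyBijective AddCommGrpCat.{w}]
  [J.HasSheafCompose (forget AddCommGrpCat.{w})]

theorem injective_of_mono {M N : SheafOfModules.{w} R} (φ : M ⟶ N) [Mono φ] (W : Cᵒᵖ) :
    Function.Injective (φ.val.app W) := by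
  have h0 : Mono ((SheafOfModules.toSheaf R).map φ) := inferInstance
  have h1 : Mono ((sheafToPresheaf _ _).map ((SheafOfModules.toSheaf R).map φ)) := inferInstance
  have h2 := (NatTrans.mono_iff_mono_app _).1 h1 W
  exact (AddCommGrpCat.mono_iff_injective _).1 h2

theorem epi_of_locally_surjective {M N : SheafOfModules.{w} R} (φ : M ⟶ N)
    (h : ∀ (W : C) (s : N.val.obj (op W)), ∃ R₀ ∈ J W, ∀ ⦃Z : C⦄ (ψ : Z ⟶ W), R₀ ψ →
      ∃ t : M.val.obj (op Z), φ.val.app (op Z) t = N.val.map ψ.op s) : Epi φ := by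
  haveI := Functor.reflectsEpimorphisms_of_faithful (SheafOfModules.toSheaf R)
  apply (SheafOfModules.toSheaf R).epi_of_epi_map
  rw [← CategoryTheory.Sheaf.isLocallySurjective_iff_epi']
  refine ⟨fun {U} s => ?_⟩
  obtain ⟨R₀, hR₀, hl⟩ := h U s
  refine J.superset_covering ?_ hR₀
  intro Z ψ hψ
  obtain ⟨t, ht⟩ := hl ψ hψ
  exact ⟨t, ht⟩

/-- A short complex of sheaves of modules which is left exact on sections and whose second map is locally
surjective is short exact. -/
theorem shortExact_of_sections (S : ShortComplex (SheafOfModules.{w} R))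
    (h1 : ∀ W : Cᵒᵖ, Function.Injective (S.f.val.app W))
    (h2 : ∀ (W : Cᵒᵖ) (s : S.X₂.val.obj W), S.g.val.app W s = 0 →
      ∃ t : S.X₁.val.obj W, S.f.val.app W t = s)
    (h3 : ∀ (W : C) (s : S.X₃.val.obj (op W)), ∃ R₀ ∈ J W, ∀ ⦃Z : C⦄ (φ : Z ⟶ W), R₀ φ →
      ∃ t : S.X₂.val.obj (op Z), S.g.val.app (op Z) t = S.X₃.val.map φ.op s) : S.ShortExact := by
  have hex : S.Exact := by
    rw [ShortComplex.exact_iff_epi_kernel_lift]
    apply epi_of_locally_surjective
    intro W k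
    refine ⟨⊤, J.top_mem W, fun Z ψ _ => ?_⟩
    have hk : S.g.val.app (op Z) ((kernel.ι S.g).val.app (op Z) ((kernel S.g).val.map ψ.op k)) = 0 := by
      have h0 : kernel.ι S.g ≫ S.g = 0 := kernel.condition _
      exact congrArg (fun φ : kernel S.g ⟶ S.X₃ => φ.val.app (op Z) ((kernel S.g).val.map ψ.op k)) h0
    obtain ⟨t, ht⟩ := h2 (op Z) _ hk
    refine ⟨t, ?_⟩
    apply injective_of_mono (kernel.ι S.g) (op Z)
    have e1 : kernel.lift S.g S.f S.zero ≫ kernel.ι S.g = S.f := kernel.lift_ι _ _ _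
    have e2 := congrArg (fun φ : S.X₁ ⟶ S.X₂ => φ.val.app (op Z) t) e1
    exact e2.trans ht
  have hmono : Mono S.f := by
    apply (SheafOfModules.toSheaf R).mono_of_mono_map
    apply (config := { allowSynthFailures := true }) Sheaf.Hom.mono_of_presheaf_mono
    apply (config := { allowSynthFailures := true }) NatTrans.mono_of_mono_app
    intro W
    rw [AddCommGrpCat.mono_iff_injective]
    exact h1 W
  have hepi : Epi S.g := epi_of_locally_surjective S.g h3
  exact { exact := hex, mono_f := hmono, epi_g := hepi }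

section Elements

variable {M N L : SheafOfModules.{w} R}

theorem comp_app_apply (φ : M ⟶ N) (ψ : N ⟶ L) (W : Cᵒᵖ) (x : M.val.obj W) :
    (φ ≫ ψ).val.app W x = ψ.val.app W (φ.val.app W x) := rfl

theorem add_app_apply (φ ψ : M ⟶ N) (W : Cᵒᵖ) (x : M.val.obj W) :
    (φ + ψ).val.app W x = φ.val.app W x + ψ.val.app W x := rfl

theorem neg_app_apply (φ : M ⟶ N) (W : Cᵒᵖ) (x : M.val.obj W) :
    (-φ).val.app W x = -(φ.val.app W x) := rfl

theorem zero_app_apply (W : Cᵒᵖ) (x : M.val.obj W) :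
    (0 : M ⟶ N).val.app W x = 0 := rfl

theorem id_app_apply (W : Cᵒᵖ) (x : M.val.obj W) :
    (𝟙 M : M ⟶ M).val.app W x = x := rfl

theorem biprod_elem_eq (W : Cᵒᵖ) (y : (M ⊞ N).val.obj W) :
    y = (biprod.inl : M ⟶ M ⊞ N).val.app W ((biprod.fst : M ⊞ N ⟶ M).val.app W y) +
      (biprod.inr : N ⟶ M ⊞ N).val.app W ((biprod.snd : M ⊞ N ⟶ N).val.app W y) := by
  have h := congrArg (fun φ : M ⊞ N ⟶ M ⊞ N => φ.val.app W y) (biprod.total (X := M) (Y := N))
  exact h.symm

theorem biprod_elem_ext (W : Cᵒᵖ) (y y' : (M ⊞ N).val.obj W)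
    (h1 : (biprod.fst : M ⊞ N ⟶ M).val.app W y = (biprod.fst : M ⊞ N ⟶ M).val.app W y')
    (h2 : (biprod.snd : M ⊞ N ⟶ N).val.app W y = (biprod.snd : M ⊞ N ⟶ N).val.app W y') : y = y' := by
  rw [biprod_elem_eq W y, biprod_elem_eq W y', h1, h2]

end Elements

end Groth.Agent.Lib.Helper30.ModSectExact
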