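import Mathlib
import Groth.Agent.Lib.Helper37.EtaleFibres

/-!
# Morphisms with étale kernel pair to locally Artinian schemes are locally quasi-finite (helper30)
-/

set_option autoImplicit false
universe u
open CategoryTheory CategoryTheory.Limits AlgebraicGeometry

namespace Groth.Agent.Lib.Helper30.MonoLqf

set_option backward.isDefEq.respectTransparency.types false in
/-- A scheme over a field whose kernel pair is étale over it is étale over the field. -/
theorem etale_of_etale_pullback_fst {K : Type u} [Field K] {F : Scheme.{u}}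
    (φ : F ⟶ Spec (CommRingCat.of K)) (h : Etale (pullback.fst φ φ)) : Etale φ := by
  have : IsZariskiLocalAtSource @Etale := inferInstance
  have hsub : Subsingleton ↥(Spec (CommRingCat.of K)) :=
    (inferInstance : Subsingleton (PrimeSpectrum K))
  have hint : IsIntegral (Spec (CommRingCat.of K)) := inferInstance
  rw [IsZariskiLocalAtSource.iff_of_openCover (P := @Etale) F.affineCover]
  intro i
  by_cases hne : Nonempty ↥(F.affineCover.X i)
  · have hfl : Flat (F.affineCover.f i ≫ φ) := inferInstance
    have hs : Surjective (F.affineCover.f i ≫ φ) := ⟨fun x => by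
      obtain ⟨z⟩ := hne
      exact ⟨z, Subsingleton.elim _ _⟩⟩
    have hqc : QuasiCompact (F.affineCover.f i ≫ φ) := inferInstance
    have hm : (pullback.map (F.affineCover.f i ≫ φ) (F.affineCover.f i ≫ φ) φ φ
        (F.affineCover.f i) (F.affineCover.f i) (𝟙 _) (by simp) (by simp)) ≫ pullback.fst φ φ =
        pullback.fst (F.affineCover.f i ≫ φ) (F.affineCover.f i ≫ φ) ≫ F.affineCover.f i :=
      pullback.lift_fst _ _ _
    have hcomp : Etale (pullback.fst (F.affineCover.f i ≫ φ) (F.affineCover.f i ≫ φ) ≫
        F.affineCover.f i) := by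
      rw [← hm]; infer_instance
    have hfst : Etale (pullback.fst (F.affineCover.f i ≫ φ) (F.affineCover.f i ≫ φ)) :=
      MorphismProperty.of_postcomp (W := @Etale) (W' := @Etale) _ (F.affineCover.f i)
        inferInstance hcomp
    exact MorphismProperty.of_pullback_fst_of_descendsAlong (P := @Etale)
      (Q := @Surjective ⊓ @Flat ⊓ @QuasiCompact) ⟨⟨hs, hfl⟩, hqc⟩ hfst
  · have : IsEmpty ↥(F.affineCover.X i) := not_nonempty_iff.1 hne
    infer_instance

set_option backward.isDefEq.respectTransparency.types false in
/-- If the kernel pair of `g` is étale over the source, the fibres of `g` are étale over the residue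
fields. -/
theorem etale_fiberToSpecResidueField {W U : Scheme.{u}} (g : W ⟶ U)
    (h : Etale (pullback.fst g g)) (y : ↥U) : Etale (g.fiberToSpecResidueField y) := by
  show Etale (pullback.snd g (U.fromSpecResidueField y))
  apply etale_of_etale_pullback_fst (K := ↑(U.residueField y))
  have e1 : pullback.snd g (U.fromSpecResidueField y) ≫ U.fromSpecResidueField y =
      pullback.fst g (U.fromSpecResidueField y) ≫ g := pullback.condition.symm
  have hB := (IsPullback.of_hasPullback (pullback.snd g (U.fromSpecResidueField y))
    (pullback.snd g (U.fromSpecResidueField y))).flip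
  have hA := IsPullback.of_hasPullback g (U.fromSpecResidueField y)
  have hout := hB.paste_horiz hA
  have hθ : pullback.map (pullback.snd g (U.fromSpecResidueField y))
      (pullback.snd g (U.fromSpecResidueField y)) g g
      (pullback.fst g (U.fromSpecResidueField y)) (pullback.fst g (U.fromSpecResidueField y))
      (U.fromSpecResidueField y) e1 e1 ≫ pullback.snd g g =
      pullback.snd _ _ ≫ pullback.fst g (U.fromSpecResidueField y) := pullback.lift_snd _ _ _
  have hθ1 : pullback.map (pullback.snd g (U.fromSpecResidueField y))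
      (pullback.snd g (U.fromSpecResidueField y)) g g
      (pullback.fst g (U.fromSpecResidueField y)) (pullback.fst g (U.fromSpecResidueField y))
      (U.fromSpecResidueField y) e1 e1 ≫ pullback.fst g g =
      pullback.fst _ _ ≫ pullback.fst g (U.fromSpecResidueField y) := pullback.lift_fst _ _ _
  rw [e1, ← hθ] at hout
  have hleft := IsPullback.of_right hout hθ1 (IsPullback.of_hasPullback g g).flip
  exact MorphismProperty.of_isPullback (P := @Etale) hleft h

set_option backward.isDefEq.respectTransparency.types false in
/-- A locally quasi-finite morphism to a locally Artinian scheme is locally of finite type. -/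
theorem locallyOfFiniteType_of_locallyQuasiFinite {W U : Scheme.{u}} (g : W ⟶ U)
    [IsLocallyArtinian U] [LocallyQuasiFinite g] : LocallyOfFiniteType g := by
  have hloc : ∀ w : ↥W, ∃ W' : W.Opens, w ∈ W' ∧ LocallyOfFiniteType (Scheme.Opens.ι W' ≫ g) := by
    intro w
    obtain ⟨_, ⟨V, hV, rfl⟩, hgV, -⟩ := U.isBasis_affineOpens.exists_subset_of_mem_open
      (Set.mem_univ (g w)) isOpen_univ
    obtain ⟨_, ⟨W', hW', rfl⟩, hwW', hW'V⟩ := W.isBasis_affineOpens.exists_subset_of_mem_open
      (show w ∈ ((g ⁻¹ᵁ V : W.Opens) : Set ↥W) from hgV) (g ⁻¹ᵁ V).isOpen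
    refine ⟨W', hwW', ?_⟩
    have : IsAffine (Scheme.Opens.toScheme V) := hV
    have : IsAffine (Scheme.Opens.toScheme W') := hW'
    let ψ : Scheme.Opens.toScheme W' ⟶ Scheme.Opens.toScheme V :=
      IsOpenImmersion.lift (Scheme.Opens.ι V) (Scheme.Opens.ι W' ≫ g) (by
      rw [Scheme.Opens.range_ι]
      rintro _ ⟨z, rfl⟩
      exact hW'V z.2)
    have hψ : ψ ≫ Scheme.Opens.ι V = Scheme.Opens.ι W' ≫ g := IsOpenImmersion.lift_fac _ _ _
    have h1 : LocallyQuasiFinite (ψ ≫ Scheme.Opens.ι V) := by rw [hψ]; infer_instance
    have h2 : LocallyQuasiFinite ψ := LocallyQuasiFinite.of_comp ψ (Scheme.Opens.ι V)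
    have h3 : QuasiCompact ψ := inferInstance
    have h4 : IsFinite ψ := IsFinite.of_locallyQuasiFinite ψ
    rw [← hψ]
    infer_instance
  choose W' hw hW' using hloc
  exact IsZariskiLocalAtSource.of_iSup_eq_top (P := @LocallyOfFiniteType) W'
    (by rw [eq_top_iff]; intro x _; exact TopologicalSpace.Opens.mem_iSup.2 ⟨x, hw x⟩) hW'

/-- A morphism to a locally Artinian scheme with étale kernel pair is locally quasi-finite and locally
of finite type. -/
theorem lqf_lft_of_etale_kernelPair {W U : Scheme.{u}} (g : W ⟶ U) [IsLocallyArtinian U]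
    (h : Etale (pullback.fst g g)) : LocallyQuasiFinite g ∧ LocallyOfFiniteType g := by
  have h1 : LocallyQuasiFinite g := LocallyQuasiFinite.of_fiberToSpecResidueField g fun y =>
    haveI := etale_fiberToSpecResidueField g h y
    Groth.Agent.Lib.Helper37.EtaleFibres.locallyQuasiFinite_of_etale _
  exact ⟨h1, locallyOfFiniteType_of_locallyQuasiFinite g⟩

end Groth.Agent.Lib.Helper30.MonoLqf
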