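import Groth.Agent.Lib.Helper64.DepthQuot
import Groth.Agent.Lib.Helper64.SubschemeStalk
import Groth.Agent.S10957
import Groth.Prelude.Def_Pi1
import Groth.Prelude.Def_BlowUp2

/-!
# An effective Cartier divisor on a normal locally Noetherian scheme is `(S₁)` (helper30)
-/

set_option autoImplicit false
universe u
open CategoryTheory AlgebraicGeometry LocCoh IsLocalRing

namespace Groth.Agent.Lib.Helper30.NormalS1

/-- The quotient of a normal Noetherian local domain by a nonzero element of the maximal ideal is `(S₁)`. -/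
theorem s1_quotient_of_normal {R : Type u} [CommRing R] [IsDomain R] [IsNoetherianRing R] [IsLocalRing R]
    [IsIntegrallyClosed R] (g : R) (hg : g ∈ nonZeroDivisors R) (hgm : g ∈ maximalIdeal R)
    [IsLocalRing (R ⧸ Ideal.span {g})] :
    min ((1 : ℕ) : WithBot ℕ∞) (ringKrullDim (R ⧸ Ideal.span {g})) ≤
      ((depth (R ⧸ Ideal.span {g}) (R ⧸ Ideal.span {g}) : ℕ∞) : WithBot ℕ∞) := by
  by_cases h0 : depth (R ⧸ Ideal.span {g}) (R ⧸ Ideal.span {g}) = 0
  · have h1 : depth R (R ⧸ Ideal.span {g}) = 0 := by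
      rw [← Groth.Agent.Lib.Helper64.DepthQuot.depth_quotient R (Ideal.span {g})]; exact h0
    rw [Groth.Agent.Lib.Helper67.depth_eq_zero_iff] at h1
    have hg0 : g ≠ 0 := nonZeroDivisors.ne_zero hg
    have hdvr : IsDiscreteValuationRing R := Groth.Agent.S10957.result R g hg0 h1
    have hdim := ringKrullDim_quotient_span_singleton_succ_eq_ringKrullDim_of_mem_nonZeroDivisors
      hg hgm
    rw [IsDiscreteValuationRing.ringKrullDim_eq_one R] at hdim
    have hne : ringKrullDim (R ⧸ Ideal.span {g}) ≠ ⊥ := by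
      have := ringKrullDim_nonneg_of_nontrivial (R := R ⧸ Ideal.span {g})
      intro h
      rw [h] at this
      exact absurd this (by simp)
    obtain ⟨n', hn'⟩ := WithBot.ne_bot_iff_exists.mp hne
    rw [← hn'] at hdim ⊢
    have hn0 : n' = 0 := by
      have h2 : ((n' + 1 : ℕ∞) : WithBot ℕ∞) = ((1 : ℕ∞) : WithBot ℕ∞) := by
        rw [WithBot.coe_add]; exact hdim
      have h3 : n' + 1 = 0 + 1 := by rw [zero_add]; exact WithBot.coe_injective h2
      exact (ENat.add_left_injective_of_ne_top ENat.one_ne_top) h3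
    rw [hn0, h0]
    simp
  · have h1 : (1 : ℕ∞) ≤ depth (R ⧸ Ideal.span {g}) (R ⧸ Ideal.span {g}) :=
      Order.one_le_iff_pos.mpr (pos_iff_ne_zero.mpr h0)
    refine (min_le_left _ _).trans ?_
    exact_mod_cast WithBot.coe_le_coe.mpr h1

/-- On a normal locally Noetherian scheme, the closed subscheme of an effective Cartier divisor is `(S₁)`. -/
theorem s1_of_isEffCartierIdeal (X : Scheme.{u}) [IsLocallyNoetherian X] (hX : Pi1.IsNormalScheme X)
    (𝓘 : X.IdealSheafData) (h𝓘 : BlowUp.IsEffCartierIdeal 𝓘) (d : ↥𝓘.subscheme) :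
    min ((1 : ℕ) : WithBot ℕ∞) (ringKrullDim (𝓘.subscheme.presheaf.stalk d)) ≤
      ((LocCoh.depth (𝓘.subscheme.presheaf.stalk d) (𝓘.subscheme.presheaf.stalk d) : ℕ∞) : WithBot ℕ∞) := by
  classical
  obtain ⟨U, hxU, f, hf, hI⟩ := h𝓘 (𝓘.subschemeι d)
  have hgnzd := Groth.Agent.Lib.Helper64.SubschemeStalk.germ_mem_nonZeroDivisors U.2
    (𝓘.subschemeι d) hxU f hf
  let e := Groth.Agent.Lib.Helper64.SubschemeStalk.stalkEquivSpan 𝓘 U d hxU f hI
  have : IsLocalRing (↑(X.presheaf.stalk (𝓘.subschemeι d)) ⧸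
      Ideal.span {(X.presheaf.germ U.1 (𝓘.subschemeι d) hxU).hom f}) :=
    e.symm.isLocalRing
  have hgm : (X.presheaf.germ U.1 (𝓘.subschemeι d) hxU).hom f ∈
      IsLocalRing.maximalIdeal ↑(X.presheaf.stalk (𝓘.subschemeι d)) := by
    rw [IsLocalRing.mem_maximalIdeal, mem_nonunits_iff]
    intro hu
    have htop : Ideal.span {(X.presheaf.germ U.1 (𝓘.subschemeι d) hxU).hom f} = ⊤ :=
      Ideal.span_singleton_eq_top.mpr hu
    have h01 : (0 : ↑(X.presheaf.stalk (𝓘.subschemeι d)) ⧸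
        Ideal.span {(X.presheaf.germ U.1 (𝓘.subschemeι d) hxU).hom f}) = 1 := by
      have : (1 : ↑(X.presheaf.stalk (𝓘.subschemeι d))) ∈
          Ideal.span {(X.presheaf.germ U.1 (𝓘.subschemeι d) hxU).hom f} := by
        rw [htop]; trivial
      exact ((Ideal.Quotient.eq_zero_iff_mem).mpr this).symm
    exact zero_ne_one h01
  obtain ⟨hdom, hic⟩ := hX (𝓘.subschemeι d)
  have key := s1_quotient_of_normal _ hgnzd hgm
  rw [ringKrullDim_eq_of_ringEquiv e,
    Groth.Agent.Lib.Helper64.DepthQuot.depth_self_of_ringEquiv e] at key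
  exact key

end Groth.Agent.Lib.Helper30.NormalS1
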