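import Groth.Agent.Lib.Helper5.QuotShDescend
import Groth.Agent.Lib.Helper5.OpenLocal

/-!
# Descent of maps of fppf sheaves along a jointly locally surjective pair (helper30)
-/

set_option autoImplicit false
universe u
open CategoryTheory CategoryTheory.Limits AlgebraicGeometry Opposite

namespace Groth.Agent.Lib.Helper30.PairDescent

open AlgSp Groth.Agent.Lib.Helper5.SheafQuot Groth.Agent.Lib.Helper5.QuotShDescend

variable {S : Scheme.{u}}

/-- Comparing composites of maps from a representable through sections. -/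
theorem symm_comp_eq_iff {F F' H : Sp S} {T : Over S} (s₁ : F.obj.obj (op T)) (s₂ : F'.obj.obj (op T))
    (f : F ⟶ H) (f' : F' ⟶ H) :
    (secEquiv T F).symm s₁ ≫ f = (secEquiv T F').symm s₂ ≫ f' ↔
      f.hom.app _ s₁ = f'.hom.app _ s₂ := by
  rw [← (secEquiv T H).injective.eq_iff, GrothendieckTopology.uliftYonedaEquiv_comp,
    GrothendieckTopology.uliftYonedaEquiv_comp, Equiv.apply_symm_apply, Equiv.apply_symm_apply]

section

variable {U G W Z : Sp S} (j : U ⟶ W) (g : G ⟶ W) (a : U ⟶ Z) (c : G ⟶ Z)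

/-- `z` is a value at `w`: it is the image under `a` (resp. `c`) of a lift of `w` along `j` (resp. `g`). -/
def Val (T : Over S) (w : W.obj.obj (op T)) (z : Z.obj.obj (op T)) : Prop :=
  (∃ u : U.obj.obj (op T), j.hom.app _ u = w ∧ a.hom.app _ u = z) ∨
  (∃ x : G.obj.obj (op T), g.hom.app _ x = w ∧ c.hom.app _ x = z)

variable {j g a c}

theorem Val.res {T T' : Over S} {w : W.obj.obj (op T)} {z : Z.obj.obj (op T)}
    (h : Val j g a c T w z) (φ : T' ⟶ T) :
    Val j g a c T' (W.obj.map φ.op w) (Z.obj.map φ.op z) := by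
  rcases h with ⟨u, rfl, rfl⟩ | ⟨x, rfl, rfl⟩
  · exact Or.inl ⟨U.obj.map φ.op u, NatTrans.naturality_apply _ _ _, NatTrans.naturality_apply _ _ _⟩
  · exact Or.inr ⟨G.obj.map φ.op x, NatTrans.naturality_apply _ _ _, NatTrans.naturality_apply _ _ _⟩


/-- Hypotheses of pair descent, in terms of maps from representables. -/
structure Hyp (j : U ⟶ W) (g : G ⟶ W) (a : U ⟶ Z) (c : G ⟶ Z) : Prop where
  ls : ∀ (T : Over S) (w : (yon S).obj T ⟶ W), ∃ R₀ ∈ J S T, ∀ ⦃T' : Over S⦄ (φ : T' ⟶ T), R₀ φ →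
      (∃ u : (yon S).obj T' ⟶ U, u ≫ j = (yon S).map φ ≫ w) ∨
        (∃ x : (yon S).obj T' ⟶ G, x ≫ g = (yon S).map φ ≫ w)
  uu : ∀ (T : Over S) (u₁ u₂ : (yon S).obj T ⟶ U), u₁ ≫ j = u₂ ≫ j → u₁ ≫ a = u₂ ≫ a
  ug : ∀ (T : Over S) (u : (yon S).obj T ⟶ U) (x : (yon S).obj T ⟶ G), u ≫ j = x ≫ g →
      u ≫ a = x ≫ c
  gg : ∀ (T : Over S) (x₁ x₂ : (yon S).obj T ⟶ G), x₁ ≫ g = x₂ ≫ g → x₁ ≫ c = x₂ ≫ c

theorem Val.unique (H : Hyp j g a c) {T : Over S} {w : W.obj.obj (op T)} {z₁ z₂ : Z.obj.obj (op T)}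
    (h₁ : Val j g a c T w z₁) (h₂ : Val j g a c T w z₂) : z₁ = z₂ := by
  rcases h₁ with ⟨u₁, hu₁, rfl⟩ | ⟨x₁, hx₁, rfl⟩ <;> rcases h₂ with ⟨u₂, hu₂, rfl⟩ | ⟨x₂, hx₂, rfl⟩
  · exact (symm_comp_eq_iff u₁ u₂ a a).1 (H.uu T _ _ ((symm_comp_eq_iff u₁ u₂ j j).2 (hu₁.trans hu₂.symm)))
  · exact (symm_comp_eq_iff u₁ x₂ a c).1 (H.ug T _ _ ((symm_comp_eq_iff u₁ x₂ j g).2 (hu₁.trans hx₂.symm)))
  · exact ((symm_comp_eq_iff u₂ x₁ a c).1
      (H.ug T _ _ ((symm_comp_eq_iff u₂ x₁ j g).2 (hu₂.trans hx₁.symm)))).symm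
  · exact (symm_comp_eq_iff x₁ x₂ c c).1 (H.gg T _ _ ((symm_comp_eq_iff x₁ x₂ g g).2 (hx₁.trans hx₂.symm)))

variable (j g a c) in
/-- The sieve of maps along which `w` has a value. -/
def liftSieve {T : Over S} (w : W.obj.obj (op T)) : Sieve T where
  arrows T' φ := ∃ z, Val j g a c T' (W.obj.map φ.op w) z
  downward_closed := by
    rintro Y Y' φ ⟨z, hz⟩ ψ
    refine ⟨Z.obj.map ψ.op z, ?_⟩
    have := hz.res ψ
    rwa [← Functor.map_comp_apply, ← op_comp] at this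

theorem liftSieve_mem (H : Hyp j g a c) {T : Over S} (w : W.obj.obj (op T)) :
    liftSieve j g a c w ∈ J S T := by
  obtain ⟨R₀, hR₀, hl⟩ := H.ls T ((secEquiv T W).symm w)
  refine (J S).superset_covering ?_ hR₀
  intro T' φ hφ
  have key : ∀ {F : Sp S} (f : F ⟶ W) (y : (yon S).obj T' ⟶ F),
      y ≫ f = (yon S).map φ ≫ (secEquiv T W).symm w →
      f.hom.app _ (secEquiv T' F y) = W.obj.map φ.op w := by
    intro F f y hy
    have := congrArg (secEquiv T' W) hy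
    rw [GrothendieckTopology.uliftYonedaEquiv_comp,
      ← GrothendieckTopology.uliftYonedaEquiv_naturality, Equiv.apply_symm_apply] at this
    exact this
  rcases hl φ hφ with ⟨u, hu⟩ | ⟨x, hx⟩
  · exact ⟨_, Or.inl ⟨secEquiv T' U u, key j u hu, rfl⟩⟩
  · exact ⟨_, Or.inr ⟨secEquiv T' G x, key g x hx, rfl⟩⟩


theorem exists_glue (H : Hyp j g a c) {T : Over S} (w : W.obj.obj (op T)) :
    ∃ z : Z.obj.obj (op T), ∀ ⦃T' : Over S⦄ (φ : T' ⟶ T) (z' : Z.obj.obj (op T')),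
      Val j g a c T' (W.obj.map φ.op w) z' → Z.obj.map φ.op z = z' := by
  have hZ : Presieve.IsSheaf (J S) Z.obj := (isSheaf_iff_isSheaf_of_type _ _).1 Z.property
  have h1 : Presieve.IsSheafFor Z.obj (liftSieve j g a c w).arrows := hZ _ (liftSieve_mem H w)
  let fam : Presieve.FamilyOfElements Z.obj (liftSieve j g a c w).arrows :=
    fun T' φ hφ => Classical.choose hφ
  have hfam : ∀ ⦃T' : Over S⦄ (φ : T' ⟶ T) (hφ : (liftSieve j g a c w).arrows φ),
      Val j g a c T' (W.obj.map φ.op w) (fam φ hφ) := fun T' φ hφ => Classical.choose_spec hφ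
  have hcompat : fam.Compatible := by
    intro Y₁ Y₂ Y g₁ g₂ f₁ f₂ h₁ h₂ hcomm
    have e₁ := (hfam f₁ h₁).res g₁
    have e₂ := (hfam f₂ h₂).res g₂
    rw [← Functor.map_comp_apply, ← op_comp] at e₁ e₂
    rw [hcomm] at e₁
    exact e₁.unique H e₂
  refine ⟨h1.amalgamate fam hcompat, fun T' φ z' hz' => ?_⟩
  have hφ : (liftSieve j g a c w).arrows φ := ⟨z', hz'⟩
  rw [h1.valid_glue hcompat φ hφ]
  exact (hfam φ hφ).unique H hz'

/-- The descended map, on sections. -/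
noncomputable def glue (H : Hyp j g a c) {T : Over S} (w : W.obj.obj (op T)) : Z.obj.obj (op T) :=
  (exists_glue H w).choose

theorem glue_spec (H : Hyp j g a c) {T : Over S} (w : W.obj.obj (op T)) ⦃T' : Over S⦄ (φ : T' ⟶ T)
    (z' : Z.obj.obj (op T')) (h : Val j g a c T' (W.obj.map φ.op w) z') :
    Z.obj.map φ.op (glue H w) = z' :=
  (exists_glue H w).choose_spec φ z' h

theorem glue_of_val (H : Hyp j g a c) {T : Over S} (w : W.obj.obj (op T)) (z : Z.obj.obj (op T))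
    (h : Val j g a c T w z) : glue H w = z := by
  have := glue_spec H w (𝟙 T) z (by rwa [op_id, CategoryTheory.Functor.map_id_apply])
  rwa [op_id, CategoryTheory.Functor.map_id_apply] at this

theorem glue_natural (H : Hyp j g a c) {T T₁ : Over S} (θ : T₁ ⟶ T) (w : W.obj.obj (op T)) :
    glue H (W.obj.map θ.op w) = Z.obj.map θ.op (glue H w) := by
  have hZ : Presieve.IsSheaf (J S) Z.obj := (isSheaf_iff_isSheaf_of_type _ _).1 Z.property
  refine (hZ _ (liftSieve_mem H (W.obj.map θ.op w))).isSeparatedFor.ext ?_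
  rintro T' φ ⟨z', hz'⟩
  rw [glue_spec H _ φ z' hz', ← Functor.map_comp_apply, ← op_comp]
  refine (glue_spec H w (φ ≫ θ) z' ?_).symm
  rwa [op_comp, Functor.map_comp_apply]

/-- **Descent along a jointly locally surjective pair.** -/
theorem exists_desc (H : Hyp j g a c) : ∃ σ : W ⟶ Z, j ≫ σ = a ∧ g ≫ σ = c := by
  let σ : W ⟶ Z := ⟨{
    app := fun T => ↾(fun w => glue H (T := T.unop) w)
    naturality := by
      intro T T₁ θ
      ext w
      exact glue_natural H θ.unop w }⟩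
  refine ⟨σ, ?_, ?_⟩
  · apply Sheaf.hom_ext
    ext T u
    exact glue_of_val H _ _ (Or.inl ⟨u, rfl, rfl⟩)
  · apply Sheaf.hom_ext
    ext T x
    exact glue_of_val H _ _ (Or.inr ⟨x, rfl, rfl⟩)

/-- Uniqueness part. -/
theorem desc_unique (H : Hyp j g a c) (σ σ' : W ⟶ Z) (h1 : j ≫ σ = j ≫ σ') (h2 : g ≫ σ = g ≫ σ') :
    σ = σ' := by
  apply hom_ext_yon
  intro T w
  obtain ⟨R₀, hR₀, hl⟩ := H.ls T w
  refine eq_of_locally_eq _ _ R₀ hR₀ ?_
  intro T' φ hφ
  rcases hl φ hφ with ⟨u, hu⟩ | ⟨x, hx⟩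
  · rw [← Category.assoc, ← Category.assoc, ← hu, Category.assoc, Category.assoc, h1]
  · rw [← Category.assoc, ← Category.assoc, ← hx, Category.assoc, Category.assoc, h2]

end

end Groth.Agent.Lib.Helper30.PairDescent
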