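import Groth.Agent.Lib.Helper30.PullbackExists
import Groth.Prelude.Def_AlgSpOX2

/-!
# Existence of `f^*` on modules of the small étale site for every representable morphism (helper30)
-/

set_option autoImplicit false
universe u
open CategoryTheory AlgebraicGeometry AlgSp

namespace Groth.Agent.Lib.Helper30.PullbackExists

/-- For every representable `f`, the direct image of modules on the small étale sites is a right adjoint
(so `AlgSp.pullModEt hf` is available). -/
theorem isRightAdjoint_pushModEt {S : Scheme.{u}} {X Y : Sp S} {f : X ⟶ Y} (hf : Representable f) :
    (SheafOfModules.pushforward.{u+1} (AlgSp.bcRingHom hf)).IsRightAdjoint :=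
  isRightAdjoint_sheaf_pushforward _

end Groth.Agent.Lib.Helper30.PullbackExists
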