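import Mathlib

set_option autoImplicit false
universe u
open CategoryTheory

namespace Groth.Agent.Lib.Helper30.PullbackExists

section Presheaf

variable {C D : Type (u+1)} [Category.{u} C] [Category.{u} D] {F : C ⥤ D}

/-- the ring presheaf transported to `ULiftHom`. -/
abbrev liftR (R : Dᵒᵖ ⥤ RingCat.{u+1}) : (ULiftHom.{u+1} D)ᵒᵖ ⥤ RingCat.{u+1} :=
  ULiftHom.down.op ⋙ R

/-- `P : PMod R ⥤ PMod R'` (restriction along `down`). -/
noncomputable abbrev P (R : Dᵒᵖ ⥤ RingCat.{u+1}) :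
    PresheafOfModules.{u+1} R ⥤ PresheafOfModules.{u+1} (liftR R) :=
  PresheafOfModules.pushforward (F := ULiftHom.down) (𝟙 (liftR R))

/-- the ring map for `Q`. -/
def qHom (R : Dᵒᵖ ⥤ RingCat.{u+1}) : R ⟶ (ULiftHom.up (C := D)).op ⋙ liftR R :=
  { app := fun X => (𝟙 (R.obj X) : R.obj X ⟶ R.obj X)
    naturality := fun X Y f => by
      change R.map f ≫ 𝟙 (R.obj Y) = 𝟙 (R.obj X) ≫ R.map f
      rw [Category.comp_id, Category.id_comp] }

/-- `Q : PMod R' ⥤ PMod R` (restriction along `up`). -/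
noncomputable abbrev Q (R : Dᵒᵖ ⥤ RingCat.{u+1}) :
    PresheafOfModules.{u+1} (liftR R) ⥤ PresheafOfModules.{u+1} R :=
  PresheafOfModules.pushforward (F := ULiftHom.up) (qHom R)

noncomputable def PQ (R : Dᵒᵖ ⥤ RingCat.{u+1}) : P R ⋙ Q R ≅ 𝟭 _ :=
  Iso.refl _

noncomputable def QP (R : Dᵒᵖ ⥤ RingCat.{u+1}) : Q R ⋙ P R ≅ 𝟭 _ :=
  Iso.refl _

/-- the equivalence `PMod R ≌ PMod R'`. -/
noncomputable def eqv (R : Dᵒᵖ ⥤ RingCat.{u+1}) :
    PresheafOfModules.{u+1} R ≌ PresheafOfModules.{u+1} (liftR R) :=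
  CategoryTheory.Equivalence.mk (P R) (Q R) (PQ R).symm (QP R)

instance (R : Dᵒᵖ ⥤ RingCat.{u+1}) : (P R).IsEquivalence := (eqv R).isEquivalence_functor
instance (R : Dᵒᵖ ⥤ RingCat.{u+1}) : (Q R).IsEquivalence := (eqv R).isEquivalence_inverse

variable {R : Dᵒᵖ ⥤ RingCat.{u+1}} {S : Cᵒᵖ ⥤ RingCat.{u+1}} (φ : S ⟶ F.op ⋙ R)

/-- the lifted functor. -/
abbrev liftF (F : C ⥤ D) : ULiftHom.{u+1} C ⥤ ULiftHom.{u+1} D :=
  ULiftHom.down ⋙ F ⋙ ULiftHom.up

/-- the lifted ring morphism. -/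
def liftφ : liftR S ⟶ (liftF F).op ⋙ liftR R :=
  { app := fun X => (φ.app (ULiftHom.down.op.obj X) : S.obj _ ⟶ R.obj _)
    naturality := fun X Y f => φ.naturality (ULiftHom.down.op.map f) }

noncomputable def liftIso :
    PresheafOfModules.pushforward.{u+1} (liftφ φ) ≅
      Q R ⋙ PresheafOfModules.pushforward.{u+1} φ ⋙ P S :=
  Iso.refl _

instance isRightAdjoint_pushforward :
    (PresheafOfModules.pushforward.{u+1} φ).IsRightAdjoint := by
  have h1 : (PresheafOfModules.pushforward.{u+1} (liftφ φ)).IsRightAdjoint := inferInstance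
  have h2 : (Q R ⋙ PresheafOfModules.pushforward.{u+1} φ ⋙ P S).IsRightAdjoint :=
    Functor.isRightAdjoint_of_iso (liftIso φ)
  have e : PresheafOfModules.pushforward.{u+1} φ ≅
      P R ⋙ (Q R ⋙ PresheafOfModules.pushforward.{u+1} φ ⋙ P S) ⋙ Q S :=
    (Functor.leftUnitor _).symm ≪≫ Functor.isoWhiskerRight (PQ R).symm _ ≪≫
      Functor.associator _ _ _ ≪≫
      Functor.isoWhiskerLeft (P R) (Functor.isoWhiskerLeft (Q R)
        ((Functor.rightUnitor _).symm ≪≫ Functor.isoWhiskerLeft _ (PQ S).symm ≪≫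
          (Functor.associator _ _ _).symm)) ≪≫
      Functor.isoWhiskerLeft (P R) (Functor.associator _ _ _).symm
  exact Functor.isRightAdjoint_of_iso e.symm

end Presheaf

section Sheaf

variable {C D : Type (u+1)} [Category.{u} C] [Category.{u} D] {F : C ⥤ D}
  {J : GrothendieckTopology C} {K : GrothendieckTopology D}
  {S : Sheaf J RingCat.{u+1}} {R : Sheaf K RingCat.{u+1}}
  [Functor.IsContinuous F J K]
  (φ : S ⟶ (F.sheafPushforwardContinuous RingCat.{u+1} J K).obj R)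

theorem isRightAdjoint_sheaf_pushforward :
    (SheafOfModules.pushforward.{u+1} φ).IsRightAdjoint := by
  have : (PresheafOfModules.pushforward.{u+1} φ.hom).IsRightAdjoint :=
    isRightAdjoint_pushforward φ.hom
  infer_instance

end Sheaf

end Groth.Agent.Lib.Helper30.PullbackExists
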