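import Groth.Agent.Lib.Helper30.PullbackExists

/-!
# Pullback of sheaves of modules preserves quasi-coherence (general ringed sites) (helper30)
-/

set_option autoImplicit false
universe u
open CategoryTheory CategoryTheory.Limits Opposite

namespace Groth.Agent.Lib.Helper30.PullbackQcoh

/-- A functor sending a terminal object to a terminal object is final. -/
theorem final_of_isTerminal {C D : Type*} [Category C] [Category D] (F : C ⥤ D) {T : C}
    (hT : IsTerminal T) (hFT : IsTerminal (F.obj T)) : F.Final :=
  have : (Functor.fromPUnit.{0} T).Final := Functor.final_fromPUnit_of_isTerminal hT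
  have : (Functor.fromPUnit.{0} (F.obj T)).Final := Functor.final_fromPUnit_of_isTerminal hFT
  have : ((Functor.fromPUnit.{0} T) ⋙ F).Final :=
    Functor.final_of_natIso (F := Functor.fromPUnit.{0} (F.obj T)) (Discrete.natIso (fun _ => Iso.refl _))
  Functor.final_of_final_comp (Functor.fromPUnit.{0} T) F

instance final_over_post {C D : Type*} [Category C] [Category D] (F : C ⥤ D) (U : C) :
    (Over.post (X := U) F).Final := by
  refine final_of_isTerminal _ (T := Over.mk (𝟙 U)) Over.mkIdTerminal ?_
  refine IsTerminal.ofIso Over.mkIdTerminal (Over.isoMk (Iso.refl _) ?_)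
  change 𝟙 _ ≫ F.map (𝟙 U) = 𝟙 _
  simp

section

variable {C D : Type (u+1)} [Category.{u} C] [Category.{u} D]
  {J : GrothendieckTopology C} {K : GrothendieckTopology D}
  {F : C ⥤ D} [F.IsContinuous J K]
  {S : Sheaf J RingCat.{u+1}} {R : Sheaf K RingCat.{u+1}}
  (φ : S ⟶ (F.sheafPushforwardContinuous RingCat.{u+1} J K).obj R)
  [HasBinaryProducts C] [HasBinaryProducts D]
  [∀ U V : C, PreservesLimit (pair U V) F]
  [∀ U : C, (Over.post (X := U) F).IsContinuous (J.over U) (K.over (F.obj U))]
  (U : C)

/-- the localized ring morphism. -/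
noncomputable abbrev overRingHom :
    S.over U ⟶ ((Over.post (X := U) F).sheafPushforwardContinuous RingCat.{u+1} (J.over U)
      (K.over (F.obj U))).obj (R.over (F.obj U)) :=
  ((Over.forget U).sheafPushforwardContinuous RingCat.{u+1} (J.over U) J).map φ

/-- `Over.star U ⋙ Over.post F ≅ F ⋙ Over.star (F U)`. -/
noncomputable def starPostIso : Over.star U ⋙ Over.post (X := U) F ≅ F ⋙ Over.star (F.obj U) :=
  NatIso.ofComponents (fun V => Over.isoMk (PreservesLimitPair.iso F U V) (by
      change prodComparison F U V ≫ prod.lift prod.fst (𝟙 _) ≫ prod.fst =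
        F.map (prod.lift prod.fst (𝟙 _) ≫ prod.fst)
      rw [prod.lift_fst, prod.lift_fst, prodComparison_fst]))
    (fun {V V'} g => by
      ext
      change F.map (prod.map (𝟙 U) g) ≫ prodComparison F U V' =
        prodComparison F U V ≫ prod.map (𝟙 _) (F.map g)
      rw [prodComparison_natural, F.map_id])

instance continuous_star_post :
    (Over.star U ⋙ Over.post (X := U) F).IsContinuous J (K.over (F.obj U)) :=
  Functor.isContinuous_comp _ _ _ (J.over U) _

instance continuous_comp_star :
    (F ⋙ Over.star (F.obj U)).IsContinuous J (K.over (F.obj U)) :=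
  Functor.isContinuous_comp _ _ _ K _

theorem ringHom_compat :
    (φ ≫ (F.sheafPushforwardContinuous RingCat.{u+1} J K).map
        (SheafOfModules.pushforwardOver (R := R) (F.obj U))) ≫
      (Functor.sheafPushforwardContinuousNatTrans (starPostIso (F := F) U).hom RingCat.{u+1} J
        (K.over (F.obj U))).app (R.over (F.obj U)) =
    SheafOfModules.pushforwardOver (R := S) U ≫
      ((Over.star U).sheafPushforwardContinuous RingCat.{u+1} J (J.over U)).map (overRingHom φ U) := by
  ext V : 3
  change (φ.hom.app V ≫ R.obj.map (prod.snd : F.obj U ⨯ F.obj V.unop ⟶ F.obj V.unop).op) ≫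
      R.obj.map (prodComparison F U V.unop).op =
    S.obj.map (prod.snd : U ⨯ V.unop ⟶ V.unop).op ≫ φ.hom.app (op (U ⨯ V.unop))
  have nat := φ.hom.naturality (prod.snd : U ⨯ V.unop ⟶ V.unop).op
  have h2 : R.obj.map (prod.snd : F.obj U ⨯ F.obj V.unop ⟶ F.obj V.unop).op ≫
      R.obj.map (prodComparison F U V.unop).op =
      R.obj.map (F.map (prod.snd : U ⨯ V.unop ⟶ V.unop)).op := by
    rw [← Functor.map_comp, ← op_comp, prodComparison_snd]
  rw [nat]
  exact (Category.assoc _ _ _).trans (congrArg (φ.hom.app V ≫ ·) h2)

/-- `σ_{FU} ⋙ f_* ≅ (f_U)_* ⋙ σ_U`. -/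
noncomputable def pushStarIso :
    SheafOfModules.pushforward.{u+1} (SheafOfModules.pushforwardOver (R := R) (F.obj U)) ⋙
        SheafOfModules.pushforward.{u+1} φ ≅
      SheafOfModules.pushforward.{u+1} (overRingHom φ U) ⋙
        SheafOfModules.pushforward.{u+1} (SheafOfModules.pushforwardOver (R := S) U) :=
  SheafOfModules.pushforwardComp φ (SheafOfModules.pushforwardOver (R := R) (F.obj U)) ≪≫
    SheafOfModules.pushforwardCongr₂ _ (starPostIso (F := F) U) (ringHom_compat φ U) ≪≫
    (SheafOfModules.pushforwardComp (SheafOfModules.pushforwardOver (R := S) U)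
      (overRingHom φ U)).symm

instance isRightAdjoint_over : (SheafOfModules.pushforward.{u+1} (overRingHom φ U)).IsRightAdjoint :=
  Groth.Agent.Lib.Helper30.PullbackExists.isRightAdjoint_sheaf_pushforward _

variable [(SheafOfModules.pushforward.{u+1} φ).IsRightAdjoint]

/-- Base change for restriction to slices: `(f^* G)|_{FU} ≅ f_U^* (G|_U)`. -/
noncomputable def overPullbackIso :
    SheafOfModules.pullback.{u+1} φ ⋙ SheafOfModules.overFunctor R (F.obj U) ≅
      SheafOfModules.overFunctor S U ⋙ SheafOfModules.pullback.{u+1} (overRingHom φ U) :=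
  ((SheafOfModules.pullbackPushforwardAdjunction.{u+1} φ).comp
      (SheafOfModules.overPushforwardOverAdj (R := R) (F.obj U))).leftAdjointUniq
    (((SheafOfModules.overPushforwardOverAdj (R := S) U).comp
      (SheafOfModules.pullbackPushforwardAdjunction.{u+1} (overRingHom φ U))).ofNatIsoRight
        (pushStarIso φ U).symm)

/-- A presentation of `G|_U` gives a presentation of `(f^* G)|_{FU}`. -/
noncomputable def presentationPullbackOver (G : SheafOfModules.{u+1} S)
    (P : (G.over U).Presentation) :
    (((SheafOfModules.pullback.{u+1} φ).obj G).over (F.obj U)).Presentation := by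
  let L := SheafOfModules.pullback.{u+1} (overRingHom φ U)
  have : PreservesColimitsOfSize.{u+1, u+1} L :=
    (SheafOfModules.pullbackPushforwardAdjunction.{u+1} (overRingHom φ U)).leftAdjoint_preservesColimits
  let η : SheafOfModules.unit (R.over (F.obj U)) ≅ L.obj (SheafOfModules.unit (S.over U)) :=
    (asIso (SheafOfModules.pullbackObjUnitToUnit (overRingHom φ U))).symm
  exact (P.map L η).ofIsIso ((overPullbackIso φ U).app G).inv

/-- **Pullback preserves quasi-coherence**, provided the images of a trivializing cover still cover. -/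
theorem isQuasicoherent_pullback (G : SheafOfModules.{u+1} S) (q : G.QuasicoherentData)
    (hcov : K.CoversTop (fun i => F.obj (q.X i))) :
    ((SheafOfModules.pullback.{u+1} φ).obj G).IsQuasicoherent :=
  (SheafOfModules.QuasicoherentData.mk q.I (fun i => F.obj (q.X i)) hcov
    (fun i => presentationPullbackOver φ (q.X i) G (q.presentation i))).isQuasicoherent

end

end Groth.Agent.Lib.Helper30.PullbackQcoh
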