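import Groth.Prelude.Def_AlgSpOX2

/-!
# Pseudo-functoriality of `pushModEt` for composable representable morphisms (helper30)
-/

set_option autoImplicit false
set_option backward.isDefEq.respectTransparency false
universe u
open CategoryTheory CategoryTheory.Limits AlgebraicGeometry Opposite AlgSp

namespace Groth.Agent.Lib.Helper30.PushModEtComp

variable {S : Scheme.{u}} {X' X Y : Sp S} {a : X' ⟶ X} {f : X ⟶ Y}
  (ha : Representable a) (hf : Representable f) (hc : Representable (a ≫ f))

section Aux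

variable (E : EtOver Y)

/-- `E ×_Y X' ⟶ E ×_Y X`. -/
noncomputable def toMid : (EtOver.bcObj hc E).obj.left ⟶ (EtOver.bcObj hf E).obj.left :=
  hf.lift (hc.fst E.obj.hom ≫ a) (hc.snd E.obj.hom) (by rw [Category.assoc]; exact hc.w _)

theorem toMid_fst :
    (yon S).map (toMid hf hc E) ≫ hf.fst E.obj.hom = hc.fst E.obj.hom ≫ a := hf.lift_fst _ _ _

theorem toMid_snd : toMid hf hc E ≫ hf.snd E.obj.hom = hc.snd E.obj.hom := hf.lift_snd _ _ _

/-- `E ×_Y X' ⟶ (E ×_Y X) ×_X X'`. -/
noncomputable def homLeft :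
    (EtOver.bcObj hc E).obj.left ⟶ (EtOver.bcObj ha (EtOver.bcObj hf E)).obj.left :=
  ha.lift (hc.fst E.obj.hom) (toMid hf hc E) (toMid_fst hf hc E).symm

theorem homLeft_fst :
    (yon S).map (homLeft ha hf hc E) ≫ ha.fst (EtOver.bcObj hf E).obj.hom = hc.fst E.obj.hom :=
  ha.lift_fst _ _ _

theorem homLeft_snd :
    homLeft ha hf hc E ≫ ha.snd (EtOver.bcObj hf E).obj.hom = toMid hf hc E := ha.lift_snd _ _ _

/-- `(E ×_Y X) ×_X X' ⟶ E ×_Y X'`. -/
noncomputable def invLeft :
    (EtOver.bcObj ha (EtOver.bcObj hf E)).obj.left ⟶ (EtOver.bcObj hc E).obj.left :=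
  hc.lift (ha.fst (EtOver.bcObj hf E).obj.hom)
    (ha.snd (EtOver.bcObj hf E).obj.hom ≫ hf.snd E.obj.hom) (by
      rw [← Category.assoc, ha.w, Category.assoc, Functor.map_comp, Category.assoc]
      congr 1
      exact hf.w _)

theorem invLeft_fst :
    (yon S).map (invLeft ha hf hc E) ≫ hc.fst E.obj.hom = ha.fst (EtOver.bcObj hf E).obj.hom :=
  hc.lift_fst _ _ _

theorem invLeft_snd :
    invLeft ha hf hc E ≫ hc.snd E.obj.hom =
      ha.snd (EtOver.bcObj hf E).obj.hom ≫ hf.snd E.obj.hom := hc.lift_snd _ _ _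

theorem homLeft_invLeft : homLeft ha hf hc E ≫ invLeft ha hf hc E = 𝟙 _ := by
  apply hc.hom_ext
  · rw [Functor.map_comp, Category.assoc, invLeft_fst, homLeft_fst, CategoryTheory.Functor.map_id, Category.id_comp]
  · rw [Category.assoc, invLeft_snd, ← Category.assoc, homLeft_snd, toMid_snd, Category.id_comp]

theorem invLeft_homLeft : invLeft ha hf hc E ≫ homLeft ha hf hc E = 𝟙 _ := by
  apply ha.hom_ext
  · rw [Functor.map_comp, Category.assoc, homLeft_fst, invLeft_fst, CategoryTheory.Functor.map_id, Category.id_comp]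
  · rw [Category.assoc, homLeft_snd, Category.id_comp]
    apply hf.hom_ext
    · rw [Functor.map_comp, Category.assoc, toMid_fst, ← Category.assoc, invLeft_fst]
      exact ha.w _
    · rw [Category.assoc, toMid_snd, invLeft_snd]

/-- The isomorphism `E ×_Y X' ≅ (E ×_Y X) ×_X X'` in the small étale site of `X'`. -/
noncomputable def bcCompIsoApp : (EtOver.bc hc).obj E ≅ (EtOver.bc ha).obj ((EtOver.bc hf).obj E) where
  hom := EtOver.homMk (homLeft ha hf hc E) (homLeft_fst ha hf hc E)
  inv := EtOver.homMk (invLeft ha hf hc E) (invLeft_fst ha hf hc E)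
  hom_inv_id := EtOver.hom_ext _ _ (homLeft_invLeft ha hf hc E)
  inv_hom_id := EtOver.hom_ext _ _ (invLeft_homLeft ha hf hc E)

end Aux

/-- The natural isomorphism `bc (a ≫ f) ≅ bc f ⋙ bc a`. -/
noncomputable def bcCompIso : EtOver.bc hc ≅ EtOver.bc hf ⋙ EtOver.bc ha :=
  NatIso.ofComponents (fun E => bcCompIsoApp ha hf hc E) (by
    intro E E' g
    apply EtOver.hom_ext
    change (EtOver.bcMap hc g).hom.left ≫ homLeft ha hf hc E' =
      homLeft ha hf hc E ≫ (EtOver.bcMap ha (EtOver.bcMap hf g)).hom.left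
    apply ha.hom_ext
    · rw [Functor.map_comp, Category.assoc, homLeft_fst, Functor.map_comp, Category.assoc]
      erw [EtOver.map_bcMap_fst ha (EtOver.bcMap hf g)]
      rw [homLeft_fst]
      exact EtOver.map_bcMap_fst hc g
    · rw [Category.assoc, homLeft_snd, Category.assoc]
      erw [EtOver.bcMap_snd ha (EtOver.bcMap hf g)]
      rw [← Category.assoc, homLeft_snd]
      apply hf.hom_ext
      · rw [Functor.map_comp, Category.assoc, toMid_fst, ← Category.assoc]
        erw [EtOver.map_bcMap_fst hc g]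
        rw [Functor.map_comp, Category.assoc]
        erw [EtOver.map_bcMap_fst hf g]
        rw [toMid_fst]
      · rw [Category.assoc, toMid_snd, Category.assoc]
        erw [EtOver.bcMap_snd hf g]
        rw [← Category.assoc, toMid_snd]
        exact EtOver.bcMap_snd hc g)

instance continuous_bc_comp :
    Functor.IsContinuous (EtOver.bc hf ⋙ EtOver.bc ha) (etTop Y) (etTop X') :=
  Functor.isContinuous_comp _ _ _ (etTop X) _

theorem bcRingHom_comp :
    (bcRingHom hf ≫ ((EtOver.bc hf).sheafPushforwardContinuous RingCat.{u + 1} (etTop Y) (etTop X)).map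
        (bcRingHom ha)) ≫
      (Functor.sheafPushforwardContinuousNatTrans (bcCompIso ha hf hc).hom RingCat.{u + 1}
        (etTop Y) (etTop X')).app (OEtRing X') = bcRingHom hc := by
  ext E : 3
  change ((BigSite.ORing Scheme.etalePrecoverage S).obj.map (hf.snd E.unop.obj.hom).op ≫
      (BigSite.ORing Scheme.etalePrecoverage S).obj.map
        (ha.snd (EtOver.bcObj hf E.unop).obj.hom).op) ≫
      (BigSite.ORing Scheme.etalePrecoverage S).obj.map (homLeft ha hf hc E.unop).op =
    (BigSite.ORing Scheme.etalePrecoverage S).obj.map (hc.snd E.unop.obj.hom).op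
  rw [← Functor.map_comp, ← Functor.map_comp, ← op_comp, ← op_comp, ← Category.assoc, homLeft_snd,
    toMid_snd]

/-- Pseudo-functoriality of the direct image of modules: `f_* ∘ a_* ≅ (a ≫ f)_*`. -/
noncomputable def pushModEtComp : pushModEt ha ⋙ pushModEt hf ≅ pushModEt hc :=
  SheafOfModules.pushforwardComp (bcRingHom hf) (bcRingHom ha) ≪≫
    SheafOfModules.pushforwardCongr₂ _ (bcCompIso ha hf hc) (bcRingHom_comp ha hf hc)

end Groth.Agent.Lib.Helper30.PushModEtComp
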