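import Groth.Prelude.Def_AlgSpSub
import Groth.Prelude.Def_AlgSp3
import Mathlib.CategoryTheory.Limits.Constructions.Over.Connected
import Mathlib.AlgebraicGeometry.Morphisms.SchemeTheoreticallyDominant

set_option autoImplicit false
universe u
open CategoryTheory CategoryTheory.Limits AlgebraicGeometry Opposite

namespace Groth.Agent.Lib.Helper30.SchDense

theorem app_ι_injective_iff {X : Scheme.{u}} (W U : X.Opens) :
    Function.Injective (W.ι.app U) ↔
      Function.Injective (X.presheaf.map (homOfLE (inf_le_left : U ⊓ W ≤ U)).op) := by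
  have h : W.ι ''ᵁ W.ι ⁻¹ᵁ U = U ⊓ W := by
    rw [Scheme.Hom.image_preimage_eq_opensRange_inf, Scheme.Opens.opensRange_ι, inf_comm]
  rw [Scheme.Opens.ι_app]
  have : X.presheaf.map (homOfLE (inf_le_left : U ⊓ W ≤ U)).op =
      X.presheaf.map (homOfLE (x := W.ι ''ᵁ W.ι ⁻¹ᵁ U) (Set.image_preimage_subset _ _)).op ≫
        X.presheaf.map (eqToHom h.symm).op := by
    rw [← Functor.map_comp]; rfl
  rw [this]
  have hbij : Function.Bijective (X.presheaf.map (eqToHom h.symm).op) :=
    (ConcreteCategory.isIso_iff_bijective _).mp inferInstance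
  constructor
  · intro hi
    have := hbij.1.comp hi
    convert this using 1
    ext x; rfl
  · intro hi
    have hc : (ConcreteCategory.hom (X.presheaf.map (homOfLE (x := W.ι ''ᵁ W.ι ⁻¹ᵁ U)
        (Set.image_preimage_subset _ _)).op ≫ X.presheaf.map (eqToHom h.symm).op) : _ → _) =
        (X.presheaf.map (eqToHom h.symm).op) ∘ (X.presheaf.map (homOfLE (x := W.ι ''ᵁ W.ι ⁻¹ᵁ U)
        (Set.image_preimage_subset _ _)).op) := by
      ext x; rfl
    rw [hc] at hi
    exact Function.Injective.of_comp hi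

/-- Strong schematic density of an open implies that its inclusion is scheme theoretically dominant. -/
theorem isSchemeTheoreticallyDominant_of_dense {X : Scheme.{u}} (W : X.Opens)
    (hW : CInt.IsSchematicallyDense W) : IsSchemeTheoreticallyDominant W.ι := by
  rw [isSchemeTheoreticallyDominant_iff]
  refine Scheme.IdealSheafData.ext ?_
  funext U
  rw [Scheme.IdealSheafData.ideal_bot, Pi.bot_apply, ← le_bot_iff]
  refine (Scheme.Hom.ideal_ker_le W.ι U).trans ?_
  rw [le_bot_iff, ← RingHom.injective_iff_ker_eq_bot]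
  exact (app_ι_injective_iff W U.1).2 (hW U.1)

/-- For a quasi-compact open, scheme theoretic dominance of the inclusion is strong schematic density. -/
theorem dense_of_isSchemeTheoreticallyDominant {X : Scheme.{u}} (W : X.Opens) [QuasiCompact W.ι]
    [IsSchemeTheoreticallyDominant W.ι] : CInt.IsSchematicallyDense W := fun U =>
  (app_ι_injective_iff W U).1 (W.ι.app_injective U)

theorem dense_iff_isSchemeTheoreticallyDominant {X : Scheme.{u}} (W : X.Opens) [QuasiCompact W.ι] :
    CInt.IsSchematicallyDense W ↔ IsSchemeTheoreticallyDominant W.ι :=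
  ⟨isSchemeTheoreticallyDominant_of_dense W, fun _ => dense_of_isSchemeTheoreticallyDominant W⟩

/-- Flat pullback of a quasi-compact schematically dense open is schematically dense. -/
theorem dense_preimage_of_flat {X Y : Scheme.{u}} (p : X ⟶ Y) [Flat p] (W : Y.Opens)
    [QuasiCompact W.ι] (hW : CInt.IsSchematicallyDense W) :
    CInt.IsSchematicallyDense (p ⁻¹ᵁ W) := by
  have := isSchemeTheoreticallyDominant_of_dense W hW
  have sq := isPullback_morphismRestrict p W
  have hqc : QuasiCompact (p ⁻¹ᵁ W).ι := MorphismProperty.of_isPullback sq inferInstance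
  have : IsSchemeTheoreticallyDominant (p ⁻¹ᵁ W).ι :=
    IsSchemeTheoreticallyDominant.of_isPullback sq
  exact dense_of_isSchemeTheoreticallyDominant _

end Groth.Agent.Lib.Helper30.SchDense

namespace Groth.Agent.Lib.Helper30.SchDense

open AlgSp

variable {S : Scheme.{u}}

/-- The open subscheme `h ⁻¹ W` is the pullback of the open subscheme `W`, as a square in `Over S` mapped to sheaves. -/
theorem isPullback_yon_preimage {A' V : Over S} (h : A' ⟶ V) (W : V.left.Opens) :
    ∃ m : Over.mk ((h.left ⁻¹ᵁ W).ι ≫ A'.hom) ⟶ Over.mk (W.ι ≫ V.hom),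
      IsPullback ((yon S).map m)
        ((yon S).map (Over.homMk (h.left ⁻¹ᵁ W).ι rfl :
          Over.mk ((h.left ⁻¹ᵁ W).ι ≫ A'.hom) ⟶ A'))
        ((yon S).map (Over.homMk W.ι rfl : Over.mk (W.ι ≫ V.hom) ⟶ V))
        ((yon S).map h) := by
  have sq0 := isPullback_morphismRestrict h.left W
  let m : Over.mk ((h.left ⁻¹ᵁ W).ι ≫ A'.hom) ⟶ Over.mk (W.ι ≫ V.hom) :=
    Over.homMk (h.left ∣_ W) (by
      change (h.left ∣_ W) ≫ W.ι ≫ V.hom = (h.left ⁻¹ᵁ W).ι ≫ A'.hom
      rw [← Category.assoc, sq0.w, Category.assoc, Over.w h])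
  refine ⟨m, ?_⟩
  have sqO : IsPullback m
      (Over.homMk (h.left ⁻¹ᵁ W).ι rfl : Over.mk ((h.left ⁻¹ᵁ W).ι ≫ A'.hom) ⟶ A')
      (Over.homMk W.ι rfl : Over.mk (W.ι ≫ V.hom) ⟶ V) h := by
    refine IsPullback.of_map (Over.forget S) ?_ sq0
    ext
    exact sq0.w
  exact sqO.map (yon S)

/-- **Transfer of a chart of an open subspace along a morphism**: if `P = G ×_Y X` and the inverse image of `G` in the
chart `h_V ⟶ Y` is the open `W`, then for a chart `φ' : h_{A'} ⟶ X` lying over `h : A' ⟶ V` the inverse image of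
`P` in `A'` is `h ⁻¹ W`. -/
theorem exists_isPullback_preimage {X Y G P : Sp S} {j : G ⟶ Y} {g : X ⟶ Y} {fst : P ⟶ G}
    {snd : P ⟶ X} (hP : IsPullback fst snd j g) {V : Over S} {φ : (yon S).obj V ⟶ Y}
    (W : V.left.Opens) {fstG : (yon S).obj (Over.mk (W.ι ≫ V.hom)) ⟶ G}
    (sqG : IsPullback fstG
      ((yon S).map (Over.homMk W.ι rfl : Over.mk (W.ι ≫ V.hom) ⟶ V)) j φ)
    {A' : Over S} (φ' : (yon S).obj A' ⟶ X) (h : A' ⟶ V) (hw : φ' ≫ g = (yon S).map h ≫ φ) :
    ∃ fst' : (yon S).obj (Over.mk ((h.left ⁻¹ᵁ W).ι ≫ A'.hom)) ⟶ P,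
      IsPullback fst' ((yon S).map (Over.homMk (h.left ⁻¹ᵁ W).ι rfl :
        Over.mk ((h.left ⁻¹ᵁ W).ι ≫ A'.hom) ⟶ A')) snd φ' := by
  obtain ⟨m, sq1⟩ := isPullback_yon_preimage h W
  have big := sq1.paste_horiz sqG
  rw [← hw] at big
  have hw' : ((yon S).map m ≫ fstG) ≫ j = ((yon S).map (Over.homMk (h.left ⁻¹ᵁ W).ι rfl :
        Over.mk ((h.left ⁻¹ᵁ W).ι ≫ A'.hom) ⟶ A') ≫ φ') ≫ g := by
    rw [Category.assoc _ φ' g]
    exact big.w
  have h1 : hP.lift _ _ hw' ≫ fst = (yon S).map m ≫ fstG := hP.lift_fst _ _ _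
  refine ⟨hP.lift _ _ hw', ?_⟩
  refine IsPullback.of_right ?_ (hP.lift_snd _ _ _) hP
  rw [h1]
  exact big

end Groth.Agent.Lib.Helper30.SchDense
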