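import Mathlib

/-!
# Transferring a Mayer–Vietoris short exact sequence of right adjoints to the left adjoints (helper30)
-/

set_option autoImplicit false
universe v u
open CategoryTheory CategoryTheory.Limits

namespace Groth.Agent.Lib.Helper30.ShriekSES

variable {𝒜 : Type u} [Category.{v} 𝒜] [Abelian 𝒜] [EnoughInjectives 𝒜]
  {Sh₁ Sh₂ Sh₃ T₁ T₂ T₃ : 𝒜 ⥤ 𝒜} (adj₁ : Sh₁ ⊣ T₁) (adj₂ : Sh₂ ⊣ T₂) (adj₃ : Sh₃ ⊣ T₃)
  [T₃.Additive]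
  (η₁ : ∀ G, G ⟶ T₁.obj G) (η₂ : ∀ G, G ⟶ T₂.obj G)
  (ρ₁ : ∀ G, T₁.obj G ⟶ T₃.obj G) (ρ₂ : ∀ G, T₂.obj G ⟶ T₃.obj G)
  (ε₁ : ∀ F, Sh₁.obj F ⟶ F) (ε₂ : ∀ F, Sh₂.obj F ⟶ F)
  (σ₁ : ∀ F, Sh₃.obj F ⟶ Sh₁.obj F) (σ₂ : ∀ F, Sh₃.obj F ⟶ Sh₂.obj F)
  (hε₁ : ∀ {F G : 𝒜} (φ : F ⟶ G), adj₁.homEquiv _ _ (ε₁ F ≫ φ) = φ ≫ η₁ G)
  (hε₂ : ∀ {F G : 𝒜} (φ : F ⟶ G), adj₂.homEquiv _ _ (ε₂ F ≫ φ) = φ ≫ η₂ G)
  (hσ₁ : ∀ {F G : 𝒜} (φ : Sh₁.obj F ⟶ G),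
    adj₃.homEquiv _ _ (σ₁ F ≫ φ) = adj₁.homEquiv _ _ φ ≫ ρ₁ G)
  (hσ₂ : ∀ {F G : 𝒜} (φ : Sh₂.obj F ⟶ G),
    adj₃.homEquiv _ _ (σ₂ F ≫ φ) = adj₂.homEquiv _ _ φ ≫ ρ₂ G)
  (hMV : ∀ G, ∃ h : biprod.lift (η₁ G) (η₂ G) ≫ biprod.desc (ρ₁ G) (-ρ₂ G) = 0,
    (ShortComplex.mk _ _ h).ShortExact)

include hMV in
theorem eta_rho (G : 𝒜) : η₁ G ≫ ρ₁ G = η₂ G ≫ ρ₂ G := by
  obtain ⟨h, -⟩ := hMV G
  rw [biprod.lift_desc, Preadditive.comp_neg, ← sub_eq_add_neg, sub_eq_zero] at h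
  exact h

include hε₁ hε₂ hσ₁ hσ₂ hMV in
theorem sigma_eps (F : 𝒜) : σ₁ F ≫ ε₁ F = σ₂ F ≫ ε₂ F := by
  apply (adj₃.homEquiv _ _).injective
  have e1' := hε₁ (𝟙 F)
  have e2' := hε₂ (𝟙 F)
  rw [Category.comp_id, Category.id_comp] at e1' e2'
  rw [hσ₁ (ε₁ F), hσ₂ (ε₂ F), e1', e2']
  exact eta_rho η₁ η₂ ρ₁ ρ₂ hMV F

include hε₁ hε₂ hσ₁ hσ₂ hMV in
/-- The universal property: the pair `(ε₁, ε₂)` is the cokernel of `(σ₁, -σ₂)`. -/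
theorem existsUnique_desc (F G : 𝒜) (k₁ : Sh₁.obj F ⟶ G) (k₂ : Sh₂.obj F ⟶ G)
    (hk : σ₁ F ≫ k₁ = σ₂ F ≫ k₂) : ∃! d : F ⟶ G, ε₁ F ≫ d = k₁ ∧ ε₂ F ≫ d = k₂ := by
  obtain ⟨h, hS⟩ := hMV G
  have hmono : Mono (ShortComplex.mk _ _ h).f := hS.mono_f
  have hκ : adj₁.homEquiv _ _ k₁ ≫ ρ₁ G = adj₂.homEquiv _ _ k₂ ≫ ρ₂ G := by
    rw [← hσ₁ k₁, ← hσ₂ k₂, hk]
  have hκ' : biprod.lift (adj₁.homEquiv _ _ k₁) (adj₂.homEquiv _ _ k₂) ≫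
      (ShortComplex.mk _ _ h).g = 0 := by
    change _ ≫ biprod.desc (ρ₁ G) (-ρ₂ G) = 0
    rw [biprod.lift_desc, Preadditive.comp_neg, ← sub_eq_add_neg, sub_eq_zero]
    exact hκ
  let d : F ⟶ G := hS.exact.lift _ hκ'
  have hd : d ≫ biprod.lift (η₁ G) (η₂ G) =
      biprod.lift (adj₁.homEquiv _ _ k₁) (adj₂.homEquiv _ _ k₂) := hS.exact.lift_f _ hκ'
  have hd1 : d ≫ η₁ G = adj₁.homEquiv _ _ k₁ := by
    have := congrArg (fun φ => φ ≫ biprod.fst) hd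
    simpa using this
  have hd2 : d ≫ η₂ G = adj₂.homEquiv _ _ k₂ := by
    have := congrArg (fun φ => φ ≫ biprod.snd) hd
    simpa using this
  refine ⟨d, ⟨?_, ?_⟩, ?_⟩
  · apply (adj₁.homEquiv _ _).injective
    rw [hε₁ d, hd1]
  · apply (adj₂.homEquiv _ _).injective
    rw [hε₂ d, hd2]
  · rintro d' ⟨h1, h2⟩
    rw [← cancel_mono (biprod.lift (η₁ G) (η₂ G)), hd]
    apply biprod.hom_ext
    · rw [Category.assoc, biprod.lift_fst, biprod.lift_fst, ← hε₁ d', h1]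
    · rw [Category.assoc, biprod.lift_snd, biprod.lift_snd, ← hε₂ d', h2]

include hσ₁ hσ₂ hMV in
/-- Every map from `Sh₃ F` to an injective object extends along `(σ₁, -σ₂)`. -/
theorem exists_extension (F I : 𝒜) [Injective I] (e : Sh₃.obj F ⟶ I) :
    ∃ (k₁ : Sh₁.obj F ⟶ I) (k₂ : Sh₂.obj F ⟶ I), σ₁ F ≫ k₁ - σ₂ F ≫ k₂ = e := by
  obtain ⟨h, hS⟩ := hMV I
  have : Injective (ShortComplex.mk _ _ h).X₁ := inferInstanceAs (Injective I)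
  obtain ⟨s', hsg⟩ : ∃ s' : T₃.obj I ⟶ T₁.obj I ⊞ T₂.obj I,
      s' ≫ biprod.desc (ρ₁ I) (-ρ₂ I) = 𝟙 _ :=
    ⟨hS.splittingOfInjective.s, hS.splittingOfInjective.s_g⟩
  let τ : F ⟶ T₃.obj I := adj₃.homEquiv _ _ e
  let κ₁ : F ⟶ T₁.obj I := τ ≫ s' ≫ biprod.fst
  let κ₂ : F ⟶ T₂.obj I := τ ≫ s' ≫ biprod.snd
  have hκ : κ₁ ≫ ρ₁ I - κ₂ ≫ ρ₂ I = τ := by
    have h1 : s' ≫ biprod.fst ≫ ρ₁ I - s' ≫ biprod.snd ≫ ρ₂ I = 𝟙 _ := by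
      rw [← hsg, biprod.desc_eq, Preadditive.comp_add, Preadditive.comp_neg, Preadditive.comp_neg,
        ← sub_eq_add_neg]
    simp only [κ₁, κ₂, Category.assoc]
    rw [← Preadditive.comp_sub, h1, Category.comp_id]
  refine ⟨(adj₁.homEquiv _ _).symm κ₁, (adj₂.homEquiv _ _).symm κ₂, ?_⟩
  apply (adj₃.homEquiv _ _).injective
  have hadd : ∀ x y : Sh₃.obj F ⟶ I, adj₃.homEquiv _ _ (x - y) =
      adj₃.homEquiv _ _ x - adj₃.homEquiv _ _ y := by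
    intro x y
    rw [Adjunction.homEquiv_unit, Adjunction.homEquiv_unit, Adjunction.homEquiv_unit,
      Functor.map_sub, Preadditive.comp_sub]
  rw [hadd, hσ₁, hσ₂, Equiv.apply_symm_apply, Equiv.apply_symm_apply]
  exact hκ

include hε₁ hε₂ hσ₁ hσ₂ hMV in
/-- **The extension-by-zero Mayer–Vietoris sequence is short exact.** -/
theorem shriek_shortExact (F : 𝒜) :
    ∃ h : biprod.lift (σ₁ F) (-σ₂ F) ≫ biprod.desc (ε₁ F) (ε₂ F) = 0,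
      (ShortComplex.mk _ _ h).ShortExact := by
  have hσε := sigma_eps adj₁ adj₂ adj₃ η₁ η₂ ρ₁ ρ₂ ε₁ ε₂ σ₁ σ₂ hε₁ hε₂ hσ₁ hσ₂ hMV F
  have hzero : biprod.lift (σ₁ F) (-σ₂ F) ≫ biprod.desc (ε₁ F) (ε₂ F) = 0 := by
    rw [biprod.lift_desc, Preadditive.neg_comp, ← sub_eq_add_neg, sub_eq_zero]
    exact hσε
  refine ⟨hzero, ?_⟩
  have key : ∀ {G : 𝒜} (k : Sh₁.obj F ⊞ Sh₂.obj F ⟶ G), biprod.lift (σ₁ F) (-σ₂ F) ≫ k = 0 →
      ∃! d : F ⟶ G, biprod.desc (ε₁ F) (ε₂ F) ≫ d = k := by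
    intro G k hk
    have hk' : σ₁ F ≫ biprod.inl ≫ k = σ₂ F ≫ biprod.inr ≫ k := by
      have : biprod.lift (σ₁ F) (-σ₂ F) = σ₁ F ≫ biprod.inl - σ₂ F ≫ biprod.inr := by
        apply biprod.hom_ext <;> simp
      rw [this, Preadditive.sub_comp, sub_eq_zero, Category.assoc, Category.assoc] at hk
      exact hk
    obtain ⟨d, ⟨hd1, hd2⟩, hu⟩ := existsUnique_desc adj₁ adj₂ adj₃ η₁ η₂ ρ₁ ρ₂ ε₁ ε₂ σ₁ σ₂
      hε₁ hε₂ hσ₁ hσ₂ hMV F G (biprod.inl ≫ k) (biprod.inr ≫ k) hk'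
    refine ⟨d, ?_, ?_⟩
    · apply biprod.hom_ext'
      · rw [biprod.inl_desc_assoc, hd1]
      · rw [biprod.inr_desc_assoc, hd2]
    · intro d' hd'
      apply hu
      constructor
      · rw [← hd', biprod.inl_desc_assoc]
      · rw [← hd', biprod.inr_desc_assoc]
  have hcok : IsColimit (CokernelCofork.ofπ (biprod.desc (ε₁ F) (ε₂ F)) hzero) :=
    CokernelCofork.IsColimit.ofπ _ _ (fun k hk => (key k hk).choose)
      (fun k hk => (key k hk).choose_spec.1)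
      (fun k hk m hm => (key k hk).choose_spec.2 m hm)
  have hex := ((ShortComplex.mk _ _ hzero).exact_and_epi_g_iff_g_is_cokernel).2 ⟨hcok⟩
  have hmono : Mono (biprod.lift (σ₁ F) (-σ₂ F)) := by
    apply Preadditive.mono_of_kernel_zero
    set ι := kernel.ι (biprod.lift (σ₁ F) (-σ₂ F)) with hι
    let j := Injective.ι (kernel (biprod.lift (σ₁ F) (-σ₂ F)))
    let e := Injective.factorThru j ι
    have he : ι ≫ e = j := Injective.comp_factorThru j ι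
    obtain ⟨k₁, k₂, hk⟩ := exists_extension adj₁ adj₂ adj₃ η₁ η₂ ρ₁ ρ₂ σ₁ σ₂ hσ₁ hσ₂ hMV F _ e
    have hfac : biprod.lift (σ₁ F) (-σ₂ F) ≫ biprod.desc k₁ k₂ = e := by
      rw [biprod.lift_desc, Preadditive.neg_comp, ← sub_eq_add_neg]
      exact hk
    have hj : j = 0 := by
      rw [← he, ← hfac, ← Category.assoc, hι, kernel.condition, zero_comp]
    have hid : 𝟙 (kernel (biprod.lift (σ₁ F) (-σ₂ F))) = 0 := by
      rw [← cancel_mono j, hj, comp_zero, comp_zero]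
    rw [← Category.id_comp ι, hid, zero_comp]
  exact { exact := hex.1, mono_f := hmono, epi_g := hex.2 }

section Mates

universe v₁ u₁ v₂ u₂

variable {C : Type u₁} [Category.{v₁} C] {D : Type u₂} [Category.{v₂} D]

/-- The conjugate of `β` through two adjunctions, in terms of the hom-set bijections. -/
theorem homEquiv_conjugate_symm {L₁ L₂ : C ⥤ D} {R₁ R₂ : D ⥤ C} (adj₁ : L₁ ⊣ R₁) (adj₂ : L₂ ⊣ R₂)
    (β : R₁ ⟶ R₂) {X : C} {Y : D} (φ : L₁.obj X ⟶ Y) :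
    adj₂.homEquiv X Y (((conjugateEquiv adj₁ adj₂).symm β).app X ≫ φ) =
      adj₁.homEquiv X Y φ ≫ β.app Y := by
  rw [Adjunction.homEquiv_unit, Adjunction.homEquiv_unit, Functor.map_comp, ← Category.assoc,
    ← unit_conjugateEquiv_symm adj₁ adj₂ β X, Category.assoc, Category.assoc, β.naturality]

/-- For an adjoint triple `L ⊣ R ⊣ P`, the counit of `L ⊣ R` corresponds to the unit of `R ⊣ P` under the composite
adjunction `R ⋙ L ⊣ R ⋙ P`. -/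
theorem homEquiv_comp_counit {L : D ⥤ C} {R : C ⥤ D} {P : D ⥤ C} (adjL : L ⊣ R) (adjP : R ⊣ P)
    {F G : C} (φ : F ⟶ G) :
    (adjP.comp adjL).homEquiv F G (adjL.counit.app F ≫ φ) = φ ≫ adjP.unit.app G := by
  rw [Adjunction.homEquiv_unit, Adjunction.comp_unit_app, Functor.comp_map, Category.assoc,
    ← Functor.map_comp]
  have e : adjL.unit.app (R.obj F) ≫ R.map (adjL.counit.app F ≫ φ) = R.map φ := by
    rw [Functor.map_comp, ← Category.assoc, Adjunction.right_triangle_components]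
    exact Category.id_comp _
  rw [e]
  exact (adjP.unit.naturality φ).symm

end Mates

end Groth.Agent.Lib.Helper30.ShriekSES
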