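import Mathlib
import Groth.Prelude.Def_Found
import Groth.Agent.Lib.Helper30.SmoothRegular

/-!
# Smooth ring maps are regular ring maps (helper30)

* `isRegularRing_of_smooth_field k S`: a smooth algebra over a field is a regular ring.
* `isRegularHom_of_smooth R S`: a smooth ring map is a regular ring map (`CAlg.IsRegularHom`):
  flat with Noetherian, geometrically regular fibres.
-/

set_option autoImplicit false
universe u
open TensorProduct

namespace Groth.Agent.Lib.Helper30.SmoothRegular

/-- a smooth algebra over a field is a regular ring -/
theorem isRegularRing_of_smooth_field (k S : Type u) [Field k] [CommRing S] [Algebra k S]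
    [Algebra.Smooth k S] : IsRegularRing S := by
  have hnoeth : IsNoetherianRing S := Algebra.FiniteType.isNoetherianRing k S
  refine ⟨fun q _ => ?_⟩
  apply regular_of_smooth k S q
  infer_instance

/-- A smooth ring map is a regular ring map. -/
theorem isRegularHom_of_smooth (R S : Type u) [CommRing R] [CommRing S] [Algebra R S]
    [Algebra.Smooth R S] : CAlg.IsRegularHom R S := by
  refine ⟨inferInstance, fun p _ => ?_⟩
  have hsm : Algebra.Smooth p.ResidueField (p.Fiber S) := inferInstance
  refine ⟨Algebra.FiniteType.isNoetherianRing p.ResidueField (p.Fiber S), ?_⟩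
  intro k' _ _ _
  have : Algebra.Smooth k' (k' ⊗[p.ResidueField] p.Fiber S) := inferInstance
  exact isRegularRing_of_smooth_field k' _

end Groth.Agent.Lib.Helper30.SmoothRegular
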