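import Mathlib
import Groth.Prelude.Def_EGA4b
import Groth.Agent.S0558
import Groth.Agent.S9829
import Groth.Agent.Lib.Helper30.SmoothRegularHom

/-!
# Smooth ring maps are normal ring maps (helper30)

* `isNormalRing_of_isRegularRing`: a regular ring is a normal ring (`EGA4.IsNormalRing`).
* `isNormalHom_of_smooth R S`: a smooth ring map is a normal ring map (`EGA4.IsNormalHom`).
-/

set_option autoImplicit false
universe u
open TensorProduct

namespace Groth.Agent.Lib.Helper30.SmoothRegular

/-- a regular ring is normal -/
theorem isNormalRing_of_isRegularRing (S : Type u) [CommRing S] [IsRegularRing S] :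
    EGA4.IsNormalRing S := fun q _ =>
  ⟨Groth.Agent.S0558.result (Localization.AtPrime q), Groth.Agent.S9829.result (Localization.AtPrime q)⟩

/-- A smooth ring map is a normal ring map. -/
theorem isNormalHom_of_smooth (R S : Type u) [CommRing R] [CommRing S] [Algebra R S]
    [Algebra.Smooth R S] : EGA4.IsNormalHom R S := by
  refine ⟨inferInstance, fun p _ => ?_⟩
  have hsm : Algebra.Smooth p.ResidueField (p.Fiber S) := inferInstance
  intro k' _ _ _
  have : Algebra.Smooth k' (k' ⊗[p.ResidueField] p.Fiber S) := inferInstance
  have := isRegularRing_of_smooth_field k' (k' ⊗[p.ResidueField] p.Fiber S)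
  exact isNormalRing_of_isRegularRing _

end Groth.Agent.Lib.Helper30.SmoothRegular
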