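import Mathlib.RingTheory.Etale.Kaehler
import Mathlib.RingTheory.Etale.StandardEtale
import Mathlib.RingTheory.Etale.Descent
import Mathlib.RingTheory.Smooth.Basic
import Mathlib.RingTheory.Smooth.Flat
import Mathlib.RingTheory.Flat.Basic
import Mathlib.RingTheory.Flat.FaithfullyFlat.Algebra
import Mathlib.RingTheory.Unramified.LocalStructure
import Mathlib.Algebra.Polynomial.Lifts
import Groth.Agent.Lib.Helper30.EtaleSourceFP3

/-!
# Smoothness descends along étale covers of the source (ring form)

If `A → B → C` with `C` étale over `B`, `Spec C → Spec B` surjective and `C` smooth over `A`, then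
`B` is smooth over `A`.

The proof: `B` is finitely presented over `A` (`finitePresentation_of_etale_of_surjective`);
`Ω[B/A]` is finitely presented and becomes projective after the faithfully flat base change to `C`,
hence is projective; and `H¹(L_{B/A}) = 0` because for a standard étale chart `T` of `C` over `B`,
lifted to a standard étale algebra `Q` over a polynomial ring `R₀ ↠ B` with `T = B ⊗[R₀] Q`, one has
`T ⊗[B] H¹(L_{B/A}) ≃ H¹(L_{T/A}) = 0` (`Algebra.Extension.tensorH1CotangentOfFormallyEtale`).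
-/

set_option autoImplicit false
universe u
open TensorProduct Polynomial

namespace Groth.Agent.Lib.Helper30.SmoothSource

theorem bijective_liftBaseChange_of_flat {R₀ Q : Type*} [CommRing R₀] [CommRing Q] [Algebra R₀ Q]
    [Module.Flat R₀ Q] (I : Ideal R₀) (J : Ideal Q) (hJ : J = I.map (algebraMap R₀ Q))
    (g : I →ₗ[R₀] J) (hg : ∀ x, (g x : Q) = algebraMap R₀ Q x) :
    Function.Bijective (g.liftBaseChange Q) := by
  let ψ : Q ⊗[R₀] I →ₗ[R₀] Q := (TensorProduct.rid R₀ Q).toLinearMap ∘ₗ
    (LinearMap.lTensor Q (Submodule.subtype I))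
  have hψinj : Function.Injective ψ := by
    refine (TensorProduct.rid R₀ Q).injective.comp ?_
    exact Module.Flat.lTensor_preserves_injective_linearMap _ (Submodule.injective_subtype I)
  have hval : ∀ x, ((g.liftBaseChange Q x : J) : Q) = ψ x := by
    intro x
    induction x with
    | zero => simp
    | add x y hx hy => simp only [map_add, Submodule.coe_add, hx, hy]
    | tmul q i =>
      simp only [LinearMap.liftBaseChange_tmul, Submodule.coe_smul, hg, ψ, LinearMap.coe_comp,
        LinearEquiv.coe_coe, Function.comp_apply, LinearMap.lTensor_tmul, Submodule.coe_subtype,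
        TensorProduct.rid_tmul, smul_eq_mul, Algebra.smul_def]
      ring
  constructor
  · intro x y hxy
    apply hψinj
    rw [← hval, ← hval, hxy]
  · rintro ⟨y, hy⟩
    have hy' : y ∈ I.map (algebraMap R₀ Q) := by rw [← hJ]; exact hy
    suffices h : ∃ x, ((g.liftBaseChange Q x : J) : Q) = y by
      obtain ⟨x, hx⟩ := h
      exact ⟨x, Subtype.ext hx⟩
    clear hy
    rw [Ideal.map] at hy'
    induction hy' using Submodule.span_induction with
    | mem y hy =>
      obtain ⟨i, hi, rfl⟩ := hy
      exact ⟨1 ⊗ₜ ⟨i, hi⟩, by simp [hg]⟩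
    | zero => exact ⟨0, by simp⟩
    | add x y _ _ hx hy =>
      obtain ⟨a, ha⟩ := hx
      obtain ⟨b, hb⟩ := hy
      exact ⟨a + b, by simp [ha, hb]⟩
    | smul a x _ hx =>
      obtain ⟨b, hb⟩ := hx
      exact ⟨a • b, by simp [hb]⟩

section H1

variable (A : Type u) {R₀ B Q T : Type u} [CommRing A] [CommRing R₀] [CommRing B] [CommRing Q]
  [CommRing T]
  [Algebra A R₀] [Algebra A B] [Algebra R₀ B] [IsScalarTower A R₀ B]
  [Algebra A Q] [Algebra R₀ Q] [IsScalarTower A R₀ Q]
  [Algebra A T] [Algebra B T] [IsScalarTower A B T]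
  [Algebra Q T] [IsScalarTower A Q T]
  [Algebra R₀ T] [IsScalarTower R₀ B T] [IsScalarTower R₀ Q T]

/-- The extension of `B` given by a surjection `R₀ → B`. -/
noncomputable def extOfSurj (hB : Function.Surjective (algebraMap R₀ B)) :
    Algebra.Extension.{u} A B :=
  { Ring := R₀, σ := _, algebraMap_σ := Function.surjInv_eq hB }

/-- The morphism of extensions `(R₀ → B) ⟶ (Q → T)`. -/
noncomputable def extHom (hB : Function.Surjective (algebraMap R₀ B))
    (hT : Function.Surjective (algebraMap Q T)) : (extOfSurj A hB).Hom (extOfSurj A hT) :=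
  { toRingHom := algebraMap R₀ Q
    toRingHom_algebraMap := fun x => by
      change algebraMap R₀ Q (algebraMap A R₀ x) = algebraMap A Q (algebraMap A A x)
      rw [← IsScalarTower.algebraMap_apply]; rfl
    algebraMap_toRingHom := fun x => by
      change algebraMap Q T (algebraMap R₀ Q x) = algebraMap B T (algebraMap R₀ B x)
      rw [← IsScalarTower.algebraMap_apply, ← IsScalarTower.algebraMap_apply] }

/-- If `Q` is flat and formally étale over `R₀ ↠ B`, `T = Q/IQ` is flat over `B` and formally
smooth over `A`, then `T ⊗[B] H¹(L_{B/A}) = 0`. -/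
theorem subsingleton_tensor_h1Cotangent
    (hB : Function.Surjective (algebraMap R₀ B)) (hT : Function.Surjective (algebraMap Q T))
    (hker : RingHom.ker (algebraMap Q T) =
      (RingHom.ker (algebraMap R₀ B)).map (algebraMap R₀ Q))
    [Algebra.FormallySmooth A R₀] [Algebra.FormallyEtale R₀ Q] [Module.Flat R₀ Q]
    [Module.Flat B T] [Algebra.FormallySmooth A T] :
    Subsingleton (T ⊗[B] Algebra.H1Cotangent A B) := by
  have i1 : Algebra.FormallySmooth A (extOfSurj A hB).Ring := ‹Algebra.FormallySmooth A R₀›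
  have i2 : Algebra.FormallySmooth R₀ Q := inferInstance
  have i3 : Algebra.FormallySmooth A (extOfSurj A hT).Ring := Algebra.FormallySmooth.comp A R₀ Q
  let alg : Algebra (extOfSurj A hB).Ring (extOfSurj A hT).Ring := ‹Algebra R₀ Q›
  have halg : algebraMap (extOfSurj A hB).Ring (extOfSurj A hT).Ring =
      (extHom A hB hT).toRingHom := rfl
  have H₁ : (extHom A hB hT).toRingHom.FormallyEtale :=
    RingHom.formallyEtale_algebraMap.mpr ‹Algebra.FormallyEtale R₀ Q›
  have H₂ : Function.Bijective
      (((extHom A hB hT).mapKer halg).liftBaseChange (extOfSurj A hT).Ring) :=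
    bijective_liftBaseChange_of_flat (R₀ := R₀) (Q := Q) (RingHom.ker (algebraMap R₀ B))
      (RingHom.ker (algebraMap Q T)) hker _ (fun x => rfl)
  let e := Algebra.Extension.tensorH1CotangentOfFormallyEtale (extHom A hB hT) halg H₁ H₂
  have h1 : Subsingleton (extOfSurj A hT).H1Cotangent :=
    (extOfSurj A hT).equivH1CotangentOfFormallySmooth.subsingleton
  have h2 : Subsingleton (T ⊗[B] (extOfSurj A hB).H1Cotangent) := e.subsingleton
  exact (LinearEquiv.lTensor T (extOfSurj A hB).equivH1CotangentOfFormallySmooth).symm.subsingleton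

end H1

section Tensor

variable (A : Type u) {R₀ B Q : Type u} [CommRing A] [CommRing R₀] [CommRing B] [CommRing Q]
  [Algebra A R₀] [Algebra A B] [Algebra R₀ B] [IsScalarTower A R₀ B]
  [Algebra A Q] [Algebra R₀ Q] [IsScalarTower A R₀ Q]

attribute [local instance] Algebra.TensorProduct.rightAlgebra

theorem isScalarTower_right : IsScalarTower A Q (B ⊗[R₀] Q) := by
  refine IsScalarTower.of_algebraMap_eq fun a => ?_
  change (algebraMap A B a) ⊗ₜ[R₀] (1 : Q) = (1 : B) ⊗ₜ[R₀] (algebraMap A Q a)
  rw [IsScalarTower.algebraMap_apply A R₀ B, IsScalarTower.algebraMap_apply A R₀ Q,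
    Algebra.algebraMap_eq_smul_one, Algebra.algebraMap_eq_smul_one (A := Q),
    TensorProduct.smul_tmul]

omit [CommRing A] [Algebra A R₀] [Algebra A B] [IsScalarTower A R₀ B] [Algebra A Q]
  [IsScalarTower A R₀ Q] in
theorem includeRight_surjective (hB : Function.Surjective (algebraMap R₀ B)) :
    Function.Surjective (algebraMap Q (B ⊗[R₀] Q)) := by
  intro x
  induction x with
  | zero => exact ⟨0, map_zero _⟩
  | add x y hx hy =>
    obtain ⟨a, rfl⟩ := hx
    obtain ⟨b, rfl⟩ := hy
    exact ⟨a + b, map_add _ _ _⟩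
  | tmul b q =>
    obtain ⟨r, rfl⟩ := hB b
    refine ⟨r • q, ?_⟩
    change (1 : B) ⊗ₜ[R₀] (r • q) = (algebraMap R₀ B r) ⊗ₜ[R₀] q
    rw [Algebra.algebraMap_eq_smul_one, TensorProduct.smul_tmul]

omit [CommRing A] [Algebra A R₀] [Algebra A B] [IsScalarTower A R₀ B] [Algebra A Q]
  [IsScalarTower A R₀ Q] in
theorem ker_includeRight (hB : Function.Surjective (algebraMap R₀ B)) :
    RingHom.ker (algebraMap Q (B ⊗[R₀] Q)) =
      (RingHom.ker (algebraMap R₀ B)).map (algebraMap R₀ Q) := by
  apply le_antisymm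
  · intro x hx
    rw [RingHom.mem_ker] at hx
    have hx' : (1 : B) ⊗ₜ[R₀] x = 0 := hx
    let F : R₀ →ₐ[R₀] B := Algebra.ofId R₀ B
    have hF : Function.Surjective F := hB
    have h1 : ((1 : R₀) ⊗ₜ[R₀] x : R₀ ⊗[R₀] Q) ∈
        RingHom.ker (Algebra.TensorProduct.map F (AlgHom.id R₀ Q)) := by
      rw [RingHom.mem_ker, Algebra.TensorProduct.map_tmul, map_one]
      exact hx'
    rw [Algebra.TensorProduct.rTensor_ker F hF] at h1
    have h2 : (Algebra.TensorProduct.lid R₀ Q) ((1 : R₀) ⊗ₜ[R₀] x) ∈
        ((RingHom.ker F).map (Algebra.TensorProduct.includeLeft : R₀ →ₐ[R₀] R₀ ⊗[R₀] Q)).map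
          (Algebra.TensorProduct.lid R₀ Q : R₀ ⊗[R₀] Q →+* Q) :=
      Ideal.mem_map_of_mem _ h1
    rw [Algebra.TensorProduct.lid_tmul, one_smul] at h2
    have h3 : ((RingHom.ker F).map
        (Algebra.TensorProduct.includeLeft : R₀ →ₐ[R₀] R₀ ⊗[R₀] Q)).map
          (Algebra.TensorProduct.lid R₀ Q : R₀ ⊗[R₀] Q →+* Q) ≤
        (RingHom.ker (algebraMap R₀ B)).map (algebraMap R₀ Q) := by
      rw [Ideal.map_le_iff_le_comap, Ideal.map_le_iff_le_comap]
      intro r hr
      rw [Ideal.mem_comap, Ideal.mem_comap]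
      have : (Algebra.TensorProduct.lid R₀ Q : R₀ ⊗[R₀] Q →+* Q)
          ((Algebra.TensorProduct.includeLeft : R₀ →ₐ[R₀] R₀ ⊗[R₀] Q) r) = algebraMap R₀ Q r := by
        simp [Algebra.algebraMap_eq_smul_one]
      rw [this]
      exact Ideal.mem_map_of_mem _ hr
    exact h3 h2
  · rw [Ideal.map_le_iff_le_comap]
    intro r hr
    rw [Ideal.mem_comap, RingHom.mem_ker]
    rw [RingHom.mem_ker] at hr
    change (1 : B) ⊗ₜ[R₀] (algebraMap R₀ Q r) = 0
    rw [Algebra.algebraMap_eq_smul_one, ← TensorProduct.smul_tmul, ← Algebra.algebraMap_eq_smul_one,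
      hr, TensorProduct.zero_tmul]

/-- If `Q` is flat and formally étale over `R₀ ↠ B` with `R₀` formally smooth over `A` and
`B ⊗[R₀] Q` is formally smooth over `A`, then `(B ⊗[R₀] Q) ⊗[B] H¹(L_{B/A}) = 0`. -/
theorem subsingleton_tensor_h1Cotangent_tensor
    (hB : Function.Surjective (algebraMap R₀ B))
    [Algebra.FormallySmooth A R₀] [Algebra.FormallyEtale R₀ Q] [Module.Flat R₀ Q]
    [Algebra.FormallySmooth A (B ⊗[R₀] Q)] :
    Subsingleton ((B ⊗[R₀] Q) ⊗[B] Algebra.H1Cotangent A B) := by
  have := isScalarTower_right A (R₀ := R₀) (B := B) (Q := Q)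
  exact subsingleton_tensor_h1Cotangent A (R₀ := R₀) (B := B) (Q := Q) (T := B ⊗[R₀] Q) hB
    (includeRight_surjective hB) (ker_includeRight hB)

end Tensor

/-- If for every maximal ideal `m` of `B` there is a flat `B`-algebra `T` killing `M` after
tensoring and a prime of `T` whose contraction contains `m`, then `M = 0`. -/
theorem subsingleton_of_flat_charts {B : Type*} [CommRing B] {M : Type*} [AddCommGroup M]
    [Module B M]
    (H : ∀ m : Ideal B, m.IsMaximal → ∃ (T : Type u) (_ : CommRing T) (_ : Algebra B T),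
      Module.Flat B T ∧ Subsingleton (T ⊗[B] M) ∧
        ∃ q : Ideal T, q.IsPrime ∧ m ≤ q.comap (algebraMap B T)) :
    Subsingleton M := by
  refine ⟨fun x y => ?_⟩
  suffices h : ∀ x : M, x = 0 by rw [h x, h y]
  intro x
  let φ : B →ₗ[B] M := LinearMap.toSpanSingleton B M x
  by_contra hx
  have hne : LinearMap.ker φ ≠ ⊤ := by
    intro htop
    apply hx
    have : (1 : B) ∈ LinearMap.ker φ := by rw [htop]; trivial
    simpa [φ] using this
  obtain ⟨m, hm, hle⟩ := Ideal.exists_le_maximal (LinearMap.ker φ) hne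
  obtain ⟨T, _, _, hflat, hsub, q, hq, hmq⟩ := H m hm
  have hexact : Function.Exact (LinearMap.ker φ).subtype φ := LinearMap.exact_subtype_ker_map φ
  have hexact' := Module.Flat.lTensor_exact T hexact
  have h0 : (LinearMap.lTensor T φ) (1 ⊗ₜ 1) = 0 := Subsingleton.elim _ _
  obtain ⟨y, hy⟩ := (hexact' _).1 h0
  let μ : T ⊗[B] B →ₗ[B] T := (TensorProduct.rid B T).toLinearMap
  have hμ : ∀ y : T ⊗[B] (LinearMap.ker φ),
      μ (LinearMap.lTensor T (LinearMap.ker φ).subtype y) ∈ q := by
    intro y
    induction y with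
    | zero => simp
    | add a b ha hb => rw [map_add, map_add]; exact q.add_mem ha hb
    | tmul t b =>
      simp only [LinearMap.lTensor_tmul, Submodule.coe_subtype, μ, LinearEquiv.coe_coe,
        TensorProduct.rid_tmul]
      rw [Algebra.smul_def]
      exact q.mul_mem_right _ (hmq (hle b.2))
  have h1 : μ (1 ⊗ₜ 1) = 1 := by simp [μ]
  have := hμ y
  rw [hy, h1] at this
  exact hq.ne_top ((Ideal.eq_top_iff_one _).2 this)

section Charts

/-- Two standard étale pairs with mutually compatible roots have isomorphic rings. -/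
noncomputable def pairEquiv {R : Type*} [CommRing R] (P₁ P₂ : StandardEtalePair R)
    (h₁ : P₁.HasMap P₂.X) (h₂ : P₂.HasMap P₁.X) : P₁.Ring ≃ₐ[R] P₂.Ring :=
  AlgEquiv.ofAlgHom (P₁.lift P₂.X h₁) (P₂.lift P₁.X h₂)
    (P₂.hom_ext (by simp)) (P₁.hom_ext (by simp))

variable {R₀ B : Type u} [CommRing R₀] [CommRing B] [Algebra R₀ B]

/-- A standard étale pair `(f, g)` over a quotient `B` of `R₀` lifts to a standard étale pair over
`R₀` reducing to `(f, g f')`. -/
theorem exists_lift_pair (hB : Function.Surjective (algebraMap R₀ B)) (P : StandardEtalePair B) :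
    ∃ PP : StandardEtalePair R₀, PP.f.map (algebraMap R₀ B) = P.f ∧
      PP.g.map (algebraMap R₀ B) = P.g * derivative P.f := by
  obtain ⟨F, h1, -, h3⟩ := Polynomial.lifts_and_natDegree_eq_and_monic
    (f := algebraMap R₀ B) (p := P.f)
    (by rw [Polynomial.mem_lifts]; exact Polynomial.map_surjective _ hB _) P.monic_f
  obtain ⟨G, hG⟩ := Polynomial.map_surjective _ hB P.g
  refine ⟨⟨F, h3, G * derivative F, ⟨G, 0, 1, by ring⟩⟩, h1, ?_⟩
  simp only [Polynomial.map_mul, hG, ← Polynomial.derivative_map, h1]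

/-- A standard étale algebra over a quotient `B` of `R₀` is the base change of a standard étale
algebra over `R₀`. -/
theorem exists_equiv_tensor (hB : Function.Surjective (algebraMap R₀ B)) {T₁ : Type u}
    [CommRing T₁] [Algebra B T₁] (SS : StandardEtalePresentation B T₁) :
    ∃ PP : StandardEtalePair R₀, Nonempty (T₁ ≃ₐ[B] B ⊗[R₀] PP.Ring) := by
  obtain ⟨PP, hf, hg⟩ := exists_lift_pair hB SS.P
  refine ⟨PP, ⟨?_⟩⟩
  let P₂ : StandardEtalePair B := PP.map (algebraMap R₀ B)
  have hP₂f : P₂.f = SS.P.f := hf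
  have hP₂g : P₂.g = SS.P.g * derivative SS.P.f := hg
  have h₁ : SS.P.HasMap P₂.X := by
    have := P₂.hasMap_X
    refine ⟨?_, ?_⟩
    · rw [← hP₂f]; exact this.1
    · have h2 := this.2
      rw [hP₂g, map_mul] at h2
      exact isUnit_of_mul_isUnit_left h2
  have h₂ : P₂.HasMap SS.P.X := by
    have := SS.P.hasMap_X
    refine ⟨?_, ?_⟩
    · rw [hP₂f]; exact this.1
    · rw [hP₂g, map_mul]
      exact this.2.mul this.isUnit_derivative_f
  let pres : StandardEtalePresentation R₀ PP.Ring :=
    ⟨PP, PP.X, PP.hasMap_X, by simpa [StandardEtalePair.lift_X_left] using Function.bijective_id⟩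
  let e₃ : B ⊗[R₀] PP.Ring ≃ₐ[B] P₂.Ring := (pres.baseChange (T := B)).equivRing
  exact (SS.equivRing.trans (pairEquiv SS.P P₂ h₁ h₂)).trans e₃.symm

end Charts

section Main

variable {A B C : Type u} [CommRing A] [CommRing B] [CommRing C] [Algebra A B] [Algebra B C]
  [Algebra A C] [IsScalarTower A B C]

/-- `H¹(L_{B/A})` vanishes if it does so étale locally on `B`. -/
theorem h1Cotangent_subsingleton_of_etale_of_surjective [Algebra.FiniteType A B]
    [Algebra.Etale B C]
    (hsurj : Function.Surjective (PrimeSpectrum.comap (algebraMap B C)))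
    [Algebra.FormallySmooth A C] : Subsingleton (Algebra.H1Cotangent A B) := by
  obtain ⟨n, π, hπ⟩ := Algebra.FiniteType.iff_quotient_mvPolynomial''.1
    (inferInstance : Algebra.FiniteType A B)
  let _ : Algebra (MvPolynomial (Fin n) A) B := π.toAlgebra
  have : IsScalarTower A (MvPolynomial (Fin n) A) B :=
    IsScalarTower.of_algebraMap_eq' π.comp_algebraMap.symm
  have hB : Function.Surjective (algebraMap (MvPolynomial (Fin n) A) B) := hπ
  refine subsingleton_of_flat_charts.{u} (B := B) (M := Algebra.H1Cotangent A B) (fun m hm => ?_)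
  obtain ⟨q', hq'⟩ := hsurj ⟨m, hm.isPrime⟩
  have hq'm : q'.asIdeal.comap (algebraMap B C) = m := congrArg PrimeSpectrum.asIdeal hq'
  have : Algebra.FormallyEtale C (Localization.AtPrime q'.asIdeal) :=
    Algebra.FormallyEtale.of_isLocalization q'.asIdeal.primeCompl
  have : Algebra.IsEtaleAt B q'.asIdeal := Algebra.FormallyEtale.comp B C _
  obtain ⟨h, hhq, hstd⟩ := Algebra.IsEtaleAt.exists_isStandardEtale (R := B) q'.asIdeal
  obtain ⟨PP, ⟨e⟩⟩ := exists_equiv_tensor (R₀ := MvPolynomial (Fin n) A) hB
    hstd.nonempty_standardEtalePresentation.some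
  have : Module.Flat (MvPolynomial (Fin n) A) PP.Ring := inferInstance
  let _ : Algebra A PP.Ring :=
    ((algebraMap (MvPolynomial (Fin n) A) PP.Ring).comp
      (algebraMap A (MvPolynomial (Fin n) A))).toAlgebra
  have : IsScalarTower A (MvPolynomial (Fin n) A) PP.Ring := IsScalarTower.of_algebraMap_eq' rfl
  refine ⟨B ⊗[MvPolynomial (Fin n) A] PP.Ring, inferInstance, inferInstance, inferInstance, ?_, ?_⟩
  · have : Algebra.FormallyEtale C (Localization.Away h) :=
      Algebra.FormallyEtale.of_isLocalization (Submonoid.powers h)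
    have : Algebra.FormallySmooth A (Localization.Away h) := Algebra.FormallySmooth.comp A C _
    have : IsScalarTower A B (Localization.Away h) := IsScalarTower.to₁₂₄ A B C _
    have : Algebra.FormallySmooth A (B ⊗[MvPolynomial (Fin n) A] PP.Ring) :=
      Algebra.FormallySmooth.of_equiv (e.restrictScalars A)
    exact subsingleton_tensor_h1Cotangent_tensor A hB
  · have hdisj : Disjoint (Submonoid.powers h : Set C) (q'.asIdeal : Set C) := by
      rw [Set.disjoint_left]
      rintro _ ⟨k, rfl⟩ hmem
      exact hhq (q'.isPrime.mem_of_pow_mem k hmem)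
    have hprime : (q'.asIdeal.map (algebraMap C (Localization.Away h))).IsPrime :=
      IsLocalization.isPrime_of_isPrime_disjoint (Submonoid.powers h) _ _ q'.isPrime hdisj
    refine ⟨(q'.asIdeal.map (algebraMap C (Localization.Away h))).comap
      (e.symm : _ →+* Localization.Away h), Ideal.comap_isPrime _ _, ?_⟩
    intro b hb
    rw [Ideal.mem_comap, Ideal.mem_comap]
    change e.symm (algebraMap B _ b) ∈ _
    rw [AlgEquiv.commutes, IsScalarTower.algebraMap_apply B C (Localization.Away h)]
    refine Ideal.mem_map_of_mem _ ?_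
    rw [← hq'm] at hb
    exact hb

/-- `Ω[B/A]` is projective if it is so étale locally on `B`. -/
theorem projective_kaehlerDifferential_of_etale_of_surjective [Algebra.FinitePresentation A B]
    [Algebra.Etale B C]
    (hsurj : Function.Surjective (PrimeSpectrum.comap (algebraMap B C)))
    [Algebra.FormallySmooth A C] : Module.Projective B Ω[B⁄A] := by
  have : Module.Flat B C := inferInstance
  have : Module.FaithfullyFlat B C := Module.FaithfullyFlat.of_comap_surjective hsurj
  have : Module.Flat C (C ⊗[B] Ω[B⁄A]) :=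
    Module.Flat.of_linearEquiv (KaehlerDifferential.tensorKaehlerEquivOfFormallyEtale A B C)
  have : Module.Flat B Ω[B⁄A] := Module.Flat.of_flat_tensorProduct _ _ C
  exact Module.Flat.projective_of_finitePresentation

/-- **Smoothness descends along étale covers of the source** (ring form). -/
theorem smooth_of_etale_of_surjective [Algebra.Etale B C]
    (hsurj : Function.Surjective (PrimeSpectrum.comap (algebraMap B C)))
    [Algebra.Smooth A C] : Algebra.Smooth A B := by
  have : Algebra.FinitePresentation A B :=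
    EtaleSourceFT.finitePresentation_of_etale_of_surjective (A := A) (B := B) (C := C) hsurj
  exact ⟨⟨projective_kaehlerDifferential_of_etale_of_surjective (C := C) hsurj,
    h1Cotangent_subsingleton_of_etale_of_surjective (C := C) hsurj⟩, this⟩

end Main

end Groth.Agent.Lib.Helper30.SmoothSource
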