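import Groth.Agent.Lib.Helper30.GpdInv
import Groth.Agent.Lib.Helper5.GroupoidSep

/-!
# The largest open over which the stabilizer has a property is invariant (helper30)
-/

set_option autoImplicit false
universe u
open CategoryTheory CategoryTheory.Limits AlgebraicGeometry Opposite

namespace Groth.Agent.Lib.Helper30.StabInv

open AlgSp Groth.Agent.Lib.Helper46.LargestOpen Groth.Agent.Lib.Helper36.OpenSubspace
open Groth.Agent.Lib.Helper5 Groth.Agent.Lib.Helper5.GroupoidAlg

variable {S : Scheme.{u}} {B : Sp S} (G : GroupoidSp B)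

theorem stabι_t : G.stabilizerι ≫ G.t = G.stabilizerToU := by
  have h : G.stabilizerι ≫ G.j = G.stabilizerToU ≫ G.diag := pullback.condition
  have h1 := congrArg (fun φ => φ ≫ pullback.fst G.pU G.pU) h
  simp only [Category.assoc, GroupoidSp.j_fst] at h1
  rw [h1]
  unfold GroupoidSp.diag
  rw [pullback.lift_fst, Category.comp_id]

theorem stabι_s : G.stabilizerι ≫ G.s = G.stabilizerToU := by
  have h : G.stabilizerι ≫ G.j = G.stabilizerToU ≫ G.diag := pullback.condition
  have h1 := congrArg (fun φ => φ ≫ pullback.snd G.pU G.pU) h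
  simp only [Category.assoc, GroupoidSp.j_snd] at h1
  rw [h1]
  unfold GroupoidSp.diag
  rw [pullback.lift_snd, Category.comp_id]

/-- A `T`-point of the stabilizer from an arrow with equal source and target. -/
noncomputable def stabMk {T : Sp S} (α : T ⟶ G.R) (v : T ⟶ G.U) (h1 : α ≫ G.t = v)
    (h2 : α ≫ G.s = v) : T ⟶ G.stabilizer :=
  pullback.lift α v (by
    apply pullback.hom_ext
    · rw [Category.assoc, Category.assoc, GroupoidSp.j_fst]
      unfold GroupoidSp.diag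
      rw [pullback.lift_fst, Category.comp_id, h1]
    · rw [Category.assoc, Category.assoc, GroupoidSp.j_snd]
      unfold GroupoidSp.diag
      rw [pullback.lift_snd, Category.comp_id, h2])

theorem stabMk_ι {T : Sp S} (α : T ⟶ G.R) (v : T ⟶ G.U) (h1 : α ≫ G.t = v)
    (h2 : α ≫ G.s = v) : stabMk G α v h1 h2 ≫ G.stabilizerι = α := pullback.lift_fst _ _ _

theorem stabMk_toU {T : Sp S} (α : T ⟶ G.R) (v : T ⟶ G.U) (h1 : α ≫ G.t = v)
    (h2 : α ≫ G.s = v) : stabMk G α v h1 h2 ≫ G.stabilizerToU = v := pullback.lift_snd _ _ _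

theorem stab_hom_ext {T : Sp S} {x y : T ⟶ G.stabilizer}
    (h : x ≫ G.stabilizerι = y ≫ G.stabilizerι) : x = y := by
  apply pullback.hom_ext h
  change x ≫ G.stabilizerToU = y ≫ G.stabilizerToU
  rw [← stabι_t, ← Category.assoc, h, Category.assoc]

/-- Conjugation `r ∘ γ ∘ r⁻¹` of an automorphism `γ` of the source of `r`. -/
noncomputable def conj {T : Sp S} (r γ : T ⟶ G.R) (h1 : r ≫ G.s = γ ≫ G.t)
    (h2 : γ ≫ G.s = r ≫ G.s) : T ⟶ G.R :=
  comp G (comp G r γ h1) (r ≫ G.i) (by rw [comp_s, Category.assoc, G.i_t, h2])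

theorem conj_s {T : Sp S} (r γ : T ⟶ G.R) (h1 : r ≫ G.s = γ ≫ G.t)
    (h2 : γ ≫ G.s = r ≫ G.s) : conj G r γ h1 h2 ≫ G.s = r ≫ G.t := by
  unfold conj
  rw [comp_s, Category.assoc, G.i_s]

theorem conj_t {T : Sp S} (r γ : T ⟶ G.R) (h1 : r ≫ G.s = γ ≫ G.t)
    (h2 : γ ≫ G.s = r ≫ G.s) : conj G r γ h1 h2 ≫ G.t = r ≫ G.t := by
  unfold conj
  rw [comp_t, comp_t]

theorem conj_congr {T : Sp S} {r r' γ γ' : T ⟶ G.R} (hr : r = r') (hγ : γ = γ')
    (h1 : r ≫ G.s = γ ≫ G.t) (h2 : γ ≫ G.s = r ≫ G.s) :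
    conj G r γ h1 h2 = conj G r' γ' (by rw [← hr, ← hγ]; exact h1) (by rw [← hr, ← hγ]; exact h2) := by
  subst hr hγ; rfl

theorem precomp_conj {T T' : Sp S} (f : T' ⟶ T) (r γ : T ⟶ G.R) (h1 : r ≫ G.s = γ ≫ G.t)
    (h2 : γ ≫ G.s = r ≫ G.s) :
    f ≫ conj G r γ h1 h2 = conj G (f ≫ r) (f ≫ γ) (by rw [Category.assoc, h1, Category.assoc])
      (by rw [Category.assoc, h2, Category.assoc]) := by
  unfold conj
  rw [precomp]
  exact comp_congr G (precomp G f r γ h1) (by rw [Category.assoc]) _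

/-- Inverse conjugation `r⁻¹ ∘ α ∘ r` of an automorphism `α` of the target of `r`. -/
noncomputable def conj' {T : Sp S} (r α : T ⟶ G.R) (h1 : α ≫ G.t = r ≫ G.t)
    (h2 : α ≫ G.s = r ≫ G.t) : T ⟶ G.R :=
  comp G (comp G (r ≫ G.i) α (by rw [Category.assoc, G.i_s, h1])) r (by rw [comp_s, h2])

theorem conj'_s {T : Sp S} (r α : T ⟶ G.R) (h1 : α ≫ G.t = r ≫ G.t)
    (h2 : α ≫ G.s = r ≫ G.t) : conj' G r α h1 h2 ≫ G.s = r ≫ G.s := by
  unfold conj'
  rw [comp_s]

theorem conj'_t {T : Sp S} (r α : T ⟶ G.R) (h1 : α ≫ G.t = r ≫ G.t)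
    (h2 : α ≫ G.s = r ≫ G.t) : conj' G r α h1 h2 ≫ G.t = r ≫ G.s := by
  unfold conj'
  rw [comp_t, comp_t, Category.assoc, G.i_t]

theorem conj'_congr {T : Sp S} {r r' α α' : T ⟶ G.R} (hr : r = r') (hα : α = α')
    (h1 : α ≫ G.t = r ≫ G.t) (h2 : α ≫ G.s = r ≫ G.t) :
    conj' G r α h1 h2 = conj' G r' α' (by rw [← hr, ← hα]; exact h1)
      (by rw [← hr, ← hα]; exact h2) := by
  subst hr hα; rfl

/-- `r ∘ (r⁻¹ ∘ α ∘ r) ∘ r⁻¹ = α`. -/
theorem conj_conj' {T : Sp S} (r α : T ⟶ G.R) (h1 : α ≫ G.t = r ≫ G.t)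
    (h2 : α ≫ G.s = r ≫ G.t) :
    conj G r (conj' G r α h1 h2) (by rw [conj'_t]) (by rw [conj'_s]) = α := by
  unfold conj
  have e1 : comp G r (conj' G r α h1 h2) (by rw [conj'_t]) = comp G α r h2 := by
    unfold conj'
    rw [← assoc G r (comp G (r ≫ G.i) α (by rw [Category.assoc, G.i_s, h1])) r
      (by rw [comp_t, Category.assoc, G.i_t]) (by rw [comp_s, h2])]
    exact comp_congr G (comp_inv_comp' G r α h1.symm) rfl _
  rw [comp_congr G e1 rfl]
  exact comp_comp_inv G α r h2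

/-- `r⁻¹ ∘ (r ∘ γ ∘ r⁻¹) ∘ r = γ`. -/
theorem conj'_conj {T : Sp S} (r γ : T ⟶ G.R) (h1 : r ≫ G.s = γ ≫ G.t)
    (h2 : γ ≫ G.s = r ≫ G.s) :
    conj' G r (conj G r γ h1 h2) (by rw [conj_t]) (by rw [conj_s]) = γ := by
  unfold conj'
  have e1 : comp G (r ≫ G.i) (conj G r γ h1 h2) (by rw [Category.assoc, G.i_s, conj_t]) =
      comp G γ (r ≫ G.i) (by rw [Category.assoc, G.i_t, h2]) := by
    unfold conj
    rw [← assoc G (r ≫ G.i) (comp G r γ h1) (r ≫ G.i)
      (by rw [Category.assoc, G.i_s, comp_t]) (by rw [comp_s, Category.assoc, G.i_t, h2])]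
    exact comp_congr G (inv_comp_comp G r γ h1) rfl _
  rw [comp_congr G e1 rfl]
  exact comp_inv_comp G γ r h2


theorem fstι_t {T : Sp S} (a : T ⟶ G.stabilizer) (b : T ⟶ G.U) (h : a ≫ G.stabilizerToU = b) :
    (a ≫ G.stabilizerι) ≫ G.t = b := by
  rw [Category.assoc, stabι_t, h]

theorem fstι_s {T : Sp S} (a : T ⟶ G.stabilizer) (b : T ⟶ G.U) (h : a ≫ G.stabilizerToU = b) :
    (a ≫ G.stabilizerι) ≫ G.s = b := by
  rw [Category.assoc, stabι_s, h]

/-- The conjugation map `G ×_{U,s} R ⟶ G`, `(γ, r) ↦ r ∘ γ ∘ r⁻¹`. -/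
noncomputable def conjMap : pullback G.stabilizerToU G.s ⟶ G.stabilizer :=
  stabMk G
    (conj G (pullback.snd G.stabilizerToU G.s) (pullback.fst G.stabilizerToU G.s ≫ G.stabilizerι)
      (fstι_t G _ _ pullback.condition).symm (fstι_s G _ _ pullback.condition))
    (pullback.snd G.stabilizerToU G.s ≫ G.t) (conj_t G _ _ _ _) (conj_s G _ _ _ _)

theorem conjMap_ι : conjMap G ≫ G.stabilizerι =
    conj G (pullback.snd G.stabilizerToU G.s) (pullback.fst G.stabilizerToU G.s ≫ G.stabilizerι)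
      (fstι_t G _ _ pullback.condition).symm (fstι_s G _ _ pullback.condition) :=
  stabMk_ι G _ _ _ _

theorem conjMap_toU : conjMap G ≫ G.stabilizerToU = pullback.snd G.stabilizerToU G.s ≫ G.t :=
  stabMk_toU G _ _ _ _

theorem comp_conjMap_ι {T : Sp S} (m : T ⟶ pullback G.stabilizerToU G.s) :
    (m ≫ conjMap G) ≫ G.stabilizerι =
      conj G (m ≫ pullback.snd G.stabilizerToU G.s)
        ((m ≫ pullback.fst G.stabilizerToU G.s) ≫ G.stabilizerι)
        (by rw [fstι_t G _ _ rfl, Category.assoc, Category.assoc, pullback.condition])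
        (by rw [fstι_s G _ _ rfl, Category.assoc, Category.assoc, pullback.condition]) := by
  rw [Category.assoc, conjMap_ι, precomp_conj]
  exact conj_congr G rfl (by rw [Category.assoc]) _ _

/-- The conjugation square: `G ×_{U,s} R ≅ G ×_{U,t} R`. -/
theorem isPullback_conj :
    IsPullback (conjMap G) (pullback.snd G.stabilizerToU G.s) G.stabilizerToU G.t := by
  refine ⟨⟨conjMap_toU G⟩, ⟨PullbackCone.IsLimit.mk _
    (fun c => pullback.lift
      (stabMk G (conj' G c.snd (c.fst ≫ G.stabilizerι) (fstι_t G _ _ c.condition)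
        (fstι_s G _ _ c.condition)) (c.snd ≫ G.s) (conj'_t G _ _ _ _) (conj'_s G _ _ _ _))
      c.snd (stabMk_toU G _ _ _ _)) ?_ ?_ ?_⟩⟩
  · intro c
    apply stab_hom_ext
    rw [comp_conjMap_ι]
    refine (conj_congr G (pullback.lift_snd _ _ _) ?_ _ _).trans
      (conj_conj' G c.snd (c.fst ≫ G.stabilizerι) (fstι_t G _ _ c.condition)
        (fstι_s G _ _ c.condition))
    rw [pullback.lift_fst, stabMk_ι]
  · intro c
    exact pullback.lift_snd _ _ _
  · intro c m h1 h2
    apply pullback.hom_ext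
    · rw [pullback.lift_fst]
      apply stab_hom_ext
      rw [stabMk_ι]
      have e := comp_conjMap_ι G m
      rw [h1] at e
      have := conj'_conj G (m ≫ pullback.snd G.stabilizerToU G.s)
        ((m ≫ pullback.fst G.stabilizerToU G.s) ≫ G.stabilizerι)
        (by rw [fstι_t G _ _ rfl, Category.assoc, Category.assoc, pullback.condition])
        (by rw [fstι_s G _ _ rfl, Category.assoc, Category.assoc, pullback.condition])
      rw [← this]
      exact conj'_congr G h2 e.symm _ _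
    · rw [pullback.lift_snd, h2]


variable {G}

open Groth.Agent.Lib.Helper30.GpdInv in
/-- **The largest open over which the stabilizer has `P` is `R`-invariant.** -/
theorem isInvariant_of_largest_stab {Q P : MorphismProperty (Sp S)} (hQ : CovClass Q)
    (hP : IsLocalOnBase (fun _ _ Y g => IsCover Q Y g) P) (hB : IsAlgSpace B)
    (hU : IsAlgSpace G.U) (hR : IsAlgSpace G.R) (hs : Q G.s) (ht : Q G.t)
    {W : Sp S} (hWsp : IsAlgSpace W) (w : W ⟶ G.U) (hw : RepWith @IsOpenImmersion w)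
    (hmax : ∀ (W' : Sp S) (w' : W' ⟶ G.U), IsAlgSpace W' → RepWith @IsOpenImmersion w' →
      (P (pullback.snd G.stabilizerToU w') ↔ ∃ k : W' ⟶ W, k ≫ w = w')) :
    G.IsInvariant w := by
  have hUU : IsAlgSpace (pullback G.pU G.pU) :=
    Groth.Agent.Lib.Helper23.AlgSpMor.isAlgSpace_of_isPullback hU hU hB.diag
      (IsPullback.of_hasPullback _ _)
  have hG : IsAlgSpace G.stabilizer :=
    Groth.Agent.Lib.Helper23.AlgSpMor.isAlgSpace_of_isPullback hR hU hUU.diag
      (IsPullback.of_hasPullback G.j G.diag)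
  have hV := range_eq_largest hQ hP hG hU G.stabilizerToU hWsp w hw hmax
  have hZ : IsAlgSpace (pullback G.stabilizerToU G.s) :=
    Groth.Agent.Lib.Helper23.AlgSpMor.isAlgSpace_of_isPullback hG hR hU.diag
      (IsPullback.of_hasPullback _ _)
  have e_s : largest P (pullback.snd G.stabilizerToU G.s) =
      Points.map G.s ⁻¹' largest P G.stabilizerToU :=
    largest_baseChange hQ hP hG hU hZ hR hs (IsPullback.of_hasPullback G.stabilizerToU G.s) _
      (isOpen_largest _) (goodSp_largest hQ hP hZ hR _)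
      (fun V' hV'o hV'g => subset_largest _ hV'o hV'g)
  have e_t : largest P (pullback.snd G.stabilizerToU G.s) =
      Points.map G.t ⁻¹' largest P G.stabilizerToU :=
    largest_baseChange hQ hP hG hU hZ hR ht (isPullback_conj G) _
      (isOpen_largest _) (goodSp_largest hQ hP hZ hR _)
      (fun V' hV'o hV'g => subset_largest _ hV'o hV'g)
  have key : ∀ ⦃T : Over S⦄ (a : (yon S).obj T ⟶ G.U),
      (∃ b : (yon S).obj T ⟶ W, b ≫ w = a) ↔
        Set.range (Points.map a) ⊆ largest P G.stabilizerToU := by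
    intro T a
    rw [← hV]
    constructor
    · rintro ⟨b, rfl⟩ _ ⟨x, rfl⟩
      exact ⟨Points.map b x, (Points.map_comp b w x).symm⟩
    · intro h
      exact Groth.Agent.S10194.exists_factor w hw a h
  intro T r
  rw [key, key]
  have h1 : Set.range (Points.map (r ≫ G.t)) ⊆ largest P G.stabilizerToU ↔
      Set.range (Points.map r) ⊆ Points.map G.t ⁻¹' largest P G.stabilizerToU := by
    constructor
    · rintro h _ ⟨x, rfl⟩
      exact h ⟨x, Points.map_comp r G.t x⟩
    · rintro h _ ⟨x, rfl⟩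
      rw [Points.map_comp]
      exact h ⟨x, rfl⟩
  have h2 : Set.range (Points.map (r ≫ G.s)) ⊆ largest P G.stabilizerToU ↔
      Set.range (Points.map r) ⊆ Points.map G.s ⁻¹' largest P G.stabilizerToU := by
    constructor
    · rintro h _ ⟨x, rfl⟩
      exact h ⟨x, Points.map_comp r G.s x⟩
    · rintro h _ ⟨x, rfl⟩
      rw [Points.map_comp]
      exact h ⟨x, rfl⟩
  rw [h1, h2, ← e_t, ← e_s]

end Groth.Agent.Lib.Helper30.StabInv
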