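import Groth.Prelude.Def_AlgSp3
import Mathlib.AlgebraicGeometry.IdealSheaf.Functorial
import Mathlib.CategoryTheory.Limits.Constructions.Over.Connected

/-!
# Transfer of a chart of a closed subspace of an algebraic space along a morphism (helper30)

* `isPullback_yon_comap` : `h_{V(I.comap h)} = h_{V(I)} ×_{h_V} h_{A'}`.
* `exists_isPullback_comap` : if `P = D ×_Y X` and the inverse image of `D` in the chart `h_V ⟶ Y` is `V(I)`, then for a chart
  `φ' : h_{A'} ⟶ X` lying over `h : A' ⟶ V` the inverse image of `P` in `A'` is `V(I.comap h.left)`.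
-/

set_option autoImplicit false
universe u
open CategoryTheory CategoryTheory.Limits AlgebraicGeometry Opposite

namespace Groth.Agent.Lib.Helper30.SubTransfer

open AlgSp

variable {S : Scheme.{u}}

/-- The closed subscheme of `I.comap h` is the pullback of the closed subscheme of `I`, as a square in `Over S`
mapped to sheaves. -/
theorem isPullback_yon_comap {A' V : Over S} (h : A' ⟶ V) (I : V.left.IdealSheafData) :
    ∃ m : Over.mk ((I.comap h.left).subschemeι ≫ A'.hom) ⟶ Over.mk (I.subschemeι ≫ V.hom),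
      IsPullback ((yon S).map m)
        ((yon S).map (Over.homMk (I.comap h.left).subschemeι rfl :
          Over.mk ((I.comap h.left).subschemeι ≫ A'.hom) ⟶ A'))
        ((yon S).map (Over.homMk I.subschemeι rfl : Over.mk (I.subschemeι ≫ V.hom) ⟶ V))
        ((yon S).map h) := by
  set m0 : (I.comap h.left).subscheme ⟶ I.subscheme := (I.comapIso h.left).hom ≫ pullback.snd _ _
    with hm0
  have hw0 : (I.comap h.left).subschemeι ≫ h.left = m0 ≫ I.subschemeι := by
    rw [hm0, Category.assoc, ← pullback.condition, ← Category.assoc,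
      Scheme.IdealSheafData.comapIso_hom_fst]
  have sq0 : IsPullback (I.comap h.left).subschemeι m0 h.left I.subschemeι :=
    IsPullback.of_iso_pullback ⟨hw0⟩ (I.comapIso h.left)
      (Scheme.IdealSheafData.comapIso_hom_fst I h.left) rfl
  let m : Over.mk ((I.comap h.left).subschemeι ≫ A'.hom) ⟶ Over.mk (I.subschemeι ≫ V.hom) :=
    Over.homMk m0 (by
      change m0 ≫ I.subschemeι ≫ V.hom = (I.comap h.left).subschemeι ≫ A'.hom
      rw [← Category.assoc, ← hw0, Category.assoc, Over.w h])
  refine ⟨m, ?_⟩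
  have sqO : IsPullback m
      (Over.homMk (I.comap h.left).subschemeι rfl :
          Over.mk ((I.comap h.left).subschemeι ≫ A'.hom) ⟶ A')
      (Over.homMk I.subschemeι rfl : Over.mk (I.subschemeι ≫ V.hom) ⟶ V) h := by
    refine IsPullback.of_map (Over.forget S) ?_ sq0.flip
    ext
    exact hw0.symm
  exact sqO.map (yon S)

/-- **Transfer of a chart of a closed subspace along a morphism**: if `P = D ×_Y X` and the inverse image of `D` in the
chart `h_V ⟶ Y` is cut out by `I`, then for a chart `φ' : h_{A'} ⟶ X` lying over `h : A' ⟶ V` the inverse image of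
`P` in `A'` is cut out by `I.comap h`. -/
theorem exists_isPullback_comap {X Y D P : Sp S} {i : D ⟶ Y} {g : X ⟶ Y} {fst : P ⟶ D}
    {snd : P ⟶ X} (hP : IsPullback fst snd i g) {V : Over S} {φ : (yon S).obj V ⟶ Y}
    (I : V.left.IdealSheafData) {fstD : (yon S).obj (Over.mk (I.subschemeι ≫ V.hom)) ⟶ D}
    (sqD : IsPullback fstD
      ((yon S).map (Over.homMk I.subschemeι rfl : Over.mk (I.subschemeι ≫ V.hom) ⟶ V)) i φ)
    {A' : Over S} (φ' : (yon S).obj A' ⟶ X) (h : A' ⟶ V) (hw : φ' ≫ g = (yon S).map h ≫ φ) :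
    ∃ fst' : (yon S).obj (Over.mk ((I.comap h.left).subschemeι ≫ A'.hom)) ⟶ P,
      IsPullback fst' ((yon S).map (Over.homMk (I.comap h.left).subschemeι rfl :
        Over.mk ((I.comap h.left).subschemeι ≫ A'.hom) ⟶ A')) snd φ' := by
  obtain ⟨m, sq1⟩ := isPullback_yon_comap h I
  have big := sq1.paste_horiz sqD
  rw [← hw] at big
  have hw' : ((yon S).map m ≫ fstD) ≫ i = ((yon S).map (Over.homMk (I.comap h.left).subschemeι rfl :
        Over.mk ((I.comap h.left).subschemeι ≫ A'.hom) ⟶ A') ≫ φ') ≫ g := by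
    rw [Category.assoc _ φ' g]
    exact big.w
  have h1 : hP.lift _ _ hw' ≫ fst = (yon S).map m ≫ fstD := hP.lift_fst _ _ _
  refine ⟨hP.lift _ _ hw', ?_⟩
  refine IsPullback.of_right ?_ (hP.lift_snd _ _ _) hP
  rw [h1]
  exact big

end Groth.Agent.Lib.Helper30.SubTransfer
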