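import Mathlib

/-!
# Descent of constructibility along open quasi-compact surjections (helper30)
-/

set_option autoImplicit false
open Set TopologicalSpace Topology

namespace Groth.Agent.Lib.Helper30.TopConstr

variable {A B : Type*} [TopologicalSpace A] [TopologicalSpace B]

/-- In a compact space, constructible sets are clopen in the constructible topology. -/
theorem isOpen_constructibleTopology_of_isConstructible [CompactSpace A] {s : Set A}
    (hs : IsConstructible s) :
    IsOpen[constructibleTopology A] s ∧ IsOpen[constructibleTopology A] sᶜ := by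
  induction hs using IsConstructible.empty_union_induction with
  | open_retrocompact U hUopen hUcomp =>
    exact ⟨hUcomp.isCompact.isOpen_constructibleTopology_of_isOpen hUopen,
      IsCompact.isOpen_constructibleTopology_of_isClosed
        (by rw [compl_compl]; exact hUcomp.isCompact) hUopen.isClosed_compl⟩
  | union s hs t ht hs' ht' =>
    refine ⟨@IsOpen.union _ _ _ (constructibleTopology A) hs'.1 ht'.1, ?_⟩
    rw [compl_union]
    exact @IsOpen.inter _ (constructibleTopology A) _ _ hs'.2 ht'.2
  | compl s hs hs' => exact ⟨hs'.2, by rw [compl_compl]; exact hs'.1⟩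

theorem isConstructible_of_mem_subbasis [QuasiSeparatedSpace B] {D : Set B}
    (hD : D ∈ constructibleTopologySubbasis B) : IsConstructible D := by
  rcases hD with ⟨ho, hc⟩ | ⟨hcl, hc⟩
  · exact hc.isConstructible ho
  · have := hc.isConstructible hcl.isOpen_compl
    rwa [isConstructible_compl] at this

/-- Descent of constructibility along a continuous open surjection with quasi-compact preimages. -/
theorem isConstructible_of_preimage [CompactSpace A] [QuasiSober A] [PrespectralSpace A]
    [QuasiSeparatedSpace A] [T0Space B] (φ : A → B) (hφ : Continuous φ)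
    (hsurj : Function.Surjective φ) (hopen : IsOpenMap φ)
    (hqc : ∀ Q : Set B, IsOpen Q → IsCompact Q → IsCompact (φ ⁻¹' Q))
    {E : Set B} (hE : IsConstructible (φ ⁻¹' E)) : IsConstructible E := by
  classical
  have hBqs : QuasiSeparatedSpace B := ⟨fun U V hU hUc hV hVc => by
    have h1 := QuasiSeparatedSpace.inter_isCompact _ _ (hU.preimage hφ) (hqc U hU hUc)
      (hV.preimage hφ) (hqc V hV hVc)
    rw [← preimage_inter] at h1
    have := h1.image hφ
    rwa [image_preimage_eq _ hsurj] at this⟩
  -- separation by subbasis elements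
  have hsep : ∀ e z : B, e ≠ z → ∃ D ∈ constructibleTopologySubbasis B, z ∈ D ∧ e ∉ D := by
    intro e z hez
    have hcompactOpen : ∀ (O : Set B) (b : B), IsOpen O → b ∈ O →
        ∃ D : Set B, IsOpen D ∧ IsCompact D ∧ b ∈ D ∧ D ⊆ O := by
      intro O b hO hb
      obtain ⟨a, rfl⟩ := hsurj b
      obtain ⟨K, ⟨hKo, hKc⟩, haK, hKO⟩ :=
        (PrespectralSpace.isTopologicalBasis (X := A)).exists_subset_of_mem_open
          (show a ∈ φ ⁻¹' O from hb) (hO.preimage hφ)
      exact ⟨φ '' K, hopen K hKo, hKc.image hφ, ⟨a, haK, rfl⟩, image_subset_iff.2 hKO⟩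
    obtain ⟨O, hO, hx⟩ := exists_isOpen_xor_mem hez
    rcases hx with ⟨heO, hzO⟩ | ⟨hzO, heO⟩
    · obtain ⟨D, hDo, hDc, heD, hDO⟩ := hcompactOpen O e hO heO
      exact ⟨Dᶜ, Or.inr ⟨hDo.isClosed_compl, by rwa [compl_compl]⟩, fun h => hzO (hDO h),
        fun h => h heD⟩
    · obtain ⟨D, hDo, hDc, hzD, hDO⟩ := hcompactOpen O z hO hzO
      exact ⟨D, Or.inl ⟨hDo, hDc⟩, hzD, fun h => heO (hDO h)⟩
  -- continuity for the constructible topologies
  have hcont : Continuous[constructibleTopology A, constructibleTopology B] φ := by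
    rw [continuous_generateFrom_iff]
    rintro s (⟨ho, hc⟩ | ⟨hcl, hc⟩)
    · exact (hqc s ho hc).isOpen_constructibleTopology_of_isOpen (ho.preimage hφ)
    · refine IsCompact.isOpen_constructibleTopology_of_isClosed ?_ (hcl.preimage hφ)
      rw [← preimage_compl]
      exact hqc _ hcl.isOpen_compl hc
  have hAc : @CompactSpace A (constructibleTopology A) :=
    @Function.Surjective.compactSpace (WithConstructibleTopology A) A _ (constructibleTopology A)
      WithTopology.ofTopology (WithTopology.continuous_ofTopology _) inferInstance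
      (WithTopology.ofTopology_surjective _)
  obtain ⟨h1, h2⟩ := isOpen_constructibleTopology_of_isConstructible hE
  have hcl1 : IsClosed[constructibleTopology A] (φ ⁻¹' E) :=
    @IsClosed.mk A (constructibleTopology A) _ h2
  have hcl2 : IsClosed[constructibleTopology A] (φ ⁻¹' E)ᶜ :=
    @IsClosed.mk A (constructibleTopology A) _ (by rwa [compl_compl])
  have hC1 : @IsCompact A (constructibleTopology A) (φ ⁻¹' E) :=
    @IsClosed.isCompact A (constructibleTopology A) _ hAc hcl1
  have hC2 : @IsCompact A (constructibleTopology A) (φ ⁻¹' E)ᶜ :=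
    @IsClosed.isCompact A (constructibleTopology A) _ hAc hcl2
  have hEc : @IsCompact B (constructibleTopology B) E := by
    have := @IsCompact.image A B (constructibleTopology A) (constructibleTopology B) _ φ hC1 hcont
    rwa [image_preimage_eq _ hsurj] at this
  have hEcc : @IsCompact B (constructibleTopology B) Eᶜ := by
    have := @IsCompact.image A B (constructibleTopology A) (constructibleTopology B) _ φ hC2 hcont
    rwa [← preimage_compl, image_preimage_eq _ hsurj] at this
  -- neighbourhoods
  have hG : ∀ e ∈ E, ∃ G : Set B, IsConstructible G ∧ IsOpen[constructibleTopology B] G ∧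
      e ∈ G ∧ G ⊆ E := by
    intro e he
    have hD : ∀ z : ↥Eᶜ, ∃ D ∈ constructibleTopologySubbasis B, z.1 ∈ D ∧ e ∉ D := fun z =>
      hsep e z.1 (fun h => z.2 (h ▸ he))
    choose D hDmem hzD heD using hD
    obtain ⟨t, ht⟩ := @IsCompact.elim_finite_subcover B (constructibleTopology B) _ _ hEcc D
      (fun z => TopologicalSpace.isOpen_generateFrom_of_mem (hDmem z))
      (fun z hz => mem_iUnion.2 ⟨⟨z, hz⟩, hzD _⟩)
    refine ⟨⋂ i ∈ t, (D i)ᶜ, ?_, ?_, ?_, ?_⟩
    · exact IsConstructible.biInter t.finite_toSet fun i _ =>
        (isConstructible_of_mem_subbasis (hDmem i)).compl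
    · exact @isOpen_biInter_finset B _ (constructibleTopology B) t _ fun i _ =>
        TopologicalSpace.isOpen_generateFrom_of_mem
          (compl_mem_constructibleTopologySubbasis_iff.2 (hDmem i))
    · simp only [mem_iInter, mem_compl_iff]
      exact fun i _ => heD i
    · intro x hx
      by_contra hxE
      have := ht hxE
      simp only [mem_iUnion, exists_prop] at this
      obtain ⟨i, hi, hxi⟩ := this
      simp only [mem_iInter, mem_compl_iff] at hx
      exact hx i hi hxi
  choose G hG1 hG2 hG3 hG4 using hG
  obtain ⟨t, ht⟩ := @IsCompact.elim_finite_subcover B (constructibleTopology B) _ ↥E hEc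
    (fun e => G e.1 e.2) (fun e => hG2 e.1 e.2) (fun e he => mem_iUnion.2 ⟨⟨e, he⟩, hG3 e he⟩)
  have hEq : E = ⋃ i ∈ t, G i.1 i.2 := by
    apply subset_antisymm ht
    intro x hx
    simp only [mem_iUnion, exists_prop] at hx
    obtain ⟨i, -, hxi⟩ := hx
    exact hG4 i.1 i.2 hxi
  rw [hEq]
  exact IsConstructible.biUnion t.finite_toSet fun i _ => hG1 i.1 i.2

end Groth.Agent.Lib.Helper30.TopConstr
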