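import Groth.Prelude.Def_AlgSpModX
import Groth.Agent.Lib.Helper30.EffCartier
import Groth.Agent.Lib.Helper82.EffCartier
import Mathlib.RingTheory.Ideal.Height
import Mathlib.RingTheory.Ideal.MinimalPrime.Localization

/-!
# Weakly associated points of the structure sheaf of an algebraic space, on affine charts (helper30)

* `unitSect`, `mem_annSect_unitSect_iff`, `exists_unitSect` : sections of `unitModEt` over `E` are global functions; annihilators.
* `exists_primeAtPt_eq`, `notMem_primeAtPt_iff`.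
* `mem_nonZeroDivisors_of_forall_weakAss`, `appLE_mem_nonZeroDivisors_of_forall_weakAss`.
* `mem_minimalPrimes_of_mem_minimalPrimes_ann` (reduced ring: weakly associated primes of the ring are minimal primes),
  `ringKrullDim_stalk_eq_zero_iff`.
-/

set_option autoImplicit false
set_option backward.isDefEq.respectTransparency false
universe u
open CategoryTheory CategoryTheory.Limits AlgebraicGeometry Opposite

namespace Groth.Agent.Lib.Helper30.WeakAssUnit

open AlgSp

section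
variable {S : Scheme.{u}} {X : Sp S}

/-- a global function as a section of the unit module -/
noncomputable def unitSect (E : EtOver X) (s₀ : Γ(E.obj.left.left, ⊤)) : sectModEt (unitModEt X) E :=
  (ULift.up s₀ : ULift.{u + 1} Γ(E.obj.left.left, ⊤))

theorem mem_annSect_unitSect_iff (E : EtOver X) (s₀ a : Γ(E.obj.left.left, ⊤)) :
    a ∈ annSect (unitSect E s₀) ↔ a * s₀ = 0 := by
  rw [mem_annSect_iff]
  constructor
  · intro h
    have h2 : (ULift.up (a * s₀) : ULift.{u + 1} Γ(E.obj.left.left, ⊤)) = ULift.up 0 := h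
    exact congrArg ULift.down h2
  · intro h
    change (ULift.up (a * s₀) : ULift.{u + 1} Γ(E.obj.left.left, ⊤)) = ULift.up 0
    rw [h]

theorem exists_unitSect (E : EtOver X) (s : sectModEt (unitModEt X) E) :
    ∃ s₀, s = unitSect E s₀ := ⟨(show ULift.{u + 1} Γ(E.obj.left.left, ⊤) from s).down, rfl⟩

end

/-- On an affine scheme every prime ideal of the ring of global functions is the prime of a point. -/
theorem exists_primeAtPt_eq (U : Scheme.{u}) [IsAffine U] (p : Ideal Γ(U, ⊤)) [hp : p.IsPrime] :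
    ∃ u : U, primeAtPt U u = p := by
  have hU := isAffineOpen_top U
  let y : PrimeSpectrum Γ(U, ⊤) := ⟨p, hp⟩
  have hx : hU.fromSpec y ∈ (⊤ : U.Opens) := trivial
  have h1 : hU.primeIdealOf ⟨hU.fromSpec y, hx⟩ = y :=
    hU.fromSpec.isOpenEmbedding.injective (hU.fromSpec_primeIdealOf ⟨hU.fromSpec y, hx⟩)
  refine ⟨hU.fromSpec y, ?_⟩
  have h2 := hU.primeIdealOf_eq_map_closedPoint ⟨hU.fromSpec y, hx⟩
  rw [h1] at h2
  have h3 := congrArg PrimeSpectrum.asIdeal h2
  exact h3.symm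

theorem notMem_primeAtPt_iff (U : Scheme.{u}) (u : U) (b : Γ(U, ⊤)) :
    b ∉ primeAtPt U u ↔ u ∈ U.basicOpen b := by
  unfold primeAtPt
  rw [Ideal.mem_comap, IsLocalRing.mem_maximalIdeal, mem_nonunits_iff, not_not]
  exact (Scheme.mem_basicOpen U b u (show u ∈ (⊤ : U.Opens) from trivial)).symm

/-- A global function on an affine scheme lying in no weakly associated prime is a nonzerodivisor. -/
theorem mem_nonZeroDivisors_of_forall_weakAss (U : Scheme.{u}) [IsAffine U] (g : Γ(U, ⊤))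
    (h : ∀ (u : U) (K : Ideal Γ(U, ⊤)) (s₀ : Γ(U, ⊤)), (∀ a, a ∈ K ↔ a * s₀ = 0) →
      primeAtPt U u ∈ K.minimalPrimes → g ∉ primeAtPt U u) :
    g ∈ nonZeroDivisors Γ(U, ⊤) := by
  rw [mem_nonZeroDivisors_iff_right]
  intro s₀ hs
  by_contra hs0
  let K : Ideal Γ(U, ⊤) := LinearMap.ker (LinearMap.toSpanSingleton Γ(U, ⊤) Γ(U, ⊤) s₀)
  have hK : ∀ a, a ∈ K ↔ a * s₀ = 0 := fun a => by
    change a • s₀ = 0 ↔ _
    rw [smul_eq_mul]
  have hKtop : K ≠ ⊤ := by
    intro htop
    have : (1 : Γ(U, ⊤)) ∈ K := htop ▸ Submodule.mem_top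
    rw [hK, one_mul] at this
    exact hs0 this
  obtain ⟨m, hm, hKm⟩ := Ideal.exists_le_maximal K hKtop
  obtain ⟨p, hp, -⟩ := Ideal.exists_minimalPrimes_le hKm
  have hpp : p.IsPrime := hp.1.1
  obtain ⟨u, hu⟩ := exists_primeAtPt_eq U p
  have hgK : g ∈ K := by rw [hK, mul_comm]; exact hs
  exact h u K s₀ hK (hu ▸ hp) (hu ▸ hp.1.2 hgK)

/-- The generator of the pulled back ideal is a nonzerodivisor when no weakly associated point maps into the divisor. -/
theorem appLE_mem_nonZeroDivisors_of_forall_weakAss {U' V : Scheme.{u}} [IsAffine U'] (h : U' ⟶ V)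
    (I : V.IdealSheafData) (V₀ : V.affineOpens) (e : (⊤ : U'.Opens) ≤ h ⁻¹ᵁ V₀.1) (f₀ : Γ(V, V₀.1))
    (hIf₀ : I.ideal V₀ = Ideal.span {f₀})
    (hweak : ∀ (u : U') (K : Ideal Γ(U', ⊤)) (s₀ : Γ(U', ⊤)), (∀ a, a ∈ K ↔ a * s₀ = 0) →
      primeAtPt U' u ∈ K.minimalPrimes → h u ∉ I.support) :
    (h.appLE V₀.1 ⊤ e).hom f₀ ∈ nonZeroDivisors Γ(U', ⊤) := by
  apply mem_nonZeroDivisors_of_forall_weakAss
  intro u K s₀ hK hu hg
  apply hweak u K s₀ hK hu
  have h1 : u ∉ U'.basicOpen ((h.appLE V₀.1 ⊤ e).hom f₀) := fun hc =>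
    ((notMem_primeAtPt_iff U' u _).mpr hc) hg
  rw [Scheme.basicOpen_appLE] at h1
  have h2 : h u ∉ V.basicOpen f₀ := fun hc => h1 ⟨trivial, hc⟩
  have h3 : h u ∈ V₀.1 := e (show u ∈ (⊤ : U'.Opens) from trivial)
  by_contra h4
  have := (Groth.Agent.Lib.Helper30.EffCartier.compl_support_inter_eq_basicOpen I V₀ f₀ hIf₀).le ⟨h4, h3⟩
  exact h2 this


/-- In a reduced ring a prime minimal over the annihilator of an element is a minimal prime. -/
theorem mem_minimalPrimes_of_mem_minimalPrimes_ann {A : Type*} [CommRing A] [IsReduced A] (s : A)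
    (K : Ideal A) (hK : ∀ a, a ∈ K ↔ a * s = 0) (p : Ideal A) (hp : p ∈ K.minimalPrimes) :
    p ∈ minimalPrimes A := by
  have hpp : p.IsPrime := hp.1.1
  -- a prime inside `p` avoiding `s`
  have key : ∃ q : Ideal A, q.IsPrime ∧ q ≤ p ∧ s ∉ q := by
    let T : Submonoid A := p.primeCompl ⊔ Submonoid.powers s
    have hdisj : Disjoint ((⊥ : Ideal A) : Set A) T := by
      rw [Set.disjoint_left]
      intro a ha haT
      have ha0 : a = 0 := ha
      subst ha0
      obtain ⟨c, hc, z, ⟨k, rfl⟩, hcz⟩ := Submonoid.mem_sup.mp haT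
      have hcs : c * s = 0 := by
        apply IsReduced.eq_zero
        refine ⟨k + 1, ?_⟩
        have : (c * s) ^ (k + 1) = (c * s ^ k) * (c ^ k * s) := by ring
        rw [this, hcz, zero_mul]
      exact hc (hp.1.2 ((hK c).mpr hcs))
    obtain ⟨q, hq, -, hqT⟩ := Ideal.exists_le_prime_disjoint ⊥ T hdisj
    refine ⟨q, hq, ?_, ?_⟩
    · intro a haq
      by_contra hap
      exact Set.disjoint_left.mp hqT haq (Submonoid.mem_sup_left (show a ∈ p.primeCompl from hap))
    · intro hsq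
      exact Set.disjoint_left.mp hqT hsq (Submonoid.mem_sup_right (Submonoid.mem_powers s))
  obtain ⟨q, hq, hqp, hsq⟩ := key
  have hKq : ∀ q' : Ideal A, q'.IsPrime → s ∉ q' → K ≤ q' := by
    intro q' hq' hs a ha
    have h0 : a * s ∈ q' := by rw [(hK a).mp ha]; exact q'.zero_mem
    exact (hq'.mem_or_mem h0).resolve_right hs
  have hpq : p ≤ q := hp.2 ⟨hq, hKq q hq hsq⟩ hqp
  have hsp : s ∉ p := fun h => hsq ((le_antisymm hpq hqp) ▸ h)
  refine ⟨⟨hpp, bot_le⟩, ?_⟩
  rintro q' ⟨hq', -⟩ hq'p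
  exact hp.2 ⟨hq', hKq q' hq' (fun h => hsp (hq'p h))⟩ hq'p

/-- On an affine scheme the local ring at `u` has dimension zero iff the prime of `u` is a minimal prime. -/
theorem ringKrullDim_stalk_eq_zero_iff (U : Scheme.{u}) [IsAffine U] (u : U) :
    ringKrullDim (U.presheaf.stalk u) = 0 ↔ primeAtPt U u ∈ minimalPrimes Γ(U, ⊤) := by
  have hU := isAffineOpen_top U
  have hu : u ∈ (⊤ : U.Opens) := trivial
  have hP : primeAtPt U u = (hU.primeIdealOf ⟨u, hu⟩).asIdeal := by
    have h2 := hU.primeIdealOf_eq_map_closedPoint ⟨u, hu⟩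
    exact (congrArg PrimeSpectrum.asIdeal h2).symm
  let _ : Algebra Γ(U, ⊤) (U.presheaf.stalk u) :=
    TopCat.Presheaf.algebra_section_stalk U.presheaf ⟨u, hu⟩
  have : IsLocalization.AtPrime (U.presheaf.stalk u) (hU.primeIdealOf ⟨u, hu⟩).asIdeal :=
    hU.isLocalization_stalk ⟨u, hu⟩
  rw [IsLocalization.AtPrime.ringKrullDim_eq_height (hU.primeIdealOf ⟨u, hu⟩).asIdeal
    (U.presheaf.stalk u), hP, ← Ideal.height_eq_zero_iff]
  exact_mod_cast Iff.rfl

end Groth.Agent.Lib.Helper30.WeakAssUnit
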