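import Mathlib
import Groth.Agent.Lib.Helper19.Act.TrivialZeroDim
import Groth.Agent.Lib.Helper30.Codim0b

/-!
# Zero-dimensional finite type schemes over a field, kernel pairs (helper30)
-/

set_option autoImplicit false
universe u
open CategoryTheory CategoryTheory.Limits AlgebraicGeometry Opposite TopologicalSpace

namespace Groth.Agent.Lib.Helper30.ZeroDimField

set_option backward.isDefEq.respectTransparency.types false in
/-- An affine scheme locally of finite type of dimension `≤ 0` over a field is finite over it. -/
theorem isFinite_of_dim_le_zero {k : Type u} [Field k] {Z : Scheme.{u}} [IsAffine Z]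
    (f : Z ⟶ Spec (CommRingCat.of k)) [LocallyOfFiniteType f]
    (hdim : topologicalKrullDim Z ≤ 0) : IsFinite f := by
  have hqc : QuasiCompact f := inferInstance
  have hint := Groth.Agent.Lib.Helper19.Act.isIntegral_appTop_of_dim_le_zero f hdim
  rw [IsFinite.iff_isIntegralHom_and_locallyOfFiniteType]
  refine ⟨?_, inferInstance⟩
  rw [HasAffineProperty.iff_of_isAffine (P := @IsIntegralHom)]
  refine ⟨inferInstance, ?_⟩
  have e : f.appTop = (Scheme.ΓSpecIso (CommRingCat.of k)).hom ≫
      ((Scheme.ΓSpecIso (CommRingCat.of k)).inv ≫ f.appTop) := by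
    rw [Iso.hom_inv_id_assoc]
  change (CommRingCat.Hom.hom f.appTop).IsIntegral
  rw [e, CommRingCat.hom_comp]
  refine RingHom.IsIntegral.trans _ _ ?_ hint
  exact RingHom.isIntegral_of_surjective _
    (ConcreteCategory.bijective_of_isIso (Scheme.ΓSpecIso (CommRingCat.of k)).hom).2

/-- A scheme finite over a field is a finite set. -/
theorem finite_of_isFinite {k : Type u} [Field k] {Z : Scheme.{u}}
    (f : Z ⟶ Spec (CommRingCat.of k)) [IsFinite f] : Finite ↥Z := by
  obtain ⟨pt⟩ : Nonempty ↥(Spec (CommRingCat.of k)) := inferInstance
  have h := f.finite_preimage_singleton pt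
  have hu : f ⁻¹' {pt} = Set.univ := by
    ext z
    simp only [Set.mem_preimage, Set.mem_singleton_iff, Set.mem_univ, iff_true]
    exact Subsingleton.elim _ _
  rw [hu] at h
  exact Set.finite_univ_iff.1 h

open AlgSp Groth.Agent.Lib.Helper30.DecentSober in
/-- The kernel pair of a chart finite over a field is a finite set. -/
theorem finite_kernelPair {k : Type u} [Field k] {F : Sp (Spec (CommRingCat.of k))}
    {V R : Over (Spec (CommRingCat.of k))}
    {a : (yon (Spec (CommRingCat.of k))).obj V ⟶ F} {s t : R ⟶ V}
    (hR : IsPullback ((yon _).map s) ((yon _).map t) a a) [IsFinite V.hom] : Finite ↥R.left := by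
  let m : R.left ⟶ pullback V.hom V.hom := pullback.lift s.left t.left (by rw [Over.w s, Over.w t])
  have hm1 : m ≫ pullback.fst V.hom V.hom = s.left := pullback.lift_fst _ _ _
  have hm2 : m ≫ pullback.snd V.hom V.hom = t.left := pullback.lift_snd _ _ _
  have hmono : Mono m := by
    constructor
    intro Z l l' h
    apply hom_ext_left hR
    · rw [← hm1, ← Category.assoc, h, Category.assoc]
    · rw [← hm2, ← Category.assoc, h, Category.assoc]
  have hinj : Function.Injective m := m.injective
  have hfin : IsFinite (pullback.fst V.hom V.hom ≫ V.hom) := inferInstance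
  have : Finite ↥(pullback V.hom V.hom) := finite_of_isFinite (pullback.fst V.hom V.hom ≫ V.hom)
  exact Finite.of_injective _ hinj

set_option backward.isDefEq.respectTransparency.types false in
open AlgSp in
/-- Étale charts of a space locally of finite type over the base are locally of finite type over the base. -/
theorem locallyOfFiniteType_chart {S : Scheme.{u}} {F : Sp S}
    (p : F ⟶ (yon S).obj (Over.mk (𝟙 S))) (hp : LocP @LocallyOfFiniteType p) {V : Over S}
    (a : (yon S).obj V ⟶ F) (ha : RepWith @Etale a) : LocallyOfFiniteType V.hom := by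
  obtain ⟨h, hh⟩ := (yon S).map_surjective (a ≫ p)
  have h1 : LocallyOfFiniteType h.left :=
    hp a (𝟙 _) h ha (repWith_id _ _) (by rw [hh, Category.comp_id])
  have h2 : h.left = V.hom := by
    have := Over.w h
    simpa using this
  rwa [h2] at h1

end Groth.Agent.Lib.Helper30.ZeroDimField
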